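import Mathlib
import Cfsg.Agent.LieClassical.FieldTransfer

/-!
# `PSL(4, F)`: block frame

Facts on `SL (Fin 2 ⊕ Fin 2) F` and its quotients by `±1`: block diagonal `SL₂ × SL₂`, conjugacy of the
involutions, the centralizer of the involution `t`.
-/

set_option autoImplicit false

open Matrix Module

namespace Cfsg.Agent.GH.Cov.LieL4

variable {F : Type*} [Field F]

/-! ### reindexing -/

/-- Reindexing of `SL`. -/
def slReindex {m n : Type*} [Fintype m] [DecidableEq m] [Fintype n] [DecidableEq n] (e : m ≃ n) :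
    SpecialLinearGroup m F ≃* SpecialLinearGroup n F where
  toFun g := ⟨reindex e e g.1, by rw [det_reindex_self]; exact g.2⟩
  invFun g := ⟨reindex e.symm e.symm g.1, by rw [det_reindex_self]; exact g.2⟩
  left_inv g := by
    apply Subtype.ext
    ext i j
    simp
  right_inv g := by
    apply Subtype.ext
    ext i j
    simp
  map_mul' g h := by
    apply Subtype.ext
    change reindex e e (g.1 * h.1) = reindex e e g.1 * reindex e e h.1
    simp [reindex_apply, submatrix_mul_equiv]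

/-- `PSL (Fin 4) F ≃* PSL (Fin 2 ⊕ Fin 2) F`. -/
noncomputable def pslEquiv : ProjectiveSpecialLinearGroup (Fin 4) F ≃*
    ProjectiveSpecialLinearGroup (Fin 2 ⊕ Fin 2) F :=
  LieClassical.FieldTransfer.centralQuotientCongr (slReindex (F := F)
    (finSumFinEquiv (m := 2) (n := 2)).symm)

/-- `4 × 4` matrices of determinant 1, in blocks. -/
abbrev S4 (F : Type*) [Field F] := SpecialLinearGroup (Fin 2 ⊕ Fin 2) F

/-- `2 × 2` matrices of determinant 1. -/
abbrev S2 (F : Type*) [Field F] := SpecialLinearGroup (Fin 2) F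

/-- Block diagonal matrix. -/
def blk (a b : S2 F) : S4 F := ⟨fromBlocks a.1 0 0 b.1, by
  rw [det_fromBlocks_zero₂₁, a.2, b.2, one_mul]⟩

theorem coe_blk (a b : S2 F) : (blk a b).1 = fromBlocks a.1 0 0 b.1 := rfl

theorem blk_mul (a b c d : S2 F) : blk a b * blk c d = blk (a * c) (b * d) := by
  apply Subtype.ext
  change fromBlocks a.1 0 0 b.1 * fromBlocks c.1 0 0 d.1 = fromBlocks (a.1 * c.1) 0 0 (b.1 * d.1)
  simp [fromBlocks_multiply]

theorem blk_one : blk (1 : S2 F) 1 = 1 := by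
  apply Subtype.ext
  exact fromBlocks_one

theorem blk_inj {a b c d : S2 F} (h : blk a b = blk c d) : a = c ∧ b = d := by
  have h1 := congrArg Subtype.val h
  rw [coe_blk, coe_blk, fromBlocks_inj] at h1
  exact ⟨Subtype.ext h1.1, Subtype.ext h1.2.2.2⟩

/-- The first block. -/
def b1 : S2 F →* S4 F where
  toFun a := blk a 1
  map_one' := blk_one
  map_mul' a b := by rw [blk_mul, one_mul]

/-- The second block. -/
def b2 : S2 F →* S4 F where
  toFun a := blk 1 a
  map_one' := blk_one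
  map_mul' a b := by rw [blk_mul, one_mul]

theorem b1_apply (a : S2 F) : b1 a = blk a 1 := rfl

theorem b2_apply (a : S2 F) : b2 a = blk 1 a := rfl

theorem b1_mul_b2 (a b : S2 F) : b1 a * b2 b = blk a b := by
  rw [b1_apply, b2_apply, blk_mul, one_mul, mul_one]

theorem b1_comm_b2 (a b : S2 F) : b1 a * b2 b = b2 b * b1 a := by
  rw [b1_apply, b2_apply, blk_mul, blk_mul, one_mul, mul_one, one_mul, mul_one]

/-! ### the centre -/

/-- The element `-1`. -/
def m1 : S4 F := blk (-1) (-1)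

theorem coe_m1 : (m1 : S4 F).1 = -1 := by
  change fromBlocks (-1 : Matrix (Fin 2) (Fin 2) F) 0 0 (-1) = -1
  rw [← fromBlocks_one, fromBlocks_neg]
  simp

theorem m1_mul (g : S4 F) : (m1 * g).1 = -g.1 := by
  change (m1 : S4 F).1 * g.1 = _
  rw [coe_m1, neg_mul, one_mul]

theorem m1_comm (g : S4 F) : m1 * g = g * m1 := by
  apply Subtype.ext
  rw [m1_mul]
  change _ = g.1 * (m1 : S4 F).1
  rw [coe_m1, mul_neg, mul_one]

theorem m1_sq : (m1 : S4 F) * m1 = 1 := by
  apply Subtype.ext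
  rw [m1_mul, coe_m1, neg_neg]
  rfl

theorem m1_mem_center : (m1 : S4 F) ∈ Subgroup.center (S4 F) := by
  rw [Subgroup.mem_center_iff]
  exact fun g => (m1_comm g).symm

/-- The centre of `SL₄(F)`, `-1` not a square. -/
theorem mem_center_iff (h1 : ∀ a : F, a * a ≠ -1) (g : S4 F) :
    g ∈ Subgroup.center (S4 F) ↔ g = 1 ∨ g = m1 := by
  constructor
  · intro hg
    obtain ⟨r, hr, hr'⟩ := (Matrix.SpecialLinearGroup.mem_center_iff).1 hg
    have hcard : Fintype.card (Fin 2 ⊕ Fin 2) = 4 := rfl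
    rw [hcard] at hr
    have h2 : (r * r - 1) * (r * r + 1) = 0 := by linear_combination hr
    rcases mul_eq_zero.1 h2 with h3 | h3
    · have h4 : (r - 1) * (r + 1) = 0 := by linear_combination h3
      rcases mul_eq_zero.1 h4 with h5 | h5
      · left
        apply Subtype.ext
        rw [← hr', sub_eq_zero.1 h5, map_one]
        rfl
      · right
        apply Subtype.ext
        rw [← hr', eq_neg_of_add_eq_zero_left h5, coe_m1, map_neg, map_one]
    · exact absurd (by linear_combination h3) (h1 r)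
  · rintro (rfl | rfl)
    · exact one_mem _
    · exact m1_mem_center

/-! ### conjugacy of involutions -/

/-- Conjugacy from a matrix of eigenvectors. -/
theorem conj_of (g d : S4 F) (P : Matrix (Fin 2 ⊕ Fin 2) (Fin 2 ⊕ Fin 2) F) (hP : P.det ≠ 0)
    (h : g.1 * P = P * d.1)
    (hc : ∀ c : F, c ≠ 0 → ∃ U : Matrix (Fin 2 ⊕ Fin 2) (Fin 2 ⊕ Fin 2) F, U * d.1 = d.1 * U ∧ U.det = c) :
    ∃ x : S4 F, x * g * x⁻¹ = d := by
  obtain ⟨U, hU, hU'⟩ := hc P.det⁻¹ (inv_ne_zero hP)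
  have hdet : (P * U).det = 1 := by rw [det_mul, hU', mul_inv_cancel₀ hP]
  obtain ⟨y, hy⟩ : ∃ y : S4 F, y.1 = P * U := ⟨⟨P * U, hdet⟩, rfl⟩
  refine ⟨y⁻¹, ?_⟩
  rw [inv_inv, mul_assoc, inv_mul_eq_iff_eq_mul]
  apply Subtype.ext
  change g.1 * y.1 = y.1 * d.1
  rw [hy, ← mul_assoc, h, mul_assoc, mul_assoc, hU]

section basis

variable {ι : Type*} [Fintype ι] [DecidableEq ι]

/-- An adapted basis of an involutory matrix. -/
theorem exists_basis (h2 : (2 : F) ≠ 0) (M : Matrix ι ι F) (hM : M * M = 1) :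
    ∃ (k l : ℕ) (b : Basis (Fin k ⊕ Fin l) F (ι → F)), (∀ i, M *ᵥ b (.inl i) = -b (.inl i)) ∧
      ∀ j, M *ᵥ b (.inr j) = b (.inr j) := by
  set A : Submodule F (ι → F) := LinearMap.ker (M.mulVecLin + LinearMap.id) with hA
  set B : Submodule F (ι → F) := LinearMap.ker (M.mulVecLin - LinearMap.id) with hB
  have memA : ∀ v, v ∈ A ↔ M *ᵥ v = -v := by
    intro v
    rw [hA, LinearMap.mem_ker]
    simp [add_eq_zero_iff_eq_neg]
  have memB : ∀ v, v ∈ B ↔ M *ᵥ v = v := by
    intro v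
    rw [hB, LinearMap.mem_ker]
    simp [sub_eq_zero]
  have hMM : ∀ v, M *ᵥ (M *ᵥ v) = v := by
    intro v
    rw [mulVec_mulVec, hM, one_mulVec]
  have hcompl : IsCompl A B := by
    constructor
    · rw [Submodule.disjoint_def]
      intro v hv hv'
      rw [memA] at hv
      rw [memB] at hv'
      have h3 : (2 : F) • v = 0 := by
        rw [two_smul]
        nth_rewrite 1 [← hv']
        rw [hv]
        simp
      exact (smul_eq_zero.1 h3).resolve_left h2
    · rw [codisjoint_iff, Submodule.eq_top_iff']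
      intro v
      have h3 : v = (2 : F)⁻¹ • (v - M *ᵥ v) + (2 : F)⁻¹ • (v + M *ᵥ v) := by
        rw [← smul_add, sub_add_add_cancel, ← two_smul F, smul_smul, inv_mul_cancel₀ h2, one_smul]
      rw [h3]
      refine Submodule.add_mem_sup (A.smul_mem _ ?_) (B.smul_mem _ ?_)
      · rw [memA, mulVec_sub, hMM, neg_sub]
      · rw [memB, mulVec_add, hMM, add_comm]
  let b := ((finBasis F A).prod (finBasis F B)).map (Submodule.prodEquivOfIsCompl A B hcompl)
  refine ⟨finrank F A, finrank F B, b, ?_, ?_⟩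
  · intro i
    have h3 : b (.inl i) = (finBasis F A i : ι → F) := by
      simp [b]
    rw [h3, ← memA]
    exact (finBasis F A i).2
  · intro i
    have h3 : b (.inr i) = (finBasis F B i : ι → F) := by
      simp [b]
    rw [h3, ← memB]
    exact (finBasis F B i).2

theorem det_of_basis (M : Matrix ι ι F) {k l : ℕ} (b : Basis (Fin k ⊕ Fin l) F (ι → F))
    (h1 : ∀ i, M *ᵥ b (.inl i) = -b (.inl i)) (h2 : ∀ j, M *ᵥ b (.inr j) = b (.inr j)) :
    M.det = (-1) ^ k := by
  have h3 : LinearMap.toMatrix b b M.mulVecLin = fromBlocks (-1) 0 0 1 := by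
    ext i j
    rw [LinearMap.toMatrix_apply, mulVecLin_apply]
    rcases j with j | j
    · rw [h1, map_neg, Basis.repr_self]
      rcases i with i | i
      · simp [Matrix.one_apply, Finsupp.single_apply, eq_comm]
      · simp
    · rw [h2, Basis.repr_self]
      rcases i with i | i
      · simp
      · simp [Matrix.one_apply, Finsupp.single_apply, eq_comm]
  have h4 : LinearMap.det M.mulVecLin = M.det := by
    rw [← LinearMap.det_toLin']
    rfl
  rw [← h4, ← LinearMap.det_toMatrix b, h3, det_fromBlocks_zero₂₁, det_one, mul_one, det_neg,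
    Fintype.card_fin, det_one, mul_one]

end basis

theorem comm_diag (c : F) : ∃ U : Matrix (Fin 2 ⊕ Fin 2) (Fin 2 ⊕ Fin 2) F,
    U * (blk (-1) 1 : S4 F).1 = (blk (-1) 1 : S4 F).1 * U ∧ U.det = c := by
  refine ⟨fromBlocks 1 0 0 (diagonal ![c, 1]), ?_, ?_⟩
  · rw [coe_blk, fromBlocks_multiply, fromBlocks_multiply]
    simp
  · rw [det_fromBlocks_zero₂₁, det_one, one_mul, det_diagonal]
    simp

/-- An element of `SL₄` of order 2, not `-1`, is conjugate to `diag(-1,-1,1,1)`. -/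
theorem conj_of_sq (h2 : (2 : F) ≠ 0) {g : S4 F} (hg : g * g = 1) (h1 : g ≠ 1) (h1' : g ≠ m1) :
    ∃ x : S4 F, x * g * x⁻¹ = blk (-1) 1 := by
  have hM : g.1 * g.1 = 1 := congrArg Subtype.val hg
  obtain ⟨k, l, b, hb1, hb2⟩ := exists_basis h2 g.1 hM
  have hdet := det_of_basis g.1 b hb1 hb2
  rw [g.2] at hdet
  have hcard : k + l = 4 := by
    have h3 := Module.finrank_eq_card_basis b
    rw [Module.finrank_fintype_fun_eq_card] at h3
    simp only [Fintype.card_sum, Fintype.card_fin] at h3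
    omega
  have hne : (-1 : F) ≠ 1 := by
    intro h
    apply h2
    linear_combination -h
  have hk : k = 0 ∨ k = 1 ∨ k = 2 ∨ k = 3 ∨ k = 4 := by omega
  rcases hk with rfl | rfl | rfl | rfl | rfl
  · exfalso
    apply h1
    apply Subtype.ext
    refine Matrix.toLin'.injective (b.ext fun i => ?_)
    rcases i with i | i
    · exact i.elim0
    · rw [toLin'_apply, hb2]
      simp
  · exact absurd (by rw [pow_one] at hdet; exact hdet.symm) hne
  · obtain rfl : l = 2 := by omega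
    refine conj_of g _ (Matrix.of fun i j => b j i) ?_ ?_ fun c _ => comm_diag c
    · have h3 : (Matrix.of fun i j => b j i) = (Pi.basisFun F (Fin 2 ⊕ Fin 2)).toMatrix b := by
        ext i j
        simp [Basis.toMatrix_apply]
      rw [h3]
      exact ((Pi.basisFun F (Fin 2 ⊕ Fin 2)).isUnit_det b).ne_zero
    · ext i j
      have h5 : (g.1 * Matrix.of fun i j => b j i) i j = (g.1 *ᵥ b j) i := rfl
      rw [h5, coe_blk]
      rcases j with j | j
      · rw [hb1]
        simp [Matrix.mul_apply, Matrix.one_apply]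
      · rw [hb2]
        simp [Matrix.mul_apply, Matrix.one_apply]
  · exact absurd (by rw [show (-1 : F) ^ 3 = -1 by norm_num] at hdet; exact hdet.symm) hne
  · exfalso
    obtain rfl : l = 0 := by omega
    apply h1'
    apply Subtype.ext
    rw [coe_m1]
    refine Matrix.toLin'.injective (b.ext fun i => ?_)
    rcases i with i | i
    · rw [toLin'_apply, hb1]
      simp
    · exact i.elim0

/-! ### square root of `-1` -/

theorem sum_sq [Fintype F] (hF : Fintype.card F % 2 = 1) (c : F) : ∃ x y : F, x * x + y * y = c := by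
  obtain ⟨a, b, hab⟩ := FiniteField.exists_root_sum_quadratic (R := F) (f := Polynomial.X ^ 2)
    (g := Polynomial.X ^ 2 - Polynomial.C c) (by simp) (Polynomial.degree_X_pow_sub_C (by norm_num) c) hF
  refine ⟨a, b, ?_⟩
  simp only [Polynomial.eval_sub, Polynomial.eval_pow, Polynomial.eval_X, Polynomial.eval_C] at hab
  linear_combination hab

/-- The matrix `[[0,-1],[1,0]]`. -/
def J : S2 F := ⟨!![0, -1; 1, 0], by simp [det_fin_two]⟩

theorem J_sq : (J : S2 F) * J = -1 := by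
  apply Subtype.ext
  change !![(0 : F), -1; 1, 0] * !![0, -1; 1, 0] = -1
  ext i j
  fin_cases i <;> fin_cases j <;> simp

theorem comm_J [Fintype F] (hF : Fintype.card F % 2 = 1) (c : F) :
    ∃ U : Matrix (Fin 2 ⊕ Fin 2) (Fin 2 ⊕ Fin 2) F,
    U * (blk J J : S4 F).1 = (blk J J : S4 F).1 * U ∧ U.det = c := by
  obtain ⟨x, y, hxy⟩ := sum_sq hF c
  have hJ : (J : S2 F).1 = !![0, -1; 1, 0] := rfl
  refine ⟨fromBlocks !![x, -y; y, x] 0 0 1, ?_, ?_⟩
  · rw [coe_blk, fromBlocks_multiply, fromBlocks_multiply, hJ]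
    congr 1
    · ext i j
      fin_cases i <;> fin_cases j <;> simp
    · simp
    · simp
    · simp
  · rw [det_fromBlocks_zero₂₁, det_one, mul_one, det_fin_two]
    simp
    exact hxy

/-- An element of `SL₄` with square `-1` is conjugate to `blk J J` (`-1` not a square). -/
theorem conj_blk_J [Fintype F] (hF : Fintype.card F % 2 = 1) (h1 : ∀ a : F, a * a ≠ -1) {g : S4 F}
    (hg : g * g = m1) : ∃ x : S4 F, x * g * x⁻¹ = blk J J := by
  have hM : g.1 * g.1 = -1 := by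
    have h3 := congrArg Subtype.val hg
    rw [coe_m1] at h3
    exact h3
  have hMM : ∀ v, g.1 *ᵥ (g.1 *ᵥ v) = -v := by
    intro v
    rw [mulVec_mulVec, hM, neg_mulVec, one_mulVec]
  have hsq : ∀ a b : F, a * a + b * b = 0 → a = 0 ∧ b = 0 := by
    intro a b hab
    by_cases hb : b = 0
    · subst hb
      rw [mul_zero, add_zero] at hab
      exact ⟨mul_self_eq_zero.1 hab, rfl⟩
    · exfalso
      apply h1 (a / b)
      rw [div_mul_div_comm, div_eq_iff (mul_ne_zero hb hb)]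
      linear_combination hab
  -- `a + b M` is injective
  have key : ∀ (a b : F) (v : Fin 2 ⊕ Fin 2 → F), a • v + b • (g.1 *ᵥ v) = 0 → v ≠ 0 →
      a = 0 ∧ b = 0 := by
    intro a b v h hv
    have h3 : (a * a + b * b) • v = 0 := by
      have h4 : a • (a • v + b • (g.1 *ᵥ v)) - b • (g.1 *ᵥ (a • v + b • (g.1 *ᵥ v))) =
          (a * a + b * b) • v := by
        rw [mulVec_add, mulVec_smul, mulVec_smul, hMM]
        module
      rw [← h4, h]
      simp
    exact hsq a b ((smul_eq_zero.1 h3).resolve_right hv)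
  obtain ⟨v, hv⟩ : ∃ v : Fin 2 ⊕ Fin 2 → F, v ≠ 0 := exists_ne 0
  obtain ⟨w, hw⟩ : ∃ w : Fin 2 ⊕ Fin 2 → F, w ∉ Submodule.span F {v, g.1 *ᵥ v} := by
    classical
    by_contra hcon
    push Not at hcon
    have h3 : Submodule.span F {v, g.1 *ᵥ v} = ⊤ := (Submodule.eq_top_iff').2 hcon
    have h4 := finrank_span_finset_le_card (R := F) ({v, g.1 *ᵥ v} : Finset (Fin 2 ⊕ Fin 2 → F))
    have h5 : (({v, g.1 *ᵥ v} : Finset (Fin 2 ⊕ Fin 2 → F)) : Set (Fin 2 ⊕ Fin 2 → F)) =
        {v, g.1 *ᵥ v} := by simp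
    rw [Set.finrank, h5, h3, finrank_top, Module.finrank_fintype_fun_eq_card] at h4
    have h6 := Finset.card_le_two (a := v) (b := g.1 *ᵥ v)
    simp only [Fintype.card_sum, Fintype.card_fin] at h4
    omega
  -- the matrix with columns `v, M v, w, M w`
  set P : Matrix (Fin 2 ⊕ Fin 2) (Fin 2 ⊕ Fin 2) F := Matrix.of fun i j =>
    (Sum.elim ![v, g.1 *ᵥ v] ![w, g.1 *ᵥ w] : Fin 2 ⊕ Fin 2 → (Fin 2 ⊕ Fin 2 → F)) j i with hP
  have hPx : ∀ x, P *ᵥ x = x (.inl 0) • v + x (.inl 1) • (g.1 *ᵥ v) + x (.inr 0) • w +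
      x (.inr 1) • (g.1 *ᵥ w) := by
    intro x
    ext i
    simp [hP, mulVec, dotProduct, Fin.sum_univ_two]
    ring
  have hmem : ∀ a b : F, a • v + b • (g.1 *ᵥ v) ∈ Submodule.span F {v, g.1 *ᵥ v} := by
    intro a b
    exact Submodule.mem_span_pair.2 ⟨a, b, rfl⟩
  have hinj : ∀ x, P *ᵥ x = 0 → x = 0 := by
    intro x hx
    rw [hPx] at hx
    have h3 : x (.inr 0) • w + x (.inr 1) • (g.1 *ᵥ w) = -(x (.inl 0) • v + x (.inl 1) • (g.1 *ᵥ v)) := by
      rw [eq_neg_iff_add_eq_zero, ← hx]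
      abel
    have h4 : (x (.inr 0) * x (.inr 0) + x (.inr 1) * x (.inr 1)) • w ∈
        Submodule.span F {v, g.1 *ᵥ v} := by
      have h5 : (x (.inr 0) * x (.inr 0) + x (.inr 1) * x (.inr 1)) • w =
          x (.inr 0) • (x (.inr 0) • w + x (.inr 1) • (g.1 *ᵥ w)) -
          x (.inr 1) • (g.1 *ᵥ (x (.inr 0) • w + x (.inr 1) • (g.1 *ᵥ w))) := by
        rw [mulVec_add, mulVec_smul, mulVec_smul, hMM]
        module
      rw [h5, h3]
      have h6 : x (.inr 0) • -(x (.inl 0) • v + x (.inl 1) • (g.1 *ᵥ v)) -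
          x (.inr 1) • (g.1 *ᵥ -(x (.inl 0) • v + x (.inl 1) • (g.1 *ᵥ v))) =
          (-(x (.inr 0) * x (.inl 0)) - x (.inr 1) * x (.inl 1)) • v +
          (-(x (.inr 0) * x (.inl 1)) + x (.inr 1) * x (.inl 0)) • (g.1 *ᵥ v) := by
        rw [mulVec_neg, mulVec_add, mulVec_smul, mulVec_smul, hMM]
        module
      rw [h6]
      exact hmem _ _
    have h7 : x (.inr 0) * x (.inr 0) + x (.inr 1) * x (.inr 1) = 0 := by
      by_contra h8
      apply hw
      have h9 := Submodule.smul_mem _ (x (.inr 0) * x (.inr 0) + x (.inr 1) * x (.inr 1))⁻¹ h4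
      rwa [smul_smul, inv_mul_cancel₀ h8, one_smul] at h9
    obtain ⟨h8, h9⟩ := hsq _ _ h7
    rw [h8, h9, zero_smul, zero_smul, add_zero, add_zero] at hx
    obtain ⟨h10, h11⟩ := key _ _ v hx hv
    funext i
    rcases i with i | i <;> fin_cases i
    · exact h10
    · exact h11
    · exact h8
    · exact h9
  refine conj_of g _ P ?_ ?_ fun c _ => comm_J hF c
  · have h3 : IsUnit P := by
      rw [← mulVec_injective_iff_isUnit]
      intro x y hxy
      have h4 : P *ᵥ (x - y) = 0 := by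
        have hxy' : P *ᵥ x = P *ᵥ y := hxy
        rw [mulVec_sub, hxy', sub_self]
      exact sub_eq_zero.1 (hinj _ h4)
    exact ((isUnit_iff_isUnit_det _).1 h3).ne_zero
  · refine Matrix.toLin'.injective (LinearMap.ext fun x => ?_)
    rw [toLin'_apply, toLin'_apply, ← mulVec_mulVec, ← mulVec_mulVec, hPx, hPx, coe_blk]
    have hJ : (J : S2 F).1 = !![0, -1; 1, 0] := rfl
    simp only [mulVec_add, mulVec_smul, hMM, fromBlocks_mulVec]
    simp only [hJ, zero_mulVec, add_zero, zero_add, Sum.elim_inl, Sum.elim_inr]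
    simp [mulVec, dotProduct, Fin.sum_univ_two]
    module

/-- An element of `SL₄` with square `-1` is conjugate to `blk i j`, `i² = j² = -1`. -/
theorem conj_of_sq' [Fintype F] (hF : Fintype.card F % 2 = 1) (h1 : ∀ a : F, a * a ≠ -1) {g : S4 F}
    (hg : g * g = m1) {i j : S2 F} (hi : i * i = -1) (hj : j * j = -1) :
    ∃ x : S4 F, x * g * x⁻¹ = blk i j := by
  obtain ⟨x, hx⟩ := conj_blk_J hF h1 hg
  obtain ⟨y, hy⟩ := conj_blk_J hF h1 (g := blk i j) (by rw [blk_mul, hi, hj]; rfl)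
  refine ⟨y⁻¹ * x, ?_⟩
  rw [_root_.mul_inv_rev, inv_inv, show y⁻¹ * x * g * (x⁻¹ * y) = y⁻¹ * (x * g * x⁻¹) * y by group, hx, ← hy]
  group

/-! ### the centralizer of `t` -/

/-- The matrix `t = diag(-1,-1,1,1)`. -/
def T : S4 F := blk (-1) 1

theorem coe_T : (T : S4 F).1 = fromBlocks (-1) 0 0 1 := by
  change fromBlocks ((-1 : S2 F).1) 0 0 ((1 : S2 F).1) = _
  rfl

theorem eq_blocks (g : S4 F) : g.1 = fromBlocks g.1.toBlocks₁₁ g.1.toBlocks₁₂ g.1.toBlocks₂₁ g.1.toBlocks₂₂ :=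
  (fromBlocks_toBlocks g.1).symm

theorem comm_T_iff (h2 : (2 : F) ≠ 0) (g : S4 F) :
    g * T = T * g ↔ g.1.toBlocks₁₂ = 0 ∧ g.1.toBlocks₂₁ = 0 := by
  have h3 : g * T = T * g ↔ g.1 * (T : S4 F).1 = (T : S4 F).1 * g.1 :=
    ⟨fun h => congrArg Subtype.val h, fun h => Subtype.ext h⟩
  rw [h3, coe_T, eq_blocks g, fromBlocks_multiply, fromBlocks_multiply, fromBlocks_inj]
  simp only [toBlocks_fromBlocks₁₂, toBlocks_fromBlocks₂₁, Matrix.mul_neg, Matrix.mul_one, Matrix.mul_zero,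
    add_zero, zero_add, Matrix.neg_mul, Matrix.one_mul, Matrix.zero_mul, and_true, true_and]
  have key : ∀ X : Matrix (Fin 2) (Fin 2) F, X = -X → X = 0 := by
    intro X hX
    have h4 : (2 : F) • X = 0 := by
      rw [two_smul]
      nth_rewrite 1 [hX]
      exact neg_add_cancel X
    exact (smul_eq_zero.1 h4).resolve_left h2
  constructor
  · rintro ⟨h4, h5⟩
    exact ⟨key _ h4, key _ h5.symm⟩
  · rintro ⟨h4, h5⟩
    rw [h4, h5]
    simp

theorem anti_T_iff (h2 : (2 : F) ≠ 0) (g : S4 F) :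
    g * T = m1 * (T * g) ↔ g.1.toBlocks₁₁ = 0 ∧ g.1.toBlocks₂₂ = 0 := by
  have h3 : g * T = m1 * (T * g) ↔ g.1 * (T : S4 F).1 = -((T : S4 F).1 * g.1) := by
    constructor
    · intro h
      have h4 := congrArg Subtype.val h
      rw [m1_mul] at h4
      exact h4
    · intro h
      apply Subtype.ext
      rw [m1_mul]
      exact h
  rw [h3, coe_T, eq_blocks g, fromBlocks_multiply, fromBlocks_multiply, fromBlocks_neg, fromBlocks_inj]
  simp only [toBlocks_fromBlocks₁₁, toBlocks_fromBlocks₂₂, Matrix.mul_neg, Matrix.mul_one, Matrix.mul_zero,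
    add_zero, zero_add, Matrix.neg_mul, Matrix.one_mul, Matrix.zero_mul, true_and, neg_neg]
  have key : ∀ X : Matrix (Fin 2) (Fin 2) F, X = -X → X = 0 := by
    intro X hX
    have h4 : (2 : F) • X = 0 := by
      rw [two_smul]
      nth_rewrite 1 [hX]
      exact neg_add_cancel X
    exact (smul_eq_zero.1 h4).resolve_left h2
  constructor
  · rintro ⟨h4, h5⟩
    exact ⟨key _ h4.symm, key _ h5⟩
  · rintro ⟨h4, h5⟩
    rw [h4, h5]
    simp

/-- Block diagonal matrices. -/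
def Dg (F : Type*) [Field F] : Subgroup (S4 F) := Subgroup.centralizer {T}

theorem mem_Dg (h2 : (2 : F) ≠ 0) {g : S4 F} : g ∈ Dg F ↔ g.1.toBlocks₁₂ = 0 ∧ g.1.toBlocks₂₁ = 0 := by
  rw [Dg, Subgroup.mem_centralizer_singleton_iff, comm_T_iff h2]

/-- The determinant of the first block. -/
def det1 (h2 : (2 : F) ≠ 0) : Dg F →* F where
  toFun g := g.1.1.toBlocks₁₁.det
  map_one' := by
    change ((1 : Matrix (Fin 2 ⊕ Fin 2) (Fin 2 ⊕ Fin 2) F).toBlocks₁₁).det = 1
    rw [← fromBlocks_one, toBlocks_fromBlocks₁₁, det_one]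
  map_mul' g h := by
    have hg := (mem_Dg h2).1 g.2
    have hh := (mem_Dg h2).1 h.2
    change ((g.1.1 * h.1.1).toBlocks₁₁).det = _
    rw [eq_blocks g.1, eq_blocks h.1, hg.1, hg.2, hh.1, hh.2, fromBlocks_multiply]
    simp only [toBlocks_fromBlocks₁₁]
    rw [Matrix.zero_mul, add_zero, det_mul]

/-- Block diagonal matrices with blocks of determinant 1. -/
def SS (F : Type*) [Field F] : Subgroup (S4 F) where
  carrier := {g | ∃ a b, g = blk a b}
  mul_mem' := by
    rintro _ _ ⟨a, b, rfl⟩ ⟨c, d, rfl⟩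
    exact ⟨_, _, blk_mul a b c d⟩
  one_mem' := ⟨1, 1, blk_one.symm⟩
  inv_mem' := by
    rintro _ ⟨a, b, rfl⟩
    refine ⟨a⁻¹, b⁻¹, ?_⟩
    rw [inv_eq_iff_mul_eq_one, blk_mul, mul_inv_cancel, mul_inv_cancel, blk_one]

theorem mem_SS {g : S4 F} : g ∈ SS F ↔ ∃ a b, g = blk a b := Iff.rfl

theorem SS_le_Dg (h2 : (2 : F) ≠ 0) : SS F ≤ Dg F := by
  rintro _ ⟨a, b, rfl⟩
  rw [mem_Dg h2, coe_blk, toBlocks_fromBlocks₁₂, toBlocks_fromBlocks₂₁]
  exact ⟨rfl, rfl⟩

theorem mem_SS_iff (h2 : (2 : F) ≠ 0) (g : Dg F) : g.1 ∈ SS F ↔ det1 h2 g = 1 := by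
  have hg := (mem_Dg h2).1 g.2
  constructor
  · rintro ⟨a, b, h⟩
    change g.1.1.toBlocks₁₁.det = 1
    rw [h, coe_blk, toBlocks_fromBlocks₁₁, a.2]
  · intro h
    have h3 : g.1.1.toBlocks₁₁.det = 1 := h
    have h4 : g.1.1.det = 1 := g.1.2
    rw [eq_blocks g.1, hg.1, det_fromBlocks_zero₁₂, h3, one_mul] at h4
    refine ⟨⟨_, h3⟩, ⟨_, h4⟩, Subtype.ext ((eq_blocks g.1).trans ?_)⟩
    rw [hg.1, hg.2]
    rfl

theorem SS_relIndex_dvd [Fintype F] (h2 : (2 : F) ≠ 0) : (SS F).relIndex (Dg F) ∣ Fintype.card F - 1 := by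
  have h3 : (SS F).subgroupOf (Dg F) = ((det1 h2).toHomUnits).ker := by
    ext g
    rw [Subgroup.mem_subgroupOf, mem_SS_iff h2, MonoidHom.mem_ker, Units.ext_iff]
    rfl
  rw [Subgroup.relIndex, h3, Subgroup.index_ker, ← Nat.card_eq_fintype_card, ← Nat.card_units]
  exact Subgroup.card_subgroup_dvd_card _

theorem det_W : (fromBlocks 0 1 (-1) 0 : Matrix (Fin 2 ⊕ Fin 2) (Fin 2 ⊕ Fin 2) F).det = 1 := by
  have h3 : (fromBlocks 0 1 (-1) 0 : Matrix (Fin 2 ⊕ Fin 2) (Fin 2 ⊕ Fin 2) F) =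
      fromBlocks 1 1 0 1 * fromBlocks 1 0 (-1) 1 * fromBlocks 1 1 0 1 := by
    rw [fromBlocks_multiply, fromBlocks_multiply]
    simp
  rw [h3, det_mul, det_mul, det_fromBlocks_zero₂₁, det_fromBlocks_zero₁₂]
  simp

/-- The block swap. -/
def W : S4 F := ⟨fromBlocks 0 1 (-1) 0, det_W⟩

theorem coe_W : (W : S4 F).1 = fromBlocks 0 1 (-1) 0 := rfl

theorem W_sq : (W : S4 F) * W = m1 := by
  apply Subtype.ext
  rw [coe_m1]
  change (W : S4 F).1 * (W : S4 F).1 = -1
  rw [coe_W, fromBlocks_multiply, ← fromBlocks_one, fromBlocks_neg]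
  simp

theorem W_blk (a b : S2 F) : W * blk a b = blk b a * W := by
  apply Subtype.ext
  change (W : S4 F).1 * (blk a b).1 = (blk b a).1 * (W : S4 F).1
  rw [coe_W, coe_blk, coe_blk, fromBlocks_multiply, fromBlocks_multiply]
  simp

theorem W_conj (a b : S2 F) : W * blk a b * W⁻¹ = blk b a := by
  rw [W_blk, mul_inv_cancel_right]

/-- An element anticommuting with `T` is in `W * Dg`. -/
theorem W_mul_mem_Dg (h2 : (2 : F) ≠ 0) {g : S4 F} (hg : g * T = m1 * (T * g)) : W * g ∈ Dg F := by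
  have h3 := (anti_T_iff h2 g).1 hg
  have h4 : (W * g).1 = (W : S4 F).1 * g.1 := rfl
  rw [mem_Dg h2, h4, coe_W, eq_blocks g, h3.1, h3.2, fromBlocks_multiply, toBlocks_fromBlocks₁₂,
    toBlocks_fromBlocks₂₁]
  simp

/-- Block diagonal matrices normalise the first `SL₂`. -/
theorem conj_b1_mem (h2 : (2 : F) ≠ 0) {g : S4 F} (hg : g ∈ Dg F) (a : S2 F) :
    ∃ b, g * b1 a * g⁻¹ = b1 b := by
  have h3 := (mem_Dg h2).1 hg
  have h4 : g.1.det = 1 := g.2
  have h5 : (g⁻¹ : S4 F) ∈ Dg F := (Dg F).inv_mem hg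
  have h6 := (mem_Dg h2).1 h5
  have h7 : g.1 * (g⁻¹ : S4 F).1 = 1 := congrArg Subtype.val (mul_inv_cancel g)
  rw [eq_blocks g, eq_blocks g⁻¹, h3.1, h3.2, h6.1, h6.2, fromBlocks_multiply, ← fromBlocks_one,
    fromBlocks_inj] at h7
  simp only [Matrix.mul_zero, Matrix.zero_mul, add_zero, zero_add, true_and] at h7
  have h8 : (g.1.toBlocks₁₁ * a.1 * (g⁻¹ : S4 F).1.toBlocks₁₁).det = 1 := by
    rw [det_mul, det_mul, mul_right_comm, ← det_mul, h7.1, det_one, one_mul]
    exact a.2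
  refine ⟨⟨_, h8⟩, Subtype.ext ?_⟩
  change g.1 * (b1 a).1 * (g⁻¹ : S4 F).1 = _
  have h10 : (b1 (⟨_, h8⟩ : S2 F)).1 =
      fromBlocks (g.1.toBlocks₁₁ * a.1 * (g⁻¹ : S4 F).1.toBlocks₁₁) 0 0 1 := rfl
  have h11 : (b1 a).1 = fromBlocks a.1 0 0 1 := rfl
  rw [h10, h11]
  conv_lhs => rw [eq_blocks g, eq_blocks g⁻¹, h3.1, h3.2, h6.1, h6.2]
  rw [fromBlocks_multiply, fromBlocks_multiply]
  simp only [Matrix.mul_zero, Matrix.zero_mul, add_zero, zero_add, Matrix.mul_one, h7.2]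

end Cfsg.Agent.GH.Cov.LieL4
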