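import Mathlib
import Cfsg.Agent.Transfer.CentralTransfer
import Cfsg.Agent.Solvable.UniqueOrderP
import Cfsg.Agent.GH.Cov.Lft

/-!
# Central 2-extensions of groups with one involution (GH-COV, piece P1)

`injective`: `Y` finite, generated by elements of odd order, `f : Y →* B` with central kernel a 2-group, `B` has at
most one involution. Then `f` is injective. (Transfer: the kernel lies in `P'`, `P` a Sylow 2-subgroup; `P / ker` is
cyclic or generalized quaternion, and then `P' ∩ ker = 1`.)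

`injOn`: the same for a subgroup `Y` of a finite group, `lft_injOn`: for `Lft π A`.
-/

set_option autoImplicit false

open Subgroup
open scoped commutatorElement

namespace Cfsg.Agent.GH.Cov.QuatLift

section

variable {Y B : Type*} [Group Y] [Group B]

/-- In a group generated by elements of odd order, homomorphisms to 2-groups are trivial. -/
theorem map_eq_one {A : Type*} [Group A] (hgen : closure {y : Y | Odd (orderOf y)} = ⊤)
    (hA : ∀ a : A, ∃ n : ℕ, a ^ 2 ^ n = 1) (g : Y →* A) (y : Y) : g y = 1 := by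
  have h1 : closure {y : Y | Odd (orderOf y)} ≤ g.ker := by
    rw [closure_le]
    intro x hx
    obtain ⟨n, hn⟩ := hA (g x)
    refine Cfsg.Agent.GH.Cov.Lft.eq_one_of_odd_two (m := orderOf x) hx ?_ hn
    rw [← map_pow, pow_orderOf_eq_one, map_one]
  rw [hgen] at h1
  exact h1 (mem_top y)

/-- A normal 2-subgroup lies in every Sylow 2-subgroup. -/
theorem ker_le_sylow [Finite Y] {N : Subgroup Y} [N.Normal] (hN : IsPGroup 2 N) (P : Sylow 2 Y) :
    N ≤ P := by
  have h1 : IsPGroup 2 (N ⊔ (P : Subgroup Y) : Subgroup Y) :=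
    IsPGroup.to_sup_of_normal_left hN P.isPGroup'
  have h2 : (N ⊔ (P : Subgroup Y) : Subgroup Y) = P := P.3 h1 le_sup_right
  rw [← h2]
  exact le_sup_left

/-- The kernel lies in the commutator subgroup of a Sylow 2-subgroup. -/
theorem ker_le_commutator [Finite Y] (hgen : closure {y : Y | Odd (orderOf y)} = ⊤)
    {f : Y →* B} (hc : f.ker ≤ center Y) (h2 : IsPGroup 2 f.ker) (P : Sylow 2 Y) {z : Y}
    (hz : f z = 1) : z ∈ ⁅(P : Subgroup Y), (P : Subgroup Y)⁆ := by
  have : Fact (Nat.Prime 2) := ⟨Nat.prime_two⟩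
  have hzP : z ∈ (P : Subgroup Y) := ker_le_sylow h2 P hz
  let z' : (P : Subgroup Y) := ⟨z, hzP⟩
  have hA : ∀ a : Abelianization (P : Subgroup Y), ∃ n : ℕ, a ^ 2 ^ n = 1 := by
    intro a
    obtain ⟨x, rfl⟩ := QuotientGroup.mk_surjective a
    obtain ⟨n, hn⟩ := P.isPGroup' x
    refine ⟨n, ?_⟩
    have h1 : (Abelianization.of x) ^ 2 ^ n = 1 := by rw [← map_pow, hn, map_one]
    exact h1
  have h1 := Cfsg.Agent.Transfer.CentralTransfer.transfer_of_mem_center'
    (Abelianization.of (G := (P : Subgroup Y))) z' (hc hz)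
  have h3 : Abelianization.of z' = 1 := by
    obtain ⟨n, hn⟩ := hA (Abelianization.of z')
    refine Cfsg.Agent.GH.Cov.Lft.eq_one_of_odd_two (m := (P : Subgroup Y).index) ?_ ?_ hn
    · rw [← Nat.not_even_iff_odd, even_iff_two_dvd]
      exact P.not_dvd_index
    · rw [← h1]
      exact map_eq_one hgen hA _ _
  have h4 : z' ∈ commutator (P : Subgroup Y) := by
    rw [← Abelianization.ker_of]
    exact h3
  rw [← map_subtype_commutator]
  exact ⟨z', h4, rfl⟩

/-- `r, s` generate `P` modulo the central kernel, `s r s⁻¹ ≡ r⁻¹`, `s² ≡ r ^ (2^m)`: then no element `≠ 1` of the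
kernel lies in the commutator subgroup. -/
theorem eq_one_of_quat {f : Y →* B} (hc : f.ker ≤ center Y) {P : Subgroup Y} {r s : Y} {m : ℕ}
    (hgen : P ≤ closure ({r, s} ∪ (f.ker : Set Y))) (ho : orderOf (f r) = 2 * 2 ^ m)
    (hrs : f (s * r * s⁻¹) = f r⁻¹) (hss : f (s * s) = f (r ^ 2 ^ m)) {z : Y} (hz : z ∈ ⁅P, P⁆)
    (hfz : f z = 1) : z = 1 := by
  obtain ⟨c, hc1⟩ : ∃ c, c = s * r * s⁻¹ * r := ⟨_, rfl⟩
  have hcker : f c = 1 := by rw [hc1, map_mul, hrs, map_inv, inv_mul_cancel]
  have hcc : ∀ y, Commute c y := fun y => (mem_center_iff.1 (hc hcker) y).symm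
  have hsr : s * r * s⁻¹ = c * r⁻¹ := by rw [hc1, mul_inv_cancel_right]
  have hspow : ∀ k : ℕ, s * r ^ k * s⁻¹ = c ^ k * (r ^ k)⁻¹ := by
    intro k
    have e1 : s * r ^ k * s⁻¹ = (s * r * s⁻¹) ^ k := by
      have := map_pow (MulAut.conj s) r k
      simpa only [MulAut.conj_apply] using this
    rw [e1, hsr, (hcc _).mul_pow, inv_pow]
  obtain ⟨d, hd1⟩ : ∃ d, d = s * s * (r ^ 2 ^ m)⁻¹ := ⟨_, rfl⟩
  have hdker : f d = 1 := by rw [hd1, map_mul, hss, ← map_mul, mul_inv_cancel, map_one]
  have hdc : ∀ y, Commute d y := fun y => (mem_center_iff.1 (hc hdker) y).symm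
  have hss2 : r ^ 2 ^ m = d⁻¹ * (s * s) := by rw [hd1]; group
  have hscomm : s * r ^ 2 ^ m * s⁻¹ = r ^ 2 ^ m := by
    rw [hss2]
    have h1 : Commute s (d⁻¹ * (s * s)) :=
      ((hdc s).inv_left.symm).mul_right ((Commute.refl s).mul_right (Commute.refl s))
    rw [h1.eq, mul_inv_cancel_right]
  -- the commutator
  obtain ⟨w, hw⟩ : ∃ w, w = c * (r⁻¹ * r⁻¹) := ⟨_, rfl⟩
  have hwr : Commute w r := by
    rw [hw]
    exact (hcc r).mul_left (((Commute.refl r).inv_left).mul_left ((Commute.refl r).inv_left))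
  have hsw : s * w * s⁻¹ = w⁻¹ := by
    have e1 : s * w * s⁻¹ = c * ((s * r * s⁻¹)⁻¹ * (s * r * s⁻¹)⁻¹) := by
      rw [hw]
      calc s * (c * (r⁻¹ * r⁻¹)) * s⁻¹ = (s * c) * (r⁻¹ * r⁻¹) * s⁻¹ := by group
        _ = (c * s) * (r⁻¹ * r⁻¹) * s⁻¹ := by rw [(hcc s).eq]
        _ = c * ((s * r * s⁻¹)⁻¹ * (s * r * s⁻¹)⁻¹) := by group
    have h1 : Commute c⁻¹ (r * r) := (hcc _).inv_left
    rw [e1, hsr, hw, mul_inv_rev, inv_inv, mul_inv_rev, mul_inv_rev, inv_inv]
    calc c * (r * c⁻¹ * (r * c⁻¹)) = c * (r * (c⁻¹ * r) * c⁻¹) := by group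
      _ = c * (r * (r * c⁻¹) * c⁻¹) := by rw [((hcc r).inv_left).eq]
      _ = c * (r * r * c⁻¹) * c⁻¹ := by group
      _ = c * (c⁻¹ * (r * r)) * c⁻¹ := by rw [h1.eq]
      _ = r * r * c⁻¹ := by group
  have hwpow : w ^ 2 ^ m = 1 := by
    have h1 : r ^ 2 ^ m = c ^ 2 ^ m * (r ^ 2 ^ m)⁻¹ := by rw [← hspow, hscomm]
    have h2 : c ^ 2 ^ m = r ^ 2 ^ m * r ^ 2 ^ m := by
      rw [eq_mul_inv_iff_mul_eq] at h1
      exact h1.symm
    rw [hw, (hcc _).mul_pow, h2, ((Commute.refl r⁻¹)).mul_pow, inv_pow]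
    group
  have hcomm : ⁅s, r⁆ = w := by
    rw [commutatorElement_def, hsr, hw, mul_assoc]
  have hle : ⁅P, P⁆ ≤ zpowers w := by
    have hN : ∀ g ∈ closure ({r, s} ∪ (f.ker : Set Y)), ∀ n ∈ zpowers w,
        g * n * g⁻¹ ∈ zpowers w := by
      have key : ∀ g, (g * w * g⁻¹ = w ∨ g * w * g⁻¹ = w⁻¹) → ∀ n ∈ zpowers w,
          g * n * g⁻¹ ∈ zpowers w := by
        rintro g hg _ ⟨i, rfl⟩
        have e : g * (w ^ i) * g⁻¹ = (g * w * g⁻¹) ^ i := by
          have := map_zpow (MulAut.conj g) w i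
          simpa only [MulAut.conj_apply] using this
        show g * (w ^ i) * g⁻¹ ∈ zpowers w
        rw [e]
        rcases hg with h | h
        · rw [h]; exact zpow_mem (mem_zpowers w) i
        · rw [h]; exact zpow_mem (inv_mem (mem_zpowers w)) i
      have key2 : closure ({r, s} ∪ (f.ker : Set Y)) ≤
          { carrier := {g | g * w * g⁻¹ = w ∨ g * w * g⁻¹ = w⁻¹}
            mul_mem' := by
              intro a b ha hb
              have e : a * b * w * (a * b)⁻¹ = a * (b * w * b⁻¹) * a⁻¹ := by group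
              have e' : a * w⁻¹ * a⁻¹ = (a * w * a⁻¹)⁻¹ := by group
              show a * b * w * (a * b)⁻¹ = w ∨ a * b * w * (a * b)⁻¹ = w⁻¹
              rw [e]
              rcases hb with hb | hb
              · rw [hb]; exact ha
              · rw [hb, e']
                rcases ha with ha | ha
                · rw [ha]; exact Or.inr rfl
                · rw [ha, inv_inv]; exact Or.inl rfl
            one_mem' := by left; group
            inv_mem' := by
              intro a ha
              show a⁻¹ * w * a⁻¹⁻¹ = w ∨ a⁻¹ * w * a⁻¹⁻¹ = w⁻¹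
              rcases ha with ha | ha
              · left
                calc a⁻¹ * w * a⁻¹⁻¹ = a⁻¹ * (a * w * a⁻¹) * a⁻¹⁻¹ := by rw [ha]
                  _ = w := by group
              · right
                have ha' : w = (a * w * a⁻¹)⁻¹ := by rw [ha, inv_inv]
                calc a⁻¹ * w * a⁻¹⁻¹ = a⁻¹ * (a * w * a⁻¹)⁻¹ * a⁻¹⁻¹ := by rw [← ha']
                  _ = w⁻¹ := by group } := by
        rw [closure_le]
        rintro g (hg | hg)
        · rcases hg with rfl | hg
          · left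
            rw [← hwr.eq, mul_inv_cancel_right]
          · rw [Set.mem_singleton_iff] at hg
            subst hg
            exact Or.inr hsw
        · left
          have h1 : Commute g w := (mem_center_iff.1 (hc hg) w).symm
          rw [h1.eq, mul_inv_cancel_right]
      exact fun g hg => key g (key2 hg)
    refine le_trans (commutator_mono hgen hgen) ?_
    have key : ∀ b, (∀ a ∈ ({r, s} ∪ (f.ker : Set Y)), ⁅a, b⁆ ∈ zpowers w) →
        ∀ g ∈ closure ({r, s} ∪ (f.ker : Set Y)), ⁅g, b⁆ ∈ zpowers w := by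
      intro b hb g hg
      induction hg using closure_induction with
      | mem x hx => exact hb x hx
      | one => rw [commutatorElement_one_left]; exact one_mem _
      | mul x y hx _ h1 h2 =>
        have e : ⁅x * y, b⁆ = x * ⁅y, b⁆ * x⁻¹ * ⁅x, b⁆ := by
          simp only [commutatorElement_def]; group
        rw [e]
        exact mul_mem (hN x hx _ h2) h1
      | inv x hx h1 =>
        have e : ⁅x⁻¹, b⁆ = x⁻¹ * ⁅x, b⁆⁻¹ * x⁻¹⁻¹ := by
          simp only [commutatorElement_def]; group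
        rw [e]
        exact hN _ (inv_mem hx) _ (inv_mem h1)
    rw [commutator_le]
    intro g hg k hk
    refine key k (fun a ha => ?_) g hg
    rw [← commutatorElement_inv]
    refine inv_mem (key a (fun b hb => ?_) k hk)
    rcases ha with ha | ha
    · rcases hb with hb | hb
      · rcases ha with rfl | ha <;> rcases hb with rfl | hb
        · rw [commutatorElement_self]; exact one_mem _
        · rw [Set.mem_singleton_iff] at hb
          subst hb
          rw [hcomm]; exact mem_zpowers w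
        · rw [Set.mem_singleton_iff] at ha
          subst ha
          rw [← commutatorElement_inv, hcomm]
          exact inv_mem (mem_zpowers w)
        · rw [Set.mem_singleton_iff] at ha hb
          subst ha
          subst hb
          rw [commutatorElement_self]; exact one_mem _
      · have h1 : b * a = a * b := (mem_center_iff.1 (hc hb) a).symm
        rw [commutatorElement_eq_one_iff_mul_comm.2 h1]
        exact one_mem _
    · have h1 : b * a = a * b := mem_center_iff.1 (hc ha) b
      rw [commutatorElement_eq_one_iff_mul_comm.2 h1]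
      exact one_mem _
  obtain ⟨k, hk⟩ := hle hz
  have hk' : w ^ k = z := hk
  have hfw : f w = (f r)⁻¹ ^ 2 := by
    rw [hw, map_mul, hcker, one_mul, map_mul, map_inv, pow_two]
  have h5 : (f r) ^ (2 * k) = 1 := by
    have h6 : f w ^ k = 1 := by rw [← map_zpow, hk', hfz]
    rw [hfw, inv_pow, inv_zpow, inv_eq_one, ← zpow_natCast, ← zpow_mul] at h6
    exact_mod_cast h6
  have h7 : ((2 * 2 ^ m : ℕ) : ℤ) ∣ 2 * k := by
    rw [← ho]
    exact orderOf_dvd_iff_zpow_eq_one.2 h5
  obtain ⟨j, hj⟩ : ∃ j : ℤ, k = 2 ^ m * j := by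
    obtain ⟨j, hj⟩ := h7
    refine ⟨j, ?_⟩
    push_cast at hj
    have : (2 : ℤ) * k = 2 * (2 ^ m * j) := by rw [hj]; ring
    exact mul_left_cancel₀ two_ne_zero this
  rw [← hk', hj, zpow_mul]
  have : w ^ ((2 : ℤ) ^ m) = 1 := by
    have h8 : ((2 : ℤ) ^ m) = ((2 ^ m : ℕ) : ℤ) := by push_cast; rfl
    rw [h8, zpow_natCast, hwpow]
  rw [this, one_zpow]

/-- **P1.** A central extension by a 2-group, generated by elements of odd order, of a group with at most one
involution is trivial. -/
theorem injective [Finite Y] (hgen : closure {y : Y | Odd (orderOf y)} = ⊤)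
    {f : Y →* B} (hc : f.ker ≤ center Y) (h2 : IsPGroup 2 f.ker) {t : B}
    (huniq : ∀ y, f y * f y = 1 → f y = 1 ∨ f y = t) : Function.Injective f := by
  have : Fact (Nat.Prime 2) := ⟨Nat.prime_two⟩
  rw [injective_iff_map_eq_one]
  intro z hz
  obtain ⟨P⟩ : Nonempty (Sylow 2 Y) := inferInstance
  have hzP := ker_le_commutator hgen hc h2 P hz
  have hPp : IsPGroup 2 ((P : Subgroup Y).map f) := P.isPGroup'.map f
  have hU : Cfsg.Agent.Solvable.UniqueOrderP.UniqueP 2 ((P : Subgroup Y).map f) := by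
    have key : ∀ x : (P : Subgroup Y).map f, x ^ 2 = 1 → x = 1 ∨ (x : B) = t := by
      rintro ⟨x, p, hp, rfl⟩ hx
      have hx' : f p * f p = 1 := by
        rw [← pow_two]
        exact congrArg Subtype.val hx
      rcases huniq p hx' with h | h
      · exact Or.inl (Subtype.ext h)
      · exact Or.inr h
    intro x y hx hx2 hy2
    rcases key y hy2 with h | h
    · rw [h]; exact one_mem _
    · rcases key x hx2 with h' | h'
      · exact absurd h' hx
      · have : y = x := Subtype.ext (h.trans h'.symm)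
        rw [this]; exact mem_zpowers x
  have hfin : Finite ((P : Subgroup Y).map f) :=
    Finite.of_surjective (f.subgroupMap P) (f.subgroupMap_surjective P)
  rcases Cfsg.Agent.Solvable.UniqueOrderP.cyclic_or_quaternion hPp hU with h | ⟨-, m, -, ⟨e⟩⟩
  · -- cyclic
    let g : (P : Subgroup Y) →* ((P : Subgroup Y).map f) := f.subgroupMap P
    have hker : g.ker ≤ center (P : Subgroup Y) := by
      intro x hx
      have hx1 : f x = 1 := congrArg Subtype.val hx
      rw [mem_center_iff]
      intro y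
      exact Subtype.ext (mem_center_iff.1 (hc hx1) y)
    have hcom : ∀ a b : (P : Subgroup Y), a * b = b * a :=
      (MonoidHom.isMulCommutative_of_isCyclic_of_ker_le_center g hker).is_comm.comm
    have h1 : ⁅(P : Subgroup Y), (P : Subgroup Y)⁆ ≤ ⊥ := by
      rw [commutator_le]
      intro a ha b hb
      rw [mem_bot]
      exact commutatorElement_eq_one_iff_mul_comm.2 (congrArg Subtype.val (hcom ⟨a, ha⟩ ⟨b, hb⟩))
    exact mem_bot.1 (h1 hzP)
  · obtain ⟨r, hrP, hr⟩ := (e.symm (QuaternionGroup.a 1)).2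
    obtain ⟨s, hsP, hs⟩ := (e.symm (QuaternionGroup.xa 0)).2
    have hne : NeZero (2 ^ m) := ⟨by positivity⟩
    have hrpow : ∀ k : ℕ, f (r ^ k) = (e.symm (QuaternionGroup.a (k : ZMod (2 * 2 ^ m))) : B) := by
      intro k
      rw [map_pow, hr, ← Subgroup.coe_pow, ← map_pow, QuaternionGroup.a_one_pow]
    refine eq_one_of_quat hc (P := (P : Subgroup Y)) (r := r) (s := s) (m := m) ?_ ?_ ?_ ?_ hzP hz
    · intro p hp
      have hmem : ∀ q ∈ closure ({r, s} ∪ (f.ker : Set Y)), f q = f p →
          p ∈ closure ({r, s} ∪ (f.ker : Set Y)) := by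
        intro q hq hqp
        have h1 : q⁻¹ * p ∈ closure ({r, s} ∪ (f.ker : Set Y)) := by
          apply Subgroup.subset_closure
          right
          show f (q⁻¹ * p) = 1
          rw [map_mul, map_inv, hqp, inv_mul_cancel]
        have h2 := mul_mem hq h1
        rwa [mul_inv_cancel_left] at h2
      have hrc : r ∈ closure ({r, s} ∪ (f.ker : Set Y)) :=
        Subgroup.subset_closure (Or.inl (Or.inl rfl))
      have hsc : s ∈ closure ({r, s} ∪ (f.ker : Set Y)) :=
        Subgroup.subset_closure (Or.inl (Or.inr rfl))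
      obtain ⟨x, hx⟩ : ∃ x, x = e ⟨f p, mem_map_of_mem f hp⟩ := ⟨_, rfl⟩
      have hx' : (e.symm x : B) = f p := by rw [hx, MulEquiv.symm_apply_apply]
      cases x with
      | a i =>
        refine hmem (r ^ i.val) (pow_mem hrc _) ?_
        rw [hrpow, ZMod.natCast_zmod_val, hx']
      | xa i =>
        refine hmem (s * r ^ i.val) (mul_mem hsc (pow_mem hrc _)) ?_
        rw [map_mul, hrpow, hs, ZMod.natCast_zmod_val, ← Subgroup.coe_mul, ← map_mul,
          QuaternionGroup.xa_mul_a, zero_add, hx']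
    · rw [hr, Subgroup.orderOf_coe, MulEquiv.orderOf_eq, QuaternionGroup.orderOf_a_one]
    · rw [map_mul, map_mul, map_inv, map_inv, hr, hs, ← Subgroup.coe_mul, ← Subgroup.coe_inv,
        ← Subgroup.coe_mul, ← Subgroup.coe_inv, ← map_mul, ← map_inv, ← map_mul, ← map_inv]
      have e1 : (QuaternionGroup.xa 0 * QuaternionGroup.a 1 * (QuaternionGroup.xa 0)⁻¹ :
          QuaternionGroup (2 ^ m)) = (QuaternionGroup.a 1)⁻¹ := by
        rw [mul_inv_eq_iff_eq_mul, QuaternionGroup.xa_mul_a]
        change _ = QuaternionGroup.a (-1) * QuaternionGroup.xa 0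
        rw [QuaternionGroup.a_mul_xa]
        congr 1
        ring
      rw [e1]
    · rw [hrpow, map_mul, hs, ← Subgroup.coe_mul, ← map_mul, QuaternionGroup.xa_mul_xa]
      congr 3
      ring

/-- Subgroup version of `injective`. -/
theorem injOn [Finite Y] {K : Subgroup Y} (hgen : K ≤ closure {y : Y | y ∈ K ∧ Odd (orderOf y)})
    {f : Y →* B} (hc : ∀ c ∈ K, f c = 1 → ∀ y ∈ K, c * y = y * c)
    (h2 : ∀ c ∈ K, f c = 1 → ∃ n : ℕ, c ^ 2 ^ n = 1) {t : B}
    (huniq : ∀ y ∈ K, f y * f y = 1 → f y = 1 ∨ f y = t) {c : Y} (hcK : c ∈ K) (hfc : f c = 1) :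
    c = 1 := by
  have hgen' : closure {y : K | Odd (orderOf y)} = ⊤ := by
    rw [eq_top_iff]
    have h1 : (closure {y : K | Odd (orderOf y)}).map K.subtype = closure {y : Y | y ∈ K ∧ Odd (orderOf y)} := by
      rw [MonoidHom.map_closure]
      congr 1
      ext y
      constructor
      · rintro ⟨k, hk, rfl⟩
        refine ⟨k.2, ?_⟩
        show Odd (orderOf (k : Y))
        rw [Subgroup.orderOf_coe]
        exact hk
      · rintro ⟨hy, ho⟩
        refine ⟨⟨y, hy⟩, ?_, rfl⟩
        show Odd (orderOf (⟨y, hy⟩ : K))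
        rw [Subgroup.orderOf_mk]
        exact ho
    rintro ⟨y, hy⟩ -
    have h2 := hgen hy
    rw [← h1] at h2
    obtain ⟨k, hk, hky⟩ := h2
    have : k = ⟨y, hy⟩ := Subtype.ext hky
    rw [← this]
    exact hk
  have hinj : Function.Injective (f.comp K.subtype) := by
    refine injective hgen' (t := t) ?_ ?_ ?_
    · intro c hc1
      rw [mem_center_iff]
      intro y
      exact Subtype.ext (hc c c.2 hc1 y y.2).symm
    · intro c
      obtain ⟨n, hn⟩ := h2 c.1 c.1.2 c.2
      exact ⟨n, Subtype.ext (Subtype.ext hn)⟩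
    · intro y hy
      exact huniq y y.2 hy
  have h3 : (⟨c, hcK⟩ : K) = 1 := hinj (by rw [map_one]; exact hfc)
  exact congrArg Subtype.val h3

/-- `Lft π A → A` is injective if `A` has at most one involution. -/
theorem lft_injOn [Finite Y] {π : Y →* B} (h : Lft.CExt π) {A : Subgroup B} {t : B}
    (hA : ∀ a ∈ A, a * a = 1 → a = 1 ∨ a = t) {c : Y} (hc : c ∈ Lft.Lft π A) (hπ : π c = 1) :
    c = 1 := by
  have hle : ∀ y ∈ Lft.Lft π A, π y ∈ A := by
    intro y hy
    have h1 : Lft.Lft π A ≤ A.comap π := by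
      unfold Lft.Lft
      rw [closure_le]
      intro x hx
      exact hx.1
    exact h1 hy
  refine injOn (K := Lft.Lft π A) (f := π) (t := t) ?_ ?_ ?_ ?_ hc hπ
  · unfold Lft.Lft
    rw [closure_le]
    intro x hx
    exact Subgroup.subset_closure ⟨Subgroup.subset_closure hx, hx.2⟩
  · intro c _ hc1 y _
    exact h.cen c hc1 y
  · intro c _ hc1
    exact h.two c hc1
  · intro y hy hyy
    exact hA _ (hle y hy) hyy

end

end Cfsg.Agent.GH.Cov.QuatLift
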