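import Cfsg.Agent.GH.Cov.SLTwoFacts
import Cfsg.Agent.GH.Cov.LieData

/-!
# One half of `LieData.Core` from an embedding of `SL(2, K)`
-/

set_option autoImplicit false

namespace Cfsg.Agent.GH.Cov.SLCore

open Matrix Subgroup Cfsg.Agent.GH.Cov.SLTwoFacts Cfsg.Agent.GH.Cov.LieData

/-- the one-sided fields of `LieData.Core` -/
structure Half {L : Type*} [Group L] (t i j d : L) (A : Subgroup L) : Prop where
  trip : Trip t i j d
  i_mem : i ∈ A
  j_mem : j ∈ A
  d_mem : d ∈ A
  tt : t * t = 1
  t_ne : t ≠ 1
  inv : ∀ a ∈ A, a * a = 1 → a = 1 ∨ a = t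
  gen : A ≤ closure {a : L | a ∈ A ∧ Odd (orderOf a)}
  cent : ∀ u ∈ A, u * u ≠ 1 → ∀ a ∈ A, ∀ b ∈ A, a * u = u * a → b * u = u * b → a * b = b * a

variable {K : Type*} [Field K]

/-- centralizers of noncentral `2 × 2` matrices are commutative -/
theorem m2_comm {u a b : Matrix (Fin 2) (Fin 2) K}
    (hu : u 0 1 ≠ 0 ∨ u 1 0 ≠ 0 ∨ u 0 0 - u 1 1 ≠ 0) (ha : a * u = u * a) (hb : b * u = u * b) :
    a * b = b * a := by
  have a00 := congrFun (congrFun ha 0) 0
  have a01 := congrFun (congrFun ha 0) 1
  have a10 := congrFun (congrFun ha 1) 0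
  have b00 := congrFun (congrFun hb 0) 0
  have b01 := congrFun (congrFun hb 0) 1
  have b10 := congrFun (congrFun hb 1) 0
  simp only [Matrix.mul_apply, Fin.sum_univ_two] at a00 a01 a10 b00 b01 b10
  have c1 : a 0 1 * b 1 0 = b 0 1 * a 1 0 := by
    rcases hu with h | h | h
    · apply mul_left_cancel₀ h
      linear_combination (b 0 1) * a00 - (a 0 1) * b00
    · apply mul_left_cancel₀ h
      linear_combination (b 1 0) * a00 - (a 1 0) * b00
    · apply mul_left_cancel₀ h
      linear_combination (-(b 1 0)) * a01 - (a 0 0 - a 1 1) * b00 - (b 0 1) * a10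
  have c2 : a 0 1 * (b 0 0 - b 1 1) = b 0 1 * (a 0 0 - a 1 1) := by
    rcases hu with h | h | h
    · apply mul_left_cancel₀ h
      linear_combination (a 0 1) * b01 - (b 0 1) * a01
    · apply mul_left_cancel₀ h
      linear_combination (u 0 0 - u 1 1) * c1 - (a 0 1) * b10 + (b 0 1) * a10
    · apply mul_left_cancel₀ h
      linear_combination (-(b 0 0 - b 1 1)) * a01 + (a 0 0 - a 1 1) * b01
  have c3 : a 1 0 * (b 0 0 - b 1 1) = b 1 0 * (a 0 0 - a 1 1) := by
    rcases hu with h | h | h
    · apply mul_left_cancel₀ h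
      linear_combination (a 1 0) * b01 - (b 1 0) * a01 - (u 0 0 - u 1 1) * c1
    · apply mul_left_cancel₀ h
      linear_combination (b 1 0) * a10 - (a 1 0) * b10
    · apply mul_left_cancel₀ h
      linear_combination (b 0 0 - b 1 1) * a10 - (a 0 0 - a 1 1) * b10
  ext i j
  fin_cases i <;> fin_cases j <;>
    simp only [Matrix.mul_apply, Fin.sum_univ_two, Fin.zero_eta, Fin.mk_one]
  · linear_combination c1
  · linear_combination -c2
  · linear_combination c3
  · linear_combination -c1

theorem sl2_comm {u a b : SpecialLinearGroup (Fin 2) K} (hu : u * u ≠ 1) (ha : a * u = u * a)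
    (hb : b * u = u * b) : a * b = b * a := by
  apply Subtype.ext
  refine m2_comm (u := u.1) ?_ (congrArg Subtype.val ha) (congrArg Subtype.val hb)
  by_contra hcon
  push Not at hcon
  obtain ⟨h1, h2, h3⟩ := hcon
  apply hu
  have hd := u.2
  rw [Matrix.det_fin_two, h1, zero_mul, sub_zero] at hd
  apply Subtype.ext
  change u.1 * u.1 = 1
  have h4 : u.1 1 1 = u.1 0 0 := (sub_eq_zero.1 h3).symm
  rw [h4] at hd
  ext i j
  fin_cases i <;> fin_cases j <;>
    simp [Matrix.mul_apply, Fin.sum_univ_two, h1, h2, h4, hd]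

/-- `SL(2, q)` is generated by elements of odd order, `q` odd -/
theorem sl_gen [Fintype K] (hK : Odd (Fintype.card K)) :
    closure {a : SpecialLinearGroup (Fin 2) K | Odd (orderOf a)} = ⊤ := by
  have hUpow : ∀ (a : K) (n : ℕ), ClassificationK.SLTwoAction.U a ^ n =
      ClassificationK.SLTwoAction.U ((n : K) * a) := by
    intro a n
    induction n with
    | zero =>
      rw [pow_zero, Nat.cast_zero, zero_mul]
      apply Subtype.ext
      ext i j
      fin_cases i <;> fin_cases j <;> simp [ClassificationK.SLTwoAction.U]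
    | succ n ih =>
      rw [pow_succ, ih]
      apply Subtype.ext
      change !![1, (n : K) * a; 0, 1] * !![1, a; 0, 1] = !![1, ((n + 1 : ℕ) : K) * a; 0, 1]
      ext i j
      fin_cases i <;> fin_cases j <;> simp [Matrix.mul_apply, Fin.sum_univ_two]
      ring
  have hLpow : ∀ (a : K) (n : ℕ), ClassificationK.SLTwoAction.L a ^ n =
      ClassificationK.SLTwoAction.L ((n : K) * a) := by
    intro a n
    induction n with
    | zero =>
      rw [pow_zero, Nat.cast_zero, zero_mul]
      apply Subtype.ext
      ext i j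
      fin_cases i <;> fin_cases j <;> simp [ClassificationK.SLTwoAction.L]
    | succ n ih =>
      rw [pow_succ, ih]
      apply Subtype.ext
      change !![1, 0; (n : K) * a, 1] * !![1, 0; a, 1] = !![1, 0; ((n + 1 : ℕ) : K) * a, 1]
      ext i j
      fin_cases i <;> fin_cases j <;> simp [Matrix.mul_apply, Fin.sum_univ_two]
      ring
  have hq : ((Fintype.card K : ℕ) : K) = 0 := FiniteField.cast_card_eq_zero K
  have hU1 : ClassificationK.SLTwoAction.U (0 : K) = 1 := by
    rw [← pow_zero (ClassificationK.SLTwoAction.U (0 : K)), hUpow]; simp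
  have hL1 : ClassificationK.SLTwoAction.L (0 : K) = 1 := by
    rw [← pow_zero (ClassificationK.SLTwoAction.L (0 : K)), hLpow]; simp
  rw [eq_top_iff]
  intro M _
  refine ClassificationK.SLTwoAction.mem_of_elem _ (fun c => subset_closure ?_)
    (fun c => subset_closure ?_) M
  · have h1 : ClassificationK.SLTwoAction.U c ^ Fintype.card K = 1 := by
      rw [hUpow, hq, zero_mul, hU1]
    exact Odd.of_dvd_nat hK (orderOf_dvd_of_pow_eq_one h1)
  · have h1 : ClassificationK.SLTwoAction.L c ^ Fintype.card K = 1 := by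
      rw [hLpow, hq, zero_mul, hL1]
    exact Odd.of_dvd_nat hK (orderOf_dvd_of_pow_eq_one h1)

/-- the half of `Core` given by an embedding of `SL(2, K)` -/
theorem exists_half [Fintype K] (hK : Odd (Fintype.card K)) :
    ∃ c i j w : SpecialLinearGroup (Fin 2) K, SLFacts c i j w ∧
      ∀ {L : Type*} [Group L] (f : SpecialLinearGroup (Fin 2) K →* L), Function.Injective f →
        Half (f c) (f i) (f j) (f w) f.range := by
  obtain ⟨c, i, j, w, h⟩ := exists_sl hK
  refine ⟨c, i, j, w, h, fun {L} _ f hf => ?_⟩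
  exact
    { trip :=
        { ii := by rw [← map_mul, h.ii]
          jj := by rw [← map_mul, h.jj]
          ji := by
            rw [← map_mul, ← map_mul, ← map_mul]
            congr 1
            have h1 := h.rel.hji
            have h2 : i⁻¹ = c * i := by
              apply inv_eq_of_mul_eq_one_right
              rw [← mul_assoc, ← h.central, mul_assoc, h.ii, h.cc]
            rw [← mul_assoc, ← h2, ← h1]
            group
          d3 := by rw [← map_mul, ← map_mul, ← pow_two, ← pow_succ, h.w3, map_one]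
          di := by rw [← map_mul, ← map_inv, ← map_mul, h.rel.hti]
          dj := by rw [← map_mul, ← map_inv, ← map_mul, h.rel.htj, map_mul] }
      i_mem := ⟨i, rfl⟩
      j_mem := ⟨j, rfl⟩
      d_mem := ⟨w, rfl⟩
      tt := by rw [← map_mul, h.cc, map_one]
      t_ne := by
        intro h1
        exact h.c_ne (hf (by rw [h1, map_one]))
      inv := by
        rintro _ ⟨a, rfl⟩ ha
        rw [← map_mul] at ha
        have h1 : a * a = 1 := hf (by rw [ha, map_one])
        rcases h.uniq a h1 with rfl | rfl
        · exact Or.inl (map_one f)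
        · exact Or.inr rfl
      gen := by
        have h1 : f.range = (closure {a : SpecialLinearGroup (Fin 2) K | Odd (orderOf a)}).map f := by
          rw [sl_gen hK, MonoidHom.range_eq_map]
        rw [h1, MonoidHom.map_closure]
        apply Subgroup.closure_mono
        rintro _ ⟨a, ha, rfl⟩
        refine ⟨?_, ?_⟩
        · rw [← MonoidHom.map_closure]
          exact ⟨a, subset_closure ha, rfl⟩
        · rw [orderOf_injective f hf]; exact ha
      cent := by
        rintro _ ⟨u, rfl⟩ huu _ ⟨a, rfl⟩ _ ⟨b, rfl⟩ ha hb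
        rw [← map_mul, ← map_mul] at ha hb ⊢
        rw [sl2_comm (u := u) (fun h1 => huu (by rw [← map_mul, h1, map_one])) (hf ha) (hf hb)] }

end Cfsg.Agent.GH.Cov.SLCore
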