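import Cfsg.Agent.GH.Tops
import Cfsg.Agent.GH.LowRankB
import Cfsg.Agent.S0892

/-!
# GH-COV (2): 2-components of type `2.A_n`, `n ≥ 8`, and the double cover attached to a 2-component with
even centre

* `mem_of_fixes`: if the top of `K` has sectional rank 4 then the 2-elements of `C(x)` fixing `K` lie
  in `K`; in particular `x ∈ K` (`mem_self`);
* `hasAltCover`: a 2-component with even centre and top `A_n`, `n ≥ 8`;
* `exists_double`: a perfect double cover of the top, of sectional rank at most 4.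
-/

set_option autoImplicit false

open Cfsg Subgroup
open Cfsg.Agent.SignalizersComponents.IntrinsicBasic
open Cfsg.Agent.Intrinsic.Basic Cfsg.Agent.Intrinsic.Cen
open Cfsg.Agent.GH.Defs Cfsg.Agent.GH.Rank Cfsg.Agent.GH.Comp Cfsg.Agent.GH.Tops
open scoped commutatorElement

namespace Cfsg.Agent.GH.Cov.Alt

variable {G : Type*} [Group G] [Finite G]

/-- If `r(H) ≤ r(STop K)` then every 2-element of `H` fixing `K` lies in `K`. -/
theorem mem_of_fixes {H K : Subgroup G} (hK : IsComp H K) (hr : srank 2 H ≤ srank 2 (STop K))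
    {d : G} (hd : d ∈ H) (hfix : Fixes d K) {n : ℕ} (hn : d ^ 2 ^ n = 1) : d ∈ K := by
  have hdH : zpowers d ≤ H := by rwa [zpowers_le]
  have hcen : ∀ y ∈ zpowers d, Fixes y K := by
    intro y hy
    rw [hK.fixes_iff (hdH hy)]
    have h1 : zpowers d ≤ cenMod H K := by
      rw [zpowers_le]
      exact (hK.fixes_iff hd).mp hfix
    exact h1 hy
  let Z : Subgroup (zpowers d) := (K ⊔ core H).subgroupOf (zpowers d)
  have hZn : Z.Normal := by
    constructor
    intro a ha g
    have h1 : g * a * g⁻¹ = a := by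
      rw [mul_inv_eq_iff_eq_mul]
      apply Subtype.ext
      obtain ⟨i, hi⟩ := g.2
      obtain ⟨j, hj⟩ := a.2
      change (g : G) * a = a * g
      rw [← show d ^ i = (g : G) from hi, ← show d ^ j = (a : G) from hj, ← zpow_add, ← zpow_add,
        add_comm]
    rwa [h1]
  have h1 := srank_top_add_le (D := zpowers d) hK hdH hcen Z (by
    rintro a ⟨k, hk, hka⟩
    change (a : G) ∈ K ⊔ core H
    have h2 : (a : G) = k * (k⁻¹ * (a : G)) := by group
    rw [h2]
    exact mul_mem (mem_sup_left hk) (mem_sup_right hka))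
  have h2 : srank 2 (zpowers d ⧸ Z) = 0 := by omega
  rw [srank_eq_zero_iff Nat.prime_two] at h2
  -- the image of `d` is a 2-element of a group of odd order
  have h3 : (QuotientGroup.mk' Z) ⟨d, mem_zpowers d⟩ = 1 := by
    have h4 : ((QuotientGroup.mk' Z) ⟨d, mem_zpowers d⟩) ^ 2 ^ n = 1 := by
      rw [← map_pow]
      have : (⟨d, mem_zpowers d⟩ : zpowers d) ^ 2 ^ n = 1 := Subtype.ext hn
      rw [this, map_one]
    have h5 : Nat.Coprime (2 ^ n) (Nat.card (zpowers d ⧸ Z)) :=
      Nat.Coprime.pow_left n ((Nat.Prime.coprime_iff_not_dvd Nat.prime_two).mpr h2)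
    exact orderOf_eq_one_iff.mp (Nat.eq_one_of_dvd_coprimes h5 (orderOf_dvd_of_pow_eq_one h4)
      (orderOf_dvd_natCard _))
  have h4 : d ∈ K ⊔ core H := by
    have h5 : (⟨d, mem_zpowers d⟩ : zpowers d) ∈ Z := (QuotientGroup.eq_one_iff _).mp h3
    exact h5
  have h5 : d ∈ ((K ⊔ core H : Subgroup G) : Set G) := h4
  rw [Subgroup.coe_mul_of_left_le_normalizer_right _ _
    (hK.le.trans (le_normalizer_core H))] at h5
  obtain ⟨k, hk, c, hc, hkc⟩ := h5
  refine hK.mem_of_two hk (x := d) ?_ hn
  have h6 : k⁻¹ * d = c := by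
    rw [← hkc]; group
  rw [h6]
  exact hc

theorem mem_self (h4 : SectionalPRankLE 2 4 G) {x : G} {K : Subgroup G} (c : Comp2 x K)
    (hr : 4 ≤ srank 2 (STop K)) : x ∈ K := by
  have hX : srank 2 (centralizer ({x} : Set G)) ≤ 4 :=
    (srank_subgroup_le (by norm_num) _).trans ((srank_le_iff (by norm_num)).2 h4)
  exact mem_of_fixes c.comp (hX.trans hr) (mem_centralizer_singleton_iff.mpr rfl)
    (fixes_self c.comp.le) (n := 1) (by rw [pow_one, ← c.inv, pow_orderOf_eq_one])

/-- A perfect group has no complement to a nontrivial central subgroup. -/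
theorem not_complement {Y : Type*} [Group Y] (hY : Group.IsPerfect Y) (h1 : center Y ≠ ⊥)
    (L : Subgroup Y) : ¬ (center Y).IsComplement' L := by
  intro hc
  have hsup : center Y ⊔ L = ⊤ := hc.sup_eq_top
  have hL : commutator Y ≤ L := by
    rw [commutator_def, commutator_le]
    intro a _ b _
    have ha : a ∈ ((center Y ⊔ L : Subgroup Y) : Set Y) := hsup ▸ mem_top a
    have hb : b ∈ ((center Y ⊔ L : Subgroup Y) : Set Y) := hsup ▸ mem_top b
    rw [Subgroup.normal_mul] at ha hb
    obtain ⟨s, hs, l, hl, rfl⟩ := ha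
    obtain ⟨t, ht, m, hm, rfl⟩ := hb
    have hs' := fun g => mem_center_iff.mp hs g
    have ht' := fun g => mem_center_iff.mp ht g
    have e : ⁅s * l, t * m⁆ = ⁅l, m⁆ := by
      rw [commutatorElement_def, commutatorElement_def]
      calc s * l * (t * m) * (s * l)⁻¹ * (t * m)⁻¹
          = s * l * (t * (m * (s * l)⁻¹ * m⁻¹)) * t⁻¹ := by group
        _ = s * l * ((m * (s * l)⁻¹ * m⁻¹) * t) * t⁻¹ := by rw [ht' (m * (s * l)⁻¹ * m⁻¹)]
        _ = s * (l * m * l⁻¹) * s⁻¹ * m⁻¹ := by group
        _ = (l * m * l⁻¹) * s * s⁻¹ * m⁻¹ := by rw [hs' (l * m * l⁻¹)]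
        _ = _ := by group
    rw [e]
    exact L.mul_mem (L.mul_mem (L.mul_mem hl hm) (L.inv_mem hl)) (L.inv_mem hm)
  have htop : L = ⊤ := by
    rw [eq_top_iff, ← hY.commutator_eq_top]
    exact hL
  apply h1
  rw [htop] at hc
  exact isComplement'_top_right.mp hc

/-- A 2-component with even centre and top `A_n`, `n ≥ 8`, is `2.A_n` mod core. -/
theorem cover {H K : Subgroup G} (hK : IsComp H K) (he : EvenCenter K) {n : ℕ} (hn : 8 ≤ n)
    (ht : IsAlt n (STop K)) : IsNonsplitDoubleCover (Bar K) (alternatingGroup (Fin n)) := by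
  obtain ⟨e⟩ := ht
  have hq := quasisimple hK
  have hcomm : commutator (Bar K) = ⊤ := hq.1.commutator_eq_top
  have h1 : Nat.card (center (Bar K)) ≤ 2 :=
    S0892.result n (by omega) (by omega) (by omega) (center (Bar K)) le_rfl
      (by rw [hcomm]; exact le_top) e
  have h2 : 0 < Nat.card (center (Bar K)) := Nat.card_pos
  have h3 : Nat.card (center (Bar K)) = 2 := by
    obtain ⟨m, hm⟩ := he
    omega
  refine ⟨h3, ⟨e⟩, not_complement hq.1 ?_⟩
  intro h
  rw [h, Subgroup.card_bot] at h3
  omega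

/-- **GH-COV (2).** -/
theorem hasAltCover (h4 : SectionalPRankLE 2 4 G) {x : G} {K : Subgroup G} (c : Comp2 x K)
    (he : EvenCenter K) {n : ℕ} (hn : 8 ≤ n) (ht : IsAlt n (STop K)) : HasAltCover G := by
  refine ⟨n, x, K, hn, c, mem_self h4 c ?_, cover c.comp he hn ht⟩
  obtain ⟨e⟩ := ht
  by_contra hlt
  have h1 : SectionalPRankLE 2 3 (STop K) := (srank_le_iff (by norm_num)).1 (by omega)
  exact LowRank.alt_not hn (of_equiv h1 e)

/-- A finite abelian group of even order has a subgroup of index two. -/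
theorem exists_index_two {C : Type*} [Group C] [Finite C] (hcm : ∀ a b : C, a * b = b * a)
    (h2 : 2 ∣ Nat.card C) : ∃ M : Subgroup C, M.index = 2 := by
  let _ : CommGroup C := { ‹Group C› with mul_comm := hcm }
  have hp : Fact (Nat.Prime 2) := ⟨Nat.prime_two⟩
  let sq : C →* C := powMonoidHom 2
  have hD : sq.range ≠ ⊤ := by
    intro h
    have h1 : Function.Injective sq :=
      Finite.injective_iff_surjective.mpr (MonoidHom.range_eq_top.mp h)
    obtain ⟨x, hx⟩ := exists_prime_orderOf_dvd_card' 2 h2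
    have h3 : sq x = sq 1 := by
      change x ^ 2 = 1 ^ 2
      rw [one_pow, ← hx, pow_orderOf_eq_one]
    have h4 := h1 h3
    rw [h4, orderOf_one] at hx
    omega
  obtain ⟨M, hM, hDM⟩ := (eq_top_or_exists_le_coatom sq.range).resolve_left hD
  have hsq : ∀ c : C, c ^ 2 ∈ M := fun c => hDM ⟨c, rfl⟩
  obtain ⟨a, ha⟩ : ∃ a, a ∉ M := by
    by_contra h
    push Not at h
    exact hM.1 (eq_top_iff.mpr fun x _ => h x)
  refine ⟨M, Subgroup.index_eq_two_iff.mpr ⟨a, fun b => ?_⟩⟩
  by_cases hb : b ∈ M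
  · right
    refine ⟨hb, fun h => ha ?_⟩
    exact (M.mul_mem_cancel_left hb).mp h
  · left
    refine ⟨?_, hb⟩
    have htop : M ⊔ zpowers a = ⊤ := hM.2 _ (lt_of_le_of_ne le_sup_left fun h => ha (by
      rw [h]; exact mem_sup_right (mem_zpowers a)))
    have hb' : b ∈ M ⊔ zpowers a := htop ▸ mem_top b
    rw [Subgroup.mem_sup] at hb'
    obtain ⟨m, hm, y, ⟨k, rfl⟩, rfl⟩ := hb'
    change m * a ^ k ∉ M at hb
    change m * a ^ k * a ∈ M
    rcases Int.even_or_odd' k with ⟨j, rfl | rfl⟩
    · exfalso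
      apply hb
      refine M.mul_mem hm ?_
      rw [mul_comm 2 j, zpow_mul, zpow_ofNat]
      exact hsq _
    · rw [mul_assoc, ← zpow_add_one]
      refine M.mul_mem hm ?_
      rw [show (2 * j + 1 + 1 : ℤ) = (j + 1) * 2 by ring, zpow_mul, zpow_ofNat]
      exact hsq _

/-- A perfect double cover of the top. -/
theorem exists_double.{u} {G : Type u} [Group G] [Finite G] {H K : Subgroup G} (hK : IsComp H K)
    (he : EvenCenter K) {k : ℕ} (h4 : SectionalPRankLE 2 k G) :
    ∃ (Y : Type u) (_ : Group Y) (_ : Finite Y) (f : Y →* STop K), commutator Y = ⊤ ∧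
      Function.Surjective f ∧ Nat.card f.ker = 2 ∧ SectionalPRankLE 2 k Y := by
  have hp : Fact (Nat.Prime 2) := ⟨Nat.prime_two⟩
  have hq := quasisimple hK
  have hcomm : commutator (Bar K) = ⊤ := hq.1.commutator_eq_top
  -- a subgroup of index two of the centre
  obtain ⟨W, hWc, hW2⟩ : ∃ W : Subgroup (Bar K), W ≤ center (Bar K) ∧
      Nat.card (center (Bar K)) = 2 * Nat.card W := by
    obtain ⟨M, hM⟩ := exists_index_two (C := center (Bar K))
      (fun a b => Subtype.ext (mem_center_iff.mp b.2 a)) (even_iff_two_dvd.mp he)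
    refine ⟨M.map (center (Bar K)).subtype, map_subtype_le _, ?_⟩
    rw [card_map_of_injective (center (Bar K)).subtype_injective, ← M.card_mul_index, hM, mul_comm]
  have hWn : W.Normal := by
    constructor
    intro w hw g
    have := mem_center_iff.mp (hWc hw) g
    rw [this, mul_inv_cancel_right]
    exact hw
  let f : (Bar K ⧸ W) →* STop K := QuotientGroup.map W (center (Bar K)) (MonoidHom.id _) hWc
  have hf : Function.Surjective f := by
    intro y
    obtain ⟨a, rfl⟩ := QuotientGroup.mk_surjective y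
    exact ⟨QuotientGroup.mk a, rfl⟩
  refine ⟨Bar K ⧸ W, inferInstance, inferInstance, f, ?_, hf, ?_, ?_⟩
  · have h1 : (commutator (Bar K)).map (QuotientGroup.mk' W) = commutator (Bar K ⧸ W) := by
      rw [_root_.commutator_def, _root_.commutator_def, Subgroup.map_commutator,
        ← MonoidHom.range_eq_map,
        MonoidHom.range_eq_top.mpr (QuotientGroup.mk'_surjective W)]
    rw [← h1, hcomm, ← MonoidHom.range_eq_map,
      MonoidHom.range_eq_top.mpr (QuotientGroup.mk'_surjective W)]
  · have h1 : Nat.card (Bar K ⧸ W) = Nat.card (STop K) * Nat.card f.ker := by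
      have h2 := card_eq_card_quotient_mul_card_subgroup f.ker
      rw [h2]
      congr 1
      exact Nat.card_congr (QuotientGroup.quotientKerEquivOfSurjective f hf).toEquiv
    have h2 : Nat.card (Bar K) = Nat.card (STop K) * Nat.card (center (Bar K)) :=
      card_eq_card_quotient_mul_card_subgroup _
    have h3 : Nat.card (Bar K) = Nat.card (Bar K ⧸ W) * Nat.card W :=
      card_eq_card_quotient_mul_card_subgroup _
    have h5 : 0 < Nat.card W := Nat.card_pos
    have h6 : 0 < Nat.card (STop K) := Nat.card_pos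
    have h7 : Nat.card (STop K) * Nat.card W * Nat.card f.ker =
        Nat.card (STop K) * Nat.card W * 2 := by
      rw [h1] at h3
      rw [h3, hW2] at h2
      linarith
    exact Nat.eq_of_mul_eq_mul_left (Nat.mul_pos h6 h5) h7
  · exact of_quotient (of_quotient (of_subgroup h4 K) _) _

end Cfsg.Agent.GH.Cov.Alt
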