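import Mathlib
import Cfsg.Prelude.Def_CaseTheorems
import Cfsg.Agent.GH.Rank

/-!
# Squares of lifts to a double cover (GH-COV, rank cut, lemma V)

`Good16 X`: there is an elementary abelian subgroup `E` of order 16 in `X` such that every conjugation
invariant `q : X → ZMod 2` which is quadratic on `E` and vanishes at the centres of the quaternion subgroups
`Q₈` of `X` vanishes on `E`.

`not_le_four`: a central extension `f : Y → X` with kernel of order 2 of such a group has sectional 2-rank
at least 5.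
-/

set_option autoImplicit false

open Cfsg Subgroup

namespace Cfsg.Agent.GH.Cov.Sq

universe u v w

/-- An elementary abelian subgroup `E` of order 16 on which every `X`-invariant quadratic form (vanishing at
the centres of the `Q₈`'s of `X`) is zero. -/
def Good16 (X : Type u) [Group X] : Prop :=
  ∃ E : Subgroup X, Nat.card E = 16 ∧ (∀ a ∈ E, a * a = 1) ∧
    ∀ q : X → ZMod 2, (∀ g a, q (g * a * g⁻¹) = q a) →
      (∀ a ∈ E, ∀ b ∈ E, ∀ c ∈ E,
        q (a * b * c) + q (a * b) + q (b * c) + q (a * c) + q a + q b + q c = 0) →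
      (∀ i j : X, j * i * j⁻¹ = i⁻¹ → i * i = j * j → q (i * i) = 0) →
      ∀ a ∈ E, q a = 0

variable {X : Type u} [Group X] {Y : Type v} [Group Y]

theorem exists_not_mem_finset [DecidableEq X] {E : Subgroup X} (s : Finset X) (hs : s.card < Nat.card E) :
    ∃ a ∈ E, a ∉ s := by
  by_contra h
  push Not at h
  have h1 : (E : Set X) ⊆ (s : Set X) := fun a ha => h a ha
  have h2 : Nat.card E ≤ s.card := by
    have := Set.ncard_le_ncard h1 s.finite_toSet
    rw [Set.ncard_coe_finset] at this
    exact this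
  omega

theorem Good16.of_conj (E : Subgroup X) (hE : Nat.card E = 16) (h2 : ∀ a ∈ E, a * a = 1)
    (hc : ∀ a ∈ E, ∀ b ∈ E, a ≠ 1 → b ≠ 1 → ∃ g, g * a * g⁻¹ = b) : Good16 X := by
  classical
  refine ⟨E, hE, h2, fun q hq hqq _ => ?_⟩
  have hinv : ∀ a ∈ E, a⁻¹ = a := fun a ha => inv_eq_of_mul_eq_one_right (h2 a ha)
  have hone : q 1 = 0 := by
    have := hqq 1 E.one_mem 1 E.one_mem 1 E.one_mem
    simp only [mul_one] at this
    generalize q 1 = t at this ⊢
    revert this
    revert t
    decide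
  obtain ⟨a, ha, ha1⟩ := exists_not_mem_finset (E := E) ({1} : Finset X) (by rw [hE]; simp)
  obtain ⟨b, hb, hb1⟩ := exists_not_mem_finset (E := E) ({1, a} : Finset X) (by
    rw [hE]; exact lt_of_le_of_lt (Finset.card_le_two) (by norm_num))
  obtain ⟨c, hc', hc1⟩ := exists_not_mem_finset (E := E) ({1, a, b, a * b} : Finset X) (by
    rw [hE]; exact lt_of_le_of_lt (Finset.card_le_four) (by norm_num))
  simp only [Finset.mem_insert, Finset.mem_singleton, not_or] at ha1 hb1 hc1
  have hconst : ∀ x ∈ E, x ≠ 1 → q x = q a := by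
    intro x hx hx1
    obtain ⟨g, hg⟩ := hc a ha x hx ha1 hx1
    rw [← hg, hq]
  have eab : a * b ≠ 1 := fun h => hb1.2 (by
    rw [mul_eq_one_iff_eq_inv, hinv b hb] at h
    exact h.symm)
  have ebc : b * c ≠ 1 := fun h => hc1.2.2.1 (by
    rw [mul_eq_one_iff_eq_inv, hinv c hc'] at h
    exact h.symm)
  have eac : a * c ≠ 1 := fun h => hc1.2.1 (by
    rw [mul_eq_one_iff_eq_inv, hinv c hc'] at h
    exact h.symm)
  have eabc : a * b * c ≠ 1 := fun h => hc1.2.2.2 (by
    rw [mul_eq_one_iff_eq_inv, hinv c hc'] at h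
    exact h.symm)
  have h7 := hqq a ha b hb c hc'
  rw [hconst _ (E.mul_mem (E.mul_mem ha hb) hc') eabc, hconst _ (E.mul_mem ha hb) eab,
    hconst _ (E.mul_mem hb hc') ebc, hconst _ (E.mul_mem ha hc') eac, hconst b hb hb1.1,
    hconst c hc' hc1.1] at h7
  have hqa : q a = 0 := by
    generalize q a = t at h7 ⊢
    revert h7
    revert t
    decide
  intro x hx
  by_cases hx1 : x = 1
  · rw [hx1, hone]
  · rw [hconst x hx hx1, hqa]

/-- `Good16` goes up along injective homomorphisms. -/
theorem Good16.of_injective (h : Good16 X) (φ : X →* Y) (hφ : Function.Injective φ) : Good16 Y := by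
  obtain ⟨E, hE, h2, hq⟩ := h
  refine ⟨E.map φ, ?_, ?_, ?_⟩
  · rw [← hE]
    exact (Nat.card_congr (E.equivMapOfInjective φ hφ).toEquiv).symm
  · rintro _ ⟨a, ha, rfl⟩
    rw [← map_mul, h2 a ha, map_one]
  · rintro q hq1 hq2 hq3 _ ⟨a, ha, rfl⟩
    refine hq (fun x => q (φ x)) (fun g a => ?_) (fun a ha b hb c hc => ?_) (fun i j h1 h2 => ?_) a ha
    · show q (φ (g * a * g⁻¹)) = q (φ a)
      rw [map_mul, map_mul, map_inv, hq1]
    · have := hq2 (φ a) (mem_map_of_mem φ ha) (φ b) (mem_map_of_mem φ hb) (φ c) (mem_map_of_mem φ hc)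
      simpa only [map_mul] using this
    · show q (φ (i * i)) = 0
      rw [map_mul]
      exact hq3 (φ i) (φ j) (by rw [← map_inv, ← map_mul, ← map_mul, h1, map_inv])
        (by rw [← map_mul, ← map_mul, h2])

theorem Good16.congr (h : Good16 X) (e : X ≃* Y) : Good16 Y := h.of_injective e.toMonoidHom e.injective

theorem Good16.of_subgroup {H : Subgroup X} (h : Good16 H) : Good16 X :=
  h.of_injective H.subtype H.subtype_injective

/-- the indicator of `≠ 1` -/
noncomputable def ind (y : Y) : ZMod 2 := by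
  classical exact if y = 1 then 0 else 1

theorem ind_one : ind (1 : Y) = 0 := by simp [ind]

theorem ind_eq_zero {y : Y} : ind y = 0 ↔ y = 1 := by
  unfold ind
  by_cases h : y = 1 <;> simp [h]

/-- **Lemma V.** -/
theorem not_le_four [Finite Y] (f : Y →* X) (hf : Function.Surjective f) (hk : Nat.card f.ker = 2)
    (h : Good16 X) : ¬ SectionalPRankLE 2 4 Y := by
  classical
  intro hr
  obtain ⟨E, hE, h2, hq⟩ := h
  -- the central involution
  obtain ⟨c, hc⟩ : ∃ c : Y, ∀ y : Y, y ∈ f.ker ↔ y = 1 ∨ y = c := by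
    have : ∃ c : f.ker, c ≠ 1 := by
      by_contra hcon
      push Not at hcon
      have : Subsingleton f.ker := ⟨fun a b => (hcon a).trans (hcon b).symm⟩
      have h1 : Nat.card f.ker = 1 := Nat.card_of_subsingleton (1 : f.ker)
      omega
    obtain ⟨c, hc⟩ := this
    refine ⟨c, fun y => ⟨fun hy => ?_, ?_⟩⟩
    · by_contra hcon
      push Not at hcon
      have : Finite f.ker := inferInstance
      have hcard : 3 ≤ Nat.card f.ker := by
        have h3 : ({1, c, ⟨y, hy⟩} : Finset f.ker).card = 3 := by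
          rw [Finset.card_insert_of_notMem, Finset.card_insert_of_notMem, Finset.card_singleton]
          · simp only [Finset.mem_singleton]
            intro h
            exact hcon.2 (congrArg Subtype.val h).symm
          · simp only [Finset.mem_insert, Finset.mem_singleton, not_or]
            exact ⟨Ne.symm hc, fun h => hcon.1 (congrArg Subtype.val h).symm⟩
        have : Fintype f.ker := Fintype.ofFinite _
        rw [Nat.card_eq_fintype_card, ← h3]
        exact Finset.card_le_univ _
      omega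
    · rintro (rfl | rfl)
      · exact one_mem _
      · exact c.2
  have hcm : c ∈ f.ker := (hc c).2 (Or.inr rfl)
  have hc1 : c ≠ 1 := by
    intro h1
    have : f.ker = ⊥ := by
      rw [eq_bot_iff]
      intro y hy
      rcases (hc y).1 hy with h | h
      · exact h
      · rw [h, h1]; exact one_mem _
    rw [this, Subgroup.card_bot] at hk
    omega
  have hcc : c * c = 1 := by
    rcases (hc (c * c)).1 (mul_mem hcm hcm) with h | h
    · exact h
    · exact absurd (mul_eq_left.1 h) hc1
  have hcent : ∀ k ∈ f.ker, ∀ y : Y, y * k = k * y := by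
    intro k hk' y
    rcases (hc k).1 hk' with h | h
    · rw [h, mul_one, one_mul]
    · subst h
      rcases (hc (y * k * y⁻¹)).1 ((inferInstance : f.ker.Normal).conj_mem _ hk' y) with h | h
      · exact absurd (conj_eq_one_iff.1 h) hc1
      · exact eq_mul_of_mul_inv_eq h
  have hkk : ∀ k ∈ f.ker, k * k = 1 := by
    intro k hk'
    rcases (hc k).1 hk' with h | h
    · rw [h, mul_one]
    · rw [h, hcc]
  have ind_mul : ∀ k ∈ f.ker, ∀ l ∈ f.ker, ind (k * l) = ind k + ind l := by
    intro k hk' l hl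
    rcases (hc k).1 hk' with h | h <;> rcases (hc l).1 hl with h' | h' <;> subst h <;> subst h' <;>
      simp [ind, hc1, hcc]
    · decide
  -- squares of lifts
  have hsq : ∀ y, f y ∈ E → y * y ∈ f.ker := by
    intro y hy
    rw [MonoidHom.mem_ker, map_mul, h2 _ hy]
  let q : X → ZMod 2 := fun x => if ∃ y, f y = x ∧ y * y = 1 then 0 else 1
  have hqy : ∀ y, f y ∈ E → q (f y) = ind (y * y) := by
    intro y hy
    by_cases h : y * y = 1
    · have : q (f y) = 0 := if_pos ⟨y, rfl, h⟩
      rw [this, h, ind_one]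
    · have hne : ¬ ∃ z, f z = f y ∧ z * z = 1 := by
        rintro ⟨z, hz, hz1⟩
        have hk' : z * y⁻¹ ∈ f.ker := by
          rw [MonoidHom.mem_ker, map_mul, map_inv, hz, mul_inv_cancel]
        have hzy : z = (z * y⁻¹) * y := by group
        apply h
        have : z * z = (z * y⁻¹) * (z * y⁻¹) * (y * y) := by
          conv_lhs => rw [hzy]
          rw [mul_assoc, ← mul_assoc y, hcent _ hk' y]
          group
        rw [hz1, hkk _ hk', one_mul] at this
        exact this.symm
      have : q (f y) = 1 := if_neg hne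
      rw [this, ind, if_neg h]
  have hqinv : ∀ g a, q (g * a * g⁻¹) = q a := by
    intro g a
    obtain ⟨y, rfl⟩ := hf g
    have key : (∃ z, f z = f y * a * (f y)⁻¹ ∧ z * z = 1) ↔ (∃ z, f z = a ∧ z * z = 1) := by
      constructor
      · rintro ⟨z, hz, hz1⟩
        refine ⟨y⁻¹ * z * y, ?_, ?_⟩
        · rw [map_mul, map_mul, map_inv, hz]; group
        · have : y⁻¹ * z * y * (y⁻¹ * z * y) = y⁻¹ * (z * z) * y := by group
          rw [this, hz1]; group
      · rintro ⟨z, hz, hz1⟩
        refine ⟨y * z * y⁻¹, ?_, ?_⟩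
        · rw [map_mul, map_mul, map_inv, hz]
        · have : y * z * y⁻¹ * (y * z * y⁻¹) = y * (z * z) * y⁻¹ := by group
          rw [this, hz1]; group
    show (if _ then (0 : ZMod 2) else 1) = if _ then 0 else 1
    simp only [key]
  have hcomm : ∀ y z, f y ∈ E → f z ∈ E → ∃ k ∈ f.ker, z * y = k * (y * z) := by
    intro y z hy hz
    refine ⟨z * y * (y * z)⁻¹, ?_, by group⟩
    rw [MonoidHom.mem_ker]
    have h3 : f z * f y = f y * f z := by
      have h1 := h2 _ (E.mul_mem hz hy)
      have e1 := h2 _ hz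
      have e2 := h2 _ hy
      calc f z * f y = f z * f y * ((f y * f z) * (f y * f z)) := by
            rw [h2 _ (E.mul_mem hy hz), mul_one]
        _ = f z * (f y * f y) * f z * (f y * f z) := by group
        _ = f y * f z := by rw [e2, mul_one, e1, one_mul]
    rw [map_mul, map_inv, map_mul, map_mul, h3, mul_inv_cancel]
  have hquad : ∀ a ∈ E, ∀ b ∈ E, ∀ d ∈ E,
      q (a * b * d) + q (a * b) + q (b * d) + q (a * d) + q a + q b + q d = 0 := by
    intro a ha b hb d hd
    obtain ⟨x, rfl⟩ := hf a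
    obtain ⟨y, rfl⟩ := hf b
    obtain ⟨z, rfl⟩ := hf d
    obtain ⟨k1, hk1, e1⟩ := hcomm x y ha hb
    obtain ⟨k2, hk2, e2⟩ := hcomm y z hb hd
    obtain ⟨k3, hk3, e3⟩ := hcomm x z ha hd
    have m1 : ∀ x y k, k ∈ f.ker → y * x = k * (x * y) → x * y * (x * y) = k * ((x * x) * (y * y)) := by
      intro x y k hk' e
      calc x * y * (x * y) = x * (y * x) * y := by group
        _ = x * k * x * y * y := by rw [e]; group
        _ = k * ((x * x) * (y * y)) := by rw [hcent k hk' x]; group
    have c1 := m1 x y k1 hk1 e1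
    have c2 := m1 y z k2 hk2 e2
    have c3 := m1 x z k3 hk3 e3
    have c4 : x * y * z * (x * y * z) = (k3 * k2) * (k1 * ((x * x) * (y * y)) * (z * z)) := by
      have e4 : z * (x * y) = (k3 * k2) * ((x * y) * z) := by
        calc z * (x * y) = z * x * y := by group
          _ = k3 * x * (z * y) := by rw [e3]; group
          _ = k3 * (x * k2) * y * z := by rw [e2]; group
          _ = (k3 * k2) * ((x * y) * z) := by rw [hcent k2 hk2 x]; group
      rw [m1 (x * y) z (k3 * k2) (mul_mem hk3 hk2) e4, c1]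
    have sx := hsq x ha
    have sy := hsq y hb
    have sz := hsq z hd
    rw [← map_mul, ← map_mul, ← map_mul f y z, ← map_mul f x z,
      hqy (x * y * z) (by rw [map_mul, map_mul]; exact E.mul_mem (E.mul_mem ha hb) hd),
      hqy (x * y) (by rw [map_mul]; exact E.mul_mem ha hb),
      hqy (y * z) (by rw [map_mul]; exact E.mul_mem hb hd),
      hqy (x * z) (by rw [map_mul]; exact E.mul_mem ha hd), hqy x ha, hqy y hb, hqy z hd,
      c1, c2, c3, c4]
    rw [ind_mul _ (mul_mem hk3 hk2) _ (mul_mem (mul_mem hk1 (mul_mem sx sy)) sz), ind_mul _ hk3 _ hk2,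
      ind_mul _ (mul_mem hk1 (mul_mem sx sy)) _ sz, ind_mul _ hk1 _ (mul_mem sx sy), ind_mul _ sx _ sy,
      ind_mul _ hk2 _ (mul_mem sy sz), ind_mul _ sy _ sz, ind_mul _ hk3 _ (mul_mem sx sz),
      ind_mul _ sx _ sz]
    generalize ind k1 = t1
    generalize ind k2 = t2
    generalize ind k3 = t3
    generalize ind (x * x) = t4
    generalize ind (y * y) = t5
    generalize ind (z * z) = t6
    revert t1 t2 t3 t4 t5 t6
    decide
  have hQ8 : ∀ i j : X, j * i * j⁻¹ = i⁻¹ → i * i = j * j → q (i * i) = 0 := by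
    intro i j h1 h3
    obtain ⟨x, rfl⟩ := hf i
    obtain ⟨y, rfl⟩ := hf j
    have hx4 : f x * f x = (f x)⁻¹ * (f x)⁻¹ := by
      calc f x * f x = f y * (f y * f y) * (f y)⁻¹ := by rw [h3]; group
        _ = (f y * f x * (f y)⁻¹) * (f y * f x * (f y)⁻¹) := by rw [← h3]; group
        _ = (f x)⁻¹ * (f x)⁻¹ := by rw [h1]
    have ht : f (y * x * y⁻¹ * x⁻¹) = f x * f x := by
      rw [map_mul, map_mul, map_mul, map_inv, map_inv, h1, hx4]
    -- `x * x` is central in `⟨x, y⟩`
    have hk1 : (y * y)⁻¹ * (x * x) ∈ f.ker := by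
      rw [MonoidHom.mem_ker, map_mul, map_inv, map_mul, map_mul, h3, inv_mul_cancel]
    have hxy : y * (x * x) = (x * x) * y := by
      have e : x * x = (y * y) * ((y * y)⁻¹ * (x * x)) := by group
      rw [e]
      calc y * (y * y * ((y * y)⁻¹ * (x * x))) = (y * y) * (y * ((y * y)⁻¹ * (x * x))) := by group
        _ = (y * y) * (((y * y)⁻¹ * (x * x)) * y) := by rw [hcent _ hk1 y]
        _ = y * y * ((y * y)⁻¹ * (x * x)) * y := by group
    have hk2 : (y * x * y⁻¹ * x⁻¹)⁻¹ * (x * x) ∈ f.ker := by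
      rw [MonoidHom.mem_ker, map_mul, map_inv, ht, map_mul, inv_mul_cancel]
    -- the commutator commutes with `x`
    have hcx : (y * x * y⁻¹ * x⁻¹) * x = x * (y * x * y⁻¹ * x⁻¹) := by
      have e : y * x * y⁻¹ * x⁻¹ = (x * x) * ((y * x * y⁻¹ * x⁻¹)⁻¹ * (x * x))⁻¹ := by group
      have hk3 := hcent _ (inv_mem hk2) x
      rw [e]
      calc (x * x) * ((y * x * y⁻¹ * x⁻¹)⁻¹ * (x * x))⁻¹ * x
          = (x * x) * (((y * x * y⁻¹ * x⁻¹)⁻¹ * (x * x))⁻¹ * x) := by group
        _ = (x * x) * (x * ((y * x * y⁻¹ * x⁻¹)⁻¹ * (x * x))⁻¹) := by rw [← hk3]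
        _ = x * ((x * x) * ((y * x * y⁻¹ * x⁻¹)⁻¹ * (x * x))⁻¹) := by group
    have htt : (y * x * y⁻¹ * x⁻¹) * (y * x * y⁻¹ * x⁻¹) = 1 := by
      have e1 : (y * x * y⁻¹) * (y * x * y⁻¹) = x * x := by
        calc (y * x * y⁻¹) * (y * x * y⁻¹) = y * (x * x) * y⁻¹ := by group
          _ = x * x := by rw [hxy]; group
      calc (y * x * y⁻¹ * x⁻¹) * (y * x * y⁻¹ * x⁻¹)
          = (y * x * y⁻¹ * x⁻¹) * ((y * x * y⁻¹ * x⁻¹) * x) * x⁻¹ := by group
        _ = (y * x * y⁻¹ * x⁻¹) * (x * (y * x * y⁻¹ * x⁻¹)) * x⁻¹ := by rw [hcx]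
        _ = (y * x * y⁻¹) * (y * x * y⁻¹) * x⁻¹ * x⁻¹ := by group
        _ = 1 := by rw [e1]; group
    exact if_pos ⟨_, by rw [ht], htt⟩
  have hzero := hq q hqinv hquad hQ8
  -- the preimage of `E` is elementary abelian of order 32
  have hall : ∀ y ∈ E.comap f, y * y = 1 := by
    intro y hy
    have h1 := hqy y hy
    rw [hzero _ hy] at h1
    exact ind_eq_zero.1 h1.symm
  have hab : IsMulCommutative (E.comap f) := by
    refine ⟨⟨fun a b => ?_⟩⟩
    have h1 : (a * b) * (a * b) = 1 := Subtype.ext (hall _ (a * b).2)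
    have h2' : a * a = 1 := Subtype.ext (hall _ a.2)
    have h3 : b * b = 1 := Subtype.ext (hall _ b.2)
    calc a * b = a * b * ((b * a) * (b * a)) := by
            rw [show (b * a) * (b * a) = (1 : E.comap f) from Subtype.ext (hall _ (b * a).2), mul_one]
      _ = a * (b * b) * a * (b * a) := by group
      _ = b * a := by rw [h3, mul_one, h2', one_mul]
  have hp := Rank.pRankLE hr (E.comap f) hab (fun a ha => by rw [pow_two]; exact hall a ha)
  have hcard : Nat.card (E.comap f) = 32 := by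
    rw [Rank.card_comap_of_surjective f hf E, hE, hk]
  omega

end Cfsg.Agent.GH.Cov.Sq
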