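import Mathlib
import Cfsg.Agent.GH.Cov.Sq

/-!
# `Good16` from four commuting involutions
-/

set_option autoImplicit false

open Subgroup

namespace Cfsg.Agent.GH.Cov.Basis

open Cfsg.Agent.GH.Cov.Sq

variable {X : Type*} [Group X]

/-- `x` or `1` -/
def opt (x : X) (b : Bool) : X := if b then x else 1

theorem opt_xor {x : X} (h : x * x = 1) (a b : Bool) : opt x (a ^^ b) = opt x a * opt x b := by
  cases a <;> cases b <;> simp [opt, h]

theorem opt_comm {x y : X} (h : x * y = y * x) (a b : Bool) : opt x a * opt y b = opt y b * opt x a := by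
  cases a <;> cases b <;> simp [opt, h]

/-- the product of the `e i`, `i` a bit of `m` -/
def word4 (e : Fin 4 → X) (m : ℕ) : X :=
  opt (e 0) (m.testBit 0) * opt (e 1) (m.testBit 1) * opt (e 2) (m.testBit 2) * opt (e 3) (m.testBit 3)

theorem word4_zero (e : Fin 4 → X) : word4 e 0 = 1 := by simp [word4, opt]

theorem word4_xor {e : Fin 4 → X} (h2 : ∀ i, e i * e i = 1) (hc : ∀ i j, e i * e j = e j * e i) (m n : ℕ) :
    word4 e (m ^^^ n) = word4 e m * word4 e n := by
  unfold word4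
  simp only [Nat.testBit_xor]
  rw [opt_xor (h2 0), opt_xor (h2 1), opt_xor (h2 2), opt_xor (h2 3)]
  generalize m.testBit 0 = a0
  generalize m.testBit 1 = a1
  generalize m.testBit 2 = a2
  generalize m.testBit 3 = a3
  generalize n.testBit 0 = b0
  generalize n.testBit 1 = b1
  generalize n.testBit 2 = b2
  generalize n.testBit 3 = b3
  have c01 : Commute (opt (e 0) b0) (opt (e 1) a1) := opt_comm (hc 0 1) _ _
  have c02 : Commute (opt (e 0) b0) (opt (e 2) a2) := opt_comm (hc 0 2) _ _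
  have c03 : Commute (opt (e 0) b0) (opt (e 3) a3) := opt_comm (hc 0 3) _ _
  have c12 : Commute (opt (e 1) b1) (opt (e 2) a2) := opt_comm (hc 1 2) _ _
  have c13 : Commute (opt (e 1) b1) (opt (e 3) a3) := opt_comm (hc 1 3) _ _
  have c23 : Commute (opt (e 2) b2) (opt (e 3) a3) := opt_comm (hc 2 3) _ _
  have h1 : opt (e 0) b0 * (opt (e 1) a1 * opt (e 2) a2 * opt (e 3) a3) =
      (opt (e 1) a1 * opt (e 2) a2 * opt (e 3) a3) * opt (e 0) b0 :=
    ((c01.mul_right c02).mul_right c03).eq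
  have h2' : opt (e 1) b1 * (opt (e 2) a2 * opt (e 3) a3) =
      (opt (e 2) a2 * opt (e 3) a3) * opt (e 1) b1 := (c12.mul_right c13).eq
  calc opt (e 0) a0 * opt (e 0) b0 * (opt (e 1) a1 * opt (e 1) b1) * (opt (e 2) a2 * opt (e 2) b2) *
        (opt (e 3) a3 * opt (e 3) b3)
      = opt (e 0) a0 * opt (e 0) b0 * opt (e 1) a1 * opt (e 1) b1 * opt (e 2) a2 *
          (opt (e 2) b2 * opt (e 3) a3) * opt (e 3) b3 := by group
    _ = opt (e 0) a0 * opt (e 0) b0 * opt (e 1) a1 * (opt (e 1) b1 * (opt (e 2) a2 * opt (e 3) a3)) *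
          opt (e 2) b2 * opt (e 3) b3 := by rw [c23.eq]; group
    _ = opt (e 0) a0 * (opt (e 0) b0 * (opt (e 1) a1 * opt (e 2) a2 * opt (e 3) a3)) *
          opt (e 1) b1 * opt (e 2) b2 * opt (e 3) b3 := by rw [h2']; group
    _ = _ := by rw [h1]; group

theorem Good16.of_basis (e : Fin 4 → X) (h2 : ∀ i, e i * e i = 1) (hc : ∀ i j, e i * e j = e j * e i)
    (h1 : e 0 ≠ 1) (hconj : ∀ m < 16, m ≠ 0 → ∃ g, g * e 0 * g⁻¹ = word4 e m) : Good16 X := by
  have hne : ∀ m < 16, m ≠ 0 → word4 e m ≠ 1 := by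
    intro m hm hm0 hw
    obtain ⟨g, hg⟩ := hconj m hm hm0
    rw [hw] at hg
    exact h1 (conj_eq_one_iff.1 hg)
  let E : Subgroup X :=
    { carrier := {x | ∃ m < 16, x = word4 e m}
      one_mem' := ⟨0, by norm_num, (word4_zero e).symm⟩
      mul_mem' := by
        rintro _ _ ⟨m, hm, rfl⟩ ⟨n, hn, rfl⟩
        exact ⟨m ^^^ n, Nat.xor_lt_two_pow (n := 4) hm hn, (word4_xor h2 hc m n).symm⟩
      inv_mem' := by
        rintro _ ⟨m, hm, rfl⟩
        refine ⟨m, hm, ?_⟩
        apply inv_eq_of_mul_eq_one_right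
        rw [← word4_xor h2 hc, Nat.xor_self, word4_zero] }
  have hinj : ∀ m n, m < 16 → n < 16 → word4 e m = word4 e n → m = n := by
    intro m n hm hn h
    by_contra hmn
    have h3 : m ^^^ n ≠ 0 := fun h0 => hmn (Nat.xor_eq_zero_iff.1 h0)
    apply hne (m ^^^ n) (Nat.xor_lt_two_pow (n := 4) hm hn) h3
    rw [word4_xor h2 hc, h, ← word4_xor h2 hc, Nat.xor_self, word4_zero]
  refine Good16.of_conj E ?_ ?_ ?_
  · have hb : Function.Bijective (fun m : Fin 16 => (⟨word4 e m, m, m.2, rfl⟩ : E)) := by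
      constructor
      · intro m n h
        exact Fin.ext (hinj m n m.2 n.2 (congrArg Subtype.val h))
      · rintro ⟨_, m, hm, rfl⟩
        exact ⟨⟨m, hm⟩, rfl⟩
    rw [← Nat.card_congr (Equiv.ofBijective _ hb), Nat.card_eq_fintype_card, Fintype.card_fin]
  · rintro _ ⟨m, -, rfl⟩
    rw [← word4_xor h2 hc, Nat.xor_self, word4_zero]
  · rintro _ ⟨m, hm, rfl⟩ _ ⟨n, hn, rfl⟩ ha hb
    have hm0 : m ≠ 0 := by rintro rfl; exact ha (word4_zero e)
    have hn0 : n ≠ 0 := by rintro rfl; exact hb (word4_zero e)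
    obtain ⟨g, hg⟩ := hconj m hm hm0
    obtain ⟨k, hk⟩ := hconj n hn hn0
    refine ⟨k * g⁻¹, ?_⟩
    rw [← hg, ← hk]
    group

end Cfsg.Agent.GH.Cov.Basis
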