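import Cfsg.Agent.GH.Cov.Main
import Cfsg.Agent.GH.Q.Full

/-!
# GH-COV + GH-Q: the even centre branch of the Gorenstein–Harada theorem
-/

set_option autoImplicit false

open Cfsg Subgroup
open Cfsg.Agent.Intrinsic.Basic
open Cfsg.Agent.GH.Defs Cfsg.Agent.GH.Comp

namespace Cfsg.Agent.GH.Cov.Branch

universe u

/-- **The even centre branch** (`Branches.ec`). -/
theorem ec {G : Type u} [Group G] [Finite G] (h : Hyp G)
    (hev : ∃ (x : G) (K : Subgroup G), Comp2 x K ∧ EvenCenter K) : GType G :=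
  Main.ec_of h (fun hqt _ _ c he => Q.Full.main h hqt c he) hev

end Cfsg.Agent.GH.Cov.Branch
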