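import Mathlib
import Cfsg.Prelude.Def_CaseTheorems
import Cfsg.Agent.GH.Rank

/-!
# Five conjugate elements and a double cover (GH-COV, rank cut, pieces [D] and [E])

`Conf a t d1 d2`: `a 0, ..., a 4` are permuted cyclically by an element `t` of order 5, all commutators, the squares and
the product `a 0 * a 1 * a 2 * a 3 * a 4` lie in the four-group generated by `d1 = [a 0, a 1]` and `d2 = [a 0, a 2]`, which is
centralised by the `a i` and by `t`.

`Conf.exists_section`: for a central extension `f : Y → X` with kernel of order 2 the preimage of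
the subgroup generated by the `a i` has an elementary abelian quotient by a subgroup of order at most 4 (at most 2 if the commutators
`D1`, `D2` of the lifts are equal).
-/

set_option autoImplicit false

namespace Cfsg.Agent.GH.Cov.FiveConf

open Cfsg Subgroup Cfsg.Agent.TwoFusion.SectionalRank

universe u v

variable {X : Type u} [Group X] {Y : Type v} [Group Y]

/-- The kernel of a double cover. -/
theorem ker_facts (f : Y →* X) (hk : Nat.card f.ker = 2) :
    (∀ k ∈ f.ker, ∀ y : Y, y * k = k * y) ∧ (∀ k ∈ f.ker, k * k = 1) := by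
  obtain ⟨c, hc1, hcu⟩ := (Nat.card_eq_two_iff' (1 : f.ker)).1 hk
  have hcases : ∀ k ∈ f.ker, k = 1 ∨ k = c := by
    intro k hk'
    by_cases h : (⟨k, hk'⟩ : f.ker) = 1
    · exact Or.inl (congrArg Subtype.val h)
    · exact Or.inr (congrArg Subtype.val (hcu _ h))
  have hc1' : (c : Y) ≠ 1 := fun h => hc1 (Subtype.ext h)
  refine ⟨fun k hk' y => ?_, fun k hk' => ?_⟩
  · rcases hcases k hk' with h | h
    · rw [h, mul_one, one_mul]
    · rcases hcases _ ((inferInstance : f.ker.Normal).conj_mem _ hk' y) with h' | h'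
      · have : k = 1 := by
          have e : k = y⁻¹ * (y * k * y⁻¹) * y := by group
          rw [e, h']; group
        rw [this, mul_one, one_mul]
      · rw [← h] at h'
        exact eq_mul_of_mul_inv_eq h'
  · rcases hcases k hk' with h | h
    · rw [h, mul_one]
    · rcases hcases _ (mul_mem hk' hk') with h' | h'
      · exact h'
      · rw [h] at h'
        exact absurd (mul_eq_left.1 h') hc1'

/-- An element of odd order acts trivially on the lifts of the elements it centralises. -/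
theorem comm_of_odd {f : Y →* X} (hk : Nat.card f.ker = 2) {t y : Y} {n : ℕ} (hn : Odd n)
    (ht : f t ^ n = 1) (hy : f t * f y = f y * f t) : t * y = y * t := by
  obtain ⟨hcent, hkk⟩ := ker_facts f hk
  have hkm : t * y * t⁻¹ * y⁻¹ ∈ f.ker := by
    rw [MonoidHom.mem_ker, map_mul, map_mul, map_mul, map_inv, map_inv, hy]
    group
  set k := t * y * t⁻¹ * y⁻¹ with hkdef
  have h1 : t * y * t⁻¹ = k * y := by rw [hkdef]; group
  have h2 : ∀ m : ℕ, t ^ m * y * (t ^ m)⁻¹ = k ^ m * y := by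
    intro m
    induction m with
    | zero => simp
    | succ m ih =>
      calc t ^ (m + 1) * y * (t ^ (m + 1))⁻¹ = t * (t ^ m * y * (t ^ m)⁻¹) * t⁻¹ := by
            rw [pow_succ']; group
        _ = t * (k ^ m * y) * t⁻¹ := by rw [ih]
        _ = (t * k ^ m) * y * t⁻¹ := by group
        _ = (k ^ m * t) * y * t⁻¹ := by rw [hcent _ (pow_mem hkm m) t]
        _ = k ^ m * (t * y * t⁻¹) := by group
        _ = k ^ (m + 1) * y := by rw [h1, pow_succ]; group
  have h3 : t ^ n ∈ f.ker := by rw [MonoidHom.mem_ker, map_pow, ht]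
  have h4 : k ^ n = k := by
    obtain ⟨r, rfl⟩ := hn
    rw [pow_succ, pow_mul, pow_two, hkk k hkm, one_pow, one_mul]
  have h5 := h2 n
  rw [h4, ← hcent _ h3 y, mul_inv_cancel_right] at h5
  have h6 : k = 1 := by
    have := h5.symm
    rwa [mul_eq_right] at this
  rw [h6, one_mul] at h1
  exact mul_inv_eq_iff_eq_mul.1 h1

/-- The configuration. -/
structure Conf (a : Fin 5 → X) (t d1 d2 : X) : Prop where
  t5 : t ^ 5 = 1
  conj : ∀ i, t * a i = a (i + 1) * t
  h1 : a 0 * a 1 = d1 * (a 1 * a 0)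
  h2 : a 0 * a 2 = d2 * (a 2 * a 0)
  t1 : t * d1 = d1 * t
  t2 : t * d2 = d2 * t
  a1 : a 0 * d1 = d1 * a 0
  a2 : a 0 * d2 = d2 * a 0
  sq : a 0 * a 0 = 1 ∨ a 0 * a 0 = d1 ∨ a 0 * a 0 = d2 ∨ a 0 * a 0 = d1 * d2
  prod : a 0 * a 1 * a 2 * a 3 * a 4 = 1 ∨ a 0 * a 1 * a 2 * a 3 * a 4 = d1 ∨ a 0 * a 1 * a 2 * a 3 * a 4 = d2 ∨
    a 0 * a 1 * a 2 * a 3 * a 4 = d1 * d2

/-- The four-group generated by two commuting involutions. -/
def four (D1 D2 : Y) (h1 : D1 * D1 = 1) (h2 : D2 * D2 = 1) (h : D1 * D2 = D2 * D1) : Subgroup Y where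
  carrier := {y | y = 1 ∨ y = D1 ∨ y = D2 ∨ y = D1 * D2}
  one_mem' := Or.inl rfl
  mul_mem' := by
    have e1 : D1 * (D1 * D2) = D2 := by rw [← mul_assoc, h1, one_mul]
    have e2 : D2 * (D1 * D2) = D1 := by rw [h, ← mul_assoc, h2, one_mul]
    have e3 : D1 * D2 * D1 = D2 := by rw [h, mul_assoc, h1, mul_one]
    have e4 : D1 * D2 * D2 = D1 := by rw [mul_assoc, h2, mul_one]
    have e5 : D1 * D2 * (D1 * D2) = 1 := by rw [mul_assoc, e2, h1]
    rintro x y (rfl | rfl | rfl | rfl) (rfl | rfl | rfl | rfl) <;>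
      simp [h1, h2, e1, e2, e3, e4, e5, ← h]
  inv_mem' := by
    rintro x (rfl | rfl | rfl | rfl)
    · left; simp
    · right; left; exact inv_eq_of_mul_eq_one_right h1
    · right; right; left; exact inv_eq_of_mul_eq_one_right h2
    · right; right; right
      rw [mul_inv_rev, inv_eq_of_mul_eq_one_right h1, inv_eq_of_mul_eq_one_right h2, h]

theorem mem_four {D1 D2 : Y} {h1 : D1 * D1 = 1} {h2 : D2 * D2 = 1} {h : D1 * D2 = D2 * D1} {y : Y} :
    y ∈ four D1 D2 h1 h2 h ↔ y = 1 ∨ y = D1 ∨ y = D2 ∨ y = D1 * D2 := Iff.rfl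

theorem card_four_le {D1 D2 : Y} {h1 : D1 * D1 = 1} {h2 : D2 * D2 = 1} {h : D1 * D2 = D2 * D1} :
    Nat.card (four D1 D2 h1 h2 h) ≤ 4 := by
  classical
  have hs : ((four D1 D2 h1 h2 h : Subgroup Y) : Set Y) ⊆ (({1, D1, D2, D1 * D2} : Finset Y) : Set Y) := by
    intro y hy
    rcases mem_four.1 hy with h | h | h | h <;> simp [h]
  have h3 := Set.ncard_le_ncard hs (Finset.finite_toSet _)
  rw [Set.ncard_coe_finset] at h3
  exact h3.trans Finset.card_le_four

theorem card_four_le_two {D1 D2 : Y} {h1 : D1 * D1 = 1} {h2 : D2 * D2 = 1} {h : D1 * D2 = D2 * D1} (h12 : D1 = D2) :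
    Nat.card (four D1 D2 h1 h2 h) ≤ 2 := by
  classical
  subst h12
  have hs : ((four D1 D1 h1 h2 h : Subgroup Y) : Set Y) ⊆ (({1, D1} : Finset Y) : Set Y) := by
    intro y hy
    rcases mem_four.1 hy with h | h | h | h <;> simp [h, h1]
  have h3 := Set.ncard_le_ncard hs (Finset.finite_toSet _)
  rw [Set.ncard_coe_finset] at h3
  exact h3.trans Finset.card_le_two

/-- Commutators in the closure from commutators of generators. -/
theorem closure_comm {S : Set Y} {N : Subgroup Y}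
    (hc : ∀ x ∈ S, ∀ n ∈ N, x * n = n * x) (hcomm : ∀ x ∈ S, ∀ y ∈ S, x * y * x⁻¹ * y⁻¹ ∈ N) :
    (∀ x ∈ closure S, ∀ n ∈ N, x * n = n * x) ∧ ∀ x ∈ closure S, ∀ y ∈ closure S, x * y * x⁻¹ * y⁻¹ ∈ N := by
  have hc' : ∀ x ∈ closure S, ∀ n ∈ N, x * n = n * x := by
    intro x hx n hn
    induction hx using closure_induction with
    | mem x hx => exact hc x hx n hn
    | one => rw [one_mul, mul_one]
    | mul x y _ _ hx hy => rw [mul_assoc, hy, ← mul_assoc, hx, mul_assoc]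
    | inv x _ hx => rw [inv_mul_eq_iff_eq_mul, ← mul_assoc, hx, mul_inv_cancel_right]
  refine ⟨hc', ?_⟩
  intro x hx y hy
  induction hx, hy using closure_induction₂ with
  | mem x y hx hy => exact hcomm x hx y hy
  | one_left x _ => simp
  | one_right x _ => simp
  | mul_left x y z hx hy hz h1 h2 =>
    have : x * y * z * (x * y)⁻¹ * z⁻¹ = x * (y * z * y⁻¹ * z⁻¹) * x⁻¹ * (x * z * x⁻¹ * z⁻¹) := by group
    rw [this, hc' x hx _ h2, mul_inv_cancel_right]
    exact mul_mem h2 h1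
  | mul_right x y z hx hy hz h1 h2 =>
    have : z * (x * y) * z⁻¹ * (x * y)⁻¹ = (z * x * z⁻¹ * x⁻¹) * (x * (z * y * z⁻¹ * y⁻¹) * x⁻¹) := by group
    rw [this, hc' x hx _ h2, mul_inv_cancel_right]
    exact mul_mem h1 h2
  | inv_left x y hx hy h1 =>
    have : x⁻¹ * y * (x⁻¹)⁻¹ * y⁻¹ = x⁻¹ * (x * y * x⁻¹ * y⁻¹)⁻¹ * x := by group
    rw [this, hc' x⁻¹ (inv_mem hx) _ (inv_mem h1), inv_mul_cancel_right]
    exact inv_mem h1
  | inv_right x y hx hy h1 =>
    have : x * y⁻¹ * x⁻¹ * (y⁻¹)⁻¹ = y⁻¹ * (x * y * x⁻¹ * y⁻¹)⁻¹ * y := by group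
    rw [this, hc' y⁻¹ (inv_mem hy) _ (inv_mem h1), inv_mul_cancel_right]
    exact inv_mem h1

theorem sq_mul {N : Subgroup Y} {x y : Y} (hc : ∀ n ∈ N, x * n = n * x) (hm : y * x * y⁻¹ * x⁻¹ ∈ N) :
    (x * y) * (x * y) = (y * x * y⁻¹ * x⁻¹) * ((x * x) * (y * y)) := by
  have : (x * y) * (x * y) = x * (y * x * y⁻¹ * x⁻¹) * x * y * y := by group
  rw [this, hc _ hm]
  group

/-- Elementary sections from generators. -/
theorem elemSection_closure {S : Set Y} {N : Subgroup Y} (hN : N ≤ closure S)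
    (hc : ∀ x ∈ S, ∀ n ∈ N, x * n = n * x) (hcomm : ∀ x ∈ S, ∀ y ∈ S, x * y * x⁻¹ * y⁻¹ ∈ N)
    (hsq : ∀ x ∈ S, x * x ∈ N) : ElemSection 2 (closure S) N := by
  obtain ⟨hc', hcm⟩ := closure_comm hc hcomm
  refine ⟨hN, hcm, fun x hx => ?_⟩
  induction hx using closure_induction with
  | mem x hx => rw [pow_two]; exact hsq x hx
  | one => rw [one_pow]; exact one_mem _
  | mul x y hx hy h1 h2 =>
    rw [pow_two, sq_mul (hc' x hx) (hcm y hy x hx), ← pow_two, ← pow_two]
    exact mul_mem (hcm y hy x hx) (mul_mem h1 h2)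
  | inv x hx h1 => rw [inv_pow]; exact inv_mem h1

/-- Cyclically permuted lifts. -/
theorem exists_lifts (f : Y →* X) (hf : Function.Surjective f) (hk : Nat.card f.ker = 2) {a : Fin 5 → X} {t : X}
    (ht : t ^ 5 = 1) (hconj : ∀ i, t * a i = a (i + 1) * t) :
    ∃ (A : Fin 5 → Y) (T : Y), f T = t ∧ T ^ 5 = 1 ∧ (∀ i, f (A i) = a i) ∧ ∀ i, T * A i = A (i + 1) * T := by
  obtain ⟨hcent, hkk⟩ := ker_facts f hk
  obtain ⟨T0, hT0⟩ := hf t
  obtain ⟨A0, hA0⟩ := hf (a 0)
  have h5 : T0 ^ 5 ∈ f.ker := by rw [MonoidHom.mem_ker, map_pow, hT0, ht]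
  have hT5 : (T0 ^ 6) ^ 5 = 1 := by
    have e : (T0 ^ 6) ^ 5 = (T0 ^ 5 * T0 ^ 5) ^ 3 := by
      rw [← pow_mul, ← pow_add, ← pow_mul]
    rw [e, hkk _ h5, one_pow]
  have hfT : f (T0 ^ 6) = t := by
    rw [map_pow, hT0, pow_succ, ht, one_mul]
  have hA : ∀ n : ℕ, ∀ i : Fin 5, (i : ℕ) = n → f ((T0 ^ 6) ^ n * A0 * ((T0 ^ 6) ^ n)⁻¹) = a i := by
    intro n
    induction n with
    | zero =>
      intro i hi
      have : i = 0 := Fin.ext hi
      rw [this, pow_zero, one_mul, inv_one, mul_one, hA0]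
    | succ n ih =>
      intro i hi
      have hn : n < 5 := by have := i.2; omega
      have hi' : i = (⟨n, hn⟩ : Fin 5) + 1 := by
        apply Fin.ext
        rw [Fin.val_add]
        have := i.2
        show (i : ℕ) = (n + 1) % 5
        omega
      have h1 := ih ⟨n, hn⟩ rfl
      have h2 : (T0 ^ 6) ^ (n + 1) * A0 * ((T0 ^ 6) ^ (n + 1))⁻¹ =
          (T0 ^ 6) * ((T0 ^ 6) ^ n * A0 * ((T0 ^ 6) ^ n)⁻¹) * (T0 ^ 6)⁻¹ := by
        rw [pow_succ' (T0 ^ 6) n]; group
      rw [h2, map_mul, map_mul, h1, map_inv, hfT, hconj, ← hi', mul_inv_cancel_right]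
  refine ⟨fun i => (T0 ^ 6) ^ (i : ℕ) * A0 * ((T0 ^ 6) ^ (i : ℕ))⁻¹, T0 ^ 6, hfT, hT5, fun i => hA _ i rfl, ?_⟩
  intro i
  have h1 : (T0 ^ 6) ^ ((i + 1 : Fin 5) : ℕ) = (T0 ^ 6) ^ ((i : ℕ) + 1) := by
    rw [Fin.val_add, show ((1 : Fin 5) : ℕ) = 1 from rfl]
    by_cases h : (i : ℕ) = 4
    · rw [h, show (4 + 1) % 5 = 0 from rfl, pow_zero, show 4 + 1 = 5 from rfl, hT5]
    · rw [Nat.mod_eq_of_lt (by have := i.2; omega)]
  show T0 ^ 6 * ((T0 ^ 6) ^ (i : ℕ) * A0 * ((T0 ^ 6) ^ (i : ℕ))⁻¹) =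
    (T0 ^ 6) ^ ((i + 1 : Fin 5) : ℕ) * A0 * ((T0 ^ 6) ^ ((i + 1 : Fin 5) : ℕ))⁻¹ * T0 ^ 6
  rw [h1, pow_succ']
  group

section main

variable {a : Fin 5 → X} {t d1 d2 : X}

theorem Conf.exists_section (h : Conf a t d1 d2) (f : Y →* X) (hf : Function.Surjective f)
    (hk : Nat.card f.ker = 2) :
    ∃ (D1 D2 : Y) (N : Subgroup Y), f D1 = d1 ∧ D1 * D1 = 1 ∧
      (∀ A0 A1 A2 : Y, f A0 = a 0 → f A1 = a 1 → f A2 = a 2 → A0 * A1 = D1 * (A1 * A0) ∧ A0 * A2 = D2 * (A2 * A0)) ∧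
      (∀ i j : Fin 5, j = i + 1 → ∀ A B : Y, f A = a i → f B = a j → A * B = D1 * (B * A)) ∧
      Nat.card N ≤ 4 ∧ (D1 = D2 → Nat.card N ≤ 2) ∧
      ElemSection 2 ((closure (Set.range a)).comap f) N := by
  obtain ⟨hcent, hkk⟩ := ker_facts f hk
  obtain ⟨A, T, hfT, hT5, hfA, hTA⟩ := exists_lifts f hf hk h.t5 h.conj
  -- the commutators
  obtain ⟨D, hDdef⟩ : ∃ D : Fin 5 → Fin 5 → Y, ∀ i j, D i j = A i * A j * (A i)⁻¹ * (A j)⁻¹ := ⟨_, fun _ _ => rfl⟩
  have hD : ∀ i j, A i * A j = D i j * (A j * A i) := fun i j => by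
    rw [hDdef]
    group
  have hTD : ∀ i j, T * D i j = D (i + 1) (j + 1) * T := by
    intro i j
    rw [hDdef, hDdef]
    have e : ∀ i, A (i + 1) = T * A i * T⁻¹ := fun i => by rw [hTA, mul_inv_cancel_right]
    rw [e, e]
    group
  have hTcomm : ∀ y, t * f y = f y * t → T * y = y * T := by
    intro y hy
    exact comm_of_odd hk (n := 5) (by decide) (by rw [hfT, h.t5]) (by rw [hfT]; exact hy)
  have hf1 : f (D 0 1) = d1 := by
    rw [hDdef, map_mul, map_mul, map_mul, map_inv, map_inv, hfA, hfA, h.h1]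
    group
  have hf2 : f (D 0 2) = d2 := by
    rw [hDdef, map_mul, map_mul, map_mul, map_inv, map_inv, hfA, hfA, h.h2]
    group
  have step : ∀ i j, T * D i j = D i j * T → D (i + 1) (j + 1) = D i j := by
    intro i j hij
    have := hTD i j
    rw [hij] at this
    exact (mul_right_cancel this).symm
  obtain ⟨D1, hD1⟩ : ∃ D1, D 0 1 = D1 := ⟨_, rfl⟩
  obtain ⟨D2, hD2⟩ : ∃ D2, D 0 2 = D2 := ⟨_, rfl⟩
  rw [hD1] at hf1
  rw [hD2] at hf2
  have hT1 : T * D1 = D1 * T := hTcomm _ (by rw [hf1, h.t1])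
  have hT2 : T * D2 = D2 * T := hTcomm _ (by rw [hf2, h.t2])
  have e12 : D 1 2 = D1 := (step 0 1 (by rw [hD1]; exact hT1)).trans hD1
  have e23 : D 2 3 = D1 := (step 1 2 (by rw [e12]; exact hT1)).trans e12
  have e34 : D 3 4 = D1 := (step 2 3 (by rw [e23]; exact hT1)).trans e23
  have e40 : D 4 0 = D1 := (step 3 4 (by rw [e34]; exact hT1)).trans e34
  have e13 : D 1 3 = D2 := (step 0 2 (by rw [hD2]; exact hT2)).trans hD2
  have e24 : D 2 4 = D2 := (step 1 3 (by rw [e13]; exact hT2)).trans e13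
  have e30 : D 3 0 = D2 := (step 2 4 (by rw [e24]; exact hT2)).trans e24
  have e41 : D 4 1 = D2 := (step 3 0 (by rw [e30]; exact hT2)).trans e30
  have hDinv : ∀ i j, D j i = (D i j)⁻¹ := by
    intro i j
    rw [hDdef, hDdef]
    group
  have hDself : ∀ i, D i i = 1 := by
    intro i
    rw [hDdef]
    group
  -- conjugation action on a lift of `d1` or `d2`
  have chi : ∀ E : Y, (E = D1 ∨ E = D2) → ∃ k ∈ f.ker, ∀ i, A i * E = k * (E * A i) := by
    intro E hE
    have hTE : T * E = E * T := by rcases hE with rfl | rfl <;> assumption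
    obtain ⟨κ, hκdef⟩ : ∃ κ : Fin 5 → Y, ∀ i, κ i = A i * E * (A i)⁻¹ * E⁻¹ := ⟨_, fun _ => rfl⟩
    have hκ : ∀ i, A i * E = κ i * (E * A i) := fun i => by
      rw [hκdef]
      group
    have h0 : κ 0 ∈ f.ker := by
      rw [MonoidHom.mem_ker, hκdef, map_mul, map_mul, map_mul, map_inv, map_inv, hfA]
      rcases hE with rfl | rfl
      · rw [hf1, h.a1]; group
      · rw [hf2, h.a2]; group
    have hκT : ∀ i, T * κ i = κ (i + 1) * T := by
      intro i
      rw [hκdef, hκdef]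
      have e : A (i + 1) = T * A i * T⁻¹ := by rw [hTA, mul_inv_cancel_right]
      have e2 : E = T * E * T⁻¹ := by rw [hTE, mul_inv_cancel_right]
      rw [e]
      conv_rhs => rw [e2]
      group
    have hκs : ∀ i, κ i ∈ f.ker → κ (i + 1) = κ i := by
      intro i hi
      have h1 := hκT i
      rw [hcent _ hi T] at h1
      exact (mul_right_cancel h1).symm
    have k1 : κ 1 = κ 0 := hκs 0 h0
    have k2 : κ 2 = κ 0 := (hκs 1 (by rw [k1]; exact h0)).trans k1
    have k3 : κ 3 = κ 0 := (hκs 2 (by rw [k2]; exact h0)).trans k2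
    have k4 : κ 4 = κ 0 := (hκs 3 (by rw [k3]; exact h0)).trans k3
    refine ⟨κ 0, h0, fun i => ?_⟩
    have : κ i = κ 0 := by
      fin_cases i
      · rfl
      · exact k1
      · exact k2
      · exact k3
      · exact k4
    rw [← this]
    exact hκ i
  -- the two commutators commute
  have h12 : D1 * D2 = D2 * D1 := by
    obtain ⟨k, hk', hkA⟩ := chi D2 (Or.inr rfl)
    have hs : ∀ i j, A i * A j * D2 = D2 * (A i * A j) := by
      intro i j
      calc A i * A j * D2 = A i * (A j * D2) := by group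
        _ = (A i * k) * D2 * A j := by rw [hkA]; group
        _ = k * (A i * D2) * A j := by rw [hcent k hk']; group
        _ = (k * k) * (D2 * (A i * A j)) := by rw [hkA]; group
        _ = D2 * (A i * A j) := by rw [hkk k hk', one_mul]
    have e1 : D1 * (A 1 * A 0) = A 0 * A 1 := by rw [← hD1]; exact (hD 0 1).symm
    have e2 : D1 * D2 * (A 1 * A 0) = D2 * D1 * (A 1 * A 0) := by
      rw [mul_assoc, ← hs, ← mul_assoc, e1, hs, mul_assoc, e1]
    exact mul_right_cancel e2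
  -- lifts of elements of the four-group
  have lift : ∀ y : Y, (f y = 1 ∨ f y = d1 ∨ f y = d2 ∨ f y = d1 * d2) →
      ∃ l ∈ f.ker, ∃ w : Y, (w = 1 ∨ w = D1 ∨ w = D2 ∨ w = D1 * D2) ∧ y = l * w := by
    intro y hy
    have key : ∀ w : Y, f y = f w → ∃ l ∈ f.ker, y = l * w := fun w hw =>
      ⟨y * w⁻¹, by rw [MonoidHom.mem_ker, map_mul, map_inv, hw, mul_inv_cancel], by group⟩
    rcases hy with hy | hy | hy | hy
    · obtain ⟨l, hl, e⟩ := key 1 (by rw [hy, map_one])
      exact ⟨l, hl, 1, Or.inl rfl, e⟩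
    · obtain ⟨l, hl, e⟩ := key D1 (by rw [hy, hf1])
      exact ⟨l, hl, D1, Or.inr (Or.inl rfl), e⟩
    · obtain ⟨l, hl, e⟩ := key D2 (by rw [hy, hf2])
      exact ⟨l, hl, D2, Or.inr (Or.inr (Or.inl rfl)), e⟩
    · obtain ⟨l, hl, e⟩ := key (D1 * D2) (by rw [hy, map_mul, hf1, hf2])
      exact ⟨l, hl, D1 * D2, Or.inr (Or.inr (Or.inr rfl)), e⟩
  have wcomm : ∀ {w y : Y}, (w = 1 ∨ w = D1 ∨ w = D2 ∨ w = D1 * D2) → y * D1 = D1 * y → y * D2 = D2 * y →
      y * w = w * y := by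
    rintro w y (rfl | rfl | rfl | rfl) hy1 hy2
    · rw [mul_one, one_mul]
    · exact hy1
    · exact hy2
    · rw [← mul_assoc, hy1, mul_assoc, hy2, mul_assoc]
  obtain ⟨l, hl, w, hw, hWlw⟩ := lift (A 0 * A 1 * A 2 * A 3 * A 4) (by
    rw [map_mul, map_mul, map_mul, map_mul, hfA, hfA, hfA, hfA, hfA]
    exact h.prod)
  have hAE : ∀ E : Y, (E = D1 ∨ E = D2) → ∀ i, A i * E = E * A i := by
    intro E hE
    obtain ⟨k, hk', hkA⟩ := chi E hE
    have hstep : ∀ x y : Y, x * E = E * x → ∀ i, x * A i * E = k * (E * (x * A i)) := by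
      intro x y hx i
      calc x * A i * E = x * (A i * E) := by group
        _ = (x * k) * E * A i := by rw [hkA]; group
        _ = k * (x * E) * A i := by rw [hcent k hk']; group
        _ = _ := by rw [hx]; group
    have hs : ∀ i j, A i * A j * E = E * (A i * A j) := by
      intro i j
      calc A i * A j * E = A i * (A j * E) := by group
        _ = (A i * k) * E * A j := by rw [hkA]; group
        _ = k * (A i * E) * A j := by rw [hcent k hk']; group
        _ = (k * k) * (E * (A i * A j)) := by rw [hkA]; group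
        _ = E * (A i * A j) := by rw [hkk k hk', one_mul]
    have hs4 : A 0 * A 1 * A 2 * A 3 * E = E * (A 0 * A 1 * A 2 * A 3) := by
      calc A 0 * A 1 * A 2 * A 3 * E = A 0 * A 1 * (A 2 * A 3 * E) := by group
        _ = (A 0 * A 1 * E) * (A 2 * A 3) := by rw [hs]; group
        _ = _ := by rw [hs]; group
    have hW1 : A 0 * A 1 * A 2 * A 3 * A 4 * E = k * (E * (A 0 * A 1 * A 2 * A 3 * A 4)) :=
      hstep _ 1 hs4 4
    have hwE : E * w = w * E := by
      apply wcomm hw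
      · rcases hE with rfl | rfl
        · rfl
        · exact h12.symm
      · rcases hE with rfl | rfl
        · exact h12
        · rfl
    have hW2 : A 0 * A 1 * A 2 * A 3 * A 4 * E = E * (A 0 * A 1 * A 2 * A 3 * A 4) := by
      rw [hWlw, mul_assoc, ← hwE, ← mul_assoc, ← hcent l hl E, mul_assoc]
    have hk1 : k = 1 := by
      rw [hW2] at hW1
      exact (mul_eq_right.1 hW1.symm)
    intro i
    rw [hkA, hk1, one_mul]
  have hA1 := hAE D1 (Or.inl rfl)
  have hA2 := hAE D2 (Or.inr rfl)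
  -- the squares
  obtain ⟨l', hl', w', hw', hsq'⟩ := lift (A 0 * A 0) (by
    rw [map_mul, hfA]
    exact h.sq)
  have hsA : ∀ i, A 0 * A 0 * A i = A i * (A 0 * A 0) := by
    intro i
    rw [hsq', mul_assoc, ← wcomm hw' (hA1 i) (hA2 i), ← mul_assoc, ← hcent l' hl' (A i), mul_assoc]
  have hDD : ∀ i, D 0 i * A i = A i * D 0 i → A 0 * D 0 i = D 0 i * A 0 → D 0 i * D 0 i = 1 := by
    intro i hi hi0
    have e1 : A 0 * A 0 * A i = D 0 i * D 0 i * (A i * (A 0 * A 0)) := by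
      calc A 0 * A 0 * A i = A 0 * (A 0 * A i) := by group
        _ = (A 0 * D 0 i) * (A i * A 0) := by rw [hD 0 i]; group
        _ = D 0 i * (A 0 * A i) * A 0 := by rw [hi0]; group
        _ = _ := by rw [hD 0 i]; group
    rw [hsA i] at e1
    exact mul_eq_right.1 e1.symm
  have hDD1 : D1 * D1 = 1 := by
    have := hDD 1
    rw [hD1] at this
    exact this (hA1 1).symm (hA1 0)
  have hDD2 : D2 * D2 = 1 := by
    have := hDD 2
    rw [hD2] at this
    exact this (hA2 2).symm (hA2 0)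
  have hmemN : ∀ {y : Y}, y ∈ four D1 D2 hDD1 hDD2 h12 ↔ y = 1 ∨ y = D1 ∨ y = D2 ∨ y = D1 * D2 := mem_four
  have hN4 : Nat.card (four D1 D2 hDD1 hDD2 h12) ≤ 4 := card_four_le
  have hN2 : D1 = D2 → Nat.card (four D1 D2 hDD1 hDD2 h12) ≤ 2 := card_four_le_two
  obtain ⟨N, hNdef⟩ : ∃ N, N = four D1 D2 hDD1 hDD2 h12 := ⟨_, rfl⟩
  rw [← hNdef] at hN4 hN2
  have hmem : ∀ {y : Y}, y ∈ N ↔ y = 1 ∨ y = D1 ∨ y = D2 ∨ y = D1 * D2 := by
    intro y
    rw [hNdef]
    exact hmemN
  have key1 : ∀ i : Fin 5, D i (i + 1) = D1 := by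
    intro i
    fin_cases i
    · exact hD1
    · exact e12
    · exact e23
    · exact e34
    · exact e40
  have key2 : ∀ i : Fin 5, D i (i + 2) = D2 := by
    intro i
    fin_cases i
    · exact hD2
    · exact e13
    · exact e24
    · exact e30
    · exact e41
  have m1 : D1 ∈ N := hmem.2 (Or.inr (Or.inl rfl))
  have m2 : D2 ∈ N := hmem.2 (Or.inr (Or.inr (Or.inl rfl)))
  have hDN : ∀ i j, D i j ∈ N := by
    intro i j
    have hcases : j = i ∨ j = i + 1 ∨ j = i + 2 ∨ i = j + 1 ∨ i = j + 2 := by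
      revert i j; decide
    rcases hcases with rfl | rfl | rfl | rfl | rfl
    · rw [hDself]; exact one_mem _
    · rw [key1]; exact m1
    · rw [key2]; exact m2
    · rw [hDinv j, key1]; exact inv_mem m1
    · rw [hDinv j, key2]; exact inv_mem m2
  obtain ⟨S, hSdef⟩ : ∃ S : Set Y, S = Set.range A ∪ (f.ker : Set Y) := ⟨_, rfl⟩
  have hSA : ∀ i, A i ∈ closure S := fun i => subset_closure (by rw [hSdef]; exact Or.inl ⟨i, rfl⟩)
  have hND : ∀ i j, D i j ∈ closure S := by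
    intro i j
    rw [hDdef]
    exact mul_mem (mul_mem (mul_mem (hSA i) (hSA j)) (inv_mem (hSA i))) (inv_mem (hSA j))
  have hNS : N ≤ closure S := by
    intro y hy
    have c1 : D1 ∈ closure S := by rw [← hD1]; exact hND 0 1
    have c2 : D2 ∈ closure S := by rw [← hD2]; exact hND 0 2
    rcases hmem.1 hy with rfl | rfl | rfl | rfl
    · exact one_mem _
    · exact c1
    · exact c2
    · exact mul_mem c1 c2
  have hc : ∀ x ∈ S, ∀ n ∈ N, x * n = n * x := by
    intro x hx n hn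
    rw [hSdef] at hx
    rcases hx with ⟨i, rfl⟩ | hx
    · exact wcomm (hmem.1 hn) (hA1 i) (hA2 i)
    · exact (hcent x hx n).symm
  have hcomm : ∀ x ∈ S, ∀ y ∈ S, x * y * x⁻¹ * y⁻¹ ∈ N := by
    intro x hx y hy
    rw [hSdef] at hx hy
    rcases hx with ⟨i, rfl⟩ | hx
    · rcases hy with ⟨j, rfl⟩ | hy
      · rw [← hDdef]; exact hDN i j
      · rw [hcent y hy (A i)]
        simp
    · rw [← hcent x hx y]
      simp
  obtain ⟨hc', hcm⟩ := closure_comm hc hcomm
  -- all squares are equal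
  have hTs : T * (A 0 * A 0) = A 0 * A 0 * T := by
    rw [hsq', ← mul_assoc, hcent l' hl' T, mul_assoc, wcomm hw' hT1 hT2, mul_assoc]
  have hsstep : ∀ i, A i * A i = A 0 * A 0 → A (i + 1) * A (i + 1) = A 0 * A 0 := by
    intro i hi
    have e : A (i + 1) = T * A i * T⁻¹ := by rw [hTA, mul_inv_cancel_right]
    calc A (i + 1) * A (i + 1) = T * (A i * A i) * T⁻¹ := by rw [e]; group
      _ = A 0 * A 0 := by rw [hi, hTs, mul_inv_cancel_right]
  have s1 : A 1 * A 1 = A 0 * A 0 := hsstep 0 rfl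
  have s2 : A 2 * A 2 = A 0 * A 0 := hsstep 1 s1
  have s3 : A 3 * A 3 = A 0 * A 0 := hsstep 2 s2
  have s4 : A 4 * A 4 = A 0 * A 0 := hsstep 3 s3
  have sall : ∀ i, A i * A i = A 0 * A 0 := by
    intro i
    fin_cases i
    · rfl
    · exact s1
    · exact s2
    · exact s3
    · exact s4
  have wsq : ∀ {w : Y}, (w = 1 ∨ w = D1 ∨ w = D2 ∨ w = D1 * D2) → w * w = 1 := by
    rintro w (rfl | rfl | rfl | rfl)
    · rw [mul_one]
    · exact hDD1
    · exact hDD2
    · calc D1 * D2 * (D1 * D2) = D1 * (D2 * D1) * D2 := by group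
        _ = (D1 * D1) * (D2 * D2) := by rw [← h12]; group
        _ = 1 := by rw [hDD1, hDD2, mul_one]
  have lwsq : ∀ {l w : Y}, l ∈ f.ker → (w = 1 ∨ w = D1 ∨ w = D2 ∨ w = D1 * D2) → l * w * (l * w) = 1 := by
    intro l w hl hw
    calc l * w * (l * w) = l * (w * l) * w := by group
      _ = (l * l) * (w * w) := by rw [hcent l hl w]; group
      _ = 1 := by rw [hkk l hl, wsq hw, mul_one]
  have hss : A 0 * A 0 * (A 0 * A 0) = 1 := by rw [hsq']; exact lwsq hl' hw'
  have hWW : A 0 * A 1 * A 2 * A 3 * A 4 * (A 0 * A 1 * A 2 * A 3 * A 4) = 1 := by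
    rw [hWlw]; exact lwsq hl hw
  have hsN : A 0 * A 0 ∈ N := by
    have q : ∀ x ∈ closure S, ∀ i, ∃ m ∈ N, x * A i * (x * A i) = m * (x * x * (A 0 * A 0)) := by
      intro x hx i
      refine ⟨_, hcm (A i) (hSA i) x hx, ?_⟩
      rw [sq_mul (hc' x hx) (hcm _ (hSA i) x hx), sall i]
    obtain ⟨n1, hn1, q1⟩ := q (A 0) (hSA 0) 1
    obtain ⟨n2, hn2, q2⟩ := q (A 0 * A 1) (mul_mem (hSA 0) (hSA 1)) 2
    obtain ⟨n3, hn3, q3⟩ := q (A 0 * A 1 * A 2) (mul_mem (mul_mem (hSA 0) (hSA 1)) (hSA 2)) 3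
    obtain ⟨n4, hn4, q4⟩ := q (A 0 * A 1 * A 2 * A 3)
      (mul_mem (mul_mem (mul_mem (hSA 0) (hSA 1)) (hSA 2)) (hSA 3)) 4
    generalize A 0 * A 0 = s at *
    rw [hss, mul_one] at q1
    rw [q1] at q2
    rw [q2] at q3
    rw [q3] at q4
    rw [hWW] at q4
    have e : n4 * (n3 * (n2 * (n1 * s) * s) * s) = n4 * n3 * n2 * n1 * s := by
      calc n4 * (n3 * (n2 * (n1 * s) * s) * s) = n4 * n3 * n2 * n1 * (s * s) * s := by group
        _ = _ := by rw [hss, mul_one]
    rw [e] at q4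
    rw [← inv_eq_of_mul_eq_one_right q4.symm]
    exact inv_mem (mul_mem (mul_mem (mul_mem hn4 hn3) hn2) hn1)
  -- commutators of arbitrary lifts
  have hlift : ∀ (i j : Fin 5) (B C : Y), f B = a i → f C = a j → B * C = D i j * (C * B) := by
    intro i j B C hB hC
    obtain ⟨k, hkm, rfl⟩ : ∃ k ∈ f.ker, B = k * A i :=
      ⟨B * (A i)⁻¹, by rw [MonoidHom.mem_ker, map_mul, map_inv, hB, hfA, mul_inv_cancel], by group⟩
    obtain ⟨m, hmm, rfl⟩ : ∃ m ∈ f.ker, C = m * A j :=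
      ⟨C * (A j)⁻¹, by rw [MonoidHom.mem_ker, map_mul, map_inv, hC, hfA, mul_inv_cancel], by group⟩
    calc k * A i * (m * A j) = k * (A i * m) * A j := by group
      _ = k * m * (A i * A j) := by rw [hcent m hmm]; group
      _ = k * (m * D i j) * (A j * A i) := by rw [hD]; group
      _ = (k * D i j) * m * (A j * A i) := by rw [← hcent m hmm (D i j)]; group
      _ = D i j * (k * m) * A j * A i := by rw [← hcent k hkm (D i j)]; group
      _ = D i j * (m * (k * A j) * A i) := by rw [hcent m hmm k]; group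
      _ = _ := by rw [← hcent k hkm (A j)]; group
  refine ⟨D1, D2, N, hf1, hDD1, ?_, ?_, hN4, hN2, ?_⟩
  · intro A0 A1 A2 h0 h1 h2
    refine ⟨?_, ?_⟩
    · rw [← hD1]; exact hlift 0 1 A0 A1 h0 h1
    · rw [← hD2]; exact hlift 0 2 A0 A2 h0 h2
  · rintro i j rfl B C hB hC
    rw [← key1 i]
    exact hlift _ _ B C hB hC
  · have hcl : (closure (Set.range a)).comap f = closure S := by
      have e1 : closure (Set.range a) = (closure (Set.range A)).map f := by
        rw [MonoidHom.map_closure, ← Set.range_comp]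
        congr 1
        apply congrArg
        funext i
        exact (hfA i).symm
      rw [e1, comap_map_eq, hSdef, Subgroup.closure_union, Subgroup.closure_eq]
    rw [hcl]
    refine elemSection_closure hNS hc hcomm ?_
    intro x hx
    rw [hSdef] at hx
    rcases hx with ⟨i, rfl⟩ | hx
    · rw [sall]; exact hsN
    · rw [hkk x hx]; exact one_mem _

/-- First conclusion: the group generated by the `a i` has order at least 64. -/
theorem Conf.not_le_four [Finite Y] (h : Conf a t d1 d2) (f : Y →* X) (hf : Function.Surjective f)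
    (hk : Nat.card f.ker = 2) (hS : 64 ≤ Nat.card (closure (Set.range a))) : ¬ SectionalPRankLE 2 4 Y := by
  intro hr
  obtain ⟨D1, D2, N, -, -, -, -, hN4, -, hsec⟩ := h.exists_section f hf hk
  rw [sectionalPRankLE_iff] at hr
  have h1 := hr _ _ hsec
  rw [Rank.card_comap_of_surjective f hf, hk] at h1
  omega

/-- Second conclusion: the group generated by the `a i` has order at least 32 and there is an element of order 3. -/
theorem Conf.not_le_four' [Finite Y] (h : Conf a t d1 d1) (f : Y →* X) (hf : Function.Surjective f)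
    (hk : Nat.card f.ker = 2) (hS : 32 ≤ Nat.card (closure (Set.range a))) (g : X) (g3 : g ^ 3 = 1)
    (g1 : g * a 1 = a 2 * g) (g2 : g * a 2 = a 0 * g) (gd : g * d1 = d1 * g) : ¬ SectionalPRankLE 2 4 Y := by
  intro hr
  obtain ⟨D1, D2, N, hfD1, hDD1, hl, hc, -, hN2, hsec⟩ := h.exists_section f hf hk
  have h12 : D1 = D2 := by
    obtain ⟨G, rfl⟩ := hf g
    obtain ⟨A1, hA1⟩ := hf (a 1)
    obtain ⟨A2, hA2⟩ := hf (a 2)
    have e1 : A1 * A2 = D1 * (A2 * A1) := hc 1 2 rfl A1 A2 hA1 hA2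
    have hGD : G * D1 = D1 * G := comm_of_odd hk (n := 3) (by decide) g3 (by rw [hfD1]; exact gd)
    have hB2 : f (G * A1 * G⁻¹) = a 2 := by
      rw [map_mul, map_mul, map_inv, hA1, g1, mul_inv_cancel_right]
    have hB0 : f (G * A2 * G⁻¹) = a 0 := by
      rw [map_mul, map_mul, map_inv, hA2, g2, mul_inv_cancel_right]
    have e2 : (G * A1 * G⁻¹) * (G * A2 * G⁻¹) = D1 * ((G * A2 * G⁻¹) * (G * A1 * G⁻¹)) := by
      calc (G * A1 * G⁻¹) * (G * A2 * G⁻¹) = G * (A1 * A2) * G⁻¹ := by group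
        _ = (G * D1) * A2 * A1 * G⁻¹ := by rw [e1]; group
        _ = _ := by rw [hGD]; group
    have e3 := (hl _ A1 _ hB0 hA1 hB2).2
    rw [e3] at e2
    have e4 : D1 * D2 = 1 := by
      have e5 : D1 * D2 * (G * A1 * G⁻¹ * (G * A2 * G⁻¹)) = G * A1 * G⁻¹ * (G * A2 * G⁻¹) := by
        rw [mul_assoc D1 D2]
        exact e2.symm
      exact mul_eq_right.1 e5
    calc D1 = D1 * (D1 * D2) := by rw [e4, mul_one]
      _ = D2 := by rw [← mul_assoc, hDD1, one_mul]
  rw [sectionalPRankLE_iff] at hr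
  have h1 := hr _ _ hsec
  rw [Rank.card_comap_of_surjective f hf, hk] at h1
  have := hN2 h12
  omega

end main

end Cfsg.Agent.GH.Cov.FiveConf
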