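import Cfsg.Agent.S1619
import Cfsg.Agent.J2.HundredGens
import Cfsg.Agent.GH.Cov.FiveConf

/-!
# Double covers of the Hall–Janko group have sectional 2-rank at least 5 (GH-COV, rank cut, piece [D])
-/

set_option autoImplicit false

namespace Cfsg.Agent.GH.Cov.CutJ2

open Cfsg Cfsg.Agent.J2.HundredGens Cfsg.Agent.SporadicA.PermTab Cfsg.Agent.SporadicA.J2Hundred
  Cfsg.Agent.GH.Cov.FiveConf

/-- words of five pairwise anticommuting involutions -/
def w : Fin 5 → List ℕ := ![[2], [3, 2, 3], [4, 3, 2, 3, 4],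
  [1, 0, 1, 2, 3, 2, 4, 3, 2, 1, 0, 1, 3, 2, 3, 2, 1, 4, 3, 2, 1, 3, 2, 4, 3, 2, 1],
  [1, 0, 1, 0, 2, 3, 2, 4, 3, 2, 1, 0, 1, 2, 3, 2, 1, 4, 3, 2, 1, 3, 2, 3, 4, 3, 2, 1]]

/-- word of an element of order 5 -/
def wt : List ℕ := [0, 1, 0, 1, 3, 2, 4, 3, 2, 1, 0, 3, 2, 1, 0, 1, 3, 2, 1, 3, 2]

theorem gw_mul (L M : List ℕ) : gw L * gw M = gw (L ++ M) := Subtype.ext (pw_mul L M)

theorem gw_eq {L M : List ℕ} (h : chk L M = true) : gw L = gw M := Subtype.ext (pw_eq h)

theorem gw_nil : gw [] = 1 := Subtype.ext pw_nil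

theorem conf : Conf (fun i => gw (w i)) (gw wt) (gw [0]) (gw [0]) where
  t5 := by
    rw [show 5 = 1 + 1 + 1 + 1 + 1 from rfl, pow_add, pow_add, pow_add, pow_add, pow_one, gw_mul, gw_mul, gw_mul,
      gw_mul, ← gw_nil]
    exact gw_eq (by decide +kernel)
  conj i := by
    rw [gw_mul, gw_mul]
    apply gw_eq
    revert i
    decide +kernel
  h1 := by
    rw [gw_mul, gw_mul, gw_mul]
    exact gw_eq (by decide +kernel)
  h2 := by
    rw [gw_mul, gw_mul, gw_mul]
    exact gw_eq (by decide +kernel)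
  t1 := by
    rw [gw_mul, gw_mul]
    exact gw_eq (by decide +kernel)
  t2 := by
    rw [gw_mul, gw_mul]
    exact gw_eq (by decide +kernel)
  a1 := by
    rw [gw_mul, gw_mul]
    exact gw_eq (by decide +kernel)
  a2 := by
    rw [gw_mul, gw_mul]
    exact gw_eq (by decide +kernel)
  sq := by
    left
    rw [gw_mul, ← gw_nil]
    exact gw_eq (by decide +kernel)
  prod := by
    left
    rw [gw_mul, gw_mul, gw_mul, gw_mul, ← gw_nil]
    exact gw_eq (by decide +kernel)

/-- words of the elements of the extraspecial group -/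
def sel (m : ℕ) : List ℕ :=
  (if m.testBit 0 then w 0 else []) ++ ((if m.testBit 1 then w 1 else []) ++ ((if m.testBit 2 then w 2 else []) ++
    ((if m.testBit 3 then w 3 else []) ++ (if m.testBit 4 then (w 0 ++ w 1) ++ (w 0 ++ w 1) else []))))

theorem sel_mem (m : ℕ) : gw (sel m) ∈ Subgroup.closure (Set.range fun i => gw (w i)) := by
  have h : ∀ i, gw (w i) ∈ Subgroup.closure (Set.range fun i => gw (w i)) := fun i =>
    Subgroup.subset_closure ⟨i, rfl⟩
  have hif : ∀ (b : Bool) (L : List ℕ), gw L ∈ Subgroup.closure (Set.range fun i => gw (w i)) →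
      gw (if b then L else []) ∈ Subgroup.closure (Set.range fun i => gw (w i)) := by
    intro b L hL
    cases b
    · rw [if_neg (by decide), gw_nil]; exact one_mem _
    · rw [if_pos rfl]; exact hL
  unfold sel
  rw [← gw_mul, ← gw_mul, ← gw_mul, ← gw_mul]
  refine mul_mem (hif _ _ (h 0)) (mul_mem (hif _ _ (h 1)) (mul_mem (hif _ _ (h 2))
    (mul_mem (hif _ _ (h 3)) (hif _ _ ?_))))
  rw [← gw_mul, ← gw_mul]
  exact mul_mem (mul_mem (h 0) (h 1)) (mul_mem (h 0) (h 1))

theorem sel_inj : ∀ m n : Fin 32, run (sel m) 0 = run (sel n) 0 → run (sel m) 2 = run (sel n) 2 → m = n := by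
  decide +kernel

theorem card_ge : 32 ≤ Nat.card (Subgroup.closure (Set.range fun i => gw (w i))) := by
  have hinj : Function.Injective (fun m : Fin 32 =>
      (⟨gw (sel m), sel_mem m⟩ : Subgroup.closure (Set.range fun i => gw (w i)))) := by
    intro m n hmn
    have h1 : pw (sel m) = pw (sel n) := congrArg Subtype.val (congrArg Subtype.val hmn)
    have h2 : ∀ i : Fin 100, run (sel m) i = run (sel n) i := by
      intro i
      rw [← pw_val, ← pw_val, h1]
    exact sel_inj m n (h2 0) (h2 2)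
  have hfin : Finite G := Nat.finite_of_card_ne_zero (by rw [card_G]; norm_num)
  have := Nat.card_le_card_of_injective _ hinj
  rwa [Nat.card_eq_fintype_card, Fintype.card_fin] at this

universe u v

/-- **[D]** A double cover of the Hall–Janko group has sectional 2-rank at least 5. -/
theorem not_le_four {X : Type u} [Group X] {Y : Type v} [Group Y] [Finite Y] (hX : Cfsg.Spor.IsoJ2 X) (f : Y →* X)
    (hf : Function.Surjective f) (hk : Nat.card f.ker = 2) : ¬ SectionalPRankLE 2 4 Y := by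
  obtain ⟨e⟩ := hX
  obtain ⟨e'⟩ := J2_iso Cfsg.Agent.S1619.result.2.2.2
  let e2 : X ≃* G := e.trans e'
  let f' : Y →* G := e2.toMonoidHom.comp f
  have hf' : Function.Surjective f' := e2.surjective.comp hf
  have hk' : Nat.card f'.ker = 2 := by
    have : f'.ker = f.ker := by
      ext y
      rw [MonoidHom.mem_ker, MonoidHom.mem_ker]
      exact e2.map_eq_one_iff
    rw [this, hk]
  refine conf.not_le_four' f' hf' hk' card_ge (gw [3, 4]) ?_ ?_ ?_ ?_
  · rw [show 3 = 1 + 1 + 1 from rfl, pow_add, pow_add, pow_one, gw_mul, gw_mul, ← gw_nil]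
    exact gw_eq (by decide +kernel)
  · rw [gw_mul, gw_mul]
    exact gw_eq (by decide +kernel)
  · rw [gw_mul, gw_mul]
    exact gw_eq (by decide +kernel)
  · rw [gw_mul, gw_mul]
    exact gw_eq (by decide +kernel)

end Cfsg.Agent.GH.Cov.CutJ2
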