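import Cfsg.Agent.GH.Defs
import Cfsg.Agent.TwoFusion.GoldU34
import Cfsg.Agent.GH.Cov.FiveConf

/-!
# Double covers of `U_3(4)` have sectional 2-rank at least 5 (GH-COV, rank cut, piece [E])
-/

set_option autoImplicit false

namespace Cfsg.Agent.GH.Cov.CutU34

open Cfsg Cfsg.Agent.LieRecognition.HermHeis Cfsg.Agent.LieRecognition.PSUThreeSylow
  Cfsg.Agent.TwoFusion.GoldU34 Cfsg.Agent.GH.Cov.FiveConf

universe u v

section field

variable {F : Type u} [Field F] [CharP F 2]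

theorem zmod2_cases (a : ZMod 2) : a = 0 ∨ a = 1 := by
  revert a; decide

/-- the embedding of the prime field -/
noncomputable def c (F : Type u) [Field F] [CharP F 2] : ZMod 2 →+* F := ZMod.castHom (dvd_refl 2) F

theorem indep {m : F} (hm : 1 + m + m ^ 2 + m ^ 3 + m ^ 4 = 0) (a0 a1 a2 a3 : ZMod 2)
    (h : c F a0 + c F a1 * m + c F a2 * m ^ 2 + c F a3 * m ^ 3 = 0) : a0 = 0 ∧ a1 = 0 ∧ a2 = 0 ∧ a3 = 0 := by
  have h2 : (2 : F) = 0 := CharTwo.two_eq_zero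
  have h1 : ¬ (1 : F) = 0 := one_ne_zero
  rcases zmod2_cases a0 with rfl | rfl <;> rcases zmod2_cases a1 with rfl | rfl <;>
    rcases zmod2_cases a2 with rfl | rfl <;> rcases zmod2_cases a3 with rfl | rfl <;>
    simp only [map_zero, map_one] at h
  · exact ⟨rfl, rfl, rfl, rfl⟩
  · exact absurd (by linear_combination (m ^ 2) * h + (1 + m) * hm - (1 * m ^ 1 + 1 * m ^ 2 + 1 * m ^ 3 + 1 * m ^ 4 + 1 * m ^ 5) * h2) h1
  · exact absurd (by linear_combination (m ^ 3) * h + (1 + m) * hm - (1 * m ^ 1 + 1 * m ^ 2 + 1 * m ^ 3 + 1 * m ^ 4 + 1 * m ^ 5) * h2) h1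
  · exact absurd (by linear_combination (1 + m ^ 2 + m ^ 3) * h + (1 + m + m ^ 2) * hm - (1 * m ^ 1 + 2 * m ^ 2 + 2 * m ^ 3 + 2 * m ^ 4 + 2 * m ^ 5 + 1 * m ^ 6) * h2) h1
  · exact absurd (by linear_combination (1 + m + m ^ 2 + m ^ 3) * h + (1) * hm - (1 * m ^ 1 + 1 * m ^ 2 + 1 * m ^ 3 + 1 * m ^ 4) * h2) h1
  · exact absurd (by linear_combination (1 + m) * h + (1) * hm - (1 * m ^ 1 + 1 * m ^ 2 + 1 * m ^ 3 + 1 * m ^ 4) * h2) h1
  · exact absurd (by linear_combination (1 + m ^ 2) * h + (1) * hm - (1 * m ^ 1 + 1 * m ^ 2 + 1 * m ^ 3 + 1 * m ^ 4) * h2) h1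
  · exact absurd (by linear_combination (1 + m + m ^ 3) * h + (1 + m ^ 2) * hm - (1 * m ^ 1 + 2 * m ^ 2 + 2 * m ^ 3 + 2 * m ^ 4 + 1 * m ^ 5 + 1 * m ^ 6) * h2) h1
  · exact absurd (by linear_combination (1) * h + (0) * hm - (0) * h2) h1
  · exact absurd (by linear_combination (1 + m + m ^ 2) * h + (m) * hm - (1 * m ^ 1 + 1 * m ^ 2 + 1 * m ^ 3 + 1 * m ^ 4 + 1 * m ^ 5) * h2) h1
  · exact absurd (by linear_combination (m + m ^ 2) * h + (1) * hm - (1 * m ^ 1 + 1 * m ^ 2 + 1 * m ^ 3 + 1 * m ^ 4) * h2) h1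
  · exact absurd (by linear_combination (m ^ 2 + m ^ 3) * h + (1 + m + m ^ 2) * hm - (1 * m ^ 1 + 2 * m ^ 2 + 2 * m ^ 3 + 2 * m ^ 4 + 2 * m ^ 5 + 1 * m ^ 6) * h2) h1
  · exact absurd (by linear_combination (m + m ^ 3) * h + (1) * hm - (1 * m ^ 1 + 1 * m ^ 2 + 1 * m ^ 3 + 1 * m ^ 4) * h2) h1
  · exact absurd (by linear_combination (m + m ^ 2 + m ^ 3) * h + (1 + m ^ 2) * hm - (1 * m ^ 1 + 2 * m ^ 2 + 2 * m ^ 3 + 2 * m ^ 4 + 1 * m ^ 5 + 1 * m ^ 6) * h2) h1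
  · exact absurd (by linear_combination (1 + m ^ 3) * h + (m) * hm - (1 * m ^ 1 + 1 * m ^ 2 + 1 * m ^ 3 + 1 * m ^ 4 + 1 * m ^ 5) * h2) h1
  · exact absurd (by linear_combination (m) * h + (1) * hm - (1 * m ^ 1 + 1 * m ^ 2 + 1 * m ^ 3 + 1 * m ^ 4) * h2) h1

theorem indep2 {m : F} (hm : 1 + m + m ^ 2 + m ^ 3 + m ^ 4 = 0) (p q : ZMod 2)
    (h : c F p * (m + m ^ 4) + c F q * (m ^ 2 + m ^ 3) = 0) : p = 0 ∧ q = 0 := by
  have h2 : (2 : F) = 0 := CharTwo.two_eq_zero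
  have h1 : ¬ (1 : F) = 0 := one_ne_zero
  rcases zmod2_cases p with rfl | rfl <;> rcases zmod2_cases q with rfl | rfl <;>
    simp only [map_zero, map_one] at h
  · exact ⟨rfl, rfl⟩
  · exact absurd (by linear_combination (1 + m ^ 2 + m ^ 3) * h + (1 + m + m ^ 2) * hm - (1 * m ^ 1 + 2 * m ^ 2 + 2 * m ^ 3 + 2 * m ^ 4 + 2 * m ^ 5 + 1 * m ^ 6) * h2) h1
  · exact absurd (by linear_combination (m ^ 2 + m ^ 3) * h + (1 + m + m ^ 3) * hm - (1 * m ^ 1 + 1 * m ^ 2 + 2 * m ^ 3 + 2 * m ^ 4 + 1 * m ^ 5 + 1 * m ^ 6 + 1 * m ^ 7) * h2) h1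
  · exact absurd (by linear_combination hm - h) h1

end field

section heis

variable {F : Type u} [Field F] [CharP F 2] {σ : F →+* F} [hσ : Fact (∀ x, σ (σ x) = x)]

/-- the five elements -/
def xe (σ : F →+* F) (m : F) (hσm : σ m = m ^ 4) (hm : 1 + m + m ^ 2 + m ^ 3 + m ^ 4 = 0) (i : ℕ) : Heis σ where
  a := m ^ i
  b := m + m ^ 3
  h := by
    have h5 : m ^ 5 = 1 := by linear_combination (m - 1) * hm
    have hr : m ^ i * σ (m ^ i) = 1 := by
      rw [map_pow, hσm, ← mul_pow, show m * m ^ 4 = m ^ 5 by ring, h5, one_pow]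
    rw [hr, map_add, map_pow, hσm]
    have h2 : (2 : F) = 0 := CharTwo.two_eq_zero
    linear_combination hm + (m ^ 7 + m ^ 2) * h5 - h2

omit [CharP F 2] in
theorem m_ne_zero {m : F} (hm : 1 + m + m ^ 2 + m ^ 3 + m ^ 4 = 0) : m ≠ 0 := by
  rintro rfl
  exact one_ne_zero (α := F) (by linear_combination hm)

omit [CharP F 2] in
theorem m_five {m : F} (hm : 1 + m + m ^ 2 + m ^ 3 + m ^ 4 = 0) : m ^ 5 = 1 := by
  linear_combination (m - 1) * hm

omit [CharP F 2] hσ in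
theorem fix1 {m : F} (hσm : σ m = m ^ 4) (hm : 1 + m + m ^ 2 + m ^ 3 + m ^ 4 = 0) : σ (m + m ^ 4) = m + m ^ 4 := by
  rw [map_add, map_pow, hσm]
  linear_combination (m ^ 11 + m ^ 6 + m) * m_five hm

omit [CharP F 2] hσ in
theorem fix2 {m : F} (hσm : σ m = m ^ 4) (hm : 1 + m + m ^ 2 + m ^ 3 + m ^ 4 = 0) :
    σ (m ^ 2 + m ^ 3) = m ^ 2 + m ^ 3 := by
  rw [map_add, map_pow, map_pow, hσm]
  linear_combination (m ^ 7 + m ^ 2 + m ^ 3) * m_five hm

/-- The configuration in `SUJ σ`. -/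
theorem conf {m : F} (hσm : σ m = m ^ 4) (hm : 1 + m + m ^ 2 + m ^ 3 + m ^ 4 = 0) :
    Conf (fun i : Fin 5 => emb σ (xe σ m hσm hm i)) (dg σ (m ^ 2) (pow_ne_zero 2 (m_ne_zero hm)))
      (emb σ (zet (m + m ^ 4) (fix1 hσm hm))) (emb σ (zet (m ^ 2 + m ^ 3) (fix2 hσm hm))) := by
  have h2 : (2 : F) = 0 := CharTwo.two_eq_zero
  have h0 : m ≠ 0 := m_ne_zero hm
  have h5 : m ^ 5 = 1 := m_five hm
  have hxa : ∀ i, (xe σ m hσm hm i).a = m ^ i := fun i => rfl
  have hxb : ∀ i, (xe σ m hσm hm i).b = m + m ^ 3 := fun i => rfl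
  have hmul : ∀ x : F, (m ^ 2) ^ 2 / σ (m ^ 2) * x = m * x := by
    intro x
    rw [map_pow, hσm, div_mul_eq_mul_div, div_eq_iff (pow_ne_zero 2 (pow_ne_zero 4 h0))]
    linear_combination (- m ^ 4 * x) * h5
  have hb : ∀ x : F, m ^ 2 * σ (m ^ 2) * x = x := by
    intro x
    rw [map_pow, hσm]
    linear_combination (m ^ 5 + 1) * x * h5
  refine ⟨?_, ?_, ?_, ?_, ?_, ?_, ?_, ?_, ?_, ?_⟩
  · rw [dg_pow]
    have : (m ^ 2) ^ 5 = 1 := by linear_combination (m ^ 5 + 1) * h5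
    simp only [this]
    exact dg_one _
  · intro i
    apply dg_mul_emb
    · rw [hmul, hxa, hxa, Fin.val_add]
      show m ^ (((i : ℕ) + 1) % 5) = m * m ^ (i : ℕ)
      by_cases h : (i : ℕ) = 4
      · rw [h, show (4 + 1) % 5 = 0 from rfl]
        linear_combination -h5
      · rw [Nat.mod_eq_of_lt (by have := i.2; omega)]
        ring
    · rw [hb, hxb, hxb]
  · simp only [← map_mul]
    congr 1
    ext
    · simp only [mul_a, zet_a, hxa]
      ring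
    · simp only [mul_b, mul_a, zet_a, zet_b, hxa, hxb, hσm, Fin.val_zero, Fin.val_one, pow_zero,
        pow_one, map_one, zero_mul, mul_one, one_mul]
      linear_combination (-m) * h2
  · simp only [← map_mul]
    congr 1
    ext
    · simp only [mul_a, zet_a, hxa]
      ring
    · simp only [mul_b, mul_a, zet_a, zet_b, hxa, hxb, map_pow, hσm, Fin.val_zero, Fin.val_two, pow_zero,
        map_one, zero_mul, mul_one, one_mul]
      linear_combination m ^ 3 * h5 - m ^ 2 * h2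
  · apply dg_mul_emb
    · simp only [zet_a, mul_zero]
    · rw [hb]
  · apply dg_mul_emb
    · simp only [zet_a, mul_zero]
    · rw [hb]
  · simp only [← map_mul]
    congr 1
    ext
    · simp only [mul_a, zet_a, hxa]
      ring
    · simp only [mul_b, zet_a, zet_b, hxa, hxb, map_zero]
      ring
  · simp only [← map_mul]
    congr 1
    ext
    · simp only [mul_a, zet_a, hxa]
      ring
    · simp only [mul_b, zet_a, zet_b, hxa, hxb, map_zero]
      ring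
  · right; right; right
    simp only [← map_mul]
    congr 1
    ext
    · simp only [mul_a, zet_a, hxa, Fin.val_zero, pow_zero]
      linear_combination h2
    · simp only [mul_b, zet_a, zet_b, hxa, hxb, map_zero, Fin.val_zero, pow_zero, map_one, mul_one]
      linear_combination hm - (m ^ 2 + m ^ 4) * h2
  · left
    simp only [← map_mul]
    rw [← map_one (emb σ)]
    congr 1
    ext
    · simp only [mul_a, hxa, one_a]
      show m ^ 0 + m ^ 1 + m ^ 2 + m ^ 3 + m ^ 4 = 0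
      linear_combination hm
    · simp only [mul_b, mul_a, hxa, hxb, one_b, map_pow, hσm]
      show m + m ^ 3 + (m + m ^ 3) + m ^ 0 * (m ^ 4) ^ 1 + (m + m ^ 3) + (m ^ 0 + m ^ 1) * (m ^ 4) ^ 2 +
        (m + m ^ 3) + (m ^ 0 + m ^ 1 + m ^ 2) * (m ^ 4) ^ 3 + (m + m ^ 3) +
        (m ^ 0 + m ^ 1 + m ^ 2 + m ^ 3) * (m ^ 4) ^ 4 = 0
      linear_combination (3 * m + m ^ 2 + 4 * m ^ 3 + 2 * m ^ 4) * h2 + (m ^ 3 + m ^ 4 +
        (m ^ 2 + m ^ 3 + m ^ 4) * (m ^ 5 + 1) + (m + m ^ 2 + m ^ 3 + m ^ 4) * (m ^ 10 + m ^ 5 + 1)) * h5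

/-- `x ^ b` for `b : ZMod 2` -/
def pw {G : Type*} [Group G] (x : G) (b : ZMod 2) : G := if b = 0 then 1 else x

theorem pw_zero {G : Type*} [Group G] (x : G) : pw x 0 = 1 := if_pos rfl
theorem pw_one {G : Type*} [Group G] (x : G) : pw x 1 = x := if_neg (by decide)

theorem pw_mem {G : Type*} [Group G] {H : Subgroup G} {x : G} (hx : x ∈ H) (b : ZMod 2) : pw x b ∈ H := by
  rcases zmod2_cases b with rfl | rfl
  · rw [pw_zero]; exact one_mem _
  · rw [pw_one]; exact hx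

theorem map_pw {G H : Type*} [Group G] [Group H] (f : G →* H) (x : G) (b : ZMod 2) : f (pw x b) = pw (f x) b := by
  rcases zmod2_cases b with rfl | rfl
  · rw [pw_zero, pw_zero, map_one]
  · rw [pw_one, pw_one]

theorem pw_a (x : Heis σ) (b : ZMod 2) : (pw x b).a = c F b * x.a := by
  rcases zmod2_cases b with rfl | rfl
  · rw [pw_zero, map_zero, zero_mul, one_a]
  · rw [pw_one, map_one, one_mul]

theorem pw_b (x : Heis σ) (b : ZMod 2) : (pw x b).b = c F b * x.b := by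
  rcases zmod2_cases b with rfl | rfl
  · rw [pw_zero, map_zero, zero_mul, one_b]
  · rw [pw_one, map_one, one_mul]

theorem card_ge [Finite F] {m : F} (hσm : σ m = m ^ 4) (hm : 1 + m + m ^ 2 + m ^ 3 + m ^ 4 = 0) :
    64 ≤ Nat.card (Subgroup.closure (Set.range fun i : Fin 5 => emb σ (xe σ m hσm hm i))) := by
  have hconf := conf hσm hm
  set H := Subgroup.closure (Set.range fun i : Fin 5 => emb σ (xe σ m hσm hm i)) with hH
  have hx : ∀ i : Fin 5, emb σ (xe σ m hσm hm i) ∈ H := fun i => Subgroup.subset_closure ⟨i, rfl⟩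
  have hd1 : emb σ (zet (m + m ^ 4) (fix1 hσm hm)) ∈ H := by
    have h := hconf.h1
    rw [← mul_inv_eq_iff_eq_mul] at h
    rw [← h]
    exact mul_mem (mul_mem (hx 0) (hx 1)) (inv_mem (mul_mem (hx 1) (hx 0)))
  have hd2 : emb σ (zet (m ^ 2 + m ^ 3) (fix2 hσm hm)) ∈ H := by
    have h := hconf.h2
    rw [← mul_inv_eq_iff_eq_mul] at h
    rw [← h]
    exact mul_mem (mul_mem (hx 0) (hx 2)) (inv_mem (mul_mem (hx 2) (hx 0)))
  let A : ZMod 2 × ZMod 2 × ZMod 2 × ZMod 2 → Heis σ := fun v =>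
    pw (xe σ m hσm hm (0 : Fin 5)) v.1 * pw (xe σ m hσm hm (1 : Fin 5)) v.2.1 * pw (xe σ m hσm hm (2 : Fin 5)) v.2.2.1 *
      pw (xe σ m hσm hm (3 : Fin 5)) v.2.2.2
  let D : ZMod 2 × ZMod 2 → Heis σ := fun p =>
    pw (zet (m + m ^ 4) (fix1 hσm hm)) p.1 * pw (zet (m ^ 2 + m ^ 3) (fix2 hσm hm)) p.2
  have hmem : ∀ v p, emb σ (A v * D p) ∈ H := by
    intro v p
    simp only [A, D, map_mul, map_pw]
    exact mul_mem (mul_mem (mul_mem (mul_mem (pw_mem (hx 0) _) (pw_mem (hx 1) _)) (pw_mem (hx 2) _)) (pw_mem (hx 3) _))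
      (mul_mem (pw_mem hd1 _) (pw_mem hd2 _))
  have hAa : ∀ v, (A v).a = c F v.1 + c F v.2.1 * m + c F v.2.2.1 * m ^ 2 + c F v.2.2.2 * m ^ 3 := by
    intro v
    simp only [A, mul_a, pw_a]
    show c F v.1 * m ^ 0 + c F v.2.1 * m ^ 1 + c F v.2.2.1 * m ^ 2 + c F v.2.2.2 * m ^ 3 = _
    ring
  have hDa : ∀ p, (D p).a = 0 := by
    intro p
    simp only [D, mul_a, pw_a, zet_a]
    ring
  have hDb : ∀ p, (D p).b = c F p.1 * (m + m ^ 4) + c F p.2 * (m ^ 2 + m ^ 3) := by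
    intro p
    simp only [D, mul_b, pw_a, pw_b, zet_a, zet_b]
    ring
  have hinj : Function.Injective (fun vp : (ZMod 2 × ZMod 2 × ZMod 2 × ZMod 2) × (ZMod 2 × ZMod 2) =>
      (⟨emb σ (A vp.1 * D vp.2), hmem vp.1 vp.2⟩ : H)) := by
    rintro ⟨v, p⟩ ⟨w, q⟩ h
    have h1 : A v * D p = A w * D q := emb_injective (congrArg Subtype.val h)
    have ha := congrArg Heis.a h1
    have hv : v = w := by
      simp only [mul_a, hDa, add_zero, hAa] at ha
      have h3 := indep hm (v.1 - w.1) (v.2.1 - w.2.1) (v.2.2.1 - w.2.2.1) (v.2.2.2 - w.2.2.2) (by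
        simp only [map_sub]
        linear_combination ha)
      obtain ⟨e0, e1, e2, e3⟩ := h3
      exact Prod.ext (sub_eq_zero.1 e0) (Prod.ext (sub_eq_zero.1 e1) (Prod.ext (sub_eq_zero.1 e2) (sub_eq_zero.1 e3)))
    subst hv
    have h4 : D p = D q := mul_left_cancel h1
    have hb := congrArg Heis.b h4
    rw [hDb, hDb] at hb
    obtain ⟨e0, e1⟩ := indep2 hm (p.1 - q.1) (p.2 - q.2) (by
      simp only [map_sub]
      linear_combination hb)
    rw [Prod.ext (sub_eq_zero.1 e0) (sub_eq_zero.1 e1)]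
  have hfin : Finite (SUJ σ) := inferInstance
  have h5 := Nat.card_le_card_of_injective _ hinj
  have h6 : Nat.card ((ZMod 2 × ZMod 2 × ZMod 2 × ZMod 2) × (ZMod 2 × ZMod 2)) = 64 := by
    simp
  rwa [h6] at h5

end heis

/-- **[E]** A double cover of `U₃(4)` has sectional 2-rank at least 5. -/
theorem not_le_four_PSU {F : Type u} [Field F] [Fintype F] (hF : Fintype.card F = 16) {X : Type v} [Group X]
    (e : X ≃* Cfsg.PSU 3 F 4) {Y : Type*} [Group Y] [Finite Y] (f : Y →* X)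
    (hf : Function.Surjective f) (hk : Nat.card f.ker = 2) : ¬ SectionalPRankLE 2 4 Y := by
  have hF' : Nat.card F = (2 ^ 2) ^ 2 := by rw [Nat.card_eq_fintype_card, hF]; norm_num
  obtain ⟨h2, σ, hinv, hs, -, -⟩ := exists_heis_equiv F (show 1 ≤ 2 by norm_num) hF'
  have hs' : ∀ x, σ x = x ^ 4 := by intro x; rw [hs]; norm_num
  have hF4 : Nat.card F = 4 ^ 2 := by rw [hF']; norm_num
  obtain ⟨c, hc⟩ := exists_not_fixed (σ := σ) (by norm_num : 1 < 4) hs' hF4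
  obtain ⟨A, A', hAA', hA⟩ := exists_T hc
  let e1 : SUJ σ ≃* Cfsg.SU 3 F 4 :=
    ((conjT hAA').subgroupMap (SUJ σ)).trans (MulEquiv.subgroupCongr (SU_eq_map hs' hAA' hA))
  have hcen : Subgroup.center (Cfsg.SU 3 F 4) = ⊥ := TwoFusion.U34Sylow.center_eq_bot hF
  let e2 : Cfsg.SU 3 F 4 ≃* Cfsg.PSU 3 F 4 :=
    (QuotientGroup.quotientBot.symm).trans (QuotientGroup.quotientMulEquivOfEq hcen.symm)
  let g : X ≃* SUJ σ := e.trans (e1.trans e2).symm
  obtain ⟨z, z5, z1, -, -⟩ := TwoFusion.U34Sylow.exists_zeta hF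
  have hm : 1 + z + z ^ 2 + z ^ 3 + z ^ 4 = 0 := by
    have h3 : z - 1 ≠ 0 := sub_ne_zero.2 z1
    apply mul_left_cancel₀ h3
    linear_combination z5
  let f' : Y →* SUJ σ := g.toMonoidHom.comp f
  have hf' : Function.Surjective f' := g.surjective.comp hf
  have hk' : Nat.card f'.ker = 2 := by
    have : f'.ker = f.ker := by
      ext y
      rw [MonoidHom.mem_ker, MonoidHom.mem_ker]
      exact g.map_eq_one_iff
    rw [this, hk]
  exact (conf (hs' z) hm).not_le_four f' hf' hk' (card_ge (hs' z) hm)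

/-- **[E]**, in terms of the predicate of `GH/Defs.lean`. -/
theorem not_le_four {X : Type v} [Group X] (hX : Cfsg.Agent.GH.Defs.IsU34 X) {Y : Type*} [Group Y] [Finite Y]
    (f : Y →* X) (hf : Function.Surjective f) (hk : Nat.card f.ker = 2) : ¬ SectionalPRankLE 2 4 Y := by
  obtain ⟨F, _, _, hF, ⟨e⟩⟩ := hX
  exact not_le_four_PSU hF e f hf hk

end Cfsg.Agent.GH.Cov.CutU34
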