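import Mathlib
import Cfsg.Prelude.Def_CaseTheorems
import Cfsg.Agent.Transfer.CentralTransfer
import Cfsg.Agent.TwoFusion.OneClass
import Cfsg.Agent.TwoFusion.SylowTypeTransfer
import Cfsg.Agent.S0105

/-!
# Perfect double covers and transfer (GH-COV, rank cut, part [B])

`f : Y → X` onto with kernel of order 2 (generated by the central involution `c`), `Y` perfect. For a Sylow
2-subgroup `P` of `Y` one has `c ∈ P'` (`mem_commutator`). Consequently the Sylow 2-subgroups of `X` are
not semidihedral (`not_quasiDihedral`), not wreathed (`not_wreathed`) and not elementary abelian of order 8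
(`not_e8`).
-/

set_option autoImplicit false

open Cfsg Subgroup
open scoped commutatorElement

namespace Cfsg.Agent.GH.Cov.Transfer

universe u v

variable {Y : Type u} {X : Type v} [Group Y] [Group X]

/-- `f` is onto with kernel `{1, c}`, `c` a central involution. -/
structure Dbl (f : Y →* X) (c : Y) : Prop where
  surj : Function.Surjective f
  ker : ∀ y, f y = 1 ↔ y = 1 ∨ y = c
  ne : c ≠ 1
  cc : c * c = 1
  comm : ∀ y, y * c = c * y

theorem exists_dbl (f : Y →* X) (hf : Function.Surjective f) (hk : Nat.card f.ker = 2) :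
    ∃ c, Dbl f c := by
  obtain ⟨a, b, hab, hu⟩ := Nat.card_eq_two_iff.1 hk
  obtain ⟨c, hc1, hc⟩ : ∃ c : f.ker, c ≠ 1 ∧ ∀ y : f.ker, y = 1 ∨ y = c := by
    have h1 : (1 : f.ker) ∈ ({a, b} : Set f.ker) := by rw [hu]; trivial
    have hall : ∀ y : f.ker, y = a ∨ y = b := by
      intro y
      have : y ∈ ({a, b} : Set f.ker) := by rw [hu]; trivial
      simpa using this
    rcases (by simpa using h1 : (1 : f.ker) = a ∨ (1 : f.ker) = b) with h | h
    · exact ⟨b, fun hb => hab (h.symm.trans hb.symm), fun y => by rw [h]; exact hall y⟩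
    · exact ⟨a, fun ha => hab (ha.trans h), fun y => by rw [h]; exact (hall y).symm⟩
  have hker : ∀ y : Y, f y = 1 ↔ y = 1 ∨ y = c := by
    intro y
    constructor
    · intro hy
      rcases hc ⟨y, hy⟩ with h | h
      · exact Or.inl (congrArg Subtype.val h)
      · exact Or.inr (congrArg Subtype.val h)
    · rintro (rfl | rfl)
      · exact map_one f
      · exact c.2
  have hc1' : (c : Y) ≠ 1 := fun h => hc1 (Subtype.ext h)
  refine ⟨c, hf, hker, hc1', ?_, ?_⟩
  · rcases (hker ((c : Y) * c)).1 (by rw [map_mul, (hker c).2 (Or.inr rfl), one_mul]) with h | h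
    · exact h
    · exact absurd (mul_eq_left.1 h) hc1'
  · intro y
    rcases (hker (y * c * y⁻¹)).1 (by
      rw [map_mul, map_mul, (hker c).2 (Or.inr rfl), mul_one, map_inv, mul_inv_cancel]) with h | h
    · exact absurd (conj_eq_one_iff.1 h) hc1'
    · exact eq_mul_of_mul_inv_eq h

section gen

variable {G : Type u} [Group G]

/-- Commutator subgroups and generators. -/
theorem commutator_le_of_closure {P N : Subgroup G} {s : Set G} (hP : P ≤ closure s)
    (hN : ∀ g ∈ closure s, ∀ n ∈ N, g * n * g⁻¹ ∈ N) (h : ∀ a ∈ s, ∀ b ∈ s, ⁅a, b⁆ ∈ N) : ⁅P, P⁆ ≤ N := by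
  refine le_trans (commutator_mono hP hP) ?_
  have key : ∀ b, (∀ a ∈ s, ⁅a, b⁆ ∈ N) → ∀ g ∈ closure s, ⁅g, b⁆ ∈ N := by
    intro b hb g hg
    induction hg using closure_induction with
    | mem x hx => exact hb x hx
    | one => rw [commutatorElement_one_left]; exact N.one_mem
    | mul x y hx _ h1 h2 =>
      have e : ⁅x * y, b⁆ = x * ⁅y, b⁆ * x⁻¹ * ⁅x, b⁆ := by
        simp only [commutatorElement_def]; group
      rw [e]
      exact N.mul_mem (hN x hx _ h2) h1
    | inv x hx h1 =>
      have e : ⁅x⁻¹, b⁆ = x⁻¹ * ⁅x, b⁆⁻¹ * x⁻¹⁻¹ := by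
        simp only [commutatorElement_def]; group
      rw [e]
      exact hN _ (inv_mem hx) _ (N.inv_mem h1)
  rw [commutator_le]
  intro g hg k hk
  refine key k (fun a ha => ?_) g hg
  rw [← commutatorElement_inv]
  exact N.inv_mem (key a (fun b hb => h b hb a ha) k hk)

theorem conj_zpowers_le {w y : G} (h : y * w * y⁻¹ ∈ zpowers w) :
    ∀ n ∈ zpowers w, y * n * y⁻¹ ∈ zpowers w := by
  rintro _ ⟨i, rfl⟩
  have e : y * (w ^ i) * y⁻¹ = (y * w * y⁻¹) ^ i := by
    have := map_zpow (MulAut.conj y) w i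
    simpa only [MulAut.conj_apply] using this
  show y * (w ^ i) * y⁻¹ ∈ zpowers w
  rw [e]
  exact zpow_mem h i

theorem conj_closure {N : Subgroup G} [Finite G] {s : Set G}
    (h : ∀ a ∈ s, ∀ n ∈ N, a * n * a⁻¹ ∈ N) : ∀ g ∈ closure s, ∀ n ∈ N, g * n * g⁻¹ ∈ N := by
  intro g hg
  have h1 : closure s ≤ normalizer (N : Set G) := by
    rw [closure_le]
    intro a ha
    have : Finite (N : Set G) := inferInstance
    exact mem_normalizer_fintype (fun n hn => h a ha n hn)
  intro n hn
  exact (mem_normalizer_iff.1 (h1 hg) n).1 hn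

end gen

namespace Dbl

variable {f : Y →* X} {c : Y}

theorem map_c (D : Dbl f c) : f c = 1 := (D.ker c).2 (Or.inr rfl)

theorem c_inv (D : Dbl f c) : c⁻¹ = c := inv_eq_of_mul_eq_one_right D.cc

theorem orderOf_c (D : Dbl f c) : orderOf c = 2 :=
  orderOf_eq_prime (by rw [pow_two, D.cc]) D.ne

theorem mem_center (D : Dbl f c) : c ∈ center Y := mem_center_iff.2 D.comm

theorem eq_or (D : Dbl f c) {a b : Y} (h : f a = f b) : a = b ∨ a = b * c := by
  rcases (D.ker (b⁻¹ * a)).1 (by rw [map_mul, map_inv, h, inv_mul_cancel]) with h1 | h1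
  · exact Or.inl (inv_mul_eq_one.1 h1).symm
  · exact Or.inr (inv_mul_eq_iff_eq_mul.1 h1)

theorem pow_even (D : Dbl f c) {n : ℕ} (hn : Even n) : c ^ n = 1 := by
  obtain ⟨k, rfl⟩ := hn
  rw [← two_mul, pow_mul, pow_two, D.cc, one_pow]

theorem pow_odd (D : Dbl f c) {n : ℕ} (hn : Odd n) : c ^ n = c := by
  obtain ⟨k, rfl⟩ := hn
  rw [pow_add, pow_mul, pow_two, D.cc, one_pow, one_mul, pow_one]

theorem mem_sylow [Finite Y] (D : Dbl f c) (P : Sylow 2 Y) : c ∈ (P : Subgroup Y) := by
  have : Fact (Nat.Prime 2) := ⟨Nat.prime_two⟩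
  have h1 : IsPGroup 2 (zpowers c) :=
    IsPGroup.of_card (n := 1) (by rw [Nat.card_zpowers, D.orderOf_c, pow_one])
  have h2 : (zpowers c).Normal := by
    refine ⟨fun n hn g => ?_⟩
    obtain ⟨i, rfl⟩ := mem_zpowers_iff.1 hn
    have h3 : Commute g (c ^ i) := (show Commute g c from D.comm g).zpow_right i
    rw [h3.eq, mul_inv_cancel_right]
    exact zpow_mem_zpowers c i
  have h3 := P.2.to_sup_of_normal_right h1
  have h4 := P.3 h3 le_sup_left
  exact h4 ▸ mem_sup_right (mem_zpowers c)

/-- Transfer: the central involution lies in the commutator subgroup of a Sylow 2-subgroup. -/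
theorem mem_commutator [Finite Y] (D : Dbl f c) (hperf : commutator Y = ⊤) (P : Sylow 2 Y) :
    c ∈ ⁅(P : Subgroup Y), (P : Subgroup Y)⁆ := by
  have : Fact (Nat.Prime 2) := ⟨Nat.prime_two⟩
  let z : (P : Subgroup Y) := ⟨c, D.mem_sylow P⟩
  have h1 := Cfsg.Agent.Transfer.CentralTransfer.map_pow_index_eq_one_of_perfect hperf
    (Abelianization.of (G := (P : Subgroup Y))) z D.mem_center
  have h2 : (Abelianization.of z) ^ 2 = 1 := by
    rw [← map_pow]
    have : z ^ 2 = 1 := Subtype.ext (by rw [pow_two]; exact D.cc)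
    rw [this, map_one]
  have hodd : Nat.Coprime (P : Subgroup Y).index 2 := by
    rw [Nat.coprime_two_right]
    rw [← Nat.not_even_iff_odd, even_iff_two_dvd]
    exact P.not_dvd_index
  have h3 : Abelianization.of z = 1 := by
    have h4 : orderOf (Abelianization.of z) ∣ 1 := by
      rw [← hodd]
      exact Nat.dvd_gcd (orderOf_dvd_of_pow_eq_one h1) (orderOf_dvd_of_pow_eq_one h2)
    exact orderOf_eq_one_iff.1 (Nat.dvd_one.1 h4)
  have h4 : z ∈ commutator (P : Subgroup Y) := by
    rw [← Abelianization.ker_of]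
    exact h3
  rw [← map_subtype_commutator]
  exact ⟨z, h4, rfl⟩

/-- Lifting generators. -/
theorem le_closure (D : Dbl f c) {P : Subgroup Y} {s : Set Y} (hc : c ∈ closure s)
    (h : ∀ p ∈ P, ∃ q ∈ closure s, f q = f p) : P ≤ closure s := by
  intro p hp
  obtain ⟨q, hq, e⟩ := h p hp
  rcases D.eq_or e with h1 | h1
  · exact h1 ▸ hq
  · have : p = q * c := by rw [h1, mul_assoc, D.cc, mul_one]
    rw [this]
    exact mul_mem hq hc

open Cfsg.Agent.TwoFusion.QDBasic Cfsg.Agent.TwoFusion.WreathedBasic in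
/-- The double cover of a semidihedral group does not have `c` in its commutator subgroup. -/
theorem not_mem_of_qd [Finite Y] (D : Dbl f c) (P : Subgroup Y)
    (hS : Cfsg.IsQuasiDihedral (P.map f)) : c ∉ ⁅P, P⁆ := by
  have : Finite X := Finite.of_surjective f D.surj
  obtain ⟨n, u, y0, h⟩ := exists_qdcoord hS
  have hn := h.three_le
  obtain ⟨x, hxP, hx⟩ := (u 1).2
  obtain ⟨y, hyP, hy⟩ := y0.2
  obtain ⟨m, hm⟩ : ∃ m, m = 2 ^ (n - 2) := ⟨_, rfl⟩
  have hm2 : 2 ∣ m := by
    rw [hm]; exact dvd_pow_self 2 (by omega)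
  have hm1 : 2 ≤ m := by
    rw [hm]
    calc 2 = 2 ^ 1 := rfl
      _ ≤ 2 ^ (n - 2) := Nat.pow_le_pow_right (by norm_num) (by omega)
  have h2n1 : 2 ^ (n - 1) = 2 * m := by
    rw [hm, ← pow_succ']; congr 1; omega
  have h2n : 2 ^ n = 4 * m := by
    rw [hm, show (4 : ℕ) = 2 ^ 2 by norm_num, ← pow_add]; congr 1; omega
  have hcoe : ∀ k : ℕ, ((u 1 : P.map f) : X) ^ k = (u (k : ZMod (2 ^ n)) : P.map f) := by
    intro k
    rw [← h.u_one_pow, Subgroup.coe_pow]
  have hpow1 : ∀ k : ℕ, f (x ^ k) = 1 ↔ 4 * m ∣ k := by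
    intro k
    rw [map_pow, hx, hcoe]
    rw [← h2n, ← natCast_eq_zero_iff, ← h.u_eq_one_iff]
    exact ⟨fun h1 => Subtype.ext h1, fun h1 => congrArg Subtype.val h1⟩
  -- `y` inverts up to the involution
  have hrel : f (y * x * y⁻¹) = f (x ^ (2 * m - 1)) := by
    rw [map_mul, map_mul, map_inv, hy, hx, map_pow, hx, hcoe]
    have e := h.y_conj 1
    rw [mul_one] at e
    have e2 : ((2 * m - 1 : ℕ) : ZMod (2 ^ n)) = (2 : ZMod (2 ^ n)) ^ (n - 1) - 1 := by
      rw [← h2n1, Nat.cast_sub Nat.one_le_two_pow]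
      push_cast
      rfl
    rw [e2, ← e]
    rfl
  obtain ⟨e, he, hyx⟩ : ∃ e : Y, (e = 1 ∨ e = c) ∧ y * x * y⁻¹ = x ^ (2 * m - 1) * e := by
    rcases D.eq_or hrel with h1 | h1
    · exact ⟨1, Or.inl rfl, by rw [h1, mul_one]⟩
    · exact ⟨c, Or.inr rfl, h1⟩
  have hecomm : ∀ a, Commute e a := by
    intro a
    rcases he with rfl | rfl
    · exact Commute.one_left a
    · exact (D.comm a).symm
  have heven : ∀ k, Even k → e ^ k = 1 := by
    intro k hk
    rcases he with rfl | rfl
    · exact one_pow k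
    · exact D.pow_even hk
  have hodd : ∀ k, Odd k → e ^ k = e := by
    intro k hk
    rcases he with rfl | rfl
    · exact one_pow k
    · exact D.pow_odd hk
  have hyy : y * y = 1 ∨ y * y = c := by
    rw [← D.ker, map_mul, hy]
    exact congrArg Subtype.val h.y_y
  have hyyx : y * y * x = x * (y * y) := by
    rcases hyy with h1 | h1
    · rw [h1, mul_one, one_mul]
    · rw [h1, D.comm]
  have hconjpow : ∀ k : ℕ, y * x ^ k * y⁻¹ = x ^ ((2 * m - 1) * k) * e ^ k := by
    intro k
    have e1 : y * x ^ k * y⁻¹ = (y * x * y⁻¹) ^ k := by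
      have := map_pow (MulAut.conj y) x k
      simpa only [MulAut.conj_apply] using this
    rw [e1, hyx, (hecomm _).symm.mul_pow, pow_mul]
  -- the order of `x`
  have hx1 : x ^ (4 * m) = 1 := by
    have e1 : y * (y * x * y⁻¹) * y⁻¹ = x := by
      calc y * (y * x * y⁻¹) * y⁻¹ = (y * y * x) * (y * y)⁻¹ := by group
        _ = x := by rw [hyyx]; group
    have e2 : y * (y * x * y⁻¹) * y⁻¹ = x ^ ((2 * m - 1) * (2 * m - 1)) := by
      rw [hyx]
      calc y * (x ^ (2 * m - 1) * e) * y⁻¹ = (y * x ^ (2 * m - 1) * y⁻¹) * (y * e * y⁻¹) := by group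
        _ = x ^ ((2 * m - 1) * (2 * m - 1)) * (e ^ (2 * m - 1) * e) := by
            rw [hconjpow, ← (hecomm y).eq, mul_inv_cancel_right, mul_assoc]
        _ = x ^ ((2 * m - 1) * (2 * m - 1)) := by
            rw [← pow_succ, heven _ ⟨m, by omega⟩, mul_one]
    have e3 : (2 * m - 1) * (2 * m - 1) = 4 * m * (m - 1) + 1 := by
      obtain ⟨k, rfl⟩ : ∃ k, m = k + 2 := ⟨m - 2, by omega⟩
      have h1 : 2 * (k + 2) - 1 = 2 * k + 3 := by omega
      have h2 : k + 2 - 1 = k + 1 := by omega
      rw [h1, h2]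
      ring
    have e4 : (x ^ (4 * m)) ^ (m - 1) = 1 := by
      rw [e3, pow_succ, pow_mul] at e2
      have := e2.symm.trans e1
      exact mul_eq_right.1 this
    rcases (D.ker (x ^ (4 * m))).1 ((hpow1 _).2 dvd_rfl) with h1 | h1
    · exact h1
    · exfalso
      rw [h1, D.pow_odd] at e4
      · exact D.ne e4
      · obtain ⟨k, rfl⟩ := hm2
        exact ⟨k - 1, by omega⟩
  -- the commutator
  have hw : ⁅y, x⁆ = x ^ (2 * m - 2) * e := by
    rw [commutatorElement_def, hyx, mul_assoc, (hecomm _).eq, ← mul_assoc]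
    congr 1
    rw [mul_inv_eq_iff_eq_mul, ← pow_succ]
    congr 1
    omega
  have hxw : x * ⁅y, x⁆ * x⁻¹ = ⁅y, x⁆ := by
    rw [hw, ← mul_assoc, ← pow_succ', mul_assoc, (hecomm _).eq, ← mul_assoc, pow_succ,
      mul_inv_cancel_right]
  have hyw : y * ⁅y, x⁆ * y⁻¹ = ⁅y, x⁆ ^ (2 * m - 1) := by
    rw [hw, (hecomm _).symm.mul_pow, hodd (2 * m - 1) ⟨m - 1, by omega⟩, ← pow_mul]
    calc y * (x ^ (2 * m - 2) * e) * y⁻¹ = (y * x ^ (2 * m - 2) * y⁻¹) * (y * e * y⁻¹) := by group
      _ = x ^ ((2 * m - 2) * (2 * m - 1)) * e := by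
          rw [hconjpow, ← (hecomm y).eq, mul_inv_cancel_right, heven _ ⟨m - 1, by omega⟩, mul_one,
            mul_comm (2 * m - 1)]
  have hle : ⁅P, P⁆ ≤ zpowers ⁅y, x⁆ := by
    refine commutator_le_of_closure (s := {x, y, c}) ?_ ?_ ?_
    · refine D.le_closure (subset_closure (by simp)) ?_
      intro p hp
      have hxm : x ∈ closure {x, y, c} := subset_closure (by simp)
      have hym : y ∈ closure {x, y, c} := subset_closure (by simp)
      rcases h.cases ⟨f p, p, hp, rfl⟩ with ⟨a, ha⟩ | ⟨a, ha⟩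
      · refine ⟨x ^ a.val, pow_mem hxm _, ?_⟩
        have := congrArg Subtype.val ha
        rw [h.u_eq_pow] at this
        rw [map_pow, hx]
        exact this.symm
      · refine ⟨x ^ a.val * y, mul_mem (pow_mem hxm _) hym, ?_⟩
        have := congrArg Subtype.val ha
        rw [h.u_eq_pow] at this
        rw [map_mul, map_pow, hx, hy]
        exact this.symm
    · refine conj_closure ?_
      intro a ha
      simp only [Set.mem_insert_iff, Set.mem_singleton_iff] at ha
      rcases ha with rfl | rfl | rfl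
      · exact conj_zpowers_le (by rw [hxw]; exact mem_zpowers _)
      · exact conj_zpowers_le (by rw [hyw]; exact npow_mem_zpowers _ _)
      · exact conj_zpowers_le (by
          rw [← D.comm, mul_inv_cancel_right]; exact mem_zpowers _)
    · have hcc : ∀ b : Y, ⁅b, c⁆ = 1 := fun b =>
        commutatorElement_eq_one_iff_mul_comm.2 (D.comm b)
      have hcc' : ∀ b : Y, ⁅c, b⁆ = 1 := fun b =>
        commutatorElement_eq_one_iff_mul_comm.2 (D.comm b).symm
      intro a ha b hb
      simp only [Set.mem_insert_iff, Set.mem_singleton_iff] at ha hb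
      rcases ha with ha | ha | ha <;> rcases hb with hb | hb | hb <;> rw [ha, hb]
      · rw [commutatorElement_self]; exact one_mem _
      · rw [← commutatorElement_inv y x]
        exact (zpowers ⁅y, x⁆).inv_mem (mem_zpowers ⁅y, x⁆)
      · rw [hcc]; exact one_mem _
      · exact mem_zpowers _
      · rw [commutatorElement_self]; exact one_mem _
      · rw [hcc]; exact one_mem _
      · rw [hcc']; exact one_mem _
      · rw [hcc']; exact one_mem _
      · rw [commutatorElement_self]; exact one_mem _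
  intro hc
  obtain ⟨j, hj⟩ := (mem_powers_iff_mem_zpowers.2 (hle hc))
  have hj : ⁅y, x⁆ ^ j = c := hj
  rw [hw, (hecomm _).symm.mul_pow, ← pow_mul] at hj
  have h1 : f (x ^ ((2 * m - 2) * j)) = 1 := by
    have h2 := congrArg f hj
    rw [map_mul, D.map_c] at h2
    have h3 : f (e ^ j) = 1 := by
      rw [map_pow]
      rcases he with rfl | rfl
      · rw [map_one, one_pow]
      · rw [D.map_c, one_pow]
    rwa [h3, mul_one] at h2
  rw [hpow1] at h1
  have h2 : 2 * m ∣ j := by
    have h3 : 2 * (2 * m) ∣ 2 * ((m - 1) * j) := by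
      have e1 : 2 * (2 * m) = 4 * m := by ring
      have e2 : 2 * ((m - 1) * j) = (2 * m - 2) * j := by
        obtain ⟨k, rfl⟩ : ∃ k, m = k + 1 := ⟨m - 1, by omega⟩
        have : 2 * (k + 1) - 2 = 2 * k := by omega
        rw [this, Nat.add_sub_cancel]
        ring
      rw [e1, e2]
      exact h1
    have h4 := Nat.dvd_of_mul_dvd_mul_left (by norm_num : 0 < 2) h3
    refine Nat.Coprime.dvd_of_dvd_mul_left ?_ h4
    rw [← h2n1]
    refine Nat.Coprime.pow_left _ ?_
    rw [Nat.coprime_two_left]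
    obtain ⟨k, rfl⟩ := hm2
    exact ⟨k - 1, by omega⟩
  obtain ⟨i, rfl⟩ := h2
  have e1 : (2 * m - 2) * (2 * m * i) = 4 * m * ((m - 1) * i) := by
    obtain ⟨k, rfl⟩ : ∃ k, m = k + 1 := ⟨m - 1, by omega⟩
    have : 2 * (k + 1) - 2 = 2 * k := by omega
    rw [this, Nat.add_sub_cancel]
    ring
  rw [e1, pow_mul, hx1, one_pow, one_mul, heven _ ⟨m * i, by ring⟩] at hj
  exact D.ne hj.symm

/-- Commutators of a group generated by two elements and `c`. -/
theorem commutator_le_zpowers [Finite Y] (D : Dbl f c) {P : Subgroup Y} {x y : Y}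
    (hP : P ≤ closure {x, y, c}) (hx : x * ⁅y, x⁆ * x⁻¹ ∈ zpowers ⁅y, x⁆)
    (hy : y * ⁅y, x⁆ * y⁻¹ ∈ zpowers ⁅y, x⁆) : ⁅P, P⁆ ≤ zpowers ⁅y, x⁆ := by
  refine commutator_le_of_closure hP ?_ ?_
  · refine conj_closure ?_
    intro a ha
    simp only [Set.mem_insert_iff, Set.mem_singleton_iff] at ha
    rcases ha with ha | ha | ha <;> rw [ha]
    · exact conj_zpowers_le hx
    · exact conj_zpowers_le hy
    · exact conj_zpowers_le (by rw [← D.comm, mul_inv_cancel_right]; exact mem_zpowers _)
  · have hcc : ∀ b : Y, ⁅b, c⁆ = 1 := fun b =>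
      commutatorElement_eq_one_iff_mul_comm.2 (D.comm b)
    have hcc' : ∀ b : Y, ⁅c, b⁆ = 1 := fun b =>
      commutatorElement_eq_one_iff_mul_comm.2 (D.comm b).symm
    intro a ha b hb
    simp only [Set.mem_insert_iff, Set.mem_singleton_iff] at ha hb
    rcases ha with ha | ha | ha <;> rcases hb with hb | hb | hb <;> rw [ha, hb]
    · rw [commutatorElement_self]; exact one_mem _
    · rw [← commutatorElement_inv y x]
      exact (zpowers ⁅y, x⁆).inv_mem (mem_zpowers ⁅y, x⁆)
    · rw [hcc]; exact one_mem _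
    · exact mem_zpowers _
    · rw [commutatorElement_self]; exact one_mem _
    · rw [hcc]; exact one_mem _
    · rw [hcc']; exact one_mem _
    · rw [hcc']; exact one_mem _
    · rw [commutatorElement_self]; exact one_mem _

/-- If the Sylow 2-subgroup centralizes `z`, then `z` and `z c` are not conjugate. -/
theorem not_conj_mul [Finite Y] (D : Dbl f c) (P : Sylow 2 Y) {z : Y}
    (hz : ∀ p ∈ (P : Subgroup Y), p * z = z * p) (g : Y) (hg : g * z * g⁻¹ = z * c) : False := by
  have : Fact (Nat.Prime 2) := ⟨Nat.prime_two⟩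
  let K : Subgroup Y := centralizer {z}
  have hK : ∀ y, y ∈ K ↔ y * z * y⁻¹ = z := by
    intro y
    rw [mul_inv_eq_iff_eq_mul]
    exact mem_centralizer_singleton_iff
  have hconjc : ∀ y, y * (z * c) * y⁻¹ = (y * z * y⁻¹) * c := by
    intro y
    rw [mul_assoc (y * z) y⁻¹ c, D.comm y⁻¹]
    group
  let M : Subgroup Y :=
    { carrier := {y | y * z * y⁻¹ = z ∨ y * z * y⁻¹ = z * c}
      one_mem' := Or.inl (by group)
      mul_mem' := by
        intro a b ha hb
        have e : a * b * z * (a * b)⁻¹ = a * (b * z * b⁻¹) * a⁻¹ := by group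
        show a * b * z * (a * b)⁻¹ = z ∨ a * b * z * (a * b)⁻¹ = z * c
        rw [e]
        rcases hb with hb | hb <;> rw [hb]
        · exact ha
        · rw [hconjc]
          rcases ha with ha | ha <;> rw [ha]
          · exact Or.inr rfl
          · exact Or.inl (by rw [mul_assoc, D.cc, mul_one])
      inv_mem' := by
        intro a ha
        show a⁻¹ * z * a⁻¹⁻¹ = z ∨ a⁻¹ * z * a⁻¹⁻¹ = z * c
        rcases ha with ha | ha
        · left
          rw [inv_inv]
          conv_lhs => rw [← ha]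
          group
        · right
          have e : z = (a * z * a⁻¹) * c := by rw [ha, mul_assoc, D.cc, mul_one]
          have e2 : a⁻¹ * z * a⁻¹⁻¹ = z * (a⁻¹ * c * a) := by
            conv_lhs => rw [e]
            group
          rw [e2, D.comm, inv_mul_cancel_right] }
  have hM : ∀ y, y ∈ M ↔ (y * z * y⁻¹ = z ∨ y * z * y⁻¹ = z * c) := fun y => Iff.rfl
  have hKM : K ≤ M := fun y hy => Or.inl ((hK y).1 hy)
  have hrel : K.relIndex M = 2 := by
    rw [relIndex_eq_two_iff]
    refine ⟨g, Or.inr hg, fun b hb => ?_⟩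
    have e : b * g * z * (b * g)⁻¹ = (b * z * b⁻¹) * c := by
      rw [← hconjc, ← hg]; group
    have hne : z ≠ z * c := fun h => D.ne (mul_eq_left.1 h.symm)
    rw [hK, hK, e]
    rcases (hM b).1 hb with h1 | h1
    · rw [h1]
      exact Or.inr ⟨rfl, fun h => hne h.symm⟩
    · rw [h1, mul_assoc, D.cc, mul_one]
      exact Or.inl ⟨rfl, fun h => hne h.symm⟩
  have h2 : 2 ∣ K.index := by
    rw [← relIndex_mul_index hKM, hrel]
    exact dvd_mul_right _ _
  have hPK : (P : Subgroup Y) ≤ K := by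
    intro p hp
    rw [hK, hz p hp]; group
  exact P.not_dvd_index (h2.trans (index_dvd_of_le hPK))

open Cfsg.Agent.TwoFusion.QDBasic Cfsg.Agent.TwoFusion.WreathedBasic in
/-- No perfect double cover of a group with wreathed Sylow 2-subgroups. -/
theorem not_wreathed [Finite Y] (D : Dbl f c) (hperf : commutator Y = ⊤) (P : Sylow 2 Y)
    (hS : Cfsg.IsWreathed ((P : Subgroup Y).map f))
    (hone : ∀ a b : X, orderOf a = 2 → orderOf b = 2 → IsConj a b) : False := by
  have : Finite X := Finite.of_surjective f D.surj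
  obtain ⟨n, u, z0, h⟩ := exists_wcoord hS
  have hn := h.two_le
  obtain ⟨a, haP, ha⟩ := (u 1 0).2
  obtain ⟨t, htP, ht⟩ := z0.2
  obtain ⟨b, hb⟩ : ∃ b, b = t * a * t⁻¹ := ⟨_, rfl⟩
  have hfb : f b = (u 0 1 : (P : Subgroup Y).map f) := by
    rw [hb, map_mul, map_mul, map_inv, ht, ha]
    exact congrArg Subtype.val (h.z_conj_u 1 0)
  have hbP : b ∈ (P : Subgroup Y) := by
    rw [hb]; exact mul_mem (mul_mem htP haP) (inv_mem htP)
  have hcomm1 : ∀ k, f k = 1 → ∀ y, k * y = y * k := by
    intro k hk y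
    rcases (D.ker k).1 hk with rfl | rfl
    · rw [one_mul, mul_one]
    · exact (D.comm y).symm
  have htt : f (t * t) = 1 := by
    rw [map_mul, ht]
    exact congrArg Subtype.val h.z_z
  have htb : t * b * t⁻¹ = a := by
    rw [hb]
    calc t * (t * a * t⁻¹) * t⁻¹ = (t * t * a) * (t * t)⁻¹ := by group
      _ = a := by rw [hcomm1 _ htt]; group
  have hcoe : ∀ k : ℕ, ((u 1 0 : (P : Subgroup Y).map f) : X) ^ k =
      (u (k : ZMod (2 ^ n)) 0 : (P : Subgroup Y).map f) := by
    intro k
    rw [← Subgroup.coe_pow, h.u_pow, mul_one, mul_zero]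
  have hcoe' : ∀ k : ℕ, ((u 0 1 : (P : Subgroup Y).map f) : X) ^ k =
      (u 0 (k : ZMod (2 ^ n)) : (P : Subgroup Y).map f) := by
    intro k
    rw [← Subgroup.coe_pow, h.u_pow, mul_one, mul_zero]
  have hab : f (a * b) = f (b * a) := by
    rw [map_mul, map_mul, ha, hfb]
    exact congrArg Subtype.val (h.u_comm 1 0 0 1)
  rcases D.eq_or hab with hab | hab
  · -- the base lifts to a commutative group
    have hcab : Commute b a⁻¹ := (show Commute b a from hab.symm).inv_right
    have hw : ⁅t, a⁆ = b * a⁻¹ := by rw [commutatorElement_def, hb]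
    have hle : ⁅(P : Subgroup Y), (P : Subgroup Y)⁆ ≤ zpowers ⁅t, a⁆ := by
      refine D.commutator_le_zpowers ?_ ?_ ?_
      · have ham : a ∈ closure {a, t, c} := subset_closure (by simp)
        have htm : t ∈ closure {a, t, c} := subset_closure (by simp)
        have hbm : b ∈ closure {a, t, c} := by
          rw [hb]; exact mul_mem (mul_mem htm ham) (inv_mem htm)
        have hu : ∀ i j : ZMod (2 ^ n), f (a ^ i.val * b ^ j.val) =
            (u i j : (P : Subgroup Y).map f) := by
          intro i j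
          rw [map_mul, map_pow, map_pow, ha, hfb, hcoe, hcoe', ZMod.natCast_zmod_val,
            ZMod.natCast_zmod_val, ← Subgroup.coe_mul, h.u_mul, add_zero, zero_add]
        refine D.le_closure (subset_closure (by simp)) ?_
        intro p hp
        rcases h.cases ⟨f p, p, hp, rfl⟩ with ⟨i, j, hij⟩ | ⟨i, j, hij⟩
        · exact ⟨a ^ i.val * b ^ j.val, mul_mem (pow_mem ham _) (pow_mem hbm _),
            (hu i j).trans (congrArg Subtype.val hij).symm⟩
        · refine ⟨a ^ i.val * b ^ j.val * t, mul_mem (mul_mem (pow_mem ham _) (pow_mem hbm _)) htm,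
            ?_⟩
          rw [map_mul, hu, ht]
          exact (congrArg Subtype.val hij).symm
      · rw [hw]
        have : a * (b * a⁻¹) * a⁻¹ = b * a⁻¹ := by
          rw [← mul_assoc, hab, mul_assoc b a, mul_inv_cancel, mul_one]
        rw [this]
        exact mem_zpowers _
      · rw [hw]
        have : t * (b * a⁻¹) * t⁻¹ = (b * a⁻¹)⁻¹ := by
          calc t * (b * a⁻¹) * t⁻¹ = (t * b * t⁻¹) * (t * a * t⁻¹)⁻¹ := by group
            _ = (b * a⁻¹)⁻¹ := by rw [htb, ← hb]; group
        rw [this]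
        exact (zpowers (b * a⁻¹)).inv_mem (mem_zpowers (b * a⁻¹))
    obtain ⟨j, hj⟩ := (mem_powers_iff_mem_zpowers.2 (hle (D.mem_commutator hperf P)))
    have hj : ⁅t, a⁆ ^ j = c := hj
    rw [hw, hcab.mul_pow] at hj
    have h1 : ((u 0 1 : (P : Subgroup Y).map f) : X) ^ j =
        ((u 1 0 : (P : Subgroup Y).map f) : X) ^ j := by
      have h2 := congrArg f hj
      rw [D.map_c, inv_pow, map_mul, map_inv, map_pow, map_pow, ha, hfb, mul_inv_eq_one] at h2
      exact h2
    rw [hcoe, hcoe'] at h1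
    have h2 := (h.u_inj _ _ _ _ (Subtype.ext h1)).2
    rw [natCast_eq_zero_iff] at h2
    have h3 : f (a ^ 2 ^ n) = 1 := by
      rw [map_pow, ha, hcoe, (natCast_eq_zero_iff n (2 ^ n)).2 dvd_rfl]
      exact congrArg Subtype.val h.u_zero
    have h4 : b ^ 2 ^ n = a ^ 2 ^ n := by
      have e1 : b ^ 2 ^ n = t * a ^ 2 ^ n * t⁻¹ := by
        have := map_pow (MulAut.conj t) a (2 ^ n)
        simp only [MulAut.conj_apply] at this
        rw [this, ← hb]
      rw [e1, ← hcomm1 _ h3 t, mul_inv_cancel_right]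
    obtain ⟨i, rfl⟩ := h2
    rw [inv_pow, pow_mul, pow_mul, h4, mul_inv_cancel] at hj
    exact D.ne hj.symm
  · -- `[a, b] = c`
    obtain ⟨m, hm⟩ : ∃ m, m = 2 ^ (n - 1) := ⟨_, rfl⟩
    have hme : Even m := by
      rw [hm, even_iff_two_dvd]
      exact dvd_pow_self 2 (by omega)
    have hba : b * a = a * b * c := by rw [hab, mul_assoc, D.cc, mul_one]
    obtain ⟨z, hz⟩ : ∃ z, z = (a * b) ^ m := ⟨_, rfl⟩
    have hzc : (a * b * c) ^ m = z := by
      rw [(show Commute (a * b) c from D.comm _).mul_pow, D.pow_even hme, mul_one, hz]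
    have hconj : ∀ y, y * (a * b) * y⁻¹ = a * b * c ∨ y * (a * b) * y⁻¹ = a * b → y * z = z * y := by
      intro y hy
      have e1 : y * z * y⁻¹ = (y * (a * b) * y⁻¹) ^ m := by
        rw [hz]
        have := map_pow (MulAut.conj y) (a * b) m
        simpa only [MulAut.conj_apply] using this
      rw [← mul_inv_eq_iff_eq_mul, e1]
      rcases hy with hy | hy
      · rw [hy, hzc]
      · rw [hy, hz]
    have hza : a * z = z * a := hconj a (Or.inl (by
      calc a * (a * b) * a⁻¹ = a * (b * a * c) * a⁻¹ := by rw [hab]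
        _ = a * b * (a * c * a⁻¹) := by group
        _ = a * b * c := by rw [D.comm a, mul_inv_cancel_right]))
    have hzt : t * z = z * t := hconj t (Or.inl (by
      calc t * (a * b) * t⁻¹ = (t * a * t⁻¹) * (t * b * t⁻¹) := by group
        _ = a * b * c := by rw [← hb, htb, hba]))
    have hzP : ∀ p ∈ (P : Subgroup Y), p * z = z * p := by
      have hle : (P : Subgroup Y) ≤ closure {a, t, c} := by
        have ham : a ∈ closure {a, t, c} := subset_closure (by simp)
        have htm : t ∈ closure {a, t, c} := subset_closure (by simp)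
        have hbm : b ∈ closure {a, t, c} := by
          rw [hb]; exact mul_mem (mul_mem htm ham) (inv_mem htm)
        have hu : ∀ i j : ZMod (2 ^ n), f (a ^ i.val * b ^ j.val) =
            (u i j : (P : Subgroup Y).map f) := by
          intro i j
          rw [map_mul, map_pow, map_pow, ha, hfb, hcoe, hcoe', ZMod.natCast_zmod_val,
            ZMod.natCast_zmod_val, ← Subgroup.coe_mul, h.u_mul, add_zero, zero_add]
        refine D.le_closure (subset_closure (by simp)) ?_
        intro p hp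
        rcases h.cases ⟨f p, p, hp, rfl⟩ with ⟨i, j, hij⟩ | ⟨i, j, hij⟩
        · exact ⟨a ^ i.val * b ^ j.val, mul_mem (pow_mem ham _) (pow_mem hbm _),
            (hu i j).trans (congrArg Subtype.val hij).symm⟩
        · refine ⟨a ^ i.val * b ^ j.val * t, mul_mem (mul_mem (pow_mem ham _) (pow_mem hbm _)) htm,
            ?_⟩
          rw [map_mul, hu, ht]
          exact (congrArg Subtype.val hij).symm
      have h2 : closure {a, t, c} ≤ centralizer {z} := by
        rw [closure_le]
        intro y hy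
        simp only [Set.mem_insert_iff, Set.mem_singleton_iff] at hy
        rw [SetLike.mem_coe, mem_centralizer_singleton_iff]
        rcases hy with rfl | rfl | rfl
        · exact hza
        · exact hzt
        · exact (D.comm z).symm
      intro p hp
      exact mem_centralizer_singleton_iff.1 (h2 (hle hp))
    -- `t` and `t c` are conjugate
    have htc : (a * b) * t * (a * b)⁻¹ = t * c := by
      have e1 : t⁻¹ * (a * b) * t = b * a := by
        have e2 : t * (b * a) * t⁻¹ = a * b := by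
          calc t * (b * a) * t⁻¹ = (t * b * t⁻¹) * (t * a * t⁻¹) := by group
            _ = a * b := by rw [htb, ← hb]
        rw [← e2]; group
      calc (a * b) * t * (a * b)⁻¹ = t * (t⁻¹ * (a * b) * t) * (a * b)⁻¹ := by group
        _ = t * ((a * b) * c * (a * b)⁻¹) := by rw [e1, hba]; group
        _ = t * c := by rw [D.comm, mul_inv_cancel_right]
    -- fusion
    have hfz : f z = (u m m : (P : Subgroup Y).map f) := by
      rw [hz, map_pow, map_mul, ha, hfb, ← Subgroup.coe_mul, h.u_mul, add_zero, zero_add,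
        ← Subgroup.coe_pow, h.u_pow, mul_one]
    have ho1 : orderOf (f z) = 2 := by
      rw [hfz, Subgroup.orderOf_coe]
      have e1 : ((m : ℕ) : ZMod (2 ^ n)) = 2 ^ (n - 1) := by rw [hm]; push_cast; rfl
      rw [e1]
      exact (h.orderOf_u_eq_two_iff _ _).2 (Or.inr (Or.inr ⟨rfl, rfl⟩))
    have ho2 : orderOf (f t) = 2 := by
      rw [ht, Subgroup.orderOf_coe]
      exact h.orderOf_z
    obtain ⟨g', hg'⟩ := isConj_iff.1 (hone _ _ ho1 ho2)
    obtain ⟨g, rfl⟩ := D.surj g'
    rw [← map_inv, ← map_mul, ← map_mul] at hg'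
    -- in both cases `z` is conjugate to `z c`
    have hfin : ∃ k, k * (g * z * g⁻¹) * k⁻¹ = (g * z * g⁻¹) * c := by
      refine ⟨a * b, ?_⟩
      rcases D.eq_or hg' with e | e
      · rw [e, htc]
      · rw [e]
        calc a * b * (t * c) * (a * b)⁻¹ = (a * b) * t * (c * (a * b)⁻¹) := by group
          _ = ((a * b) * t * (a * b)⁻¹) * c := by rw [← D.comm (a * b)⁻¹]; group
          _ = t * c * c := by rw [htc]
    obtain ⟨k, hk⟩ := hfin
    refine D.not_conj_mul P hzP (g⁻¹ * k * g) ?_
    calc g⁻¹ * k * g * z * (g⁻¹ * k * g)⁻¹ = g⁻¹ * (k * (g * z * g⁻¹) * k⁻¹) * g := by group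
      _ = z * (g⁻¹ * c * g) := by rw [hk]; group
      _ = z * c := by rw [D.comm, inv_mul_cancel_right]

/-- The preimage of the image of a Sylow 2-subgroup. -/
theorem mem_of_map_mem [Finite Y] (D : Dbl f c) (P : Sylow 2 Y) {y : Y}
    (h : f y ∈ (P : Subgroup Y).map f) : y ∈ (P : Subgroup Y) := by
  obtain ⟨p, hp, e⟩ := h
  rcases D.eq_or e with h1 | h1
  · exact h1 ▸ hp
  · have : y = p * c := by rw [h1, mul_assoc, D.cc, mul_one]
    rw [this]
    exact mul_mem hp (D.mem_sylow P)

theorem perfect (D : Dbl f c) (hperf : commutator Y = ⊤) : commutator X = ⊤ := by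
  have h1 := map_commutator (⊤ : Subgroup Y) ⊤ f
  rw [← _root_.commutator_def, hperf] at h1
  rw [_root_.commutator_def, ← MonoidHom.range_eq_top.2 D.surj, MonoidHom.range_eq_map]
  exact h1.symm

/-- In a perfect group with commutative Sylow `p`-subgroup `S`: no element of `S` is fixed by the
normalizer of `S`. -/
theorem eq_one_of_abelian_sylow {G : Type*} [Group G] [Finite G] (hperf : commutator G = ⊤)
    (S : Sylow 2 G) (hS : IsMulCommutative S) {z : G} (hz : z ∈ (S : Subgroup G))
    (hn : ∀ g ∈ normalizer ((S : Subgroup G) : Set G), g * z = z * g) : z = 1 := by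
  have : Fact (Nat.Prime 2) := ⟨Nat.prime_two⟩
  obtain ⟨N, hN, ⟨e⟩⟩ := Cfsg.Agent.S0105.result S hS
  have hsub : IsMulCommutative (G ⧸ N) := by
    refine ⟨⟨fun a b => e.injective ?_⟩⟩
    rw [map_mul, map_mul]
    apply Subtype.ext
    have ha := (e a).2.1
    have hb := (e b).2.1
    have h0 := hS.is_comm.comm (⟨_, ha⟩ : (S : Subgroup G)) ⟨_, hb⟩
    exact congrArg (fun t : (S : Subgroup G) => (t : G)) h0
  have h1 : N = ⊤ := by
    rw [eq_top_iff, ← hperf, _root_.commutator_def, commutator_le]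
    intro a _ b _
    rw [← QuotientGroup.eq_one_iff]
    have : (QuotientGroup.mk ⁅a, b⁆ : G ⧸ N) = ⁅(QuotientGroup.mk a : G ⧸ N), QuotientGroup.mk b⁆ := rfl
    rw [this]
    exact commutatorElement_eq_one_iff_mul_comm.2 (hsub.is_comm.comm _ _)
  have h2 : ∀ a b : G ⧸ N, a = b := by
    intro a b
    obtain ⟨a, rfl⟩ := QuotientGroup.mk_surjective a
    obtain ⟨b, rfl⟩ := QuotientGroup.mk_surjective b
    rw [QuotientGroup.eq, h1]
    exact mem_top _
  have hzm : z ∈ ((S : Subgroup G) ⊓ centralizer (normalizer ((S : Subgroup G) : Set G) : Set G) :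
      Subgroup G) := ⟨hz, mem_centralizer_iff.2 fun g hg => hn g hg⟩
  have h3 : (⟨z, hzm⟩ : ((S : Subgroup G) ⊓ centralizer (normalizer ((S : Subgroup G) : Set G) :
      Set G) : Subgroup G)) = 1 := by
    apply e.symm.injective
    exact h2 _ _
  exact congrArg Subtype.val h3

/-- No perfect double cover of a group with elementary abelian Sylow 2-subgroups of order 8. -/
theorem not_e8 [Finite Y] (D : Dbl f c) (hperf : commutator Y = ⊤) (P : Sylow 2 Y)
    (hcard : Nat.card ((P : Subgroup Y).map f) = 8)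
    (hel : ∀ s ∈ (P : Subgroup Y).map f, s * s = 1) : False := by
  have : Finite X := Finite.of_surjective f D.surj
  have : Fact (Nat.Prime 2) := ⟨Nat.prime_two⟩
  have hinv : ∀ a ∈ (P : Subgroup Y).map f, a⁻¹ = a := fun a ha =>
    inv_eq_of_mul_eq_one_right (hel a ha)
  have hcomm : ∀ a ∈ (P : Subgroup Y).map f, ∀ b ∈ (P : Subgroup Y).map f, a * b = b * a := by
    intro a ha b hb
    rw [← hinv _ (mul_mem ha hb), mul_inv_rev, hinv a ha, hinv b hb]
  have hm : ∀ p ∈ (P : Subgroup Y), f p ∈ (P : Subgroup Y).map f := fun p hp => mem_map_of_mem f hp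
  -- commutation is defined up to `c`
  have hcc : ∀ p ∈ (P : Subgroup Y), ∀ q ∈ (P : Subgroup Y), p * q = q * p ∨ p * q = q * p * c := by
    intro p hp q hq
    refine D.eq_or ?_
    rw [map_mul, map_mul]
    exact hcomm _ (hm p hp) _ (hm q hq)
  -- noncommuting elements
  obtain ⟨p, hp, q, hq, hpq⟩ : ∃ p ∈ (P : Subgroup Y), ∃ q ∈ (P : Subgroup Y), p * q = q * p * c := by
    by_contra hcon
    push Not at hcon
    have h1 : ⁅(P : Subgroup Y), (P : Subgroup Y)⁆ ≤ ⊥ := by
      rw [commutator_le]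
      intro a ha b hb
      rw [mem_bot]
      exact commutatorElement_eq_one_iff_mul_comm.2 ((hcc a ha b hb).resolve_right (hcon a ha b hb))
    exact D.ne ((mem_bot).1 (h1 (D.mem_commutator hperf P)))
  have hqp : q * p = p * q * c := by rw [hpq, mul_assoc, D.cc, mul_one]
  -- adjusting an element to commute with `q`
  have adj : ∀ s t x, s * x = x * s * c → t * x = x * t * c → (s * t) * x = x * (s * t) := by
    intro s t x h1 h2
    calc s * t * x = s * (t * x) := by group
      _ = (s * x) * t * c := by rw [h2]; group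
      _ = x * s * (c * t) * c := by rw [h1]; group
      _ = x * s * (t * c) * c := by rw [D.comm t]
      _ = x * (s * t) * (c * c) := by group
      _ = x * (s * t) := by rw [D.cc, mul_one]
  have comm_mul : ∀ s t x : Y, s * x = x * s → t * x = x * t → (s * t) * x = x * (s * t) := by
    intro s t x h1 h2
    rw [mul_assoc, h2, ← mul_assoc, h1, mul_assoc]
  have hdec : ∀ s ∈ (P : Subgroup Y), ∃ r ∈ (P : Subgroup Y), r * p = p * r ∧ r * q = q * r ∧
      ∃ k ∈ ({1, q, p, q * p} : Set Y), s * k = r := by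
    intro s hs
    -- first step: commute with `p`
    obtain ⟨s1, hs1, h1p, k1, hk1, e1⟩ : ∃ s1 ∈ (P : Subgroup Y), s1 * p = p * s1 ∧
        ∃ k1, (k1 = 1 ∨ k1 = q) ∧ s * k1 = s1 := by
      rcases hcc s hs p hp with h | h
      · exact ⟨s, hs, h, 1, Or.inl rfl, mul_one s⟩
      · exact ⟨s * q, mul_mem hs hq, adj s q p h hqp, q, Or.inr rfl, rfl⟩
    rcases hcc s1 hs1 q hq with h | h
    · refine ⟨s1, hs1, h1p, h, k1, ?_, e1⟩
      rcases hk1 with rfl | rfl <;> simp
    · refine ⟨s1 * p, mul_mem hs1 hp, comm_mul s1 p p h1p rfl, adj s1 p q h hpq, k1 * p, ?_, ?_⟩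
      · rcases hk1 with rfl | rfl <;> simp
      · rw [← mul_assoc, e1]
  -- the subgroups `Cq ≥ Cpq`
  let C1 : Subgroup Y := (P : Subgroup Y) ⊓ centralizer {p}
  let C2 : Subgroup Y := C1 ⊓ centralizer {q}
  have hC1 : ∀ s, s ∈ C1 ↔ s ∈ (P : Subgroup Y) ∧ s * p = p * s := fun s => by
    rw [mem_inf, mem_centralizer_singleton_iff]
  have hC2 : ∀ s, s ∈ C2 ↔ (s ∈ (P : Subgroup Y) ∧ s * p = p * s) ∧ s * q = q * s := fun s => by
    rw [mem_inf, hC1, mem_centralizer_singleton_iff]
  have lag : ∀ (H K : Subgroup X), H ≤ K → ∀ x ∈ K, x ∉ H → 2 * Nat.card H ≤ Nat.card K := by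
    intro H K hHK x hx hxH
    have h1 := relIndex_mul_relIndex (⊥ : Subgroup X) H K bot_le hHK
    rw [relIndex_bot_left, relIndex_bot_left] at h1
    have h2 : H.relIndex K ≠ 1 := fun h => hxH ((relIndex_eq_one.1 h) hx)
    have h3 : H.relIndex K ≠ 0 := by
      intro h
      rw [h, mul_zero] at h1
      exact absurd h1.symm (Nat.card_pos (α := K)).ne'
    have h4 : 2 ≤ H.relIndex K := by omega
    calc 2 * Nat.card H = Nat.card H * 2 := mul_comm _ _
      _ ≤ Nat.card H * H.relIndex K := Nat.mul_le_mul_left _ h4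
      _ = Nat.card K := h1
  have hcx : ∀ s x : Y, s * x = x * s → (s * c) * x = x * (s * c) := by
    intro s x h
    rw [mul_assoc, ← D.comm x, ← mul_assoc, h, mul_assoc]
  have hC1S : C1.map f ≤ (P : Subgroup Y).map f := map_mono inf_le_left
  have hC21 : C2.map f ≤ C1.map f := map_mono inf_le_left
  have hqC1 : f q ∉ C1.map f := by
    rintro ⟨s, hs, e⟩
    have hs' := ((hC1 s).1 hs).2
    have : q * p = p * q := by
      rcases D.eq_or e with h | h
      · rw [← h]; exact hs'
      · have h2 : q = s * c := by rw [h, mul_assoc, D.cc, mul_one]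
        rw [h2]
        exact hcx _ _ hs'
    rw [hqp] at this
    exact D.ne (mul_eq_left.1 this)
  have hpC2 : f p ∉ C2.map f := by
    rintro ⟨s, hs, e⟩
    have hs' := ((hC2 s).1 hs).2
    have : p * q = q * p := by
      rcases D.eq_or e with h | h
      · rw [← h]; exact hs'
      · have h2 : p = s * c := by rw [h, mul_assoc, D.cc, mul_one]
        rw [h2]
        exact hcx _ _ hs'
    rw [hpq] at this
    exact D.ne (mul_eq_left.1 this)
  have hcardC2 : Nat.card (C2.map f) ≤ 2 := by
    have h1 := lag _ _ hC1S (f q) (hm q hq) hqC1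
    have h2 := lag _ _ hC21 (f p) (mem_map_of_mem f ((hC1 p).2 ⟨hp, rfl⟩)) hpC2
    omega
  -- an element of `C2` outside the kernel
  obtain ⟨r, hr, hr1⟩ : ∃ r ∈ C2, f r ≠ 1 := by
    by_contra hcon
    push Not at hcon
    classical
    have h1 : ((P : Subgroup Y).map f : Set X) ⊆ ({1, f q, f p, f (q * p)} : Finset X) := by
      rintro _ ⟨s, hs, rfl⟩
      obtain ⟨r, hr, hrp, hrq, k, hk, e⟩ := hdec s hs
      have h2 : f r = 1 := hcon r ((hC2 r).2 ⟨⟨hr, hrp⟩, hrq⟩)
      have hkP : k ∈ (P : Subgroup Y) := by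
        rcases hk with rfl | rfl | rfl | rfl
        · exact one_mem _
        · exact hq
        · exact hp
        · exact mul_mem hq hp
      have h3 : f s = f k := by
        rw [← e, map_mul] at h2
        rw [eq_inv_of_mul_eq_one_left h2, hinv _ (hm k hkP)]
      rw [h3]
      rcases hk with rfl | rfl | rfl | rfl <;> simp
    have h2 : Nat.card ((P : Subgroup Y).map f) ≤ 4 := by
      have h3 := Set.ncard_le_ncard h1 (Finset.finite_toSet _)
      rw [Set.ncard_coe_finset] at h3
      exact h3.trans Finset.card_le_four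
    omega
  have hrP := ((hC2 r).1 hr).1.1
  have hrp := ((hC2 r).1 hr).1.2
  have hrq := ((hC2 r).1 hr).2
  have hC2r : ∀ s ∈ C2, f s = 1 ∨ f s = f r := by
    intro s hs
    by_contra hcon
    push Not at hcon
    have h1 : 3 ≤ Nat.card (C2.map f) := by
      have : Fintype (C2.map f) := Fintype.ofFinite _
      classical
      have h3 : ({1, ⟨f r, mem_map_of_mem f hr⟩, ⟨f s, mem_map_of_mem f hs⟩} :
          Finset (C2.map f)).card = 3 := by
        rw [Finset.card_insert_of_notMem, Finset.card_insert_of_notMem, Finset.card_singleton]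
        · simp only [Finset.mem_singleton]
          intro h
          exact hcon.2 (congrArg Subtype.val h).symm
        · simp only [Finset.mem_insert, Finset.mem_singleton, not_or]
          exact ⟨fun h => hr1 (congrArg Subtype.val h).symm,
            fun h => hcon.1 (congrArg Subtype.val h).symm⟩
      rw [Nat.card_eq_fintype_card, ← h3]
      exact Finset.card_le_univ _
    omega
  -- `r` is central in `P`
  have hrcent : ∀ s ∈ (P : Subgroup Y), s * r = r * s := by
    intro s hs
    obtain ⟨s', hs', hsp, hsq, k, hk, e⟩ := hdec s hs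
    have h1 : r * s' = s' * r := by
      rcases hC2r s' ((hC2 s').2 ⟨⟨hs', hsp⟩, hsq⟩) with h | h
      · rcases (D.ker s').1 h with rfl | rfl
        · rw [mul_one, one_mul]
        · exact D.comm r
      · rcases D.eq_or h with rfl | rfl
        · rfl
        · rw [mul_assoc r c r, ← D.comm r]
    have h2 : r * k = k * r := by
      rcases hk with rfl | rfl | rfl | rfl
      · rw [mul_one, one_mul]
      · exact hrq
      · exact hrp
      · rw [← mul_assoc, hrq, mul_assoc, hrp, mul_assoc]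
    have h3 : s = s' * k⁻¹ := by rw [← e, mul_inv_cancel_right]
    have h4 : r * k⁻¹ = k⁻¹ * r := ((show Commute r k from h2).inv_right).eq
    rw [h3, mul_assoc, ← h4, ← mul_assoc, ← h1, mul_assoc]
  -- the normalizer of the Sylow subgroup of `X` fixes `f r`
  let S : Sylow 2 X := P.mapSurjective D.surj
  have hS : (S : Subgroup X) = (P : Subgroup Y).map f := Sylow.coe_mapSurjective _ _
  refine hr1 (eq_one_of_abelian_sylow (D.perfect hperf) S ?_ ?_ ?_)
  · refine ⟨⟨fun a b => Subtype.ext ?_⟩⟩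
    exact hcomm _ (hS ▸ a.2) _ (hS ▸ b.2)
  · rw [hS]
    exact hm r hrP
  · intro g hg
    obtain ⟨y, rfl⟩ := D.surj g
    rw [hS] at hg
    have hyP : ∀ s ∈ (P : Subgroup Y), y * s * y⁻¹ ∈ (P : Subgroup Y) := by
      intro s hs
      refine D.mem_of_map_mem P ?_
      rw [map_mul, map_mul, map_inv]
      exact (mem_normalizer_iff.1 hg _).1 (hm s hs)
    have hyP' : ∀ s ∈ (P : Subgroup Y), y⁻¹ * s * y ∈ (P : Subgroup Y) := by
      intro s hs
      refine D.mem_of_map_mem P ?_
      rw [map_mul, map_mul, map_inv]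
      have := (mem_normalizer_iff.1 (inv_mem hg) (f s)).1 (hm s hs)
      rwa [inv_inv] at this
    have hcen : ∀ s ∈ (P : Subgroup Y), (y * r * y⁻¹) * s = s * (y * r * y⁻¹) := by
      intro s hs
      have := hrcent _ (hyP' s hs)
      calc (y * r * y⁻¹) * s = y * (r * (y⁻¹ * s * y)) * y⁻¹ := by group
        _ = s * (y * r * y⁻¹) := by rw [← this]; group
    have h1 : y * r * y⁻¹ ∈ C2 := (hC2 _).2 ⟨⟨hyP r hrP, hcen p hp⟩, hcen q hq⟩
    rcases hC2r _ h1 with h2 | h2
    · exfalso
      rw [map_mul, map_mul, map_inv, conj_eq_one_iff] at h2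
      exact hr1 h2
    · rw [map_mul, map_mul, map_inv, mul_inv_eq_iff_eq_mul] at h2
      exact h2

end Dbl

/-! ### Statements in terms of the Sylow 2-subgroups of `X` -/

section final

variable [Finite Y] [Finite X]

theorem exists_equiv {f : Y →* X} (hf : Function.Surjective f) (P : Sylow 2 Y) (S : Sylow 2 X) :
    Nonempty ((S : Subgroup X) ≃* (P : Subgroup Y).map f) := by
  have : Fact (Nat.Prime 2) := ⟨Nat.prime_two⟩
  have e := Sylow.equiv S (P.mapSurjective hf)
  have hS : ((P.mapSurjective hf : Sylow 2 X) : Subgroup X) = (P : Subgroup Y).map f :=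
    Sylow.coe_mapSurjective _ _
  exact ⟨e.trans (MulEquiv.subgroupCongr hS)⟩

/-- No subgroup of index 2 in a perfect group. -/
theorem index_ne_two {G : Type*} [Group G] (h : commutator G = ⊤) (H : Subgroup G) :
    H.index ≠ 2 := by
  intro h2
  have hn := normal_of_index_eq_two h2
  have h1 : commutator G ≤ H := by
    rw [_root_.commutator_def, commutator_le]
    intro a _ b _
    rw [← QuotientGroup.eq_one_iff]
    have e : (QuotientGroup.mk ⁅a, b⁆ : G ⧸ H) = ⁅(QuotientGroup.mk a : G ⧸ H), QuotientGroup.mk b⁆ :=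
      rfl
    rw [e]
    have hc : Nat.card (G ⧸ H) = 2 := h2
    have hcyc : IsCyclic (G ⧸ H) := by
      have : Fact (Nat.Prime 2) := ⟨Nat.prime_two⟩
      exact isCyclic_of_prime_card hc
    exact commutatorElement_eq_one_iff_mul_comm.2 (hcyc.isMulCommutative.is_comm.comm _ _)
  rw [h, top_le_iff] at h1
  rw [h1, index_top] at h2
  omega

/-- Semidihedral Sylow 2-subgroups: no perfect double cover. -/
theorem not_quasiDihedral (hperf : commutator Y = ⊤) (f : Y →* X) (hf : Function.Surjective f)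
    (hk : Nat.card f.ker = 2) (S : Sylow 2 X) (hS : Cfsg.IsQuasiDihedral (S : Subgroup X)) : False := by
  obtain ⟨c, D⟩ := exists_dbl f hf hk
  obtain ⟨P⟩ : Nonempty (Sylow 2 Y) := inferInstance
  obtain ⟨e⟩ := exists_equiv hf P S
  exact D.not_mem_of_qd P (Cfsg.Agent.TwoFusion.SylowTypeTransfer.isQuasiDihedral_of_mulEquiv e hS)
    (D.mem_commutator hperf P)

/-- Wreathed Sylow 2-subgroups: no perfect double cover. -/
theorem not_wreathed (hperf : commutator Y = ⊤) (f : Y →* X) (hf : Function.Surjective f)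
    (hk : Nat.card f.ker = 2) (S : Sylow 2 X) (hS : Cfsg.IsWreathed (S : Subgroup X)) : False := by
  obtain ⟨c, D⟩ := exists_dbl f hf hk
  obtain ⟨P⟩ : Nonempty (Sylow 2 Y) := inferInstance
  obtain ⟨e⟩ := exists_equiv hf P S
  refine D.not_wreathed hperf P
    (Cfsg.Agent.TwoFusion.SylowTypeTransfer.isWreathed_of_mulEquiv e hS) ?_
  intro a b ha hb
  exact Cfsg.Agent.TwoFusion.OneClass.isConj_of_orderOf_two S (Or.inr hS)
    (index_ne_two (D.perfect hperf)) a b ha hb

/-- Elementary abelian Sylow 2-subgroups of order 8: no perfect double cover. -/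
theorem not_e8 (hperf : commutator Y = ⊤) (f : Y →* X) (hf : Function.Surjective f)
    (hk : Nat.card f.ker = 2) (S : Sylow 2 X) (hcard : Nat.card S = 8)
    (hel : ∀ s ∈ (S : Subgroup X), s * s = 1) : False := by
  obtain ⟨c, D⟩ := exists_dbl f hf hk
  obtain ⟨P⟩ : Nonempty (Sylow 2 Y) := inferInstance
  obtain ⟨e⟩ := exists_equiv hf P S
  refine D.not_e8 hperf P ?_ ?_
  · rw [← hcard]
    exact (Nat.card_congr e.toEquiv).symm
  · intro s hs
    have h1 : (e.symm ⟨s, hs⟩) * (e.symm ⟨s, hs⟩) = 1 := Subtype.ext (hel _ (e.symm ⟨s, hs⟩).2)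
    rw [← map_mul] at h1
    have h2 := e.symm.map_eq_one_iff.1 h1
    exact congrArg Subtype.val h2

end final

end Cfsg.Agent.GH.Cov.Transfer
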