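import Cfsg.Agent.GH.Defs
import Cfsg.Agent.GH.Cov.Transfer
import Cfsg.Agent.Ree.ReducePSL
import Cfsg.Agent.S1152
import Cfsg.Agent.S1157
import Cfsg.Agent.SporadicB.J1.Main

/-!
# `PSL₂(8)`, the Ree groups and `J₁` have no perfect double covers (GH-COV, rank cut, part [B])

Their Sylow 2-subgroups are elementary abelian of order 8.
-/

set_option autoImplicit false

open Cfsg Subgroup

namespace Cfsg.Agent.GH.Cov.EEight

universe u v w

variable {Y : Type u} {X : Type v} [Group Y] [Group X] [Finite Y] [Finite X]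

theorem not_of_equiv (hperf : commutator Y = ⊤) (f : Y →* X) (hf : Function.Surjective f)
    (hk : Nat.card f.ker = 2) {Z : Type w} [Group Z] (e : X ≃* Z) (Q : Sylow 2 Z)
    (h8 : Nat.card Q = 8) (hQ : ∀ x ∈ Q, x * x = 1) : False := by
  have hle : (Q : Subgroup Z) ≤ e.toMonoidHom.range := by
    rw [MonoidHom.range_eq_top.mpr e.surjective]; exact le_top
  let S : Sylow 2 X := Q.comapOfInjective e.toMonoidHom e.injective hle
  have hS : ∀ s, s ∈ (S : Subgroup X) ↔ e s ∈ (Q : Subgroup Z) := fun s => Iff.rfl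
  refine Transfer.not_e8 hperf f hf hk S ?_ ?_
  · rw [← h8]
    exact Nat.card_congr ⟨fun s => ⟨e s, (hS s).1 s.2⟩, fun t => ⟨e.symm t, (hS _).2 (by
      rw [e.apply_symm_apply]; exact t.2)⟩, fun s => Subtype.ext (e.symm_apply_apply _),
      fun t => Subtype.ext (e.apply_symm_apply _)⟩
  · intro s hs
    apply e.injective
    rw [map_mul, map_one]
    exact hQ _ ((hS s).1 hs)

/-- `PSL₂(8)` has no perfect double cover. -/
theorem not_L28 (hperf : commutator Y = ⊤) (f : Y →* X) (hf : Function.Surjective f)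
    (hk : Nat.card f.ker = 2) (hX : GH.Defs.IsL28 X) : False := by
  obtain ⟨F, _, _, hF, ⟨e⟩⟩ := hX
  obtain ⟨Q, hQ, hcard, -⟩ := Cfsg.Agent.Ree.ReducePSL.even_case (F := F) (by rw [hF]; decide)
  exact not_of_equiv hperf f hf hk e Q (hcard.trans hF) hQ

/-- The Ree groups have no perfect double cover. -/
theorem not_ree (hperf : commutator Y = ⊤) (f : Y →* X) (hf : Function.Surjective f)
    (hk : Nat.card f.ker = 2) (hX : Lie.IsoRee X) : False := by
  obtain ⟨K, _, _, m, -, hK, ⟨e⟩⟩ := hX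
  obtain ⟨a, haH, ha1, ha2⟩ := Cfsg.Agent.S1157.exists_involution hK
  obtain ⟨-, hS⟩ := Cfsg.Agent.S1152.result hK a haH ha1 ha2
  obtain ⟨Q⟩ : Nonempty (Sylow 2 ↥(Cfsg.Lie.twistedG2 K (3 ^ m))) := inferInstance
  exact not_of_equiv hperf f hf hk e Q (hS Q).1 (hS Q).2

open Cfsg.Agent.SporadicB.J1.Main in
/-- `J₁` has no perfect double cover. -/
theorem not_J1 (hperf : commutator Y = ⊤) (f : Y →* X) (hf : Function.Surjective f)
    (hk : Nat.card f.ker = 2) (hX : Spor.IsoJ1 X) : False := by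
  obtain ⟨e0⟩ := hX
  have hE : Nat.card data.E = 8 := data.card_E
  have hcard : Nat.card Cfsg.Spor.J1 = 175560 := isJ1.2
  have hfin : Finite Cfsg.Spor.J1 := Nat.finite_of_card_ne_zero (by rw [hcard]; norm_num)
  have : Fact (Nat.Prime 2) := ⟨Nat.prime_two⟩
  have hmul : Nat.card data.E = 2 ^ (Nat.card Cfsg.Spor.J1).factorization 2 := by
    rw [hE, hcard, show (175560 : ℕ) = 2 ^ 3 * 21945 by norm_num,
      Nat.factorization_mul (by norm_num) (by norm_num), Nat.Prime.factorization_pow Nat.prime_two]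
    rw [Finsupp.add_apply, Finsupp.single_eq_same,
      Nat.factorization_eq_zero_of_not_dvd (by norm_num : ¬ 2 ∣ 21945)]
    norm_num
  let P : Sylow 2 Cfsg.Spor.J1 := Sylow.ofCard data.E hmul
  refine not_of_equiv hperf f hf hk e0 P hE ?_
  intro x hx
  obtain ⟨i, rfl⟩ : x ∈ Set.range data.e := hx
  exact ((rep_e i).mul (rep_e i)).eq Rep.one (ce_sq i)

end Cfsg.Agent.GH.Cov.EEight
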