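import Mathlib
import Cfsg.Agent.GH.Cov.Sq

/-!
# `Good16` modulo a normal subgroup of odd order
-/

set_option autoImplicit false

open Subgroup

namespace Cfsg.Agent.GH.Cov.OddQuot

open Cfsg.Agent.GH.Cov.Sq

variable {K : Type*} [Group K] {Q : Type*} [Group Q]

/-- 2-subgroups lift modulo an odd kernel. -/
theorem exists_section [Finite K] (f : K →* Q) (hf : Function.Surjective f) (hodd : Odd (Nat.card f.ker))
    (T : Subgroup Q) {n : ℕ} (hT : Nat.card T = 2 ^ n) : ∃ s : T →* K, ∀ t, f (s t) = t := by
  classical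
  set P : Subgroup K := T.comap f with hP
  let g : P →* T := (f.comp P.subtype).codRestrict T (fun x => x.2)
  have hg : Function.Surjective g := by
    rintro ⟨t, ht⟩
    obtain ⟨x, rfl⟩ := hf t
    exact ⟨⟨x, ht⟩, rfl⟩
  have hker : g.ker = f.ker.subgroupOf P := by
    ext x
    rw [MonoidHom.mem_ker, mem_subgroupOf, MonoidHom.mem_ker]
    exact ⟨fun h => congrArg Subtype.val h, fun h => Subtype.ext h⟩
  have hle : f.ker ≤ P := fun x hx => by
    rw [hP, mem_comap, MonoidHom.mem_ker.1 hx]; exact one_mem _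
  have hcard : Nat.card g.ker = Nat.card f.ker := by
    rw [hker]
    exact Nat.card_congr (subgroupOfEquivOfLe hle).toEquiv
  have hindex : g.ker.index = 2 ^ n := by
    rw [index_ker, MonoidHom.range_eq_top.2 hg, card_top, hT]
  obtain ⟨H, hH⟩ := exists_right_complement'_of_coprime (N := g.ker) (by
    rw [hcard, hindex]
    exact Nat.Coprime.pow_right n (Nat.coprime_two_right.2 hodd))
  let h : H →* T := g.comp H.subtype
  have hbij : Function.Bijective h := by
    constructor
    · rw [injective_iff_map_eq_one]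
      rintro ⟨x, hx⟩ h1
      have : x ∈ g.ker := h1
      exact Subtype.ext (disjoint_def.1 hH.disjoint this hx)
    · intro t
      obtain ⟨x, rfl⟩ := hg t
      obtain ⟨⟨a, b⟩, hab, -⟩ := hH.existsUnique x
      refine ⟨b, ?_⟩
      have hab' : (a : P) * (b : P) = x := hab
      show g (b : P) = g x
      rw [← hab', map_mul, MonoidHom.mem_ker.1 a.2, one_mul]
  let e : H ≃* T := MulEquiv.ofBijective h hbij
  refine ⟨P.subtype.comp (H.subtype.comp e.symm.toMonoidHom), fun t => ?_⟩
  have h1 : e (e.symm t) = t := e.apply_symm_apply t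
  exact congrArg Subtype.val h1

/-- Involutions with the same image modulo a kernel of odd order are conjugate. -/
theorem conj_of_odd [Finite K] (f : K →* Q) (hodd : Odd (Nat.card f.ker)) {a b : K} (ha : a * a = 1)
    (hb : b * b = 1) (hab : f a = f b) : ∃ g, g * a * g⁻¹ = b := by
  have hx : a * b ∈ f.ker := by
    rw [MonoidHom.mem_ker, map_mul, hab, ← map_mul, hb, map_one]
  have hpow : (a * b) ^ Nat.card f.ker = 1 := by
    have := pow_card_eq_one' (x := (⟨a * b, hx⟩ : f.ker))
    exact congrArg Subtype.val this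
  obtain ⟨k, hk⟩ := hodd
  have hinv : ∀ n : ℕ, a * (a * b) ^ n = ((a * b) ^ n)⁻¹ * a := by
    have h1 : a * (a * b) = (a * b)⁻¹ * a := by
      have ea : a⁻¹ = a := inv_eq_of_mul_eq_one_left ha
      have eb : b⁻¹ = b := inv_eq_of_mul_eq_one_left hb
      rw [mul_inv_rev, ea, eb, ← mul_assoc, ha, one_mul, mul_assoc, ha, mul_one]
    intro n
    induction n with
    | zero => simp
    | succ n ih =>
      calc a * (a * b) ^ (n + 1) = (a * (a * b) ^ n) * (a * b) := by rw [pow_succ]; group
        _ = ((a * b) ^ n)⁻¹ * (a * (a * b)) := by rw [ih]; group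
        _ = ((a * b) ^ n)⁻¹ * ((a * b)⁻¹ * a) := by rw [h1]
        _ = ((a * b) ^ (n + 1))⁻¹ * a := by
            rw [pow_succ', mul_inv_rev (a * b) ((a * b) ^ n), mul_assoc]
  refine ⟨(a * b) ^ k, ?_⟩
  have hk1 : ((a * b) ^ k)⁻¹ * ((a * b) ^ k)⁻¹ = a * b := by
    have h2 : ((a * b) ^ k) * ((a * b) ^ k) * (a * b) = 1 := by
      rw [← pow_add, ← pow_succ, ← two_mul, ← hk, hpow]
    rw [← mul_inv_rev]
    exact inv_eq_of_mul_eq_one_right h2
  have h3 : (a * b) ^ k * a = a * ((a * b) ^ k)⁻¹ := by
    rw [eq_mul_inv_iff_mul_eq, mul_assoc, hinv k]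
    group
  rw [h3, mul_assoc, hk1, ← mul_assoc, ha, one_mul]

/-- `Good16` modulo a normal subgroup of odd order. -/
theorem Good16.of_odd [Finite K] (f : K →* Q) (hf : Function.Surjective f)
    (hodd : Odd (Nat.card f.ker)) (h : Good16 Q) : Good16 K := by
  classical
  obtain ⟨E, hE, h2, hq⟩ := h
  obtain ⟨s, hs⟩ := exists_section f hf hodd E (n := 4) (by rw [hE]; norm_num)
  have hinj : Function.Injective s := by
    rw [injective_iff_map_eq_one]
    intro t ht
    apply Subtype.ext
    rw [← hs t, ht, map_one]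
    rfl
  refine ⟨s.range, ?_, ?_, ?_⟩
  · rw [← Nat.card_congr (MonoidHom.ofInjective hinj).toEquiv, hE]
  · rintro _ ⟨t, rfl⟩
    rw [← map_mul, show t * t = 1 from Subtype.ext (h2 t t.2), map_one]
  · intro q hq1 hq2 hq3
    let r : Q → ZMod 2 := fun x => if h : ∃ e : K, f e = x ∧ e * e = 1 then q (Classical.choose h) else 0
    have hr : ∀ e : K, e * e = 1 → r (f e) = q e := by
      intro e he
      have hex : ∃ e' : K, f e' = f e ∧ e' * e' = 1 := ⟨e, rfl, he⟩
      have h1 : r (f e) = q (Classical.choose hex) := dif_pos hex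
      obtain ⟨h3, h4⟩ := Classical.choose_spec hex
      obtain ⟨g, hg⟩ := conj_of_odd f hodd h4 he h3
      rw [h1]
      calc q (Classical.choose hex) = q (g * Classical.choose hex * g⁻¹) := (hq1 _ _).symm
        _ = q e := by rw [hg]
    have hone : q 1 = 0 := by
      have := hq3 1 1 (by simp) rfl
      rwa [mul_one] at this
    have hrs : ∀ t : E, r t = q (s t) := by
      intro t
      rw [← hr (s t) (by rw [← map_mul, show t * t = 1 from Subtype.ext (h2 t t.2), map_one]), hs]
    have hzero := hq r ?_ ?_ ?_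
    · rintro _ ⟨t, rfl⟩
      rw [← hrs, hzero t t.2]
    · intro g x
      obtain ⟨y, rfl⟩ := hf g
      by_cases hex : ∃ e : K, f e = x ∧ e * e = 1
      · obtain ⟨e, rfl, he⟩ := hex
        rw [hr e he, ← map_mul, ← map_inv, ← map_mul, hr, hq1]
        calc y * e * y⁻¹ * (y * e * y⁻¹) = y * (e * e) * y⁻¹ := by group
          _ = 1 := by rw [he]; group
      · have hex' : ¬ ∃ e : K, f e = f y * x * (f y)⁻¹ ∧ e * e = 1 := by
          rintro ⟨e, he, he1⟩
          apply hex
          refine ⟨y⁻¹ * e * y, by rw [map_mul, map_mul, map_inv, he]; group, ?_⟩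
          calc y⁻¹ * e * y * (y⁻¹ * e * y) = y⁻¹ * (e * e) * y := by group
            _ = 1 := by rw [he1]; group
        rw [show r x = 0 from dif_neg hex, show r (f y * x * (f y)⁻¹) = 0 from dif_neg hex']
    · intro a ha b hb c hc
      have := hq2 (s ⟨a, ha⟩) ⟨_, rfl⟩ (s ⟨b, hb⟩) ⟨_, rfl⟩ (s ⟨c, hc⟩) ⟨_, rfl⟩
      simp only [← map_mul] at this
      rw [← hrs, ← hrs, ← hrs, ← hrs, ← hrs, ← hrs, ← hrs] at this
      exact this
    · intro i j h1 h3
      by_cases hii : i * i = 1
      · rw [hii]
        have := hr 1 (mul_one 1)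
        rw [map_one, hone] at this
        exact this
      -- the subgroup `⟨i, j⟩` has order 8
      have hi4 : i * i * (i * i) = 1 := by
        have e1 : j * (i * i) * j⁻¹ = (i * i)⁻¹ := by
          calc j * (i * i) * j⁻¹ = (j * i * j⁻¹) * (j * i * j⁻¹) := by group
            _ = (i * i)⁻¹ := by rw [h1]; group
        have e2 : j * (i * i) * j⁻¹ = i * i := by rw [h3]; group
        rw [e2] at e1
        exact mul_eq_one_iff_eq_inv.2 e1
      have hij : j * i = i⁻¹ * j := by rw [← h1]; group
      have hT : ∃ T : Subgroup Q, i ∈ T ∧ j ∈ T ∧ ∃ n, Nat.card T = 2 ^ n := by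
        have hji : ∀ b : ℤ, j * i ^ b = i ^ (-b) * j := by
          intro b
          have : j * i ^ b * j⁻¹ = (j * i * j⁻¹) ^ b := by
            have := map_zpow (MulAut.conj j) i b
            simp only [MulAut.conj_apply] at this
            exact this
          rw [h1, inv_zpow', eq_comm] at this
          rw [this]; group
        have hjj : j * j = i ^ (2 : ℤ) := by rw [← h3, zpow_two]
        have hi4z : i ^ (4 : ℤ) = i * i * (i * i) := by
          rw [show (4 : ℤ) = 2 + 2 from rfl, zpow_add, zpow_two]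
        let T : Subgroup Q :=
          { carrier := {x | ∃ a : ℤ, x = i ^ a ∨ x = i ^ a * j}
            one_mem' := ⟨0, Or.inl (zpow_zero i).symm⟩
            mul_mem' := by
              rintro _ _ ⟨a, rfl | rfl⟩ ⟨b, rfl | rfl⟩
              · exact ⟨a + b, Or.inl (zpow_add i a b).symm⟩
              · exact ⟨a + b, Or.inr (by rw [zpow_add, mul_assoc])⟩
              · refine ⟨a + -b, Or.inr ?_⟩
                rw [mul_assoc, hji, ← mul_assoc, ← zpow_add]
              · refine ⟨a + -b + 2, Or.inl ?_⟩
                calc i ^ a * j * (i ^ b * j) = i ^ a * (j * i ^ b) * j := by group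
                  _ = i ^ a * i ^ (-b) * (j * j) := by rw [hji]; group
                  _ = i ^ (a + -b + 2) := by rw [hjj, zpow_add, zpow_add]
            inv_mem' := by
              rintro _ ⟨a, rfl | rfl⟩
              · exact ⟨-a, Or.inl (zpow_neg i a).symm⟩
              · refine ⟨a - 2, Or.inr ?_⟩
                apply inv_eq_of_mul_eq_one_right
                calc i ^ a * j * (i ^ (a - 2) * j) = i ^ a * (j * i ^ (a - 2)) * j := by group
                  _ = i ^ a * i ^ (-(a - 2)) * (j * j) := by rw [hji]; group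
                  _ = i ^ (4 : ℤ) := by rw [hjj, ← zpow_add, ← zpow_add]; congr 1; ring
                  _ = i * i * (i * i) := hi4z
                  _ = 1 := hi4 }
        have : Finite Q := Finite.of_surjective f hf
        have hp : IsPGroup 2 T := by
          rintro ⟨x, a, rfl | rfl⟩
          · refine ⟨2, Subtype.ext ?_⟩
            show (i ^ a) ^ 4 = 1
            rw [← zpow_natCast, ← zpow_mul, mul_comm, zpow_mul]
            rw [show i ^ ((4 : ℕ) : ℤ) = i * i * (i * i) from hi4z, hi4, one_zpow]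
          · refine ⟨2, Subtype.ext ?_⟩
            have e : i ^ a * j * (i ^ a * j) = i * i := by
              calc i ^ a * j * (i ^ a * j) = i ^ a * (j * i ^ a) * j := by group
                _ = i ^ a * i ^ (-a) * (j * j) := by rw [hji]; group
                _ = i * i := by rw [h3]; group
            show (i ^ a * j) ^ 4 = 1
            calc (i ^ a * j) ^ 4 = (i ^ a * j * (i ^ a * j)) * (i ^ a * j * (i ^ a * j)) := by
                  rw [show (4 : ℕ) = 2 + 2 from rfl, pow_add, pow_two]
              _ = 1 := by rw [e, hi4]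
        exact ⟨T, ⟨1, Or.inl (zpow_one i).symm⟩, ⟨0, Or.inr (by rw [zpow_zero, one_mul])⟩,
          IsPGroup.iff_card.1 hp⟩
      obtain ⟨T, hiT, hjT, n, hTn⟩ := hT
      obtain ⟨u, hu⟩ := exists_section f hf hodd T hTn
      have e1 := hq3 (u ⟨i, hiT⟩) (u ⟨j, hjT⟩)
        (by
          rw [← map_inv, ← map_mul, ← map_mul, ← map_inv]
          congr 1
          exact Subtype.ext h1)
        (by
          rw [← map_mul, ← map_mul]
          congr 1
          exact Subtype.ext h3)
      have e2 : u ⟨i, hiT⟩ * u ⟨i, hiT⟩ * (u ⟨i, hiT⟩ * u ⟨i, hiT⟩) = 1 := by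
        rw [← map_mul, ← map_mul, show ((⟨i, hiT⟩ : T) * ⟨i, hiT⟩ * (⟨i, hiT⟩ * ⟨i, hiT⟩)) = 1 from
          Subtype.ext hi4, map_one]
      have e3 := hr _ e2
      rw [map_mul, hu, e1] at e3
      exact e3

end Cfsg.Agent.GH.Cov.OddQuot
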