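import Mathlib
import Cfsg.Agent.GH.Cov.OddQuot
import Cfsg.Agent.GH.Rank
import Cfsg.Agent.GH.Defs
import Cfsg.Agent.SporRec.TwoAn
import Cfsg.Agent.SporRec.LyType
import Cfsg.Agent.TypeM.CoverTools

/-!
# `Good16` for groups with a subgroup `2.Aₙ`, `n ≥ 8`, modulo an odd core (`McL`, `Ly`)
-/

set_option autoImplicit false

open Cfsg Subgroup Equiv

namespace Cfsg.Agent.GH.Cov.InstAlt

open Cfsg.Agent.GH.Cov.Sq Cfsg.Agent.GH.Defs Cfsg.Agent.SporRec.TwoAn
open Cfsg.Agent.SporadicRecognition.AltCover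

/-- translation by `a` on `(ZMod 2)³` -/
def trans (a : Fin 8) : Perm (Fin 8) where
  toFun x := ⟨a.val ^^^ x.val, Nat.xor_lt_two_pow (n := 3) a.2 x.2⟩
  invFun x := ⟨a.val ^^^ x.val, Nat.xor_lt_two_pow (n := 3) a.2 x.2⟩
  left_inv x := by ext; simp
  right_inv x := by ext; simp

theorem trans_mul (a b : Fin 8) : trans a * trans b = trans ⟨a.val ^^^ b.val, Nat.xor_lt_two_pow (n := 3) a.2 b.2⟩ := by
  ext x
  simp [trans, Nat.xor_assoc]

theorem trans_zero : trans 0 = 1 := by
  ext x
  simp [trans]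

theorem trans_injective : Function.Injective trans := by
  intro a b h
  have := congrArg (fun f : Perm (Fin 8) => f 0) h
  simpa [trans] using this

theorem sign_trans : ∀ a : Fin 8, Perm.sign (trans a) = 1 := by decide +kernel

theorem trans_mem (a : Fin 8) : trans a ∈ alternatingGroup (Fin 8) :=
  Perm.mem_alternatingGroup.2 (sign_trans a)

theorem card_support (a : Fin 8) (ha : a ≠ 0) : (trans a).support.card = 8 := by
  revert a; decide +kernel

/-- The regular elementary abelian subgroup of order 8. -/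
def V8 : Subgroup (alternatingGroup (Fin 8)) where
  carrier := {g | ∃ a, (g : Perm (Fin 8)) = trans a}
  one_mem' := ⟨0, trans_zero.symm⟩
  mul_mem' := by
    rintro g h ⟨a, ha⟩ ⟨b, hb⟩
    exact ⟨_, by rw [Subgroup.coe_mul, ha, hb, trans_mul]⟩
  inv_mem' := by
    rintro g ⟨a, ha⟩
    refine ⟨a, ?_⟩
    rw [Subgroup.coe_inv, ha]
    apply inv_eq_of_mul_eq_one_right
    rw [trans_mul]
    simp only [Nat.xor_self]
    exact trans_zero

theorem card_V8 : Nat.card V8 = 8 := by
  have hb : Function.Bijective (fun a : Fin 8 => (⟨⟨trans a, trans_mem a⟩, a, rfl⟩ : V8)) := by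
    constructor
    · intro a b h
      exact trans_injective (congrArg (fun x : V8 => ((x : alternatingGroup (Fin 8)) : Perm (Fin 8))) h)
    · rintro ⟨⟨g, hg⟩, a, ha⟩
      exact ⟨a, Subtype.ext (Subtype.ext ha.symm)⟩
  rw [← Nat.card_congr (Equiv.ofBijective _ hb), Nat.card_eq_fintype_card, Fintype.card_fin]

theorem good_eight {C : Type*} [Group C] [Finite C] (K : Cover (Fin 8) C) : Good16 C := by
  classical
  obtain ⟨π, hπ, hπK⟩ := Cfsg.Agent.TypeM.CoverTools.exists_isCover_of K (by norm_num)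
  set E : Subgroup C := V8.comap π with hEdef
  have hz : K.z ∈ E := by
    rw [hEdef, mem_comap, hπ.map_z]; exact one_mem _
  have hker : π.ker = zpowers K.z := by
    ext x
    rw [MonoidHom.mem_ker, hπ.ker, mem_zpowers_iff]
    constructor
    · rintro (rfl | rfl)
      · exact ⟨0, zpow_zero _⟩
      · exact ⟨1, zpow_one _⟩
    · rintro ⟨k, rfl⟩
      rcases Int.even_or_odd' k with ⟨m, rfl | rfl⟩
      · left
        rw [zpow_mul, zpow_ofNat, K.z_pow_two, one_zpow]
      · right
        rw [zpow_add, zpow_mul, zpow_ofNat, K.z_pow_two, one_zpow, zpow_one, one_mul]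
  have hcard : Nat.card E = 16 := by
    rw [Rank.card_comap_of_surjective π hπ.surj V8, card_V8, hker, Nat.card_zpowers, K.orderOf_z]
  -- nontrivial elements
  have hsupp : ∀ g ∈ E, g ≠ 1 → g ≠ K.z → K.π g * K.π g = 1 ∧ (K.π g).support.card = 8 ∧ K.π g ≠ 1 := by
    rintro g ⟨a, ha⟩ h1 h2
    rw [hπK] at ha
    have ha0 : a ≠ 0 := by
      rintro rfl
      rw [trans_zero] at ha
      rcases (K.ker g).1 ha with h | h
      · exact h1 h
      · exact h2 h
    refine ⟨?_, by rw [ha]; exact card_support a ha0, ?_⟩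
    · rw [ha, trans_mul]
      simp only [Nat.xor_self]
      exact trans_zero
    · rw [ha, ← trans_zero]
      exact fun h => ha0 (trans_injective h)
  have hsq : ∀ g ∈ E, g * g = 1 := by
    intro g hg
    by_cases h1 : g = 1
    · rw [h1, mul_one]
    by_cases h2 : g = K.z
    · rw [h2, K.z_mul_z]
    obtain ⟨h3, h4, -⟩ := hsupp g hg h1 h2
    exact K.sq_eq_one_iff.2 ⟨h3, by rw [h4]⟩
  refine ⟨E, hcard, hsq, fun q hq hqq hq8 => ?_⟩
  have hone : q 1 = 0 := by
    have := hq8 1 1 (by simp) rfl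
    rwa [mul_one] at this
  obtain ⟨a, ha, ha1⟩ := exists_not_mem_finset (E := E) ({1, K.z} : Finset C) (by
    rw [hcard]; exact lt_of_le_of_lt (Finset.card_le_two) (by norm_num))
  obtain ⟨b, hb, hb1⟩ := exists_not_mem_finset (E := E) ({1, K.z, a, a * K.z} : Finset C) (by
    rw [hcard]; exact lt_of_le_of_lt (Finset.card_le_four) (by norm_num))
  obtain ⟨c, hc, hc1⟩ := exists_not_mem_finset (E := E)
      (({1, K.z, a, a * K.z} : Finset C) ∪ {b, b * K.z, a * b, a * b * K.z}) (by
    rw [hcard]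
    exact lt_of_le_of_lt (Finset.card_union_le _ _) (by
      have h1 := Finset.card_le_four (a := (1 : C)) (b := K.z) (c := a) (d := a * K.z)
      have h2 := Finset.card_le_four (a := b) (b := b * K.z) (c := a * b) (d := a * b * K.z)
      omega))
  simp only [Finset.mem_insert, Finset.mem_singleton, Finset.mem_union, not_or] at ha1 hb1 hc1
  have hmz : ∀ g ∈ E, g ≠ 1 → g ≠ K.z → q (g * K.z) = q g := by
    intro g hg h1 h2
    obtain ⟨h3, -, h4⟩ := hsupp g hg h1 h2
    obtain ⟨w, hw⟩ := K.exists_conj_mul_z h3 h4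
    rw [← hw, hq]
  have hconst : ∀ g ∈ E, g ≠ 1 → g ≠ K.z → q g = q a := by
    intro g hg h1 h2
    obtain ⟨w, hw⟩ := Cfsg.Agent.SporRec.LyType.isConj_of_involutions K (by simp) (hsq a ha) ha1.1 ha1.2
      (hsq g hg) h1 h2
    rw [← hw, hq]
  have hinv : ∀ g ∈ E, g⁻¹ = g := fun g hg => inv_eq_of_mul_eq_one_right (hsq g hg)
  -- products are nontrivial
  have key : ∀ x ∈ E, ∀ y ∈ E, y ≠ x → y ≠ x * K.z → x * y ≠ 1 ∧ x * y ≠ K.z := by
    intro x hx y hy h1 h2
    constructor
    · intro h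
      apply h1
      have := eq_inv_of_mul_eq_one_right h
      rw [this, hinv x hx]
    · intro h
      apply h2
      have : y = x⁻¹ * K.z := by rw [← h]; group
      rw [this, hinv x hx]
  have eab := key a ha b hb hb1.2.2.1 hb1.2.2.2
  have ebc := key b hb c hc hc1.2.1 hc1.2.2.1
  have eac := key a ha c hc hc1.1.2.2.1 hc1.1.2.2.2
  have eabc := key (a * b) (E.mul_mem ha hb) c hc hc1.2.2.2.1 hc1.2.2.2.2
  have hqz : q K.z = 0 := by
    have h7 := hqq a ha b hb K.z hz
    rw [hmz _ (E.mul_mem ha hb) eab.1 eab.2, hmz b hb hb1.1 hb1.2.1, hmz a ha ha1.1 ha1.2] at h7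
    generalize q (a * b) = t1 at h7
    generalize q b = t2 at h7
    generalize q a = t3 at h7
    generalize q K.z = t4 at h7 ⊢
    revert h7
    revert t1 t2 t3 t4
    decide
  have hqa : q a = 0 := by
    have h7 := hqq a ha b hb c hc
    rw [hconst _ (E.mul_mem (E.mul_mem ha hb) hc) eabc.1 eabc.2, hconst _ (E.mul_mem ha hb) eab.1 eab.2,
      hconst _ (E.mul_mem hb hc) ebc.1 ebc.2, hconst _ (E.mul_mem ha hc) eac.1 eac.2,
      hconst b hb hb1.1 hb1.2.1, hconst c hc hc1.1.1 hc1.1.2.1] at h7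
    generalize q a = t at h7 ⊢
    revert h7
    revert t
    decide
  intro g hg
  by_cases h1 : g = 1
  · rw [h1, hone]
  by_cases h2 : g = K.z
  · rw [h2, hqz]
  rw [hconst g hg h1 h2, hqa]

theorem good_cover {n : ℕ} (hn : 8 ≤ n) {C : Type*} [Group C] [Finite C] (K : Cover (Fin n) C) : Good16 C := by
  let p : Fin n → Prop := fun x => x.val < 8
  let e : Subtype p ≃ Fin 8 :=
    { toFun := fun x => ⟨x.1.1, x.2⟩
      invFun := fun x => ⟨⟨x.1, by omega⟩, x.2⟩
      left_inv := fun x => rfl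
      right_inv := fun x => rfl }
  exact (good_eight ((K.restrict p).congr e)).of_subgroup

theorem good_double {n : ℕ} (hn : 8 ≤ n) {C : Type*} [Group C] [Finite C]
    (h : IsNonsplitDoubleCover C (alternatingGroup (Fin n))) : Good16 C := by
  obtain ⟨π, z, hπ, -⟩ := exists_isCover h
  exact good_cover hn (ofIsCover (by omega) hπ)

/-- **`McL`, `Ly`.** -/
theorem HasAltCover.good {X : Type*} [Group X] [Finite X] (h : HasAltCover X) : Good16 X := by
  obtain ⟨n, t, K, hn, -, -, hcov⟩ := h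
  have h1 := good_double hn hcov
  have h2 := OddQuot.Good16.of_odd (QuotientGroup.mk' (oddCore K)) (QuotientGroup.mk'_surjective _) (by
    rw [QuotientGroup.ker_mk']
    exact Nat.coprime_two_right.1 (Lib.Cores.pPrimeCore_coprime 2)) h1
  exact h2.of_subgroup

end Cfsg.Agent.GH.Cov.InstAlt
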