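import Mathlib
import Cfsg.Agent.GH.Cov.Basis
import Cfsg.Agent.J3.Order

/-!
# `Good16` for `J₃` (GH-COV, rank cut)

Four commuting involutions of `3·J₃`, all 15 products conjugate (words in the generators, checked on tables).
-/

set_option autoImplicit false

open Subgroup

namespace Cfsg.Agent.GH.Cov.InstJ3

open Cfsg.Spor Cfsg.Agent.J3.Core Cfsg.Agent.J3.Tab Cfsg.Agent.J3.Mono Cfsg.Agent.J3.Elts
open Cfsg.Agent.Lib.BitSet Cfsg.Agent.J3.Order Cfsg.Agent.GH.Cov.Sq Cfsg.Agent.GH.Cov.Basis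

/-- tables of the letters -/
def ltT : List (List ℕ) := [tA (0, 1), tA (1, 0), tD (0, 1), tD (1, 0), tB (1, 1), tE, tC, tB (2, 0)]

/-- table of a letter -/
def lT (k : ℕ) : List ℕ := get (tS 0) ltT k

/-- table of a word -/
def evT : List ℕ → List ℕ
  | [] => tS 0
  | k :: w => compT (lT k) (evT w)

/-- the words of the four involutions -/
def words : List (List ℕ) :=
  [[7],
   [4, 1, 6, 1, 7, 1, 1, 6, 1, 1, 4, 4, 4, 4, 4, 4, 4],
   [3, 0, 6, 3, 0, 7, 0, 0, 3, 3, 3, 3, 3, 3, 3, 3, 6, 0, 0, 3, 3, 3, 3, 3, 3, 3, 3],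
   [5, 3, 0, 6, 3, 0, 7, 0, 0, 3, 3, 3, 3, 3, 3, 3, 3, 6, 0, 0, 3, 3, 3, 3, 3, 3, 3, 3, 5, 5]]

/-- the words of the conjugating elements -/
def conjs : List (List ℕ) :=
  [[],
   [],
   [4, 1, 6, 1],
   [4, 0, 6, 0, 0],
   [3, 0, 6, 3, 0],
   [0, 6, 3, 6, 0, 0],
   [4, 0, 6, 4, 3, 6, 3, 1, 0],
   [3, 1, 0, 6, 3, 6, 4, 0],
   [5, 3, 0, 6, 3, 0],
   [0, 6, 5, 3, 6, 0, 0],
   [1, 6, 2, 6, 3, 6, 0],
   [3, 0, 6, 5, 3, 6, 4, 0],
   [0, 6, 3, 1, 6, 0, 0],
   [3, 1, 0, 6, 3, 1, 0],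
   [0, 6, 1, 6, 3, 6, 3, 0],
   [3, 0, 6, 3, 4, 1, 6, 0]]

/-- table of `e i` -/
def eT (i : ℕ) : List ℕ := evT (get [] words i)

/-- table of the conjugating element -/
def cT (m : ℕ) : List ℕ := evT (get [] conjs m)

/-- table or identity -/
def optT (l : List ℕ) (b : Bool) : List ℕ := if b then l else tS 0

/-- the table of `word4 e m` -/
def wT (m : ℕ) : List ℕ :=
  compT (compT (compT (optT (eT 0) (m.testBit 0)) (optT (eT 1) (m.testBit 1)))
    (optT (eT 2) (m.testBit 2))) (optT (eT 3) (m.testBit 3))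

theorem chk_words : ∀ i : Fin 4, (get [] words i).all (fun k => Nat.blt k 8) = true := by decide +kernel

theorem chk_conjs : ∀ m : Fin 16, (get [] conjs m).all (fun k => Nat.blt k 8) = true := by decide +kernel

theorem chk_sq : ∀ i : Fin 4, cols (compT (eT i) (eT i)) = cols (tS 0) := by decide +kernel

theorem chk_comm : ∀ i j : Fin 4, cols (compT (eT i) (eT j)) = cols (compT (eT j) (eT i)) := by
  decide +kernel

theorem chk_conj : ∀ m : Fin 16, m ≠ 0 → cols (compT (cT m) (eT 0)) = cols (compT (wT m) (cT m)) := by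
  decide +kernel

theorem chk_ne : ∃ z : F9, (cols (compT (eT 0) (tA (1, 0)))).getD (idx z) 0 ≠
    (cols (compT (tA (1, 0)) (eT 0))).getD (idx z) 0 := by
  decide +kernel

section

variable {F : Type*} [Field F] {ω : F} (G : Gens F ω)

/-- the letters -/
def lt (k : ℕ) : threeJ3 F ω :=
  [G.a (0, 1), G.a (1, 0), G.d (0, 1), G.d (1, 0), G.b (1, 1), G.e, G.c, G.b (2, 0)].getD k 1

/-- the value of a word -/
def ev : List ℕ → threeJ3 F ω
  | [] => 1
  | k :: w => lt G k * ev w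

theorem rep_lt (H : Good ω) (k : ℕ) (hk : k < 8) : RepG ω (lT k) (lt G k) := by
  interval_cases k
  · exact rA G H (0, 1)
  · exact rA G H (1, 0)
  · exact rD G H (0, 1)
  · exact rD G H (1, 0)
  · exact rB G H (1, 1) (by decide)
  · exact rE G H
  · exact rC G H
  · exact rB G H (2, 0) (by decide)

theorem rep_ev (H : Good ω) : ∀ w : List ℕ, w.all (fun k => Nat.blt k 8) = true → RepG ω (evT w) (ev G w)
  | [], _ => repG_one H
  | k :: w, h => by
    rw [List.all_cons, Bool.and_eq_true] at h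
    exact (rep_lt G H k (Nat.le_of_ble_eq_true h.1)).mul (rep_ev H w h.2)

/-- the involutions -/
def e (i : Fin 4) : threeJ3 F ω := ev G (get [] words i)

theorem rep_e (H : Good ω) (i : Fin 4) : RepG ω (eT i) (e G i) := rep_ev G H _ (chk_words i)

theorem rep_opt (H : Good ω) {g : threeJ3 F ω} {l : List ℕ} (h : RepG ω l g) (b : Bool) :
    RepG ω (optT l b) (opt g b) := by
  cases b
  · exact repG_one H
  · exact h

theorem rep_word (H : Good ω) (m : ℕ) : RepG ω (wT m) (word4 (e G) m) :=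
  (((rep_opt H (rep_e G H 0) _).mul (rep_opt H (rep_e G H 1) _)).mul (rep_opt H (rep_e G H 2) _)).mul
    (rep_opt H (rep_e G H 3) _)

theorem map_word4 {X Y : Type*} [Group X] [Group Y] (f : X →* Y) (e : Fin 4 → X) (m : ℕ) :
    f (word4 e m) = word4 (fun i => f (e i)) m := by
  have h : ∀ (x : X) (b : Bool), f (opt x b) = opt (f x) b := by
    intro x b
    cases b
    · exact map_one f
    · rfl
  unfold word4
  simp only [map_mul, h]

include G in
theorem good (H : Good ω) : Good16 (J3 F ω) := by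
  refine Good16.of_basis (fun i => QuotientGroup.mk' (center (threeJ3 F ω)) (e G i)) ?_ ?_ ?_ ?_
  · intro i
    have h : e G i * e G i = 1 := ((rep_e G H i).mul (rep_e G H i)).ext (repG_one H) (chk_sq i)
    rw [← map_mul, h, map_one]
  · intro i j
    have h : e G i * e G j = e G j * e G i :=
      ((rep_e G H i).mul (rep_e G H j)).ext ((rep_e G H j).mul (rep_e G H i)) (chk_comm i j)
    rw [← map_mul, h, map_mul]
  · intro h
    have h1 : e G 0 ∈ center (threeJ3 F ω) := (QuotientGroup.eq_one_iff _).1 h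
    have h2 := mem_center_iff.1 h1 (G.a (1, 0))
    obtain ⟨z, hz⟩ := chk_ne
    have r1 := (rA G H (1, 0)).mul (rep_e G H 0)
    have r2 := (rep_e G H 0).mul (rA G H (1, 0))
    rw [h2] at r1
    exact hz (r2.cols_eq H r1 z)
  · intro m hm hm0
    refine ⟨QuotientGroup.mk' _ (ev G (get [] conjs m)), ?_⟩
    have h1 := rep_ev G H _ (chk_conjs ⟨m, hm⟩)
    have h : ev G (get [] conjs m) * e G 0 = word4 (e G) m * ev G (get [] conjs m) :=
      (h1.mul (rep_e G H 0)).ext ((rep_word G H m).mul h1)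
        (chk_conj ⟨m, hm⟩ (fun h => hm0 (congrArg Fin.val h)))
    rw [← map_word4, ← map_inv, ← map_mul, ← map_mul, h, mul_inv_cancel_right]

end

theorem IsoJ3.good {X : Type*} [Group X] (h : Spor.IsoJ3 X) : Good16 X := by
  obtain ⟨F, _, _, ω, hF, hω, ⟨e⟩⟩ := h
  have H := good_of_card hF hω
  obtain ⟨G⟩ := exists_gens hF H
  exact (InstJ3.good G H).congr e.symm

end Cfsg.Agent.GH.Cov.InstJ3
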