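import Mathlib
import Cfsg.Agent.GH.Cov.Sq
import Cfsg.Agent.GH.Defs

/-!
# `Good16` for `PSL₂(16)` and `PSL₃(4)` (GH-COV, rank cut)
-/

set_option autoImplicit false

open Cfsg Subgroup

namespace Cfsg.Agent.GH.Cov.InstLie2

open Cfsg.Agent.GH.Cov.Sq Cfsg.Agent.GH.Defs

variable {F : Type*} [Field F]

theorem two_eq_zero [Fintype F] {n : ℕ} (h : Fintype.card F = 2 ^ n) : (2 : F) = 0 := by
  have h1 : ((Fintype.card F : ℕ) : F) = 0 := Nat.cast_card_eq_zero F
  rw [h] at h1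
  push_cast at h1
  exact pow_eq_zero_iff (n := n) (by rintro rfl; rw [pow_zero] at h; have := Fintype.one_lt_card (α := F); omega) |>.1 h1

/-- The root elements of `SL₂`. -/
def u2 (a : F) : Matrix.SpecialLinearGroup (Fin 2) F := ⟨!![1, a; 0, 1], by simp [Matrix.det_fin_two]⟩

/-- The torus of `SL₂`. -/
def d2 (t : Fˣ) : Matrix.SpecialLinearGroup (Fin 2) F :=
  ⟨!![(t : F), 0; 0, ((t⁻¹ : Fˣ) : F)], by simp [Matrix.det_fin_two]⟩

theorem u2_mul (a b : F) : u2 a * u2 b = u2 (a + b) := by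
  apply Subtype.ext
  show !![1, a; 0, 1] * !![1, b; 0, 1] = !![1, a + b; 0, 1]
  ext i j
  fin_cases i <;> fin_cases j <;> simp [Matrix.mul_apply, Fin.sum_univ_two, add_comm]

theorem d2_mul_u2 (t : Fˣ) (a : F) : d2 t * u2 a = u2 (t * t * a) * d2 t := by
  apply Subtype.ext
  show !![(t : F), 0; 0, ((t⁻¹ : Fˣ) : F)] * !![1, a; 0, 1] =
    !![1, t * t * a; 0, 1] * !![(t : F), 0; 0, ((t⁻¹ : Fˣ) : F)]
  ext i j
  fin_cases i <;> fin_cases j <;> simp [Matrix.mul_apply, Fin.sum_univ_two]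
  field_simp

/-- `F → PSL₂(F)` -/
def hom2 : Multiplicative F →* Matrix.ProjectiveSpecialLinearGroup (Fin 2) F :=
  (QuotientGroup.mk' _).comp (MonoidHom.mk' (fun a => u2 (Multiplicative.toAdd a)) (fun a b => by
    rw [u2_mul, toAdd_mul]))

theorem hom2_apply (a : F) : hom2 (Multiplicative.ofAdd a) = QuotientGroup.mk (u2 a) := rfl

theorem hom2_injective : Function.Injective (hom2 (F := F)) := by
  rw [injective_iff_map_eq_one]
  intro a ha
  obtain ⟨a, rfl⟩ := Multiplicative.ofAdd.surjective a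
  rw [hom2_apply, QuotientGroup.eq_one_iff, Matrix.SpecialLinearGroup.mem_center_iff] at ha
  obtain ⟨r, -, hr⟩ := ha
  have := congrFun (congrFun hr 0) 1
  simp [u2] at this
  rw [← this]
  rfl

theorem good_l216 [Fintype F] (h : Fintype.card F = 16) :
    Good16 (Matrix.ProjectiveSpecialLinearGroup (Fin 2) F) := by
  have h2 : (2 : F) = 0 := two_eq_zero (n := 4) (by rw [h]; norm_num)
  have hch : CharP F 2 := CharTwo.of_one_ne_zero_of_two_eq_zero one_ne_zero h2
  refine Good16.of_conj (hom2 (F := F)).range ?_ ?_ ?_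
  · rw [← Nat.card_congr (MonoidHom.ofInjective (hom2_injective (F := F))).toEquiv,
      Nat.card_congr Multiplicative.toAdd, Nat.card_eq_fintype_card, h]
  · rintro _ ⟨a, rfl⟩
    obtain ⟨a, rfl⟩ := Multiplicative.ofAdd.surjective a
    rw [← map_mul, ← ofAdd_add, CharTwo.add_self_eq_zero, ofAdd_zero, map_one]
  · rintro _ ⟨a, rfl⟩ _ ⟨b, rfl⟩ ha hb
    obtain ⟨a, rfl⟩ := Multiplicative.ofAdd.surjective a
    obtain ⟨b, rfl⟩ := Multiplicative.ofAdd.surjective b
    have ha0 : a ≠ 0 := by rintro rfl; exact ha (by rw [ofAdd_zero, map_one])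
    have hb0 : b ≠ 0 := by rintro rfl; exact hb (by rw [ofAdd_zero, map_one])
    obtain ⟨t, ht⟩ : ∃ t : F, t * t = b / a := by
      have := (FiniteField.isSquare_of_char_two (F := F) (by
        rw [ringChar.eq_iff]; exact hch) (b / a))
      obtain ⟨t, ht⟩ := this
      exact ⟨t, ht.symm⟩
    have ht0 : t ≠ 0 := by
      rintro rfl
      rw [mul_zero, eq_comm, div_eq_zero_iff] at ht
      rcases ht with ht | ht
      · exact hb0 ht
      · exact ha0 ht
    refine ⟨QuotientGroup.mk (d2 (Units.mk0 t ht0)), ?_⟩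
    rw [hom2_apply, hom2_apply, ← QuotientGroup.mk_mul, d2_mul_u2, QuotientGroup.mk_mul,
      mul_inv_cancel_right]
    congr 2
    rw [Units.val_mk0, ht, div_mul_cancel₀ _ ha0]

/-- The unipotent radical of a maximal parabolic subgroup of `SL₃`. -/
def u3 (v : F × F) : Matrix.SpecialLinearGroup (Fin 3) F :=
  ⟨!![1, 0, v.1; 0, 1, v.2; 0, 0, 1], by simp [Matrix.det_fin_three]⟩

theorem u3_mul (v w : F × F) : u3 v * u3 w = u3 (v + w) := by
  apply Subtype.ext
  show !![1, 0, v.1; 0, 1, v.2; 0, 0, 1] * !![1, 0, w.1; 0, 1, w.2; 0, 0, 1] =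
    !![1, 0, (v + w).1; 0, 1, (v + w).2; 0, 0, 1]
  ext i j
  fin_cases i <;> fin_cases j <;> simp [Matrix.mul_apply, Fin.sum_univ_three, add_comm]

/-- `SL₂ → SL₃` -/
def l3 (p q r s : F) (h : p * s - q * r = 1) : Matrix.SpecialLinearGroup (Fin 3) F :=
  ⟨!![p, q, 0; r, s, 0; 0, 0, 1], by simp [Matrix.det_fin_three, h]⟩

theorem l3_mul_u3 (p q r s : F) (h : p * s - q * r = 1) (v : F × F) :
    l3 p q r s h * u3 v = u3 (p * v.1 + q * v.2, r * v.1 + s * v.2) * l3 p q r s h := by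
  apply Subtype.ext
  show !![p, q, 0; r, s, 0; 0, 0, 1] * !![1, 0, v.1; 0, 1, v.2; 0, 0, 1] =
    !![1, 0, p * v.1 + q * v.2; 0, 1, r * v.1 + s * v.2; 0, 0, 1] * !![p, q, 0; r, s, 0; 0, 0, 1]
  ext i j
  fin_cases i <;> fin_cases j <;> simp [Matrix.mul_apply, Fin.sum_univ_three]

/-- `F² → PSL₃(F)` -/
def hom3 : Multiplicative (F × F) →* Matrix.ProjectiveSpecialLinearGroup (Fin 3) F :=
  (QuotientGroup.mk' _).comp (MonoidHom.mk' (fun a => u3 (Multiplicative.toAdd a)) (fun a b => by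
    rw [u3_mul, toAdd_mul]))

theorem hom3_apply (a : F × F) : hom3 (Multiplicative.ofAdd a) = QuotientGroup.mk (u3 a) := rfl

theorem hom3_injective : Function.Injective (hom3 (F := F)) := by
  rw [injective_iff_map_eq_one]
  intro a ha
  obtain ⟨a, rfl⟩ := Multiplicative.ofAdd.surjective a
  rw [hom3_apply, QuotientGroup.eq_one_iff, Matrix.SpecialLinearGroup.mem_center_iff] at ha
  obtain ⟨r, -, hr⟩ := ha
  have h1 := congrFun (congrFun hr 0) 2
  have h2 := congrFun (congrFun hr 1) 2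
  simp [u3] at h1 h2
  rw [show a = 0 from Prod.ext h1.symm h2.symm]
  rfl

theorem conj3 (v : F × F) (hv : v ≠ 0) :
    ∃ g : Matrix.ProjectiveSpecialLinearGroup (Fin 3) F,
      g * hom3 (Multiplicative.ofAdd ((1 : F), (0 : F))) * g⁻¹ = hom3 (Multiplicative.ofAdd v) := by
  obtain ⟨a, b⟩ := v
  have key : ∃ q s : F, a * s - q * b = 1 := by
    by_cases ha : a = 0
    · have hb : b ≠ 0 := by
        rintro rfl
        exact hv (by rw [ha]; rfl)
      exact ⟨-b⁻¹, 0, by rw [ha]; field_simp; ring⟩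
    · exact ⟨0, a⁻¹, by field_simp; ring⟩
  obtain ⟨q, s, h⟩ := key
  refine ⟨QuotientGroup.mk (l3 a q b s h), ?_⟩
  rw [hom3_apply, hom3_apply, ← QuotientGroup.mk_mul, l3_mul_u3, QuotientGroup.mk_mul,
    mul_inv_cancel_right]
  simp

theorem good_l34 [Fintype F] (h : Fintype.card F = 4) :
    Good16 (Matrix.ProjectiveSpecialLinearGroup (Fin 3) F) := by
  have h2 : (2 : F) = 0 := two_eq_zero (n := 2) (by rw [h]; norm_num)
  have hch : CharP F 2 := CharTwo.of_one_ne_zero_of_two_eq_zero one_ne_zero h2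
  refine Good16.of_conj (hom3 (F := F)).range ?_ ?_ ?_
  · rw [← Nat.card_congr (MonoidHom.ofInjective (hom3_injective (F := F))).toEquiv,
      Nat.card_congr Multiplicative.toAdd, Nat.card_eq_fintype_card, Fintype.card_prod, h]
  · rintro _ ⟨a, rfl⟩
    obtain ⟨a, rfl⟩ := Multiplicative.ofAdd.surjective a
    rw [← map_mul, ← ofAdd_add, show a + a = 0 from Prod.ext (CharTwo.add_self_eq_zero _)
      (CharTwo.add_self_eq_zero _), ofAdd_zero, map_one]
  · rintro _ ⟨a, rfl⟩ _ ⟨b, rfl⟩ ha hb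
    obtain ⟨a, rfl⟩ := Multiplicative.ofAdd.surjective a
    obtain ⟨b, rfl⟩ := Multiplicative.ofAdd.surjective b
    have ha0 : a ≠ 0 := by rintro rfl; exact ha (by rw [ofAdd_zero, map_one])
    have hb0 : b ≠ 0 := by rintro rfl; exact hb (by rw [ofAdd_zero, map_one])
    obtain ⟨g, hg⟩ := conj3 a ha0
    obtain ⟨k, hk⟩ := conj3 b hb0
    refine ⟨k * g⁻¹, ?_⟩
    rw [← hg, ← hk]
    group

theorem IsL216.good {X : Type*} [Group X] (h : IsL216 X) : Good16 X := by
  obtain ⟨F, _, _, hF, ⟨e⟩⟩ := h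
  exact (good_l216 hF).congr e.symm

theorem IsL34.good {X : Type*} [Group X] (h : IsL34 X) : Good16 X := by
  obtain ⟨F, _, _, hF, ⟨e⟩⟩ := h
  exact (good_l34 hF).congr e.symm

end Cfsg.Agent.GH.Cov.InstLie2
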