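import Mathlib
import Cfsg.Agent.GH.Cov.Basis
import Cfsg.Agent.GH.Defs
import Cfsg.Agent.Golay.Orbit

/-!
# `Good16` for `M₂₂` and `M₂₃` (GH-COV, rank cut)

The pointwise stabiliser of a hexad in `M₂₂`.
-/

set_option autoImplicit false

open Cfsg Subgroup

namespace Cfsg.Agent.GH.Cov.InstMathieu

open Cfsg.Agent.GH.Cov.Sq Cfsg.Agent.GH.Cov.Basis Cfsg.Agent.GH.Defs Cfsg.Agent.Golay.Orbit

/-- product of tables -/
def mulT (l l' : List ℕ) : List ℕ := l'.map fun p => l.getD (Nat.log2 p) 0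

/-- the table of the identity -/
def idT : List ℕ := (List.range 24).map fun i => 2 ^ i

theorem rep_mul {g h : Equiv.Perm GolayPt} {l l' : List ℕ} (hg : Rep g l) (hh : Rep h l') :
    Rep (g * h) (mulT l l') := by
  refine ⟨by rw [mulT, List.length_map, hh.len], fun q => ?_⟩
  have hq : idx q < l'.length := by rw [hh.len]; exact idx_lt q
  have h1 := hh.eq q
  rw [List.getD_eq_getElem _ _ hq] at h1
  have hq' : idx q < (mulT l l').length := by rw [mulT, List.length_map]; exact hq
  rw [List.getD_eq_getElem _ _ hq']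
  simp only [mulT, List.getElem_map, h1, Nat.log2_two_pow]
  rw [hg.eq, Equiv.Perm.mul_apply]

theorem rep_one : Rep 1 idT := by
  refine ⟨rfl, fun q => ?_⟩
  have hq : idx q < idT.length := idx_lt q
  rw [List.getD_eq_getElem _ _ hq]
  simp [idT]

theorem rep_ext {g h : Equiv.Perm GolayPt} {l : List ℕ} (hg : Rep g l) (hh : Rep h l) : g = h := by
  apply Equiv.ext
  intro q
  have h1 := (hg.eq q).symm.trans (hh.eq q)
  exact idx_injective (Nat.pow_right_injective le_rfl h1)

/-- the table of an element of `M₂₂` -/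
def ok22 (l : List ℕ) : Bool :=
  okTab l && m24Tab l && (Nat.beq (l.getD 23 0) (2 ^ 23)) && (Nat.beq (l.getD 0 0) 1)

theorem exists_elt {l : List ℕ} (h : ok22 l = true) : ∃ g : Spor.M22, Rep (g : Equiv.Perm GolayPt) l := by
  simp only [ok22, Bool.and_eq_true] at h
  obtain ⟨⟨⟨h1, h2⟩, h3⟩, h4⟩ := h
  obtain ⟨g, hg⟩ := exists_rep l h1
  have e3 : g none = none := by
    have := hg.eq none
    rw [show idx none = 23 from rfl, Nat.eq_of_beq_eq_true h3] at this
    have h5 : 2 ^ idx none = 2 ^ idx (g none) := this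
    exact (idx_injective (a₁ := none) (Nat.pow_right_injective le_rfl h5)).symm
  have e4 : g (some 0) = some 0 := by
    have := hg.eq (some 0)
    rw [show idx (some 0) = 0 from rfl, Nat.eq_of_beq_eq_true h4] at this
    have h5 : 2 ^ 0 = 2 ^ idx (g (some 0)) := this
    exact (idx_injective (a₁ := some 0) (Nat.pow_right_injective le_rfl h5)).symm
  exact ⟨⟨g, ⟨⟨hg.mem_M24 h2, e3⟩, e4⟩⟩, hg⟩

/-- the element with a given table -/
noncomputable def elt (l : List ℕ) (h : ok22 l = true) : Spor.M22 := Classical.choose (exists_elt h)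

theorem rep_elt (l : List ℕ) (h : ok22 l = true) : Rep (elt l h : Equiv.Perm GolayPt) l :=
  Classical.choose_spec (exists_elt h)

/-- the four generators of `E` -/
def gT : List (List ℕ) := [
  [1, 2, 1024, 4194304, 256, 128, 65536, 32, 16, 1048576, 4, 16384, 2097152, 8192, 2048, 32768, 64, 131072, 262144, 524288, 512, 4096, 8, 8388608],
  [1, 2, 4194304, 1024, 65536, 2048, 256, 16384, 64, 2097152, 8, 32, 1048576, 8192, 128, 32768, 16, 131072, 262144, 524288, 4096, 512, 4, 8388608],
  [1, 2, 2048, 128, 2097152, 4194304, 1048576, 8, 4096, 65536, 16384, 4, 256, 8192, 1024, 32768, 512, 131072, 262144, 524288, 64, 16, 32, 8388608],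
  [1, 2, 64, 16, 8, 4096, 4, 2097152, 4194304, 16384, 65536, 1048576, 32, 8192, 512, 32768, 1024, 131072, 262144, 524288, 2048, 128, 256, 8388608]]

/-- the conjugating elements -/
def cT : List (List ℕ) := [
  [1, 2, 4, 8, 16, 32, 64, 128, 256, 512, 1024, 2048, 4096, 8192, 16384, 32768, 65536, 131072, 262144, 524288, 1048576, 2097152, 4194304, 8388608],
  [1, 2, 4, 8, 16, 32, 64, 128, 256, 512, 1024, 2048, 4096, 8192, 16384, 32768, 65536, 131072, 262144, 524288, 1048576, 2097152, 4194304, 8388608],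
  [1, 262144, 16, 4194304, 128, 2048, 4096, 32, 16384, 64, 65536, 2097152, 1024, 131072, 512, 524288, 1048576, 32768, 2, 8192, 256, 8, 4, 8388608],
  [1, 131072, 16384, 2048, 2097152, 256, 4096, 65536, 1048576, 4, 32, 64, 1024, 32768, 16, 2, 512, 8192, 524288, 262144, 8, 4194304, 128, 8388608],
  [1, 32768, 4, 4096, 4194304, 16384, 1048576, 1024, 32, 128, 2048, 2097152, 65536, 131072, 16, 8192, 64, 524288, 262144, 2, 8, 512, 256, 8388608],
  [1, 262144, 2097152, 1024, 8, 16, 512, 4096, 32, 128, 256, 4, 65536, 131072, 16384, 8192, 64, 2, 32768, 524288, 4194304, 1048576, 2048, 8388608],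
  [1, 8192, 1024, 2048, 32, 1048576, 8, 256, 4, 16, 128, 2097152, 4096, 32768, 65536, 524288, 16384, 262144, 131072, 2, 512, 64, 4194304, 8388608],
  [1, 2, 512, 4096, 8, 16, 4, 1048576, 2048, 16384, 256, 2097152, 32, 262144, 64, 524288, 128, 131072, 8192, 32768, 4194304, 1024, 65536, 8388608],
  [1, 2, 65536, 2048, 256, 16384, 128, 512, 4194304, 32, 1024, 4, 16, 131072, 64, 524288, 2097152, 32768, 8192, 262144, 4096, 8, 1048576, 8388608],
  [1, 2, 1024, 16384, 512, 2097152, 65536, 32, 2048, 8, 64, 4194304, 128, 32768, 16, 8192, 4, 262144, 131072, 524288, 256, 4096, 1048576, 8388608],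
  [1, 524288, 16384, 512, 2048, 4194304, 1048576, 64, 4096, 8, 2097152, 4, 16, 262144, 256, 8192, 32, 2, 32768, 131072, 65536, 1024, 128, 8388608],
  [1, 262144, 2048, 32, 16, 128, 65536, 1048576, 4, 64, 2097152, 4096, 256, 32768, 16384, 131072, 4194304, 524288, 2, 8192, 8, 1024, 512, 8388608],
  [1, 2, 4194304, 65536, 256, 16, 1024, 128, 32, 8, 4096, 1048576, 64, 524288, 4, 32768, 512, 8192, 262144, 131072, 2097152, 2048, 16384, 8388608],
  [1, 32768, 16384, 4, 2097152, 4096, 256, 8, 4194304, 2048, 64, 32, 1024, 131072, 16, 2, 128, 524288, 8192, 262144, 65536, 1048576, 512, 8388608],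
  [1, 262144, 65536, 64, 2097152, 16, 4096, 16384, 1024, 512, 128, 2048, 1048576, 32768, 256, 2, 4, 524288, 8192, 131072, 8, 4194304, 32, 8388608],
  [1, 131072, 16, 512, 32, 64, 4, 128, 65536, 16384, 2048, 1024, 8, 524288, 4096, 8192, 2097152, 2, 32768, 262144, 256, 1048576, 4194304, 8388608]]

/-- table or identity -/
def optT (l : List ℕ) (b : Bool) : List ℕ := if b then l else idT

/-- the table of `word4 e m` -/
def wT (m : ℕ) : List ℕ :=
  mulT (mulT (mulT (optT (gT.getD 0 []) (m.testBit 0)) (optT (gT.getD 1 []) (m.testBit 1)))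
    (optT (gT.getD 2 []) (m.testBit 2))) (optT (gT.getD 3 []) (m.testBit 3))

theorem ok_g : ∀ i : Fin 4, ok22 (gT.getD i []) = true := by decide +kernel

theorem ok_c : ∀ m : Fin 16, ok22 (cT.getD m []) = true := by decide +kernel

theorem sq_g : ∀ i : Fin 4, mulT (gT.getD i []) (gT.getD i []) = idT := by decide +kernel

theorem comm_g : ∀ i j : Fin 4, mulT (gT.getD i []) (gT.getD j []) = mulT (gT.getD j []) (gT.getD i []) := by
  decide +kernel

theorem ne_g : gT.getD 0 [] ≠ idT := by decide +kernel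

theorem conj_g : ∀ m : Fin 16, m ≠ 0 → mulT (cT.getD m []) (gT.getD 0 []) = mulT (wT m) (cT.getD m []) := by
  decide +kernel

/-- the four generators of `E` in `M₂₂` -/
noncomputable def e (i : Fin 4) : Spor.M22 := elt _ (ok_g i)

theorem rep_e (i : Fin 4) : Rep (e i : Equiv.Perm GolayPt) (gT.getD i []) := rep_elt _ _

theorem rep_opt {g : Spor.M22} {l : List ℕ} (h : Rep (g : Equiv.Perm GolayPt) l) (b : Bool) :
    Rep ((opt g b : Spor.M22) : Equiv.Perm GolayPt) (optT l b) := by
  cases b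
  · exact rep_one
  · exact h

theorem rep_word (m : ℕ) : Rep ((word4 e m : Spor.M22) : Equiv.Perm GolayPt) (wT m) :=
  rep_mul (rep_mul (rep_mul (rep_opt (rep_e 0) _) (rep_opt (rep_e 1) _)) (rep_opt (rep_e 2) _))
    (rep_opt (rep_e 3) _)

theorem eq_of_rep {g h : Spor.M22} {l l' : List ℕ} (hg : Rep (g : Equiv.Perm GolayPt) l)
    (hh : Rep (h : Equiv.Perm GolayPt) l') (hl : l = l') : g = h := by
  subst hl
  exact Subtype.ext (rep_ext hg hh)

theorem good22 : Good16 Spor.M22 := by
  refine Good16.of_basis e ?_ ?_ ?_ ?_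
  · intro i
    exact eq_of_rep (h := 1) (rep_mul (rep_e i) (rep_e i)) rep_one (sq_g i)
  · intro i j
    exact eq_of_rep (rep_mul (rep_e i) (rep_e j)) (rep_mul (rep_e j) (rep_e i)) (comm_g i j)
  · intro h
    have h1 := rep_e 0
    rw [h] at h1
    apply ne_g
    have h2 : Rep (1 : Equiv.Perm GolayPt) (gT.getD 0 []) := h1
    apply List.ext_getElem
    · rw [h2.len]; rfl
    · intro n hn hn'
      have hn24 : n < 24 := by rw [h2.len] at hn; exact hn
      have e1 := h2.eq (pt n)
      have e2 := rep_one.eq (pt n)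
      rw [idx_pt n hn24] at e1 e2
      rw [List.getD_eq_getElem _ _ hn] at e1
      rw [List.getD_eq_getElem _ _ hn'] at e2
      rw [e1, e2]
  · intro m hm hm0
    refine ⟨elt _ (ok_c ⟨m, hm⟩), ?_⟩
    have h1 := rep_elt _ (ok_c ⟨m, hm⟩)
    have h2 := eq_of_rep (g := elt _ (ok_c ⟨m, hm⟩) * e 0) (h := word4 e m * elt _ (ok_c ⟨m, hm⟩))
      (rep_mul h1 (rep_e 0)) (rep_mul (rep_word m) h1)
      (conj_g ⟨m, hm⟩ (fun h => hm0 (congrArg Fin.val h)))
    rw [mul_inv_eq_iff_eq_mul]
    exact h2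

theorem good23 : Good16 Spor.M23 :=
  good22.of_injective (Subgroup.inclusion (show Spor.M22 ≤ Spor.M23 from inf_le_left))
    (Subgroup.inclusion_injective _)

theorem IsoM22.good {X : Type*} [Group X] (h : Spor.IsoM22 X) : Good16 X := by
  obtain ⟨e⟩ := h
  exact good22.congr e.symm

theorem IsoM23.good {X : Type*} [Group X] (h : Spor.IsoM23 X) : Good16 X := by
  obtain ⟨e⟩ := h
  exact good23.congr e.symm

end Cfsg.Agent.GH.Cov.InstMathieu
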