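import Mathlib
import Cfsg.Prelude.Def_Classical
import Cfsg.Agent.GH.Cov.Sq
import Cfsg.Agent.GH.RankLie

/-!
# GH-COV, rank cut: `PSL(5,q)` and `PSU(5,q)`, `q` odd, are `Good16`

The elementary abelian subgroup of order 16 consists of the diagonal sign matrices of determinant 1.
-/

set_option autoImplicit false

namespace Cfsg.Agent.GH.Cov.LFive

open Cfsg Subgroup Matrix Cfsg.Agent.GH.RankLie

/-- Product of the signs. -/
def pr : (Fin 5 → ℤˣ) →* ℤˣ where
  toFun v := ∏ i, v i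
  map_one' := by simp
  map_mul' v w := by simp [Finset.prod_mul_distrib]

/-- Sign vectors with product 1. -/
abbrev V : Subgroup (Fin 5 → ℤˣ) := pr.ker

theorem card_V : Nat.card V = 16 := by
  have : Nat.card V = Nat.card {v : Fin 5 → ℤˣ // pr v = 1} := rfl
  rw [this, Nat.card_eq_fintype_card]
  decide +kernel

/-- The vector with signs `-1` exactly at `a` and `b`. -/
def w (a b : Fin 5) : Fin 5 → ℤˣ := fun i => if i = a ∨ i = b then -1 else 1

theorem w_mem : ∀ a b : Fin 5, a ≠ b → w a b ∈ V := by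
  have : ∀ a b : Fin 5, a ≠ b → pr (w a b) = 1 := by decide +kernel
  exact this

theorem w_mul : ∀ a b c : Fin 5, a ≠ b → a ≠ c → b ≠ c → w a b * w a c = w b c := by
  decide +kernel

theorem cases_V : ∀ v : Fin 5 → ℤˣ, pr v = 1 → v = 1 ∨ (∃ a b, a ≠ b ∧ v = w a b) ∨
    (∃ a b c d, a ≠ b ∧ a ≠ c ∧ a ≠ d ∧ b ≠ c ∧ b ≠ d ∧ c ≠ d ∧ v = w a b * w a c * w a d) := by
  decide +kernel

theorem const_V : ∀ v : Fin 5 → ℤˣ, pr v = 1 → (∀ i j, v i = v j) → v = 1 := by
  decide +kernel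

theorem trans2 : ∀ a b : Fin 5, a ≠ b → ∃ π : Equiv.Perm (Fin 5), Equiv.Perm.sign π = 1 ∧
    π 0 = a ∧ π 1 = b := by
  decide +kernel

theorem w_perm (π : Equiv.Perm (Fin 5)) (i : Fin 5) : w 0 1 (π⁻¹ i) = w (π 0) (π 1) i := by
  unfold w
  have h : (π⁻¹ i = 0 ∨ π⁻¹ i = 1) ↔ (i = π 0 ∨ i = π 1) := by
    rw [Equiv.Perm.inv_eq_iff_eq, Equiv.Perm.inv_eq_iff_eq]
  simp only [h]

/-! ### The abstract theorem -/

section Abs

variable {K : Type*} [Field K]

/-- Diagonal sign matrix. -/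
def dg (K : Type*) [Field K] (v : Fin 5 → ℤˣ) : Matrix (Fin 5) (Fin 5) K :=
  mm (fun i => (((v i : ℤˣ) : ℤ) : K)) 1

theorem dg_mul (v v' : Fin 5 → ℤˣ) : dg K v * dg K v' = dg K (v * v') := by
  unfold dg
  rw [mm_mul]
  congr 1
  funext i
  simp

theorem dg_one : dg K 1 = 1 := by
  unfold dg
  rw [← mm_one (ι := Fin 5) (K := K)]
  congr 1
  funext i
  simp

theorem dg_det (v : Fin 5 → ℤˣ) (hv : v ∈ V) : (dg K v).det = 1 := by
  unfold dg
  rw [mm_det]
  have : (∏ i, v i : ℤˣ) = 1 := hv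
  have h2 : (∏ i, (((v i : ℤˣ) : ℤ) : K)) = 1 := by
    have h3 := congrArg (fun u : ℤˣ => (((u : ℤˣ) : ℤ) : K)) this
    simp only [Units.coe_prod, Int.cast_prod, Units.val_one, Int.cast_one] at h3
    exact h3
  rw [h2]
  simp

variable {H : Type*} [Group H] (ι : H →* Matrix.SpecialLinearGroup (Fin 5) K)

/-- **Abstract form.** -/
theorem good (h2 : (2 : K) ≠ 0) (hι : Function.Injective ι)
    (hD : ∀ v ∈ V, ∃ h : H, (ι h : Matrix (Fin 5) (Fin 5) K) = dg K v)
    (hπ : ∀ (π : Equiv.Perm (Fin 5)) (h : Equiv.Perm.sign π = 1), ∃ s : H, ι s = pm K π h)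
    (hQ : ∃ i j : H, i * j * i = j ∧ i * i = j * j ∧
      (ι (i * i) : Matrix (Fin 5) (Fin 5) K) = dg K (w 0 1)) :
    Sq.Good16 (H ⧸ center H) := by
  have hD' : ∀ v : V, ∃ h : H, (ι h : Matrix (Fin 5) (Fin 5) K) = dg K v.1 := fun v => hD v.1 v.2
  choose d hd using hD'
  have hmul : ∀ v v' : V, d (v * v') = d v * d v' := by
    intro v v'
    apply hι
    apply Subtype.ext
    rw [map_mul, Matrix.SpecialLinearGroup.coe_mul, hd, hd, hd, dg_mul]
    rfl
  let D : V →* H := MonoidHom.mk' d hmul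
  let f : V →* H ⧸ center H := (QuotientGroup.mk' (center H)).comp D
  have hneg : (-1 : K) ≠ 1 := by
    intro h
    apply h2
    linear_combination -h
  have hvinj : ∀ a b : ℤˣ, (((a : ℤˣ) : ℤ) : K) = (((b : ℤˣ) : ℤ) : K) → a = b := by
    intro a b h
    rcases Int.units_eq_one_or a with rfl | rfl <;> rcases Int.units_eq_one_or b with rfl | rfl <;>
      simp at h ⊢
    · exact hneg h.symm
    · exact hneg h
  have hf : Function.Injective f := by
    rw [injective_iff_map_eq_one]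
    intro v hv
    have h1 : D v ∈ center H := (QuotientGroup.eq_one_iff (D v)).1 hv
    apply Subtype.ext
    apply const_V v.1 v.2
    intro i j
    obtain ⟨π, hs, hij⟩ := htr5 i j
    obtain ⟨s, hs'⟩ := hπ π hs
    have h3 := congrArg ι ((mem_center_iff.1 h1) s)
    rw [map_mul, map_mul, hs'] at h3
    have h4 := congrArg Subtype.val h3
    have h5 : dg K v.1 * mm (fun _ => 1) π = mm (fun _ => 1) π * dg K v.1 := by
      have e : ((ι (D v) : Matrix.SpecialLinearGroup (Fin 5) K) : Matrix (Fin 5) (Fin 5) K) =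
        dg K v.1 := hd v
      have h6 : (pm K π hs : Matrix (Fin 5) (Fin 5) K) * (ι (D v) : Matrix (Fin 5) (Fin 5) K) =
        (ι (D v) : Matrix (Fin 5) (Fin 5) K) * (pm K π hs : Matrix (Fin 5) (Fin 5) K) := h4
      rw [e] at h6
      exact h6.symm
    have h6 := (mm_comm_iff (fun i => by
      intro h0
      rcases Int.units_eq_one_or (v.1 i) with h | h <;> rw [h] at h0 <;> simp at h0) h5).1 i
    rw [hij] at h6
    exact hvinj _ _ h6
  refine ⟨f.range, ?_, ?_, ?_⟩
  · have h1 : Nat.card f.range = Nat.card V :=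
      (Nat.card_congr (MonoidHom.ofInjective hf).toEquiv).symm
    rw [h1, card_V]
  · rintro _ ⟨v, rfl⟩
    rw [← map_mul]
    have : v * v = 1 := by
      apply Subtype.ext
      funext i
      exact Int.units_mul_self (v.1 i)
    rw [this, map_one]
  · intro q hq hquad hQ8
    have hone : q 1 = 0 := by
      have := hquad 1 (one_mem _) 1 (one_mem _) 1 (one_mem _)
      simp only [mul_one] at this
      generalize q 1 = t at this ⊢
      revert this
      revert t
      decide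
    have h01 : q (f ⟨w 0 1, w_mem 0 1 (by decide)⟩) = 0 := by
      obtain ⟨i, j, e1, e2, e3⟩ := hQ
      have h4 : i * i = d ⟨w 0 1, w_mem 0 1 (by decide)⟩ := by
        apply hι
        apply Subtype.ext
        rw [e3, hd]
      have h5 : f ⟨w 0 1, w_mem 0 1 (by decide)⟩ = (i : H ⧸ center H) * (i : H ⧸ center H) := by
        rw [← QuotientGroup.mk_mul, h4]
        rfl
      rw [h5]
      apply hQ8 (i : H ⧸ center H) (j : H ⧸ center H)
      · rw [mul_inv_eq_iff_eq_mul, eq_inv_mul_iff_mul_eq, ← mul_assoc, ← QuotientGroup.mk_mul,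
          ← QuotientGroup.mk_mul, e1]
      · rw [← QuotientGroup.mk_mul, ← QuotientGroup.mk_mul, e2]
    have hab : ∀ (a b : Fin 5) (h : a ≠ b), q (f ⟨w a b, w_mem a b h⟩) = 0 := by
      intro a b hne
      obtain ⟨π, hs, h0, h1⟩ := trans2 a b hne
      obtain ⟨s, hs'⟩ := hπ π hs
      have h3 : (s : H ⧸ center H) * f ⟨w 0 1, w_mem 0 1 (by decide)⟩ * (s : H ⧸ center H)⁻¹ =
          f ⟨w a b, w_mem a b hne⟩ := by
        have h4 : s * d ⟨w 0 1, w_mem 0 1 (by decide)⟩ * s⁻¹ = d ⟨w a b, w_mem a b hne⟩ := by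
          rw [mul_inv_eq_iff_eq_mul]
          apply hι
          apply Subtype.ext
          rw [map_mul, map_mul, Matrix.SpecialLinearGroup.coe_mul, Matrix.SpecialLinearGroup.coe_mul,
            hd, hd, hs']
          change mm (fun _ => (1 : K)) π * mm _ 1 = mm _ 1 * mm (fun _ => (1 : K)) π
          rw [mm_mul, mm_mul, mul_one, one_mul]
          congr 1
          funext i
          rw [one_mul, mul_one]
          show (((w 0 1 (π⁻¹ i) : ℤˣ) : ℤ) : K) = (((w a b i : ℤˣ) : ℤ) : K)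
          rw [w_perm, h0, h1]
        calc _ = ((s * d ⟨w 0 1, w_mem 0 1 (by decide)⟩ * s⁻¹ : H) : H ⧸ center H) := rfl
          _ = _ := by rw [h4]; rfl
      rw [← h3, hq, h01]
    rintro _ ⟨⟨v, hv⟩, rfl⟩
    rcases cases_V v hv with h | ⟨a, b, hne, h⟩ | ⟨a, b, c, e, h1, h2', h3, h4, h5, h6, h⟩
    · subst h
      have : (⟨1, hv⟩ : V) = 1 := rfl
      rw [this, map_one, hone]
    · subst h
      exact hab a b hne
    · have h7 := hquad (f ⟨w a b, w_mem a b h1⟩) ⟨_, rfl⟩ (f ⟨w a c, w_mem a c h2'⟩) ⟨_, rfl⟩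
        (f ⟨w a e, w_mem a e h3⟩) ⟨_, rfl⟩
      have k1 : f ⟨w a b, w_mem a b h1⟩ * f ⟨w a c, w_mem a c h2'⟩ = f ⟨w b c, w_mem b c h4⟩ := by
        rw [← map_mul]
        congr 1
        exact Subtype.ext (w_mul a b c h1 h2' h4)
      have k2 : f ⟨w a c, w_mem a c h2'⟩ * f ⟨w a e, w_mem a e h3⟩ = f ⟨w c e, w_mem c e h6⟩ := by
        rw [← map_mul]
        congr 1
        exact Subtype.ext (w_mul a c e h2' h3 h6)
      have k3 : f ⟨w a b, w_mem a b h1⟩ * f ⟨w a e, w_mem a e h3⟩ = f ⟨w b e, w_mem b e h5⟩ := by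
        rw [← map_mul]
        congr 1
        exact Subtype.ext (w_mul a b e h1 h3 h5)
      have k4 : f ⟨w a b, w_mem a b h1⟩ * f ⟨w a c, w_mem a c h2'⟩ * f ⟨w a e, w_mem a e h3⟩ =
          f ⟨v, hv⟩ := by
        rw [← map_mul, ← map_mul]
        congr 1
        exact Subtype.ext h.symm
      rw [k4, k1, k2, k3, hab b c h4, hab c e h6, hab b e h5, hab a b h1, hab a c h2', hab a e h3] at h7
      simpa using h7

end Abs

end Cfsg.Agent.GH.Cov.LFive
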