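import Mathlib
import Cfsg.Prelude.Def_Classical
import Cfsg.Agent.GH.Cov.LFive

/-!
# GH-COV, rank cut: `PSL(5,q)` and `PSU(5,q)`, `q` odd, are `Good16`: the instances
-/

set_option autoImplicit false

namespace Cfsg.Agent.GH.Cov.LFiveInst

open Cfsg Subgroup Matrix Cfsg.Agent.GH.RankLie Cfsg.Agent.GH.Cov.LFive

section

variable {K : Type*} [Field K]

/-- order four, square `diag(-1,-1,1,1,1)` -/
def i0 (K : Type*) [Field K] : Matrix (Fin 5) (Fin 5) K :=
  !![0, 1, 0, 0, 0; -1, 0, 0, 0, 0; 0, 0, 1, 0, 0; 0, 0, 0, 1, 0; 0, 0, 0, 0, 1]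

def j0 (x y : K) : Matrix (Fin 5) (Fin 5) K :=
  !![x, y, 0, 0, 0; y, -x, 0, 0, 0; 0, 0, 1, 0, 0; 0, 0, 0, 1, 0; 0, 0, 0, 0, 1]

theorem i0_det : (i0 K).det = 1 := by
  simp [i0, Matrix.det_succ_row_zero, Fin.sum_univ_succ, Fin.succAbove]

theorem j0_det {x y : K} (h : x ^ 2 + y ^ 2 = -1) : (j0 x y).det = 1 := by
  have : (j0 x y).det = -(x ^ 2 + y ^ 2) := by
    simp [j0, Matrix.det_succ_row_zero, Fin.sum_univ_succ, Fin.succAbove]
    ring
  rw [this, h, neg_neg]

theorem i0_sq : i0 K * i0 K = dg K (w 0 1) := by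
  ext a b
  fin_cases a <;> fin_cases b <;>
    simp [i0, dg, mm, w, Matrix.mul_apply, Fin.sum_univ_succ]

theorem j0_sq {x y : K} (h : x ^ 2 + y ^ 2 = -1) : j0 x y * j0 x y = dg K (w 0 1) := by
  ext a b
  fin_cases a <;> fin_cases b <;>
    simp [j0, dg, mm, w, Matrix.mul_apply, Fin.sum_univ_succ] <;>
    first
      | linear_combination h
      | ring

theorem i0_j0_i0 (x y : K) : i0 K * j0 x y * i0 K = j0 x y := by
  ext a b
  fin_cases a <;> fin_cases b <;>
    simp [i0, j0, Matrix.mul_apply, Fin.sum_univ_succ]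

theorem pair_of {H : Type*} [Group H] (ι : H →* Matrix.SpecialLinearGroup (Fin 5) K)
    (hι : Function.Injective ι) {x y : K} (h : x ^ 2 + y ^ 2 = -1) (i j : H)
    (hi : (ι i : Matrix (Fin 5) (Fin 5) K) = i0 K) (hj : (ι j : Matrix (Fin 5) (Fin 5) K) = j0 x y) :
    i * j * i = j ∧ i * i = j * j ∧ (ι (i * i) : Matrix (Fin 5) (Fin 5) K) = dg K (w 0 1) := by
  refine ⟨?_, ?_, ?_⟩
  · apply hι
    apply Subtype.ext
    rw [map_mul, map_mul, Matrix.SpecialLinearGroup.coe_mul, Matrix.SpecialLinearGroup.coe_mul, hi,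
      hj, i0_j0_i0]
  · apply hι
    apply Subtype.ext
    rw [map_mul, map_mul, Matrix.SpecialLinearGroup.coe_mul, Matrix.SpecialLinearGroup.coe_mul, hi,
      hj, i0_sq, j0_sq h]
  · rw [map_mul, Matrix.SpecialLinearGroup.coe_mul, hi, i0_sq]

/-- sign matrix in `SL` -/
def dgS (v : Fin 5 → ℤˣ) (hv : (dg K v).det = 1) : Matrix.SpecialLinearGroup (Fin 5) K :=
  ⟨dg K v, hv⟩

theorem dg_herm [Finite K] {q : ℕ} (hq : ∀ a : ℤˣ, ((((a : ℤˣ) : ℤ) : K)) ^ (q + 1) = 1)
    (v : Fin 5 → ℤˣ) (hv : (dg K v).det = 1) : dgS v hv ∈ SU 5 K q := by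
  intro a b
  rw [slToMat_apply]
  exact mm_herm (fun i => hq (v i)) _ a b

theorem pm_herm [Finite K] {q : ℕ} (π : Equiv.Perm (Fin 5)) (h : Equiv.Perm.sign π = 1) :
    pm K π h ∈ SU 5 K q := by
  intro a b
  rw [slToMat_apply]
  exact mm_herm (fun i => one_pow _) _ a b

theorem dot_mulVec (A B : Matrix (Fin 5) (Fin 5) K) (u v : Fin 5 → K) :
    (A *ᵥ u) ⬝ᵥ (B *ᵥ v) = u ⬝ᵥ ((Aᵀ * B) *ᵥ v) := by
  rw [← Matrix.mulVec_mulVec, Matrix.dotProduct_mulVec u, Matrix.vecMul_transpose]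

theorem mem_su {q : ℕ} (σ : K →+* K) (hσ : ∀ x, σ x = x ^ q)
    (g : Matrix.SpecialLinearGroup (Fin 5) K)
    (h : (g : Matrix (Fin 5) (Fin 5) K)ᵀ * (g : Matrix (Fin 5) (Fin 5) K).map σ = 1) :
    g ∈ SU 5 K q := by
  intro u v
  have e1 : ∀ x y : Fin 5 → K, hermForm 5 K q x y = x ⬝ᵥ (fun i => σ (y i)) := by
    intro x y
    unfold hermForm dotProduct
    exact Finset.sum_congr rfl fun i _ => by simp only [hσ]
  have e2 : slToMat 5 K g = (g : Matrix (Fin 5) (Fin 5) K) := rfl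
  have e3 : (fun i => σ (((g : Matrix (Fin 5) (Fin 5) K) *ᵥ v) i)) =
      ((g : Matrix (Fin 5) (Fin 5) K).map σ) *ᵥ (fun i => σ (v i)) := by
    funext i
    simp only [Matrix.mulVec, dotProduct, map_sum, map_mul, Matrix.map_apply]
  rw [e1, e1, e2, e3, dot_mulVec, h, Matrix.one_mulVec]

theorem i0_herm (σ : K →+* K) : (i0 K)ᵀ * (i0 K).map σ = 1 := by
  ext a b
  fin_cases a <;> fin_cases b <;>
    simp [i0, Matrix.mul_apply, Fin.sum_univ_succ]

theorem j0_herm (σ : K →+* K) {x y : K} (h : x ^ 2 + y ^ 2 = -1) (hx : σ x = -x) (hy : σ y = -y) :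
    (j0 x y)ᵀ * (j0 x y).map σ = 1 := by
  ext a b
  fin_cases a <;> fin_cases b <;>
    simp [j0, Matrix.mul_apply, Fin.sum_univ_succ, hx, hy] <;>
    first
      | linear_combination -h
      | ring

end

/-- `PSL(5,q)`, `q` odd. -/
theorem psl_five {F : Type*} [Field F] [Finite F] (hodd : Odd (Nat.card F)) :
    Sq.Good16 (Matrix.ProjectiveSpecialLinearGroup (Fin 5) F) := by
  classical
  have : Fintype F := Fintype.ofFinite F
  rw [Nat.card_eq_fintype_card] at hodd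
  have h2 : (2 : F) ≠ 0 := by
    apply Ring.two_ne_zero
    intro h
    have := FiniteField.even_card_iff_char_two.1 h
    rw [Nat.odd_iff] at hodd
    omega
  obtain ⟨p, hp⟩ := CharP.exists F
  have hpp : p.Prime := CharP.char_is_prime F p
  have : NeZero p := ⟨hpp.ne_zero⟩
  obtain ⟨a, b, hab⟩ := CharP.sq_add_sq F p (-1)
  have hab' : (a : F) ^ 2 + (b : F) ^ 2 = -1 := by
    rw [hab]; simp
  refine good (MonoidHom.id _) h2 Function.injective_id (fun v hv => ?_) (fun π h => ?_) ?_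
  · exact ⟨⟨dg F v, dg_det v hv⟩, rfl⟩
  · exact ⟨pm F π h, rfl⟩
  · exact ⟨⟨i0 F, i0_det⟩, ⟨j0 (a : F) b, j0_det hab'⟩, pair_of (MonoidHom.id _) Function.injective_id
      hab' _ _ rfl rfl⟩

/-- in a finite field with an automorphism `σ` of order two there are anti-invariant `x`, `y` with
`x² + y² = -1`. -/
theorem exists_anti {F : Type*} [Field F] [Finite F] (h2 : (2 : F) ≠ 0) (σ : F →+* F)
    (hσ2 : ∀ x, σ (σ x) = x) (hσ : ∃ x, σ x ≠ x) :
    ∃ x y : F, σ x = -x ∧ σ y = -y ∧ x ^ 2 + y ^ 2 = -1 := by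
  classical
  obtain ⟨z, hz⟩ := hσ
  let δ := z - σ z
  have hδ : δ ≠ 0 := sub_ne_zero.2 (Ne.symm hz)
  have hσδ : σ δ = -δ := by
    show σ (z - σ z) = -(z - σ z)
    rw [map_sub, hσ2, neg_sub]
  let F0 : Subfield F := RingHom.eqLocusField σ (RingHom.id F)
  have hF0 : ∀ x, x ∈ F0 ↔ σ x = x := fun x => Iff.rfl
  have hν : δ ^ 2 ∈ F0 := by
    rw [hF0, map_pow, hσδ, neg_sq]
  have hfin : Fintype F0 := Fintype.ofFinite F0
  let ν : F0 := ⟨δ ^ 2, hν⟩
  have hν0 : ν ≠ 0 := by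
    intro h
    have := congrArg Subtype.val h
    exact pow_ne_zero 2 hδ this
  have hodd : Fintype.card F0 % 2 = 1 := by
    by_contra hcon
    have h3 : Fintype.card F0 % 2 = 0 := by omega
    have h4 := FiniteField.even_card_iff_char_two.2 h3
    have hch : CharP F0 2 := (ringChar.eq_iff).1 h4
    have h5 : (2 : F0) = 0 := by
      have := CharP.cast_eq_zero F0 2
      exact_mod_cast this
    have h6 := congrArg (algebraMap F0 F) h5
    rw [map_ofNat, map_zero] at h6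
    exact h2 h6
  obtain ⟨a, b, hab⟩ := FiniteField.exists_root_sum_quadratic (R := F0)
    (f := Polynomial.C ν * Polynomial.X ^ 2) (g := Polynomial.C ν * Polynomial.X ^ 2 + Polynomial.C 1)
    (by rw [Polynomial.degree_C_mul_X_pow 2 hν0]; rfl)
    (by
      rw [Polynomial.degree_add_eq_left_of_degree_lt]
      · rw [Polynomial.degree_C_mul_X_pow 2 hν0]; rfl
      · rw [Polynomial.degree_C_mul_X_pow 2 hν0, Polynomial.degree_C one_ne_zero]
        norm_num) hodd
  simp only [Polynomial.eval_mul, Polynomial.eval_C, Polynomial.eval_pow, Polynomial.eval_X,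
    Polynomial.eval_add] at hab
  have hab' := congrArg (algebraMap F0 F) hab
  simp only [map_add, map_mul, map_pow, map_one, map_zero] at hab'
  have e1 : algebraMap F0 F ν = δ ^ 2 := rfl
  rw [e1] at hab'
  have ha : σ (algebraMap F0 F a) = algebraMap F0 F a := a.2
  have hb : σ (algebraMap F0 F b) = algebraMap F0 F b := b.2
  refine ⟨δ * algebraMap F0 F a, δ * algebraMap F0 F b, ?_, ?_, ?_⟩
  · rw [map_mul, hσδ, ha, neg_mul]
  · rw [map_mul, hσδ, hb, neg_mul]
  · linear_combination hab'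

/-- `PSU(5,q)`, `q` odd. -/
theorem psu_five {F : Type*} [Field F] [Finite F] {q : ℕ} (hF : Nat.card F = q ^ 2)
    (hodd : Odd q) : Sq.Good16 (PSU 5 F q) := by
  classical
  have : Fintype F := Fintype.ofFinite F
  rw [Nat.card_eq_fintype_card] at hF
  have h2 : (2 : F) ≠ 0 := by
    apply Ring.two_ne_zero
    intro h
    have h3 := FiniteField.even_card_iff_char_two.1 h
    rw [hF] at h3
    have h4 : Odd (q ^ 2) := hodd.pow
    rw [Nat.odd_iff] at h4
    omega
  obtain ⟨p, hp⟩ := CharP.exists F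
  have hpp : p.Prime := CharP.char_is_prime F p
  have : Fact p.Prime := ⟨hpp⟩
  obtain ⟨n, -, hn⟩ := FiniteField.card F p
  have hq : q ∣ p ^ (n : ℕ) := by
    rw [← hn, hF]
    exact dvd_pow_self q two_ne_zero
  obtain ⟨m, -, hm⟩ := (Nat.dvd_prime_pow hpp).1 hq
  have hexp : ExpChar F p := ExpChar.prime hpp
  let σ : F →+* F := iterateFrobenius F p m
  have hσ : ∀ x, σ x = x ^ q := by
    intro x
    rw [hm]
    exact iterateFrobenius_def p m x
  have hσ2 : ∀ x, σ (σ x) = x := by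
    intro x
    rw [hσ, hσ, ← pow_mul, ← pow_two, ← hF, FiniteField.pow_card]
  have hq1 : 1 < q := by
    by_contra hcon
    have h5 : 1 < Fintype.card F := Fintype.one_lt_card
    rw [hF] at h5
    have : q ≤ 1 := by omega
    have : q ^ 2 ≤ 1 ^ 2 := Nat.pow_le_pow_left this 2
    omega
  have hσne : ∃ x, σ x ≠ x := by
    by_contra hcon
    push Not at hcon
    -- all elements are roots of X^q - X
    have h6 : Fintype.card F ≤ q := by
      have h7 : (Finset.univ : Finset F) ⊆ (Polynomial.X ^ q - Polynomial.X : Polynomial F).roots.toFinset := by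
        intro x _
        rw [Multiset.mem_toFinset, Polynomial.mem_roots (FiniteField.X_pow_card_sub_X_ne_zero F hq1)]
        simp [Polynomial.IsRoot, ← hσ, hcon]
      calc Fintype.card F = (Finset.univ : Finset F).card := rfl
        _ ≤ _ := Finset.card_le_card h7
        _ ≤ _ := Multiset.toFinset_card_le _
        _ ≤ (Polynomial.X ^ q - Polynomial.X : Polynomial F).natDegree := Polynomial.card_roots' _
        _ = q := FiniteField.X_pow_card_sub_X_natDegree_eq F hq1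
    rw [hF] at h6
    nlinarith
  obtain ⟨x, y, hx, hy, hxy⟩ := exists_anti h2 σ hσ2 hσne
  have hunit : ∀ a : ℤˣ, ((((a : ℤˣ) : ℤ) : F)) ^ (q + 1) = 1 := by
    intro a
    have heven : Even (q + 1) := hodd.add_one
    rcases Int.units_eq_one_or a with rfl | rfl
    · simp
    · simp [heven.neg_one_pow]
  refine good (SU 5 F q).subtype h2 (SU 5 F q).subtype_injective (fun v hv => ?_) (fun π h => ?_) ?_
  · exact ⟨⟨⟨dg F v, dg_det v hv⟩, dg_herm hunit v _⟩, rfl⟩
  · exact ⟨⟨pm F π h, pm_herm π h⟩, rfl⟩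
  · exact ⟨⟨⟨i0 F, i0_det⟩, mem_su σ hσ _ (i0_herm σ)⟩,
      ⟨⟨j0 x y, j0_det hxy⟩, mem_su σ hσ _ (j0_herm σ hxy hx hy)⟩,
      pair_of (SU 5 F q).subtype (SU 5 F q).subtype_injective hxy _ _ rfl rfl⟩

end Cfsg.Agent.GH.Cov.LFiveInst
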