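import Mathlib
import Cfsg.Prelude.Def_Classical
import Cfsg.Agent.GH.Cov.Sq

/-!
# GH-COV, rank cut: `PSL(4,q)`, `q ≡ 1 (mod 4)`, and `PSU(4,q)`, `q ≡ 3 (mod 4)`, are `Good16`

The elementary abelian subgroup of order 16 is the image of the group of the 16 real Pauli matrices
`X^a Z^b` on two qubits; the normalizer contains the Clifford elements `c ⊗ 1` and `SWAP ∘ CNOT`, which are
transitive on the 15 nontrivial elements.
-/

set_option autoImplicit false

namespace Cfsg.Agent.GH.Cov.Pauli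

open Cfsg Subgroup Matrix

/-- The matrix of `X^a Z^b`, `n = 4 a + b`. -/
def PZ (n : Fin 16) : Matrix (Fin 4) (Fin 4) GaussianInt := fun i j =>
  if i.val = j.val ^^^ (n.val / 4) then
    (if (n.val % 4) &&& j.val = 1 ∨ (n.val % 4) &&& j.val = 2 then -1 else 1) else 0

/-- The imaginary unit. -/
def I : GaussianInt := ⟨0, 1⟩

/-- `c ⊗ 1` (times `1 - i`). -/
def C1 : Matrix (Fin 4) (Fin 4) GaussianInt :=
  !![1, 0, -I, 0; 0, 1, 0, -I; 1, 0, I, 0; 0, 1, 0, I]

/-- `SWAP ∘ CNOT`. -/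
def C3 : Matrix (Fin 4) (Fin 4) GaussianInt :=
  !![1, 0, 0, 0; 0, 0, 0, 1; 0, 1, 0, 0; 0, 0, 1, 0]

def p1 : Fin 16 → Fin 16 := ![0, 1, 8, 9, 4, 5, 12, 13, 10, 11, 2, 3, 14, 15, 6, 7]
def p3 : Fin 16 → Fin 16 := ![0, 3, 1, 2, 8, 11, 9, 10, 12, 15, 13, 14, 4, 7, 5, 6]

theorem mul_PZ : ∀ n m : Fin 16, ∃ k : Fin 16, ∃ l : Fin 4,
    (∀ i j, (PZ n * PZ m) i j = (I ^ (l : ℕ) • PZ k) i j) ∧ (n ≠ m → k ≠ 0) := by
  decide +kernel

theorem sq_PZ : ∀ n : Fin 16, ∃ l : Fin 4, ∀ i j, (PZ n * PZ n) i j = (I ^ (l : ℕ) • PZ 0) i j := by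
  decide +kernel

theorem anti_PZ : ∀ n : Fin 16, n ≠ 0 → ∃ m : Fin 16, ∀ i j,
    (PZ n * PZ m) i j + (PZ m * PZ n) i j = 0 := by
  decide +kernel

theorem c1_PZ : ∀ n : Fin 16, ∃ l : Fin 4,
    ∀ i j, (C1 * PZ n) i j = (I ^ (l : ℕ) • (PZ (p1 n) * C1)) i j := by
  decide +kernel

theorem c3_PZ : ∀ n : Fin 16, ∃ l : Fin 4,
    ∀ i j, (C3 * PZ n) i j = (I ^ (l : ℕ) • (PZ (p3 n) * C3)) i j := by
  decide +kernel

theorem PZ_zero : PZ 0 = 1 := by
  apply Matrix.ext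
  intro i j
  fin_cases i <;> fin_cases j <;> rfl

theorem det_PZ : ∀ n : Fin 16, (PZ n).det = 1 := by
  decide +kernel

theorem det_C3 : C3.det = 1 := by
  decide +kernel

theorem det_C1 : C1.det = -4 := by
  decide +kernel

/-! ### The abstract theorem -/

section Abs

variable {K : Type*} [Field K] (φ : GaussianInt →+* K)

/-- Entrywise image of a matrix. -/
abbrev mp (M : Matrix (Fin 4) (Fin 4) GaussianInt) : Matrix (Fin 4) (Fin 4) K := φ.mapMatrix M

theorem mp_smul (x : GaussianInt) (M : Matrix (Fin 4) (Fin 4) GaussianInt) :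
    mp φ (x • M) = φ x • mp φ M := by
  ext i j
  simp [mp]

theorem mp_congr {M N : Matrix (Fin 4) (Fin 4) GaussianInt} (h : ∀ i j, M i j = N i j) :
    mp φ M = mp φ N := by
  rw [show M = N from Matrix.ext h]

variable {H : Type*} [Group H] (ι : H →* Matrix.SpecialLinearGroup (Fin 4) K)

theorem center_of_scalar (hι : Function.Injective ι) {h : H} {l : K}
    (hl : (ι h : Matrix (Fin 4) (Fin 4) K) = l • 1) : h ∈ center H := by
  rw [mem_center_iff]
  intro g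
  apply hι
  apply Subtype.ext
  rw [map_mul, map_mul, Matrix.SpecialLinearGroup.coe_mul, Matrix.SpecialLinearGroup.coe_mul, hl]
  simp

theorem rel (hι : Function.Injective ι) {a b : H} {l : K}
    (hl : (ι a : Matrix (Fin 4) (Fin 4) K) = l • (ι b : Matrix (Fin 4) (Fin 4) K)) :
    (a : H ⧸ center H) = b := by
  have h1 : a * b⁻¹ ∈ center H := by
    apply center_of_scalar ι hι (l := l)
    rw [map_mul, Matrix.SpecialLinearGroup.coe_mul, hl, smul_mul_assoc,
      ← Matrix.SpecialLinearGroup.coe_mul, ← map_mul, mul_inv_cancel, map_one,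
      Matrix.SpecialLinearGroup.coe_one]
  rw [← mul_inv_eq_one, ← QuotientGroup.mk_inv, ← QuotientGroup.mk_mul, QuotientGroup.eq_one_iff]
  exact h1

/-- **Abstract form.** -/
theorem good (h2 : (2 : K) ≠ 0) (hι : Function.Injective ι)
    (hP : ∀ n : Fin 16, ∃ h : H, (ι h : Matrix (Fin 4) (Fin 4) K) = mp φ (PZ n))
    (hC1 : ∃ (h : H) (μ : K), (ι h : Matrix (Fin 4) (Fin 4) K) = μ • mp φ C1)
    (hC3 : ∃ h : H, (ι h : Matrix (Fin 4) (Fin 4) K) = mp φ C3) :
    Sq.Good16 (H ⧸ center H) := by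
  choose p hp using hP
  obtain ⟨c1, μ, hc1⟩ := hC1
  obtain ⟨c3, hc3⟩ := hC3
  have hmul : ∀ n m : Fin 16, ∃ k : Fin 16, ((p n : H ⧸ center H) * (p m : H ⧸ center H) = p k) ∧
      (n ≠ m → k ≠ 0) := by
    intro n m
    obtain ⟨k, l, h1, h3⟩ := mul_PZ n m
    refine ⟨k, ?_, h3⟩
    rw [← QuotientGroup.mk_mul]
    apply rel ι hι (l := φ (I ^ (l : ℕ)))
    rw [map_mul, Matrix.SpecialLinearGroup.coe_mul, hp, hp, hp, ← mp_smul, ← map_mul]
    exact mp_congr φ h1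
  have h0 : (p 0 : H ⧸ center H) = 1 := by
    rw [← QuotientGroup.mk_one]
    apply rel ι hι (l := 1)
    rw [map_one, Matrix.SpecialLinearGroup.coe_one, one_smul, hp]
    rw [PZ_zero, mp, map_one]
  have hsq : ∀ n : Fin 16, (p n : H ⧸ center H) * (p n : H ⧸ center H) = 1 := by
    intro n
    obtain ⟨l, h1⟩ := sq_PZ n
    rw [← h0, ← QuotientGroup.mk_mul]
    apply rel ι hι (l := φ (I ^ (l : ℕ)))
    rw [map_mul, Matrix.SpecialLinearGroup.coe_mul, hp, hp, ← mp_smul, ← map_mul]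
    exact mp_congr φ h1
  have hne : ∀ n : Fin 16, n ≠ 0 → (p n : H ⧸ center H) ≠ 1 := by
    intro n hn h1
    rw [QuotientGroup.eq_one_iff, mem_center_iff] at h1
    obtain ⟨m, hm⟩ := anti_PZ n hn
    have h3 := congrArg (fun x => ((ι x : Matrix.SpecialLinearGroup (Fin 4) K) :
      Matrix (Fin 4) (Fin 4) K)) (h1 (p m))
    simp only [map_mul, Matrix.SpecialLinearGroup.coe_mul] at h3
    have h4 : (ι (p n) : Matrix (Fin 4) (Fin 4) K) * (ι (p m)) +
        (ι (p m) : Matrix (Fin 4) (Fin 4) K) * (ι (p n)) = 0 := by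
      rw [hp, hp, ← map_mul, ← map_mul, ← map_add]
      have : PZ n * PZ m + PZ m * PZ n = 0 := Matrix.ext hm
      rw [this, map_zero]
    rw [h3, ← two_smul K, smul_eq_zero] at h4
    rcases h4 with h4 | h4
    · exact h2 h4
    · have h5 := congrArg Matrix.det h4
      rw [Matrix.det_mul, Matrix.SpecialLinearGroup.det_coe, Matrix.SpecialLinearGroup.det_coe,
        Matrix.det_zero] at h5
      simp at h5
  have hinj : Function.Injective fun n : Fin 16 => (p n : H ⧸ center H) := by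
    intro n m h
    by_contra hnm
    obtain ⟨k, hk, hk0⟩ := hmul n m
    simp only at h
    rw [h, hsq] at hk
    exact hne k (hk0 hnm) hk.symm
  -- the subgroup
  let E : Subgroup (H ⧸ center H) :=
    { carrier := Set.range fun n : Fin 16 => (p n : H ⧸ center H)
      mul_mem' := by
        rintro _ _ ⟨n, rfl⟩ ⟨m, rfl⟩
        obtain ⟨k, hk, -⟩ := hmul n m
        exact ⟨k, hk.symm⟩
      one_mem' := ⟨0, h0⟩
      inv_mem' := by
        rintro _ ⟨n, rfl⟩
        refine ⟨n, ?_⟩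
        exact (inv_eq_of_mul_eq_one_left (hsq n)).symm }
  have hcard : Nat.card E = 16 := by
    have h1 : Nat.card E = Nat.card (Set.range fun n : Fin 16 => (p n : H ⧸ center H)) := rfl
    rw [h1, Nat.card_range_of_injective hinj, Nat.card_eq_fintype_card, Fintype.card_fin]
  -- conjugations
  have s1 : ∀ n : Fin 16, (c1 : H ⧸ center H) * p n * (c1 : H ⧸ center H)⁻¹ = p (p1 n) := by
    intro n
    rw [mul_inv_eq_iff_eq_mul, ← QuotientGroup.mk_mul, ← QuotientGroup.mk_mul]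
    obtain ⟨l, h1⟩ := c1_PZ n
    apply rel ι hι (l := φ (I ^ (l : ℕ)))
    rw [map_mul, map_mul, Matrix.SpecialLinearGroup.coe_mul, Matrix.SpecialLinearGroup.coe_mul, hp,
      hp, hc1, smul_mul_assoc, ← map_mul, mul_smul_comm, ← map_mul, smul_comm, ← mp_smul]
    congr 1
    exact mp_congr φ h1
  have s3 : ∀ n : Fin 16, (c3 : H ⧸ center H) * p n * (c3 : H ⧸ center H)⁻¹ = p (p3 n) := by
    intro n
    rw [mul_inv_eq_iff_eq_mul, ← QuotientGroup.mk_mul, ← QuotientGroup.mk_mul]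
    obtain ⟨l, h1⟩ := c3_PZ n
    apply rel ι hι (l := φ (I ^ (l : ℕ)))
    rw [map_mul, map_mul, Matrix.SpecialLinearGroup.coe_mul, Matrix.SpecialLinearGroup.coe_mul, hp,
      hp, hc3, ← map_mul, ← map_mul, ← mp_smul]
    exact mp_congr φ h1
  let R : Fin 16 → Prop := fun n => ∃ g : H ⧸ center H, g * p 1 * g⁻¹ = p n
  have t1 : ∀ n, R n → R (p1 n) := by
    rintro n ⟨g, hg⟩
    refine ⟨(c1 : H ⧸ center H) * g, ?_⟩
    rw [← s1, ← hg]
    group
  have t3 : ∀ n, R n → R (p3 n) := by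
    rintro n ⟨g, hg⟩
    refine ⟨(c3 : H ⧸ center H) * g, ?_⟩
    rw [← s3, ← hg]
    group
  have r1 : R 1 := ⟨1, by group⟩
  have r3 : R 3 := t3 1 r1
  have r2 : R 2 := t3 3 r3
  have r8 : R 8 := t1 2 r2
  have r9 : R 9 := t1 3 r3
  have r10 : R 10 := t1 8 r8
  have r11 : R 11 := t1 9 r9
  have r12 : R 12 := t3 8 r8
  have r15 : R 15 := t3 9 r9
  have r13 : R 13 := t3 10 r10
  have r14 : R 14 := t3 11 r11
  have r4 : R 4 := t3 12 r12
  have r7 : R 7 := t3 13 r13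
  have r5 : R 5 := t3 14 r14
  have r6 : R 6 := t3 15 r15
  have hR : ∀ n : Fin 16, n ≠ 0 → R n := by
    intro n hn
    fin_cases n
    · exact absurd rfl hn
    all_goals assumption
  refine Sq.Good16.of_conj E hcard ?_ ?_
  · rintro _ ⟨n, rfl⟩
    exact hsq n
  · rintro _ ⟨n, rfl⟩ _ ⟨m, rfl⟩ hn hm
    obtain ⟨g, hg⟩ := hR n (fun h => hn (by rw [h]; exact h0))
    obtain ⟨k, hk⟩ := hR m (fun h => hm (by rw [h]; exact h0))
    refine ⟨k * g⁻¹, ?_⟩
    simp only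
    rw [← hg, ← hk]
    group

end Abs

end Cfsg.Agent.GH.Cov.Pauli
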