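import Mathlib
import Cfsg.Prelude.Def_Classical
import Cfsg.Agent.GH.Cov.Pauli

/-!
# GH-COV, rank cut: `PSL(4,q)`, `q ≡ 1 (mod 4)`, and `PSU(4,q)`, `q ≡ 3 (mod 4)`, are `Good16`
-/

set_option autoImplicit false

namespace Cfsg.Agent.GH.Cov.LFour

open Cfsg Subgroup Matrix Cfsg.Agent.GH.Cov.Pauli

section

variable {K : Type*} [Field K]

/-- The homomorphism `ℤ[i] → K`. -/
def hom (i : K) (hi : i * i = -1) : GaussianInt →+* K :=
  Zsqrtd.lift ⟨i, by rw [hi]; push_cast; rfl⟩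

theorem hom_I (i : K) (hi : i * i = -1) : hom i hi I = i := by
  simp [hom, I]

theorem mu_pow {i : K} (hi : i * i = -1) (h2 : (2 : K) ≠ 0) :
    1 - i ≠ 0 ∧ ((1 - i)⁻¹) ^ 4 * (-4) = 1 := by
  have h1 : (1 - i) * (1 + i) = 2 := by
    linear_combination -hi
  have h3 : 1 - i ≠ 0 := by
    intro h
    rw [h, zero_mul] at h1
    exact h2 h1.symm
  refine ⟨h3, ?_⟩
  have h4 : (1 - i) ^ 4 = -4 := by
    linear_combination (i ^ 2 - 4 * i + 5) * hi
  rw [inv_pow, h4]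
  have : (-4 : K) ≠ 0 := by
    rw [← h4]
    exact pow_ne_zero 4 h3
  exact inv_mul_cancel₀ this

theorem det_mp (φ : GaussianInt →+* K) (M : Matrix (Fin 4) (Fin 4) GaussianInt) :
    (mp φ M).det = φ M.det := (RingHom.map_det φ M).symm

end

/-- `PSL(4,q)`, `q ≡ 1 (mod 4)`. -/
theorem psl_four {F : Type*} [Field F] [Finite F] (h4 : Nat.card F % 4 = 1) :
    Sq.Good16 (Matrix.ProjectiveSpecialLinearGroup (Fin 4) F) := by
  classical
  have : Fintype F := Fintype.ofFinite F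
  rw [Nat.card_eq_fintype_card] at h4
  have h2 : (2 : F) ≠ 0 := by
    apply Ring.two_ne_zero
    intro h
    have := FiniteField.even_card_iff_char_two.1 h
    omega
  obtain ⟨i, hi⟩ := FiniteField.isSquare_neg_one_iff.2 (by omega : Fintype.card F % 4 ≠ 3)
  have hi' : i * i = -1 := hi.symm
  refine good (hom i hi') (MonoidHom.id _) h2 Function.injective_id (fun n => ?_) ?_ ?_
  · exact ⟨⟨mp (hom i hi') (PZ n), by rw [det_mp, det_PZ, map_one]⟩, rfl⟩
  · refine ⟨⟨(1 - i)⁻¹ • mp (hom i hi') C1, ?_⟩, (1 - i)⁻¹, rfl⟩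
    rw [Matrix.det_smul, det_mp, det_C1, map_neg, Fintype.card_fin]
    have : (hom i hi') 4 = 4 := map_ofNat _ 4
    rw [this]
    exact (mu_pow hi' h2).2
  · exact ⟨⟨mp (hom i hi') C3, by rw [det_mp, det_C3, map_one]⟩, rfl⟩

/-! ### The unitary case -/

section unitary

variable {K : Type*} [Field K] {q : ℕ} (σ : K →+* K)

theorem dot_mulVec {R : Type*} [CommRing R] (A B : Matrix (Fin 4) (Fin 4) R) (u w : Fin 4 → R) :
    (A *ᵥ u) ⬝ᵥ (B *ᵥ w) = u ⬝ᵥ ((Aᵀ * B) *ᵥ w) := by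
  rw [← Matrix.mulVec_mulVec, Matrix.dotProduct_mulVec u, Matrix.vecMul_transpose]

theorem mem_su (hσ : ∀ x, σ x = x ^ q) (φ : GaussianInt →+* K)
    (hφσ : ∀ x : GaussianInt, σ (φ x) = φ (star x)) {g : Matrix.SpecialLinearGroup (Fin 4) K}
    {M : Matrix (Fin 4) (Fin 4) GaussianInt} {μ : K} {N : GaussianInt}
    (hg : (g : Matrix (Fin 4) (Fin 4) K) = μ • mp φ M)
    (hM : ∀ i j, (Mᵀ * M.map star) i j = (N • (1 : Matrix (Fin 4) (Fin 4) GaussianInt)) i j)
    (hμ : μ * σ μ * φ N = 1) : g ∈ SU 4 K q := by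
  intro u v
  have e1 : ∀ x y : Fin 4 → K, hermForm 4 K q x y = x ⬝ᵥ (fun i => σ (y i)) := by
    intro x y
    unfold hermForm dotProduct
    exact Finset.sum_congr rfl fun i _ => by simp only [hσ]
  have e2 : slToMat 4 K g = (g : Matrix (Fin 4) (Fin 4) K) := rfl
  have e3 : (fun i => σ (((g : Matrix (Fin 4) (Fin 4) K) *ᵥ v) i)) =
      ((g : Matrix (Fin 4) (Fin 4) K).map σ) *ᵥ (fun i => σ (v i)) := by
    funext i
    simp only [Matrix.mulVec, dotProduct, map_sum, map_mul, Matrix.map_apply]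
  rw [e1, e1, e2, e3, dot_mulVec]
  have e4 : (g : Matrix (Fin 4) (Fin 4) K)ᵀ * (g : Matrix (Fin 4) (Fin 4) K).map σ = 1 := by
    have h1 : (g : Matrix (Fin 4) (Fin 4) K).map σ = σ μ • mp φ (M.map star) := by
      rw [hg]
      ext i j
      simp [mp, hφσ]
    have h2 : (g : Matrix (Fin 4) (Fin 4) K)ᵀ = μ • mp φ Mᵀ := by
      rw [hg]
      ext i j
      simp [mp]
    have h3 : mp φ Mᵀ * mp φ (M.map star) = φ N • (1 : Matrix (Fin 4) (Fin 4) K) := by
      rw [← map_mul, ← map_one φ.mapMatrix, ← mp_smul]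
      exact mp_congr φ hM
    rw [h1, h2, smul_mul_assoc, mul_smul_comm, h3, smul_smul, smul_smul, hμ, one_smul]
  rw [e4, Matrix.one_mulVec]

theorem herm_PZ : ∀ n : Fin 16, ∀ i j, ((PZ n)ᵀ * (PZ n).map star) i j =
    ((1 : GaussianInt) • (1 : Matrix (Fin 4) (Fin 4) GaussianInt)) i j := by
  decide +kernel

theorem herm_C1 : ∀ i j, (C1ᵀ * C1.map star) i j =
    ((2 : GaussianInt) • (1 : Matrix (Fin 4) (Fin 4) GaussianInt)) i j := by
  decide +kernel

theorem herm_C3 : ∀ i j, (C3ᵀ * C3.map star) i j =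
    ((1 : GaussianInt) • (1 : Matrix (Fin 4) (Fin 4) GaussianInt)) i j := by
  decide +kernel

end unitary

/-- `PSU(4,q)`, `q ≡ 3 (mod 4)`. -/
theorem psu_four {F : Type*} [Field F] [Finite F] {q : ℕ} (hF : Nat.card F = q ^ 2)
    (h4 : q % 4 = 3) : Sq.Good16 (PSU 4 F q) := by
  classical
  have : Fintype F := Fintype.ofFinite F
  rw [Nat.card_eq_fintype_card] at hF
  have hcard4 : Fintype.card F % 4 = 1 := by
    rw [hF, Nat.pow_mod, h4]
  have h2 : (2 : F) ≠ 0 := by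
    apply Ring.two_ne_zero
    intro h
    have := FiniteField.even_card_iff_char_two.1 h
    omega
  obtain ⟨i, hi⟩ := FiniteField.isSquare_neg_one_iff.2 (by omega : Fintype.card F % 4 ≠ 3)
  have hi' : i * i = -1 := hi.symm
  obtain ⟨p, hp⟩ := CharP.exists F
  have hpp : p.Prime := CharP.char_is_prime F p
  have : Fact p.Prime := ⟨hpp⟩
  obtain ⟨n, -, hn⟩ := FiniteField.card F p
  have hq : q ∣ p ^ (n : ℕ) := by
    rw [← hn, hF]
    exact dvd_pow_self q two_ne_zero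
  obtain ⟨m, -, hm⟩ := (Nat.dvd_prime_pow hpp).1 hq
  have hexp : ExpChar F p := ExpChar.prime hpp
  let σ : F →+* F := iterateFrobenius F p m
  have hσ : ∀ x, σ x = x ^ q := by
    intro x
    rw [hm]
    exact iterateFrobenius_def p m x
  have hiq : i ^ q = -i := by
    obtain ⟨k, hk⟩ : ∃ k, q = 4 * k + 3 := ⟨q / 4, by omega⟩
    rw [hk, pow_add, pow_mul]
    have : i ^ 4 = 1 := by
      calc i ^ 4 = (i * i) * (i * i) := by ring
        _ = 1 := by rw [hi']; ring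
    rw [this, one_pow, one_mul]
    calc i ^ 3 = (i * i) * i := by ring
      _ = -i := by rw [hi']; ring
  have hφσ : ∀ x : GaussianInt, σ (hom i hi' x) = hom i hi' (star x) := by
    have : σ.comp (hom i hi') = (hom i hi').comp (starRingEnd GaussianInt) := by
      apply Zsqrtd.hom_ext
      rw [RingHom.comp_apply, RingHom.comp_apply]
      have e1 : (Zsqrtd.sqrtd : GaussianInt) = I := rfl
      rw [e1, hom_I, hσ, hiq]
      have e2 : starRingEnd GaussianInt I = -I := by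
        rw [starRingEnd_apply]
        decide +kernel
      rw [e2, map_neg, hom_I]
    exact fun x => RingHom.congr_fun this x
  have hS : ∀ g : SU 4 F q, (SU 4 F q).subtype g = g.1 := fun g => rfl
  refine good (hom i hi') (SU 4 F q).subtype h2 (SU 4 F q).subtype_injective (fun n => ?_) ?_ ?_
  · refine ⟨⟨⟨mp (hom i hi') (PZ n), by rw [det_mp, det_PZ, map_one]⟩, ?_⟩, rfl⟩
    exact mem_su σ hσ (hom i hi') hφσ (M := PZ n) (μ := 1) (N := 1) (one_smul _ _).symm
      (herm_PZ n) (by simp)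
  · have hdet : ((1 - i)⁻¹ • mp (hom i hi') C1).det = 1 := by
      rw [Matrix.det_smul, det_mp, det_C1, map_neg, Fintype.card_fin]
      have : (hom i hi') 4 = 4 := map_ofNat _ 4
      rw [this]
      exact (mu_pow hi' h2).2
    refine ⟨⟨⟨(1 - i)⁻¹ • mp (hom i hi') C1, hdet⟩, ?_⟩, (1 - i)⁻¹, rfl⟩
    refine mem_su σ hσ (hom i hi') hφσ (M := C1) (μ := (1 - i)⁻¹) (N := 2) rfl herm_C1 ?_
    have e1 : σ ((1 - i)⁻¹) = (1 + i)⁻¹ := by
      rw [map_inv₀, map_sub, map_one, hσ, hiq, sub_neg_eq_add]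
    have e2 : (hom i hi') 2 = 2 := map_ofNat _ 2
    rw [e1, e2, ← mul_inv]
    have e3 : (1 - i) * (1 + i) = 2 := by linear_combination -hi'
    rw [e3]
    exact inv_mul_cancel₀ h2
  · refine ⟨⟨⟨mp (hom i hi') C3, by rw [det_mp, det_C3, map_one]⟩, ?_⟩, rfl⟩
    exact mem_su σ hσ (hom i hi') hφσ (M := C3) (μ := 1) (N := 1) (one_smul _ _).symm
      herm_C3 (by simp)

end Cfsg.Agent.GH.Cov.LFour
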