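import Mathlib
import Cfsg.Prelude.Def_CaseTheorems
import Cfsg.Agent.GH.Rank
import Cfsg.Agent.GH.Cov.Transfer

/-!
# Commuting pairs of quaternion groups (GH-COV, rank cut, part [F], abstract lemma)

`Pair i j k l`: `⟨i, j⟩` and `⟨k, l⟩` are commuting quaternion groups with the same central involution
`t = i * i`, and the products `x * y`, `x ∈ {i, j, ij}`, `y ∈ {k, l, kl}` are all conjugate to `t`. A double
cover of such a group has sectional 2-rank at least 5.
-/

set_option autoImplicit false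

open Cfsg Subgroup
open Cfsg.Agent.TwoFusion
open scoped commutatorElement

set_option linter.dupNamespace false

namespace Cfsg.Agent.GH.Cov.Pair

universe u v

/-- A commuting pair of quaternion groups with fused products. -/
structure Pair {X : Type v} [Group X] (i j k l : X) : Prop where
  jj : j * j = i * i
  kk : k * k = i * i
  ll : l * l = i * i
  ji : j * i * j⁻¹ = i⁻¹
  lk : l * k * l⁻¹ = k⁻¹
  ik : i * k = k * i
  il : i * l = l * i
  jk : j * k = k * j
  jl : j * l = l * j
  ne : i * i ≠ 1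
  conj : ∀ x, (x = i ∨ x = j ∨ x = i * j) → ∀ y, (y = k ∨ y = l ∨ y = k * l) →
    ∃ g, g * (x * y) * g⁻¹ = i * i

/-- The group `X` contains a pair. -/
def HasPair (X : Type v) [Group X] : Prop := ∃ i j k l : X, Pair i j k l

theorem Pair.map {X : Type v} [Group X] {Z : Type u} [Group Z] {i j k l : X} (h : Pair i j k l)
    (φ : X →* Z) (hφ : Function.Injective φ) : Pair (φ i) (φ j) (φ k) (φ l) where
  jj := by rw [← map_mul, h.jj, map_mul]
  kk := by rw [← map_mul, h.kk, map_mul]
  ll := by rw [← map_mul, h.ll, map_mul]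
  ji := by rw [← map_inv, ← map_mul, ← map_mul, h.ji, map_inv]
  lk := by rw [← map_inv, ← map_mul, ← map_mul, h.lk, map_inv]
  ik := by rw [← map_mul, h.ik, map_mul]
  il := by rw [← map_mul, h.il, map_mul]
  jk := by rw [← map_mul, h.jk, map_mul]
  jl := by rw [← map_mul, h.jl, map_mul]
  ne := by
    intro h1
    rw [← map_mul] at h1
    exact h.ne (hφ (by rw [h1, map_one]))
  conj := by
    intro x hx y hy
    have hx' : ∃ x', φ x' = x ∧ (x' = i ∨ x' = j ∨ x' = i * j) := by
      rcases hx with rfl | rfl | rfl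
      · exact ⟨i, rfl, Or.inl rfl⟩
      · exact ⟨j, rfl, Or.inr (Or.inl rfl)⟩
      · exact ⟨i * j, map_mul _ _ _, Or.inr (Or.inr rfl)⟩
    have hy' : ∃ y', φ y' = y ∧ (y' = k ∨ y' = l ∨ y' = k * l) := by
      rcases hy with rfl | rfl | rfl
      · exact ⟨k, rfl, Or.inl rfl⟩
      · exact ⟨l, rfl, Or.inr (Or.inl rfl)⟩
      · exact ⟨k * l, map_mul _ _ _, Or.inr (Or.inr rfl)⟩
    obtain ⟨x', rfl, hx'⟩ := hx'
    obtain ⟨y', rfl, hy'⟩ := hy'
    obtain ⟨g, hg⟩ := h.conj x' hx' y' hy'
    exact ⟨φ g, by rw [← map_mul, ← map_mul, ← map_inv, ← map_mul, hg, map_mul]⟩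

theorem HasPair.of_injective {X : Type v} [Group X] {Z : Type u} [Group Z] (h : HasPair X)
    (φ : X →* Z) (hφ : Function.Injective φ) : HasPair Z := by
  obtain ⟨i, j, k, l, h⟩ := h
  exact ⟨_, _, _, _, h.map φ hφ⟩

theorem lag {G : Type u} [Group G] [Finite G] (H K : Subgroup G) (hHK : H ≤ K) {x : G} (hx : x ∈ K)
    (hxH : x ∉ H) : 2 * Nat.card H ≤ Nat.card K := by
  have h1 := relIndex_mul_relIndex (⊥ : Subgroup G) H K bot_le hHK
  rw [relIndex_bot_left, relIndex_bot_left] at h1
  have h2 : H.relIndex K ≠ 1 := fun h => hxH ((relIndex_eq_one.1 h) hx)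
  have h3 : H.relIndex K ≠ 0 := by
    intro h
    rw [h, mul_zero] at h1
    exact absurd h1.symm (Nat.card_pos (α := K)).ne'
  have h4 : 2 ≤ H.relIndex K := by omega
  calc 2 * Nat.card H = Nat.card H * 2 := mul_comm _ _
    _ ≤ Nat.card H * H.relIndex K := Nat.mul_le_mul_left _ h4
    _ = Nat.card K := h1

variable {Y : Type u} {X : Type v} [Group Y] [Group X] [Finite Y]

/-- **Double covers of groups with a pair.** -/
theorem not_le_four (f : Y →* X) (hf : Function.Surjective f) (hk : Nat.card f.ker = 2)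
    (h : HasPair X) : ¬ SectionalPRankLE 2 4 Y := by
  intro hr
  obtain ⟨c, D⟩ := Transfer.exists_dbl f hf hk
  obtain ⟨i, j, k, l, P⟩ := h
  obtain ⟨I, rfl⟩ := hf i
  obtain ⟨J, rfl⟩ := hf j
  obtain ⟨K, rfl⟩ := hf k
  obtain ⟨L, rfl⟩ := hf l
  have hce : ∀ e : Y, (e = 1 ∨ e = c) → (∀ y, y * e = e * y) ∧ e * e = 1 := by
    rintro e (rfl | rfl)
    · exact ⟨fun y => by rw [mul_one, one_mul], one_mul 1⟩
    · exact ⟨D.comm, D.cc⟩
  have hlift : ∀ a b : Y, f a = f b → ∃ e, (e = 1 ∨ e = c) ∧ a = b * e := by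
    intro a b hab
    rcases D.eq_or hab with h1 | h1
    · exact ⟨1, Or.inl rfl, by rw [h1, mul_one]⟩
    · exact ⟨c, Or.inr rfl, h1⟩
  -- lifts of `t` are involutions
  have hII : (I * I) * (I * I) = 1 := by
    obtain ⟨e, he, h1⟩ := hlift (J * I * J⁻¹) I⁻¹ (by
      rw [map_mul, map_mul, map_inv, map_inv, P.ji])
    obtain ⟨e', he', h2⟩ := hlift (I * I) (J * J) (by rw [map_mul, map_mul, P.jj])
    obtain ⟨hc1, hc2⟩ := hce e he
    obtain ⟨hc3, hc4⟩ := hce e' he'
    have h3 : J * (I * I) * J⁻¹ = I * I := by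
      rw [h2]
      calc J * (J * J * e') * J⁻¹ = J * J * (J * e') * J⁻¹ := by group
        _ = J * J * e' := by rw [hc3 J]; group
    have h4 : J * (I * I) * J⁻¹ = (I * I)⁻¹ := by
      calc J * (I * I) * J⁻¹ = (J * I * J⁻¹) * (J * I * J⁻¹) := by group
        _ = (I⁻¹ * e) * (I⁻¹ * e) := by rw [h1]
        _ = I⁻¹ * (e * I⁻¹) * e := by group
        _ = I⁻¹ * I⁻¹ * (e * e) := by rw [← hc1]; group
        _ = (I * I)⁻¹ := by rw [hc2]; group
    rw [h3] at h4
    calc (I * I) * (I * I) = (I * I) * (I * I)⁻¹ := by rw [← h4]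
      _ = 1 := mul_inv_cancel _
  have hT : ∀ T, f T = f I * f I → T * T = 1 := by
    intro T hT
    rw [← map_mul] at hT
    obtain ⟨e, he, rfl⟩ := hlift _ _ hT
    obtain ⟨hc1, hc2⟩ := hce e he
    calc (I * I * e) * (I * I * e) = (I * I) * (e * (I * I)) * e := by group
      _ = (I * I) * (I * I) * (e * e) := by rw [← hc1]; group
      _ = 1 := by rw [hII, hc2, one_mul]
  have hU : ∀ U : Y, (∃ g, g * f U * g⁻¹ = f I * f I) → U * U = 1 := by
    rintro U ⟨g, hg⟩
    obtain ⟨g, rfl⟩ := hf g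
    have h1 := hT (g * U * g⁻¹) (by rw [map_mul, map_mul, map_inv, hg])
    calc U * U = g⁻¹ * ((g * U * g⁻¹) * (g * U * g⁻¹)) * g := by group
      _ = 1 := by rw [h1]; group
  have hXY : ∀ x, (x = I ∨ x = J ∨ x = I * J) → ∀ y, (y = K ∨ y = L ∨ y = K * L) →
      x * y * x = y⁻¹ := by
    intro x hx y hy
    have h1 : x * y * (x * y) = 1 := by
      apply hU
      rw [map_mul]
      apply P.conj
      · rcases hx with rfl | rfl | rfl
        · exact Or.inl rfl
        · exact Or.inr (Or.inl rfl)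
        · exact Or.inr (Or.inr (map_mul _ _ _))
      · rcases hy with rfl | rfl | rfl
        · exact Or.inl rfl
        · exact Or.inr (Or.inl rfl)
        · exact Or.inr (Or.inr (map_mul _ _ _))
    rw [← mul_assoc] at h1
    exact eq_inv_of_mul_eq_one_left h1
  -- `I` commutes with `K`, `L`; `J⁻¹ I J = I⁻¹`
  have hJI : J⁻¹ * I * J = I⁻¹ ∧ I * K = K * I ∧ I * L = L * I := by
    obtain ⟨e, he, h1⟩ := hlift (J⁻¹ * I * J) I⁻¹ (by
      have h2 := P.ji
      rw [map_mul, map_mul, map_inv, map_inv]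
      calc (f J)⁻¹ * f I * f J = (f J)⁻¹ * (f I)⁻¹⁻¹ * f J := by rw [inv_inv]
        _ = (f J)⁻¹ * (f J * f I * (f J)⁻¹)⁻¹ * f J := by rw [h2]
        _ = (f I)⁻¹ := by group)
    obtain ⟨hc1, hc2⟩ := hce e he
    have key : ∀ y, (y = K ∨ y = L ∨ y = K * L) → I * y * I⁻¹ = y * e := by
      intro y hy
      have h2 := hXY J (Or.inr (Or.inl rfl)) y hy
      have h3 := hXY (I * J) (Or.inr (Or.inr rfl)) y hy
      -- J * y = y⁻¹ * J⁻¹
      have h4 : J * y = y⁻¹ * J⁻¹ := by rw [← h2]; group
      have h5 : I * y⁻¹ * (J⁻¹ * I * J) = y⁻¹ := by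
        calc I * y⁻¹ * (J⁻¹ * I * J) = I * (y⁻¹ * J⁻¹) * I * J := by group
          _ = I * J * y * (I * J) := by rw [← h4]; group
          _ = y⁻¹ := h3
      rw [h1] at h5
      -- I y⁻¹ I⁻¹ e = y⁻¹
      have h6 : y = e⁻¹ * I * y * I⁻¹ := by
        calc y = (y⁻¹)⁻¹ := by group
          _ = (I * y⁻¹ * (I⁻¹ * e))⁻¹ := by rw [h5]
          _ = e⁻¹ * I * y * I⁻¹ := by group
      calc I * y * I⁻¹ = e * (e⁻¹ * I * y * I⁻¹) := by group
        _ = e * y := by rw [← h6]
        _ = y * e := (hc1 y).symm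
    have h7 : e = 1 := by
      have hK := key K (Or.inl rfl)
      have hL := key L (Or.inr (Or.inl rfl))
      have hKL := key (K * L) (Or.inr (Or.inr rfl))
      have h8 : I * (K * L) * I⁻¹ = K * L := by
        calc I * (K * L) * I⁻¹ = (I * K * I⁻¹) * (I * L * I⁻¹) := by group
          _ = K * (e * L) * e := by rw [hK, hL]; group
          _ = K * L * (e * e) := by rw [← hc1]; group
          _ = K * L := by rw [hc2, mul_one]
      rw [h8] at hKL
      exact mul_eq_left.1 hKL.symm
    subst h7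
    refine ⟨by rw [h1, mul_one], ?_, ?_⟩
    · have := key K (Or.inl rfl)
      rw [mul_one, mul_inv_eq_iff_eq_mul] at this
      exact this
    · have := key L (Or.inr (Or.inl rfl))
      rw [mul_one, mul_inv_eq_iff_eq_mul] at this
      exact this
  obtain ⟨hJI, hIK, hIL⟩ := hJI
  have hIKL : I * (K * L) = K * L * I := by rw [← mul_assoc, hIK, mul_assoc, hIL, mul_assoc]
  have hIy : ∀ y, (y = K ∨ y = L ∨ y = K * L) → I * y = y * I := by
    rintro y (rfl | rfl | rfl)
    · exact hIK
    · exact hIL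
    · exact hIKL
  have hyI : ∀ y, (y = K ∨ y = L ∨ y = K * L) → y * (I * I) = y⁻¹ := by
    intro y hy
    rw [← hXY I (Or.inl rfl) y hy, hIy y hy, mul_assoc]
  have hyy : ∀ y, (y = K ∨ y = L ∨ y = K * L) → y * y = I * I := by
    intro y hy
    have h1 := hyI y hy
    have h2 : y * y * (I * I) = 1 := by rw [mul_assoc, h1, mul_inv_cancel]
    calc y * y = y * y * (I * I) * (I * I) * ((I * I) * (I * I))⁻¹ := by group
      _ = I * I := by rw [h2, hII]; group
  -- `J`
  have hJ : J * J = I * I ∧ J * K = K * J ∧ J * L = L * J := by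
    have key : ∀ y, (y = K ∨ y = L ∨ y = K * L) → J * y * J⁻¹ = y * ((I * I) * (J * J)⁻¹) := by
      intro y hy
      have h2 := hXY J (Or.inr (Or.inl rfl)) y hy
      calc J * y * J⁻¹ = (J * y * J) * (J * J)⁻¹ := by group
        _ = y * ((I * I) * (J * J)⁻¹) := by rw [h2, ← hyI y hy, mul_assoc]
    obtain ⟨e, he, h1⟩ := hlift (I * I) (J * J) (by rw [map_mul, map_mul, P.jj])
    obtain ⟨hc1, hc2⟩ := hce e he
    have h3 : (I * I) * (J * J)⁻¹ = e := by
      rw [h1, hc1, mul_inv_cancel_right]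
    rw [h3] at key
    have h7 : e = 1 := by
      have hK := key K (Or.inl rfl)
      have hL := key L (Or.inr (Or.inl rfl))
      have hKL := key (K * L) (Or.inr (Or.inr rfl))
      have h8 : J * (K * L) * J⁻¹ = K * L := by
        calc J * (K * L) * J⁻¹ = (J * K * J⁻¹) * (J * L * J⁻¹) := by group
          _ = K * (e * L) * e := by rw [hK, hL]; group
          _ = K * L * (e * e) := by rw [← hc1]; group
          _ = K * L := by rw [hc2, mul_one]
      rw [h8] at hKL
      exact mul_eq_left.1 hKL.symm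
    subst h7
    refine ⟨by rw [h1, mul_one], ?_, ?_⟩
    · have := key K (Or.inl rfl)
      rw [mul_one, mul_inv_eq_iff_eq_mul] at this
      exact this
    · have := key L (Or.inr (Or.inl rfl))
      rw [mul_one, mul_inv_eq_iff_eq_mul] at this
      exact this
  obtain ⟨hJJ, hJK, hJL⟩ := hJ
  have hKK := hyy K (Or.inl rfl)
  have hLL := hyy L (Or.inr (Or.inl rfl))
  have hKLKL := hyy (K * L) (Or.inr (Or.inr rfl))
  -- the subgroups
  obtain ⟨s, hs⟩ : ∃ s, s = I * I := ⟨_, rfl⟩
  rw [← hs] at hII hJJ hKK hLL hKLKL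
  have hsinv : s⁻¹ = s := inv_eq_of_mul_eq_one_right hII
  have hsI : s * I = I * s := by rw [hs, mul_assoc]
  have hsJ : s * J = J * s := by rw [← hJJ, mul_assoc]
  have hsK : s * K = K * s := by rw [← hKK, mul_assoc]
  have hsL : s * L = L * s := by rw [← hLL, mul_assoc]
  have hsc : s * c = c * s := D.comm s
  let M : Subgroup Y := closure {I, J, K, L, c}
  have mI : I ∈ M := subset_closure (by simp)
  have mJ : J ∈ M := subset_closure (by simp)
  have mK : K ∈ M := subset_closure (by simp)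
  have mL : L ∈ M := subset_closure (by simp)
  have mc : c ∈ M := subset_closure (by simp)
  have hgen : ∀ x ∈ ({I, J, K, L, c} : Set Y), x = I ∨ x = J ∨ x = K ∨ x = L ∨ x = c := by
    intro x hx
    simpa using hx
  let N : Subgroup Y := zpowers s
  have sN : s ∈ N := mem_zpowers s
  have hMs : ∀ m ∈ M, m * s = s * m := by
    intro m hm
    have h1 : M ≤ centralizer {s} := by
      refine (closure_le _).2 ?_
      intro x hx
      rw [SetLike.mem_coe, mem_centralizer_singleton_iff]
      rcases hgen x hx with rfl | rfl | rfl | rfl | rfl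
      · exact hsI.symm
      · exact hsJ.symm
      · exact hsK.symm
      · exact hsL.symm
      · exact hsc.symm
    exact mem_centralizer_singleton_iff.1 (h1 hm)
  have hNM : N ≤ M := by
    rw [zpowers_le, hs]
    exact mul_mem mI mI
  have hMN : ∀ m ∈ M, ∀ n ∈ N, m * n = n * m := by
    intro m hm n hn
    obtain ⟨z, rfl⟩ := mem_zpowers_iff.1 hn
    exact ((show Commute m s from hMs m hm).zpow_right z).eq
  have hcomm : ⁅M, M⁆ ≤ N := by
    refine Transfer.commutator_le_of_closure le_rfl ?_ ?_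
    · intro g hg n hn
      rw [hMN g hg n hn, mul_inv_cancel_right]
      exact hn
    · have hIJ : ⁅I, J⁆ ∈ N := by
        have h1 : J⁻¹ * I * J = I⁻¹ := hJI
        have h2 : ⁅I, J⁆ = s := by
          rw [commutatorElement_def]
          calc I * J * I⁻¹ * J⁻¹ = J * (J⁻¹ * I * J) * I⁻¹ * J⁻¹ := by group
            _ = J * (I * I)⁻¹ * J⁻¹ := by rw [h1]; group
            _ = J * s * J⁻¹ := by rw [← hs, hsinv]
            _ = s := by rw [← hsJ, mul_inv_cancel_right]
        rw [h2]; exact sN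
      have hKL : ⁅K, L⁆ ∈ N := by
        have h2 : ⁅K, L⁆ = s := by
          rw [commutatorElement_def]
          calc K * L * K⁻¹ * L⁻¹ = (K * L) * (K * L) * (L⁻¹ * (K * K)⁻¹ * L⁻¹) := by group
            _ = s * (L⁻¹ * s * L⁻¹) := by rw [hKLKL, hKK, hsinv]
            _ = s * (s * (L * L)⁻¹) := by
                have h3 : L⁻¹ * s = s * L⁻¹ := by
                  rw [inv_mul_eq_iff_eq_mul, ← mul_assoc, ← hsL, mul_inv_cancel_right]
                rw [h3]; group
            _ = s := by rw [hLL, hsinv, hII, mul_one]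
        rw [h2]; exact sN
      have hcom : ∀ {a b : Y}, a * b = b * a → ⁅a, b⁆ ∈ N := by
        intro a b hab
        rw [commutatorElement_eq_one_iff_mul_comm.2 hab]
        exact one_mem _
      have hsym : ∀ {a b : Y}, ⁅a, b⁆ ∈ N → ⁅b, a⁆ ∈ N := by
        intro a b hab
        rw [← commutatorElement_inv]
        exact N.inv_mem hab
      intro a ha b hb
      rcases hgen a ha with rfl | rfl | rfl | rfl | rfl <;>
        rcases hgen b hb with rfl | rfl | rfl | rfl | rfl
      all_goals first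
        | exact hIJ
        | exact hsym hIJ
        | exact hKL
        | exact hsym hKL
        | exact hcom rfl
        | exact hcom (D.comm _)
        | exact hcom (D.comm _).symm
        | exact hcom hIK
        | exact hcom hIK.symm
        | exact hcom hIL
        | exact hcom hIL.symm
        | exact hcom hJK
        | exact hcom hJK.symm
        | exact hcom hJL
        | exact hcom hJL.symm
  have hpow : ∀ m ∈ M, m * m ∈ N := by
    intro m hm
    induction hm using closure_induction with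
    | mem x hx =>
      rcases hgen x hx with rfl | rfl | rfl | rfl | rfl
      · rw [← hs]; exact sN
      · rw [hJJ]; exact sN
      · rw [hKK]; exact sN
      · rw [hLL]; exact sN
      · rw [D.cc]; exact one_mem _
    | one => rw [mul_one]; exact one_mem _
    | mul a b ha hb h1 h2 =>
      have h3 : ⁅b, a⁆ ∈ N := hcomm (commutator_mem_commutator hb ha)
      have h4 : a * b * (a * b) = ⁅b, a⁆ * (a * a) * (b * b) := by
        have h5 := hMN a ha _ h3
        calc a * b * (a * b) = (a * ⁅b, a⁆) * a * (b * b) := by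
              rw [commutatorElement_def]; group
          _ = ⁅b, a⁆ * (a * a) * (b * b) := by rw [h5]; group
      rw [h4]
      exact N.mul_mem (N.mul_mem h3 h1) h2
    | inv a ha h1 =>
      rw [← mul_inv_rev]
      exact N.inv_mem h1
  have hE : SectionalRank.ElemSection 2 M N := by
    refine ⟨hNM, ?_, ?_⟩
    · intro a ha b hb
      exact hcomm (commutator_mem_commutator ha hb)
    · intro a ha
      rw [pow_two]
      exact hpow a ha
  have hcard := SectionalRank.sectionalPRankLE_iff.1 hr M N hE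
  -- the chain
  have hI1 : f I * f I ≠ 1 := P.ne
  have hJ1 : ¬ (J * I = I * J) := by
    intro h1
    apply hI1
    have h2 : f J * f I = f I * f J := by rw [← map_mul, h1, map_mul]
    have h3 := P.ji
    rw [h2, mul_inv_cancel_right] at h3
    nth_rewrite 1 [h3]
    exact inv_mul_cancel _
  have hL1 : ¬ (L * K = K * L) := by
    intro h1
    apply hI1
    have h2 : f L * f K = f K * f L := by rw [← map_mul, h1, map_mul]
    have h3 := P.lk
    rw [h2, mul_inv_cancel_right] at h3
    rw [← P.kk]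
    nth_rewrite 1 [h3]
    exact inv_mul_cancel _
  let C1 : Subgroup Y := M ⊓ centralizer {I}
  let C2 : Subgroup Y := C1 ⊓ centralizer {J}
  let C3 : Subgroup Y := C2 ⊓ centralizer {K}
  let C4 : Subgroup Y := C3 ⊓ centralizer {L}
  have hc : ∀ a b : Y, a ∈ centralizer {b} ↔ a * b = b * a := fun a b =>
    mem_centralizer_singleton_iff
  have e1 : 2 * Nat.card C1 ≤ Nat.card M := by
    refine lag C1 M inf_le_left mJ ?_
    intro h1
    exact hJ1 ((hc _ _).1 h1.2)
  have e2 : 2 * Nat.card C2 ≤ Nat.card C1 := by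
    refine lag C2 C1 inf_le_left (x := I) ⟨mI, (hc _ _).2 rfl⟩ ?_
    intro h1
    exact hJ1 ((hc _ _).1 h1.2).symm
  have e3 : 2 * Nat.card C3 ≤ Nat.card C2 := by
    refine lag C3 C2 inf_le_left (x := L) ⟨⟨mL, (hc _ _).2 hIL.symm⟩, (hc _ _).2 hJL.symm⟩ ?_
    intro h1
    exact hL1 ((hc _ _).1 h1.2)
  have e4 : 2 * Nat.card C4 ≤ Nat.card C3 := by
    refine lag C4 C3 inf_le_left (x := K) ⟨⟨⟨mK, (hc _ _).2 hIK.symm⟩, (hc _ _).2 hJK.symm⟩,
      (hc _ _).2 rfl⟩ ?_
    intro h1
    exact hL1 ((hc _ _).1 h1.2).symm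
  have e5 : 2 * Nat.card N ≤ Nat.card C4 := by
    refine lag N C4 ?_ (x := c) ⟨⟨⟨⟨mc, (hc _ _).2 (D.comm I).symm⟩, (hc _ _).2 (D.comm J).symm⟩,
      (hc _ _).2 (D.comm K).symm⟩, (hc _ _).2 (D.comm L).symm⟩ ?_
    · rw [zpowers_le]
      exact ⟨⟨⟨⟨hNM sN, (hc _ _).2 hsI⟩, (hc _ _).2 hsJ⟩, (hc _ _).2 hsK⟩, (hc _ _).2 hsL⟩
    · intro h1
      obtain ⟨z, hz⟩ := mem_zpowers_iff.1 h1
      have h2 : s ^ z = 1 ∨ s ^ z = s := by
        rcases Int.even_or_odd' z with ⟨w, rfl | rfl⟩
        · left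
          rw [zpow_mul, show s ^ (2 : ℤ) = 1 from by
            rw [zpow_ofNat, pow_two]; exact hII, one_zpow]
        · right
          rw [zpow_add, zpow_mul, show s ^ (2 : ℤ) = 1 from by
            rw [zpow_ofNat, pow_two]; exact hII, one_zpow, zpow_one, one_mul]
      rw [hz] at h2
      rcases h2 with h2 | h2
      · exact D.ne h2
      · apply hI1
        rw [← map_mul, ← hs, ← h2]
        exact (D.ker c).2 (Or.inr rfl)
  have hNpos : 0 < Nat.card N := Nat.card_pos
  omega

end Cfsg.Agent.GH.Cov.Pair
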