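import Mathlib
import Cfsg.Agent.GH.Cov.Pair
import Cfsg.Agent.ClassificationK.GTwoChev

/-!
# Commuting pairs of quaternion groups from commuting homomorphisms of `SL₂`
(GH-COV, rank cut, part [F])
-/

set_option autoImplicit false
set_option linter.dupNamespace false

open Cfsg Subgroup Matrix
open Cfsg.Agent.ClassificationK.GTwoChev (wsl coe_wsl wsl_sq)
open Cfsg.Agent.ChevalleyStructure.SL2Hom (up lo)

namespace Cfsg.Agent.GH.Cov.PairSL

universe u

theorem val_mul {F : Type*} [Field F] (x y : SpecialLinearGroup (Fin 2) F) :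
    (x * y).1 = x.1 * y.1 := rfl

theorem val_neg_one {F : Type*} [Field F] :
    (-1 : SpecialLinearGroup (Fin 2) F).1 = !![-1, 0; 0, -1] := by
  change -(1 : Matrix (Fin 2) (Fin 2) F) = _
  ext i j
  fin_cases i <;> fin_cases j <;> simp

theorem wsl_eq (F : Type*) [Field F] : wsl F = lo 1 * up (-1) * lo 1 := by
  apply Subtype.ext
  rw [coe_wsl, val_mul, val_mul]
  change _ = !![1, 0; 1, 1] * !![1, -1; 0, 1] * !![1, 0; 1, 1]
  ext i j
  fin_cases i <;> fin_cases j <;> simp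

theorem up_mul {F : Type*} [Field F] (a b : F) :
    (up a * up b : SpecialLinearGroup (Fin 2) F) = up (a + b) := by
  apply Subtype.ext
  change !![1, a; 0, 1] * !![1, b; 0, 1] = !![1, a + b; 0, 1]
  ext i j
  fin_cases i <;> fin_cases j <;> simp [add_comm]

theorem lo_mul {F : Type*} [Field F] : (lo 1 * lo (-1) : SpecialLinearGroup (Fin 2) F) = 1 := by
  apply Subtype.ext
  change !![1, 0; 1, 1] * !![1, 0; -1, 1] = (1 : Matrix (Fin 2) (Fin 2) F)
  ext i j
  fin_cases i <;> fin_cases j <;> simp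

theorem half {F : Type*} [Field F] (h2 : (2 : F) ≠ 0) :
    (lo 1 * up (-1 / 2) : SpecialLinearGroup (Fin 2) F) = wsl F * (lo (-1) * up (1 / 2)) := by
  rw [wsl_eq]
  calc (lo 1 * up (-1 / 2) : SpecialLinearGroup (Fin 2) F) = lo 1 * (up (-1) * up (1 / 2)) := by
        rw [up_mul]; congr 2; field_simp; norm_num
    _ = lo 1 * up (-1) * (lo 1 * lo (-1)) * up (1 / 2) := by rw [lo_mul, mul_one, mul_assoc]
    _ = _ := by simp only [mul_assoc]

section Forms

variable {F : Type*} [Field F] [Finite F]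

theorem exists_form (h2 : (2 : F) ≠ 0) {c : F} (hc : c ≠ 0) (e : F) :
    ∃ m n : F, c * m ^ 2 + c⁻¹ * n ^ 2 = e := by
  have : Fintype F := Fintype.ofFinite F
  have hodd : Fintype.card F % 2 = 1 := by
    have h : ringChar F ≠ 2 := by
      intro h
      apply h2
      have := ringChar.Nat.cast_ringChar (R := F)
      rw [h] at this
      exact_mod_cast this
    exact FiniteField.odd_card_of_char_ne_two h
  obtain ⟨m, n, h⟩ := FiniteField.exists_root_sum_quadratic (R := F)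
    (f := Polynomial.C c * Polynomial.X ^ 2 + Polynomial.C (-e))
    (g := Polynomial.C c⁻¹ * Polynomial.X ^ 2)
    (by
      rw [Polynomial.degree_add_C (by
        rw [Polynomial.degree_C_mul_X_pow 2 hc]; norm_num), Polynomial.degree_C_mul_X_pow 2 hc]
      rfl)
    (by
      rw [Polynomial.degree_C_mul_X_pow 2 (inv_ne_zero hc)]
      rfl) hodd
  refine ⟨m, n, ?_⟩
  simp at h
  linear_combination h

theorem exists_sq (h2 : (2 : F) ≠ 0) : ∃ a b : F, a ^ 2 + b ^ 2 = -1 := by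
  obtain ⟨a, b, h⟩ := exists_form h2 (one_ne_zero (α := F)) (-1)
  exact ⟨a, b, by rw [← h, inv_one, one_mul, one_mul]⟩

/-- Elements of trace zero are conjugate to the Weyl element. -/
theorem conj_wsl (h2 : (2 : F) ≠ 0) (x : SpecialLinearGroup (Fin 2) F) (hx : x.1 1 1 = - x.1 0 0) :
    ∃ g, g * x * g⁻¹ = wsl F := by
  obtain ⟨a, b, c, hM⟩ : ∃ a b c : F, x.1 = !![a, b; c, -a] :=
    ⟨x.1 0 0, x.1 0 1, x.1 1 0, by rw [← hx]; exact Matrix.eta_fin_two _⟩
  have hdet : - a ^ 2 - b * c = 1 := by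
    have h := x.2
    rw [hM, det_fin_two_of] at h
    linear_combination h
  obtain ⟨m, n, hmn⟩ : ∃ m n : F, c * m ^ 2 - 2 * a * m * n - b * n ^ 2 = 1 := by
    rcases eq_or_ne c 0 with rfl | hc
    · have ha : a ≠ 0 := by
        rintro rfl
        simp at hdet
      refine ⟨-(1 + b) / (2 * a), 1, ?_⟩
      field_simp
      ring
    · obtain ⟨m, n, h⟩ := exists_form h2 hc 1
      refine ⟨m + a / c * n, n, ?_⟩
      rw [← h]
      field_simp
      linear_combination (n ^ 2) * hdet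
  obtain ⟨g, hg⟩ : ∃ g : SpecialLinearGroup (Fin 2) F, g.1 = !![m, a * m + b * n; n, c * m - a * n] :=
    ⟨⟨_, by rw [det_fin_two_of, ← hmn]; ring⟩, rfl⟩
  refine ⟨g⁻¹, ?_⟩
  rw [inv_inv, mul_assoc, inv_mul_eq_iff_eq_mul]
  apply Subtype.ext
  rw [val_mul, val_mul, coe_wsl, hM, hg]
  simp only [Matrix.mul_fin_two]
  ext i j
  fin_cases i <;> fin_cases j <;> simp
  all_goals first
    | (ring; done)
    | linear_combination (-m) * hdet
    | linear_combination (-n) * hdet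

end Forms

section Abstract

variable {F : Type*} [Field F] [Finite F] {X : Type u} [Group X]

/-- **Pairs from commuting homomorphisms of `SL₂`.** -/
theorem hasPair (h2 : (2 : F) ≠ 0) (φ ψ : SpecialLinearGroup (Fin 2) F →* X)
    (hc : ∀ g h, Commute (φ g) (ψ h)) (ht : φ (-1) = ψ (-1)) (h1 : φ (-1) ≠ 1) (s ρ : X)
    (hs1 : ∀ t, s * φ (up t) = φ (up (-t)) * s) (hs2 : s * φ (lo 1) = φ (lo (-1)) * s)
    (hs3 : ∀ t, s * ψ (up t) = ψ (up (-t)) * s) (hs4 : s * ψ (lo 1) = ψ (lo (-1)) * s)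
    (h3 : ρ * s = φ (-1) * ρ) (h4 : ρ * φ (-1) = φ (-1) * s * ρ)
    (h5 : ∃ z, (z = 1 ∨ z = φ (-1) ∨ z = s ∨ z = φ (-1) * s) ∧
      ρ * (φ (wsl F) * ψ (wsl F)) = φ (wsl F) * ψ (wsl F) * z * ρ) : Pair.HasPair X := by
  obtain ⟨a, b, hab⟩ := exists_sq h2
  obtain ⟨x, hx⟩ : ∃ x : SpecialLinearGroup (Fin 2) F, x.1 = !![a, b; b, -a] :=
    ⟨⟨_, by rw [det_fin_two_of]; linear_combination -hab⟩, rfl⟩
  have hxx : x * x = -1 := by
    apply Subtype.ext
    rw [val_mul, val_neg_one, hx]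
    ext i j
    fin_cases i <;> fin_cases j <;> simp
    all_goals first
      | (ring; done)
      | linear_combination hab
  have hxw : x * wsl F * x⁻¹ = (wsl F)⁻¹ := by
    rw [mul_inv_eq_iff_eq_mul, eq_inv_mul_iff_mul_eq]
    apply Subtype.ext
    rw [val_mul, val_mul, coe_wsl, hx]
    ext i j
    fin_cases i <;> fin_cases j <;> simp
  have hA : ∀ χ : SpecialLinearGroup (Fin 2) F →* X, (∀ t, s * χ (up t) = χ (up (-t)) * s) →
      s * χ (lo 1) = χ (lo (-1)) * s →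
      χ (lo 1 * up (-1 / 2)) * s = χ (wsl F) * s * χ (lo 1 * up (-1 / 2)) := by
    intro χ e1 e2
    have e3 : s * χ (lo 1 * up (-1 / 2)) = χ (lo (-1) * up (1 / 2)) * s := by
      rw [map_mul, ← mul_assoc, e2, mul_assoc, e1, map_mul, ← mul_assoc]
      congr 4
      ring
    rw [mul_assoc, e3, ← mul_assoc, ← map_mul, ← half h2]
  have mk : ∀ c a b : X, c * a = b * c → IsConj a b := fun c a b h =>
    isConj_iff.2 ⟨c, by rw [h, mul_inv_cancel_right]⟩
  have hm : (-1 : SpecialLinearGroup (Fin 2) F) = wsl F * wsl F := wsl_sq.symm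
  have hinv : (wsl F)⁻¹ = wsl F * (-1) := by
    apply inv_eq_of_mul_eq_one_right
    rw [← mul_assoc, ← hm, neg_mul_neg, one_mul]
  obtain ⟨t, htd⟩ : ∃ t, t = φ (-1) := ⟨_, rfl⟩
  have htψ : t = ψ (-1) := htd.trans ht
  have htt : t * t = 1 := by rw [htd, ← map_mul, neg_mul_neg, one_mul, map_one]
  have hneg : ∀ g : SpecialLinearGroup (Fin 2) F, (-1) * g = g * (-1) := by
    intro g
    rw [neg_mul, one_mul, mul_neg, mul_one]
  have htφ : ∀ g, t * φ g = φ g * t := by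
    intro g
    rw [htd, ← map_mul, ← map_mul, hneg]
  have htψ' : ∀ g, t * ψ g = ψ g * t := by
    intro g
    rw [htψ, ← map_mul, ← map_mul, hneg]
  have hst : s * t = t * s := by
    have hw' : (wsl F)⁻¹ = lo (-1) * up 1 * lo (-1) := by
      apply inv_eq_of_mul_eq_one_right
      apply Subtype.ext
      rw [val_mul, val_mul, val_mul, coe_wsl]
      change !![0, -1; 1, 0] * (!![1, 0; -1, 1] * !![1, 1; 0, 1] * !![1, 0; -1, 1]) =
        (1 : Matrix (Fin 2) (Fin 2) F)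
      ext i j
      fin_cases i <;> fin_cases j <;> simp
    have e1 : s * φ (wsl F) = φ (wsl F)⁻¹ * s := by
      rw [hw', wsl_eq]
      simp only [map_mul]
      rw [← mul_assoc, ← mul_assoc, hs2, mul_assoc _ s, hs1, neg_neg, ← mul_assoc, mul_assoc _ s,
        hs2, ← mul_assoc]
    have e2 : s * φ (wsl F * wsl F) = φ ((wsl F)⁻¹ * (wsl F)⁻¹) * s := by
      rw [map_mul, ← mul_assoc, e1, mul_assoc, e1, ← mul_assoc, map_mul]
    rw [← _root_.mul_inv_rev, wsl_sq, map_inv, ← htd] at e2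
    rw [e2, inv_eq_of_mul_eq_one_right htt]
  -- conjugacy of the involutions
  have hcs : ∀ u, (∀ g, u * φ g = φ g * u) → (∀ g, u * ψ g = ψ g * u) →
      IsConj (s * u) (φ (wsl F) * ψ (wsl F) * (s * u)) := by
    intro u hu1 hu2
    refine mk (φ (lo 1 * up (-1 / 2)) * ψ (lo 1 * up (-1 / 2))) _ _ ?_
    have e1 := hA φ hs1 hs2
    have e2 := hA ψ hs3 hs4
    set g := (lo 1 * up (-1 / 2) : SpecialLinearGroup (Fin 2) F)
    calc φ g * ψ g * (s * u) = φ g * (ψ g * s) * u := by simp only [mul_assoc]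
      _ = (φ g * ψ (wsl F)) * s * (ψ g * u) := by rw [e2]; simp only [mul_assoc]
      _ = ψ (wsl F) * (φ g * s) * (u * ψ g) := by rw [(hc _ _).eq, hu2]; simp only [mul_assoc]
      _ = (ψ (wsl F) * φ (wsl F)) * s * (φ g * u) * ψ g := by rw [e1]; simp only [mul_assoc]
      _ = φ (wsl F) * ψ (wsl F) * (s * u) * (φ g * ψ g) := by
          rw [← (hc _ _).eq, ← hu1]; simp only [mul_assoc]
  have hvt : IsConj (φ (wsl F) * ψ (wsl F)) (φ (wsl F) * ψ (wsl F) * t) := by
    refine mk (φ x) _ _ ?_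
    have e1 : φ x * φ (wsl F) = φ (wsl F) * t * φ x := by
      rw [htd, ← map_mul, ← map_mul, ← map_mul, ← hinv, ← hxw, inv_mul_cancel_right]
    rw [← mul_assoc, e1, mul_assoc, (hc _ _).eq, ← mul_assoc, mul_assoc _ t, htψ']
    simp only [mul_assoc]
  have hs_t : IsConj s t := mk ρ _ _ (by rw [h3, htd])
  have hts_t : IsConj (s * t) t := (mk ρ _ _ (by rw [htd, h4, ← htd, hst])).symm
  have hvs : IsConj (φ (wsl F) * ψ (wsl F) * s) t := by
    have h := hcs 1 (fun g => by rw [one_mul, mul_one]) (fun g => by rw [one_mul, mul_one])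
    rw [mul_one] at h
    exact h.symm.trans hs_t
  have hvst : IsConj (φ (wsl F) * ψ (wsl F) * (s * t)) t := (hcs t htφ htψ').symm.trans hts_t
  have hρt : ρ * t = s * t * ρ := by rw [htd, h4, ← htd, hst]
  have hconj : IsConj (φ (wsl F) * ψ (wsl F)) (φ (-1)) := by
    rw [← htd]
    obtain ⟨z, hz, h5⟩ := h5
    rw [← htd] at hz
    set v := φ (wsl F) * ψ (wsl F) with hv
    rcases hz with rfl | rfl | rfl | rfl
    · refine hvt.trans ((mk ρ _ _ ?_).trans hvst)
      rw [← mul_assoc, h5, mul_one, mul_assoc, hρt]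
      simp only [mul_assoc]
    · refine hvt.trans ((mk ρ _ _ ?_).trans hvs)
      rw [← mul_assoc, h5, mul_assoc, hρt]
      calc v * z * (s * z * ρ) = v * (z * s) * z * ρ := by simp only [mul_assoc]
        _ = v * s * (z * z) * ρ := by rw [← hst]; simp only [mul_assoc]
        _ = v * s * ρ := by rw [htt, mul_one]
    · exact (mk ρ _ _ h5).trans hvs
    · rw [← hst] at h5
      exact (mk ρ _ _ h5).trans hvst
  have htr : ∀ y, (y = wsl F ∨ y = x ∨ y = wsl F * x) → ∃ g, g * y * g⁻¹ = wsl F := by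
    intro y hy
    apply conj_wsl h2
    rcases hy with rfl | rfl | rfl
    · rw [coe_wsl]; simp
    · rw [hx]; simp
    · rw [val_mul, coe_wsl, hx]; simp
  refine ⟨φ (wsl F), φ x, ψ (wsl F), ψ x, ⟨?_, ?_, ?_, ?_, ?_, ?_, ?_, ?_, ?_, ?_, ?_⟩⟩
  · rw [← map_mul, ← map_mul, hxx, wsl_sq]
  · rw [← map_mul, ← map_mul, wsl_sq, ht]
  · rw [← map_mul, ← map_mul, hxx, wsl_sq, ht]
  · rw [← map_inv, ← map_mul, ← map_mul, hxw, map_inv]
  · rw [← map_inv, ← map_mul, ← map_mul, hxw, map_inv]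
  · exact (hc _ _).eq
  · exact (hc _ _).eq
  · exact (hc _ _).eq
  · exact (hc _ _).eq
  · rw [← map_mul, wsl_sq]; exact h1
  · intro y hy z hz
    obtain ⟨y', rfl, hy'⟩ : ∃ y', φ y' = y ∧ (y' = wsl F ∨ y' = x ∨ y' = wsl F * x) := by
      rcases hy with rfl | rfl | rfl
      · exact ⟨_, rfl, Or.inl rfl⟩
      · exact ⟨_, rfl, Or.inr (Or.inl rfl)⟩
      · exact ⟨_, map_mul _ _ _, Or.inr (Or.inr rfl)⟩
    obtain ⟨z', rfl, hz'⟩ : ∃ z', ψ z' = z ∧ (z' = wsl F ∨ z' = x ∨ z' = wsl F * x) := by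
      rcases hz with rfl | rfl | rfl
      · exact ⟨_, rfl, Or.inl rfl⟩
      · exact ⟨_, rfl, Or.inr (Or.inl rfl)⟩
      · exact ⟨_, map_mul _ _ _, Or.inr (Or.inr rfl)⟩
    obtain ⟨g, hg⟩ := htr y' hy'
    obtain ⟨g', hg'⟩ := htr z' hz'
    obtain ⟨k, hk⟩ := isConj_iff.1 hconj
    refine ⟨k * (φ g * ψ g'), ?_⟩
    rw [← map_mul φ (wsl F), wsl_sq, ← hk]
    have e1 : φ g * φ y' = φ (wsl F) * φ g := by
      rw [← map_mul, ← map_mul, ← hg, inv_mul_cancel_right]
    have e2 : ψ g' * ψ z' = ψ (wsl F) * ψ g' := by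
      rw [← map_mul, ← map_mul, ← hg', inv_mul_cancel_right]
    have e3 : φ g * ψ g' * (φ y' * ψ z') = φ (wsl F) * ψ (wsl F) * (φ g * ψ g') := by
      calc φ g * ψ g' * (φ y' * ψ z') = φ g * (ψ g' * φ y') * ψ z' := by simp only [mul_assoc]
        _ = φ g * (φ y' * ψ g') * ψ z' := by rw [(hc _ _).eq]
        _ = (φ g * φ y') * (ψ g' * ψ z') := by simp only [mul_assoc]
        _ = φ (wsl F) * (φ g * ψ (wsl F)) * ψ g' := by rw [e1, e2]; simp only [mul_assoc]
        _ = φ (wsl F) * (ψ (wsl F) * φ g) * ψ g' := by rw [(hc _ _).eq]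
        _ = φ (wsl F) * ψ (wsl F) * (φ g * ψ g') := by simp only [mul_assoc]
    calc k * (φ g * ψ g') * (φ y' * ψ z') * (k * (φ g * ψ g'))⁻¹
        = k * (φ g * ψ g' * (φ y' * ψ z')) * (φ g * ψ g')⁻¹ * k⁻¹ := by group
      _ = k * (φ (wsl F) * ψ (wsl F)) * k⁻¹ := by rw [e3]; group

end Abstract

end Cfsg.Agent.GH.Cov.PairSL
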