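import Mathlib
import Cfsg.Agent.GH.Cov.PairSL
import Cfsg.Agent.GH.LowRankD4
import Cfsg.Agent.GH.Defs

/-!
# A commuting pair of quaternion groups in `³D₄(q)`, `q` odd (GH-COV, rank cut, part [F])
-/

set_option autoImplicit false
set_option linter.dupNamespace false

namespace Cfsg.Agent.GH.Cov.PairD4

open Cfsg Cfsg.Lie
open Cfsg.Agent.ChevalleyStructure.LaurentWord
open Cfsg.Agent.ChevalleyStructure.LaurentNH
open Cfsg.Agent.ChevalleyStructure.SL2Rep
open Cfsg.Agent.ChevalleyStructure.SL2Hom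
open Cfsg.Agent.ChevalleyStructure.D4Cols (colsOK xU coe_xU xU_inv)
open Cfsg.Agent.ChevalleyStructure.D4Fixed (exists_frob x14_mem x9_mem)
open Cfsg.Agent.ClassificationK.GTwoChev (wsl wsl_sq)
open Cfsg.Agent.GH.LowRankD4

/-- the word of the Weyl element of the central node -/
def w14 : List (ℕ × Mono) := [(14, -1, 0, 0), (9, 1, 0, 0), (14, -1, 0, 0)]

theorem check_s : (([23, 0, 18, 13, 12, 5, 10, 11] : List ℕ).all fun r =>
      checkEq 28 24 (col chevD4) ((w14 ++ w14) ++ [(r, 1, 0, 1)]) ([(r, -1, 0, 1)] ++ (w14 ++ w14))) = true := by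
  decide +kernel

theorem check_z : checkEq 28 24 (col chevD4) (w23 ++ w23) (wo ++ wo) = true := by
  decide +kernel

theorem check_3 : checkEq 28 24 (col chevD4) ((w14 ++ wo) ++ (w14 ++ w14)) ((w23 ++ w23) ++ (w14 ++ wo)) = true := by
  decide +kernel

theorem check_4 : checkEq 28 24 (col chevD4) ((w14 ++ wo) ++ (w23 ++ w23))
    ((w23 ++ w23) ++ (w14 ++ w14) ++ (w14 ++ wo)) = true := by
  decide +kernel

theorem check_5 : checkEq 28 24 (col chevD4) ((w14 ++ wo) ++ (w23 ++ wo))
    ((w23 ++ wo) ++ (w14 ++ wo)) = true := by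
  decide +kernel

section Field

variable {F P : Type*} [Field F] [Field P] (c : P →+* F)

/-- The matrix of an element. -/
def mat (g : GL chevD4.Idx F) : Matrix chevD4.Idx chevD4.Idx F := (g : Matrix _ _ F)

theorem mat_injective : Function.Injective (mat (F := F)) := Units.val_injective

theorem mat_mul (g h : GL chevD4.Idx F) : mat (g * h) = mat g * mat h := rfl

/-- The homomorphism of the central node. -/
noncomputable def ce : Matrix.SpecialLinearGroup (Fin 2) P →* GL chevD4.Idx F := ou c 14 (by decide)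

theorem ce_up (t : P) : ce c (up t) = xU 14 (c t) := ou_up c 14 (by decide) t
theorem ce_lo (t : P) : ce c (lo t) = xU 9 (c t) := ou_lo c 14 9 (by decide) (by decide +kernel) t

theorem mat_w23 (t u : F) : mat (hi c (wsl P)) = chevD4.wordMat F (evW t u w23) := by
  simp only [evW, w23, List.map_cons, List.map_nil, ChevalleyDatum.wordMat, List.prod_cons, List.prod_nil,
    mul_one, evM_neg_one, evM_one]
  rw [wsl, map_mul, map_mul, hi_up, hi_lo, map_neg, map_one, mat_mul, mat_mul, mul_assoc]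
  rfl

theorem mat_w14 (t u : F) : mat (ce c (wsl P)) = chevD4.wordMat F (evW t u w14) := by
  simp only [evW, w14, List.map_cons, List.map_nil, ChevalleyDatum.wordMat, List.prod_cons, List.prod_nil,
    mul_one, evM_neg_one, evM_one]
  rw [wsl, map_mul, map_mul, ce_up, ce_lo, map_neg, map_one, mat_mul, mat_mul, mul_assoc]
  rfl

theorem mat_wo (t u : F) : mat (out c (wsl P)) = chevD4.wordMat F (evW t u wo) := by
  simp only [evW, wo, List.map_cons, List.map_nil, ChevalleyDatum.wordMat, List.prod_cons, List.prod_nil,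
    mul_one, evM_neg_one, evM_one]
  rw [wsl, map_mul, map_mul, out_up, out_lo, map_neg, map_one]
  simp only [mat_mul, mul_assoc]
  rfl

theorem s_conj {r : ℕ} (h : r ∈ ([23, 0, 18, 13, 12, 5, 10, 11] : List ℕ)) (u : F) :
    ce c (wsl P) * ce c (wsl P) * xU r u = xU r (-u) * (ce c (wsl P) * ce c (wsl P)) := by
  by_cases hu : u = 0
  · subst hu
    have h0 : (xU r 0 : GL chevD4.Idx F) = 1 := Units.ext (x_zero _ r)
    rw [neg_zero, h0, one_mul, mul_one]
  · have h1 := wordMat_eq_of_checkEq chevD4 colsOK (one_ne_zero (α := F)) hu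
      (List.all_eq_true.1 check_s _ h)
    simp only [evW_append, wordMat_append, ← mat_w14 c, ← mat_mul] at h1
    apply mat_injective
    rw [mat_mul _ (xU r u), mat_mul (xU r _)]
    generalize mat (ce c (wsl P) * ce c (wsl P)) = A at h1 ⊢
    simp only [evW, List.map_cons, List.map_nil, ChevalleyDatum.wordMat, List.prod_cons, List.prod_nil,
      mul_one, evM_u, evM_neg_u] at h1
    exact h1

theorem hi_eq_out : hi c (-1) = out c (-1) := by
  rw [← wsl_sq, map_mul, map_mul]
  apply mat_injective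
  have h1 := wordMat_eq_of_checkEq chevD4 colsOK (one_ne_zero (α := F)) (one_ne_zero (α := F)) check_z
  simp only [evW_append, wordMat_append, ← mat_w23 c, ← mat_wo c, ← mat_mul] at h1
  exact h1

theorem s_hi_up (t : P) : ce c (wsl P) * ce c (wsl P) * hi c (up t) =
    hi c (up (-t)) * (ce c (wsl P) * ce c (wsl P)) := by
  rw [hi_up, hi_up, map_neg, s_conj c (by decide)]

theorem s_hi_lo (t : P) : ce c (wsl P) * ce c (wsl P) * hi c (lo t) =
    hi c (lo (-t)) * (ce c (wsl P) * ce c (wsl P)) := by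
  rw [hi_lo, hi_lo, map_neg, s_conj c (by decide)]

theorem s_out_up (t : P) : ce c (wsl P) * ce c (wsl P) * out c (up t) =
    out c (up (-t)) * (ce c (wsl P) * ce c (wsl P)) := by
  rw [out_up, out_up, map_neg, ← mul_assoc _ _ (xU 12 (c t)), ← mul_assoc _ (xU 18 (c t)),
    s_conj c (r := 18) (by decide), mul_assoc _ _ (xU 13 (c t)), s_conj c (r := 13) (by decide),
    ← mul_assoc, mul_assoc _ _ (xU 12 (c t)), s_conj c (r := 12) (by decide), ← mul_assoc]

theorem s_out_lo (t : P) : ce c (wsl P) * ce c (wsl P) * out c (lo t) =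
    out c (lo (-t)) * (ce c (wsl P) * ce c (wsl P)) := by
  rw [out_lo, out_lo, map_neg, ← mul_assoc _ _ (xU 11 (c t)), ← mul_assoc _ (xU 5 (c t)),
    s_conj c (r := 5) (by decide), mul_assoc _ _ (xU 10 (c t)), s_conj c (r := 10) (by decide),
    ← mul_assoc, mul_assoc _ _ (xU 11 (c t)), s_conj c (r := 11) (by decide), ← mul_assoc]

theorem rel_3 : ce c (wsl P) * out c (wsl P) * (ce c (wsl P) * ce c (wsl P)) =
    hi c (-1) * (ce c (wsl P) * out c (wsl P)) := by
  rw [← wsl_sq, map_mul]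
  apply mat_injective
  have h1 := wordMat_eq_of_checkEq chevD4 colsOK (one_ne_zero (α := F)) (one_ne_zero (α := F)) check_3
  simp only [evW_append, wordMat_append, ← mat_w14 c, ← mat_w23 c, ← mat_wo c, ← mat_mul] at h1
  exact h1

theorem rel_4 : ce c (wsl P) * out c (wsl P) * hi c (-1) =
    hi c (-1) * (ce c (wsl P) * ce c (wsl P)) * (ce c (wsl P) * out c (wsl P)) := by
  rw [← wsl_sq, map_mul]
  apply mat_injective
  have h1 := wordMat_eq_of_checkEq chevD4 colsOK (one_ne_zero (α := F)) (one_ne_zero (α := F)) check_4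
  simp only [evW_append, wordMat_append, ← mat_w14 c, ← mat_w23 c, ← mat_wo c, ← mat_mul] at h1
  exact h1

theorem rel_5 : ce c (wsl P) * out c (wsl P) * (hi c (wsl P) * out c (wsl P)) =
    hi c (wsl P) * out c (wsl P) * (ce c (wsl P) * out c (wsl P)) := by
  apply mat_injective
  have h1 := wordMat_eq_of_checkEq chevD4 colsOK (one_ne_zero (α := F)) (one_ne_zero (α := F)) check_5
  simp only [evW_append, wordMat_append, ← mat_w14 c, ← mat_w23 c, ← mat_wo c, ← mat_mul] at h1
  exact h1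

end Field

section Mem

variable {K : Type*} [Field K] {φ : K →+* K} {q : ℕ} {P : Type*} [Field P] (c : P →+* K)

theorem ce_mem (hφ : ∀ x, φ x = x ^ q) (hc : ∀ t, φ (c t) = c t) (g : Matrix.SpecialLinearGroup (Fin 2) P) :
    ce c g ∈ twistedD4 K q := by
  refine Subgroup.closure_induction (p := fun g _ => ce c g ∈ twistedD4 K q) ?_ ?_ ?_ ?_ (mem_closure_SL2 g)
  · rintro _ (⟨t, rfl⟩ | ⟨t, rfl⟩)
    · rw [ce_up]
      exact x14_mem ((hφ _).symm.trans (hc t))
    · rw [ce_lo]
      exact x9_mem ((hφ _).symm.trans (hc t))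
  · rw [map_one]; exact one_mem _
  · intro x y _ _ hx hy
    rw [map_mul]; exact mul_mem hx hy
  · intro x _ hx
    rw [map_inv]; exact inv_mem hx

theorem hasPair_aux [Finite P] (h2 : (2 : K) ≠ 0) (hφ : ∀ x, φ x = x ^ q) (hc : ∀ t, φ (c t) = c t) :
    Pair.HasPair ↥(twistedD4 K q) := by
  have h2' : (2 : P) ≠ 0 := by
    intro h
    apply h2
    rw [← map_ofNat c 2, h, map_zero]
  obtain ⟨Φ, hΦ⟩ : ∃ Φ : Matrix.SpecialLinearGroup (Fin 2) P →* ↥(twistedD4 K q), ∀ g, (Φ g).1 = hi c g :=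
    ⟨(hi c).codRestrict (twistedD4 K q) (hi_mem c hφ hc), fun g => rfl⟩
  obtain ⟨Ψ, hΨ⟩ : ∃ Ψ : Matrix.SpecialLinearGroup (Fin 2) P →* ↥(twistedD4 K q), ∀ g, (Ψ g).1 = out c g :=
    ⟨(out c).codRestrict (twistedD4 K q) (out_mem c hφ hc), fun g => rfl⟩
  obtain ⟨n, hn⟩ : ∃ n : ↥(twistedD4 K q), n.1 = ce c (wsl P) := ⟨⟨_, ce_mem c hφ hc _⟩, rfl⟩
  refine PairSL.hasPair h2' Φ Ψ (fun g h => Subtype.ext ?_) (Subtype.ext ?_) (fun h => ?_) (n * n)
    (n * Ψ (wsl P)) (fun t => Subtype.ext ?_) (Subtype.ext ?_) (fun t => Subtype.ext ?_)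
    (Subtype.ext ?_) (Subtype.ext ?_) (Subtype.ext ?_) ⟨1, Or.inl rfl, ?_⟩
  · rw [Subgroup.coe_mul, Subgroup.coe_mul, hΦ, hΨ]; exact (hi_out_comm c g h).eq
  · rw [hΦ, hΨ]; exact hi_eq_out c
  · apply hi_neg_one c h2
    rw [← hΦ, h]; rfl
  · simp only [Subgroup.coe_mul, hΦ, hn]; exact s_hi_up c t
  · simp only [Subgroup.coe_mul, hΦ, hn]; exact s_hi_lo c 1
  · simp only [Subgroup.coe_mul, hΨ, hn]; exact s_out_up c t
  · simp only [Subgroup.coe_mul, hΨ, hn]; exact s_out_lo c 1
  · simp only [Subgroup.coe_mul, hΨ, hΦ, hn]; exact rel_3 c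
  · simp only [Subgroup.coe_mul, hΨ, hΦ, hn]; exact rel_4 c
  · rw [mul_one]
    apply Subtype.ext
    simp only [Subgroup.coe_mul, hΨ, hΦ, hn]; exact rel_5 c

end Mem

theorem hasPair {K : Type*} [Field K] [Fintype K] {q : ℕ} (hq : Odd q) (hK : Fintype.card K = q ^ 3) :
    Pair.HasPair ↥(twistedD4 K q) := by
  have hodd : Odd (Fintype.card K) := by rw [hK]; exact hq.pow
  have h2 : (2 : K) ≠ 0 := LowRankLie.two_ne_zero_of_odd hodd
  have hpp : IsPrimePow q := by
    have h1 : IsPrimePow (q ^ 3) := by rw [← hK]; exact Fintype.isPrimePow_card_of_field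
    rwa [isPrimePow_pow_iff (by norm_num)] at h1
  obtain ⟨φ, hφ⟩ := exists_frob hpp hK
  obtain ⟨p, hp⟩ := CharP.exists K
  have hpr : p.Prime := by
    rcases CharP.char_is_prime_or_zero K p with h | h
    · exact h
    · exfalso
      subst h
      have := CharP.charP_to_charZero K
      exact (Infinite.of_injective (Nat.cast : ℕ → K) Nat.cast_injective).not_finite inferInstance
  have := Fact.mk hpr
  let c : ZMod p →+* K := ZMod.castHom (dvd_refl p) K
  have hc : ∀ t, φ (c t) = c t := by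
    intro t
    have h1 : (φ : K →+* K).comp c = c := Subsingleton.elim _ _
    exact congrFun (congrArg DFunLike.coe h1) t
  exact hasPair_aux c h2 hφ hc

/-- **Double covers of `³D₄(q)`**, `q` odd, are not of sectional 2-rank at most four. -/
theorem not_le_four {X : Type*} [Group X] (hX : Defs.IsD4odd X) {Y : Type*} [Group Y] [Finite Y]
    (f : Y →* X) (hf : Function.Surjective f) (hk : Nat.card f.ker = 2) : ¬ SectionalPRankLE 2 4 Y := by
  obtain ⟨K, _, _, q, hq, hK, ⟨e⟩⟩ := hX
  exact Pair.not_le_four f hf hk ((hasPair hq hK).of_injective e.symm.toMonoidHom e.symm.injective)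

end Cfsg.Agent.GH.Cov.PairD4
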