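import Mathlib
import Cfsg.Agent.GH.Cov.PairSL
import Cfsg.Agent.ClassificationK.GTwoChev
import Cfsg.Agent.GH.LowRankLie
import Cfsg.Agent.GH.Defs

/-!
# A commuting pair of quaternion groups in `G₂(q)`, `q` odd (GH-COV, rank cut, part [F])
-/

set_option autoImplicit false
set_option linter.dupNamespace false

namespace Cfsg.Agent.GH.Cov.PairG2

open Cfsg Cfsg.Lie
open Cfsg.Agent.ChevalleyStructure.LaurentWord
open Cfsg.Agent.ChevalleyStructure.LaurentNH
open Cfsg.Agent.ChevalleyStructure.SL2Rep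
open Cfsg.Agent.ChevalleyStructure.SL2Hom
open Cfsg.Agent.ClassificationK.GTwoChev

/-- the word of the Weyl element of the long simple root -/
def w6 : List (ℕ × Mono) := [(6, -1, 0, 0), (5, 1, 0, 0), (6, -1, 0, 0)]

theorem check_s : (([7, 4, 11, 0] : List ℕ).all fun r =>
      checkEq 14 12 (col chevG2) ((w6 ++ w6) ++ [(r, 1, 0, 1)]) ([(r, -1, 0, 1)] ++ (w6 ++ w6))) = true := by
  decide +kernel

theorem check_3 : checkEq 14 12 (col chevG2) ((w6 ++ w7) ++ (w6 ++ w6)) ((w11 ++ w11) ++ (w6 ++ w7)) = true := by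
  decide +kernel

theorem check_4 : checkEq 14 12 (col chevG2) ((w6 ++ w7) ++ (w11 ++ w11))
    ((w11 ++ w11) ++ (w6 ++ w6) ++ (w6 ++ w7)) = true := by
  decide +kernel

theorem check_5 : checkEq 14 12 (col chevG2) ((w6 ++ w7) ++ (w11 ++ w7))
    ((w11 ++ w7) ++ (w6 ++ w6) ++ (w6 ++ w7)) = true := by
  decide +kernel

variable {F : Type*} [Field F]

theorem mat_w6 (t u : F) : mat (ph6 F (wsl F)) = chevG2.wordMat F (evW t u w6) := by
  simp only [evW, w6, List.map_cons, List.map_nil, ChevalleyDatum.wordMat, List.prod_cons, List.prod_nil,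
    mul_one, evM_neg_one, evM_one]
  rw [← m6u, ← m6l, wsl, map_mul, map_mul, mat_mul, mat_mul, mul_assoc]

theorem s_conj_aux {r : ℕ} (h : r ∈ ([7, 4, 11, 0] : List ℕ)) (u : F) :
    mat (ph6 F (wsl F) * ph6 F (wsl F)) * chevG2.x F r u =
      chevG2.x F r (-u) * mat (ph6 F (wsl F) * ph6 F (wsl F)) := by
  by_cases hu : u = 0
  · subst hu
    rw [neg_zero, x_zero, one_mul, mul_one]
  · have h1 := wordMat_eq_of_checkEq chevG2 colsOK (one_ne_zero (α := F)) hu
      (List.all_eq_true.1 check_s _ h)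
    simp only [evW_append, wordMat_append, ← mat_w6, ← mat_mul] at h1
    generalize mat (ph6 F (wsl F) * ph6 F (wsl F)) = A at h1 ⊢
    simp only [evW, List.map_cons, List.map_nil, ChevalleyDatum.wordMat, List.prod_cons, List.prod_nil,
      mul_one, evM_u, evM_neg_u] at h1
    exact h1

theorem hasPair [Finite F] (h2 : (2 : F) ≠ 0) : Pair.HasPair ↥(chevG2.group F) := by
  refine PairSL.hasPair h2 (ph11 F) (ph7 F) (fun g h => comm g h) phi_neg_one_eq (phi_neg_one_ne h2)
    (ph6 F (wsl F) * ph6 F (wsl F)) (ph6 F (wsl F) * ph7 F (wsl F)) ?_ ?_ ?_ ?_ ?_ ?_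
    ⟨ph6 F (wsl F) * ph6 F (wsl F), Or.inr (Or.inr (Or.inl rfl)), ?_⟩
  · intro t
    apply mat_injective
    rw [mat_mul _ (ph11 F _), mat_mul (ph11 F _), m11u, m11u]
    exact s_conj_aux (by decide) t
  · apply mat_injective
    rw [mat_mul _ (ph11 F _), mat_mul (ph11 F _), m11l, m11l]
    exact s_conj_aux (by decide) 1
  · intro t
    apply mat_injective
    rw [mat_mul _ (ph7 F _), mat_mul (ph7 F _), m7u, m7u]
    exact s_conj_aux (by decide) t
  · apply mat_injective
    rw [mat_mul _ (ph7 F _), mat_mul (ph7 F _), m7l, m7l]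
    exact s_conj_aux (by decide) 1
  · rw [← wsl_sq, map_mul]
    apply mat_injective
    have h1 := wordMat_eq_of_checkEq chevG2 colsOK (one_ne_zero (α := F)) (one_ne_zero (α := F)) check_3
    simp only [evW_append, wordMat_append, ← mat_w6, ← mat_w7, ← mat_w11, ← mat_mul] at h1
    exact h1
  · rw [← wsl_sq, map_mul]
    apply mat_injective
    have h1 := wordMat_eq_of_checkEq chevG2 colsOK (one_ne_zero (α := F)) (one_ne_zero (α := F)) check_4
    simp only [evW_append, wordMat_append, ← mat_w6, ← mat_w7, ← mat_w11, ← mat_mul] at h1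
    exact h1
  · apply mat_injective
    have h1 := wordMat_eq_of_checkEq chevG2 colsOK (one_ne_zero (α := F)) (one_ne_zero (α := F)) check_5
    simp only [evW_append, wordMat_append, ← mat_w6, ← mat_w7, ← mat_w11, ← mat_mul] at h1
    exact h1

/-- **Double covers of `G₂(q)`**, `q` odd, are not of sectional 2-rank at most four. -/
theorem not_le_four {X : Type*} [Group X] (hX : Defs.IsG2odd X) {Y : Type*} [Group Y] [Finite Y]
    (f : Y →* X) (hf : Function.Surjective f) (hk : Nat.card f.ker = 2) : ¬ SectionalPRankLE 2 4 Y := by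
  obtain ⟨F, _, _, hF, ⟨e⟩⟩ := hX
  have h2 : (2 : F) ≠ 0 := LowRankLie.two_ne_zero_of_odd hF
  exact Pair.not_le_four f hf hk ((hasPair h2).of_injective e.symm.toMonoidHom e.symm.injective)

end Cfsg.Agent.GH.Cov.PairG2
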