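import Cfsg.Agent.GH.Defs
import Cfsg.Agent.GH.Cov.Transfer
import Cfsg.Agent.S1217
import Cfsg.Agent.S1218
import Cfsg.Agent.S1219
import Cfsg.Agent.S1603
import Cfsg.Agent.S0278
import Cfsg.Agent.S0279
import Cfsg.Agent.Schreier.MEleven
import Cfsg.Agent.Classification.BGSylow

/-!
# `PSL₃(q)`, `PSU₃(q)` (`q` odd) and `M₁₁` have no perfect double covers (GH-COV, rank cut, part [B])

The Sylow 2-subgroups of these groups are semidihedral or wreathed.
-/

set_option autoImplicit false

open Cfsg Subgroup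
open scoped MatrixGroups Matrix

namespace Cfsg.Agent.GH.Cov.SylowThree

universe u v

/-- A homomorphism with odd kernel and image of odd index: isomorphic Sylow 2-subgroups. -/
theorem sylow_iso {A : Type u} {B : Type v} [Group A] [Group B] [Finite A] [Finite B] (φ : A →* B)
    (hk : Odd (Nat.card φ.ker)) (hi : Odd φ.range.index) (P : Sylow 2 A) (S : Sylow 2 B) :
    Nonempty ((P : Subgroup A) ≃* (S : Subgroup B)) := by
  have : Fact (Nat.Prime 2) := ⟨Nat.prime_two⟩
  obtain ⟨Q, ⟨e⟩⟩ := Cfsg.Agent.Classification.BGSylow.exists_sylow_equiv S φ.range hi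
  let Q' : Sylow 2 φ.range := P.mapSurjective φ.rangeRestrict_surjective
  have hQ' : (Q' : Subgroup φ.range) = (P : Subgroup A).map φ.rangeRestrict :=
    Sylow.coe_mapSurjective _ _
  have hinj : Function.Injective (φ.rangeRestrict.subgroupMap (P : Subgroup A)) := by
    rw [injective_iff_map_eq_one]
    intro a ha
    have h1 : φ (a : A) = 1 := congrArg (fun t => ((t : φ.range) : B)) (congrArg Subtype.val ha)
    obtain ⟨n, hn⟩ := P.2 a
    have h2 : orderOf (⟨(a : A), h1⟩ : φ.ker) ∣ 2 ^ n := by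
      apply orderOf_dvd_of_pow_eq_one
      apply Subtype.ext
      have := congrArg Subtype.val hn
      simpa using this
    have h3 : orderOf (⟨(a : A), h1⟩ : φ.ker) ∣ Nat.card φ.ker := orderOf_dvd_natCard _
    have h4 : orderOf (⟨(a : A), h1⟩ : φ.ker) = 1 :=
      Nat.eq_one_of_dvd_coprimes (Nat.Coprime.pow_left n (Nat.coprime_two_left.2 hk)) h2 h3
    rw [orderOf_eq_one_iff] at h4
    have h5 : (a : A) = 1 := congrArg Subtype.val h4
    exact Subtype.ext h5
  have e1 : (P : Subgroup A) ≃* (P : Subgroup A).map φ.rangeRestrict :=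
    MulEquiv.ofBijective (φ.rangeRestrict.subgroupMap (P : Subgroup A))
      ⟨hinj, φ.rangeRestrict.subgroupMap_surjective _⟩
  exact ⟨e1.trans ((MulEquiv.subgroupCongr hQ'.symm).trans ((Sylow.equiv Q' Q).trans e))⟩

/-- A group with a perfect double cover has even order. -/
theorem two_dvd_card {Y : Type u} {X : Type v} [Group Y] [Group X] [Finite Y] [Finite X]
    (hperf : commutator Y = ⊤) (f : Y →* X) (hf : Function.Surjective f)
    (hk : Nat.card f.ker = 2) : 2 ∣ Nat.card X := by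
  have : Fact (Nat.Prime 2) := ⟨Nat.prime_two⟩
  obtain ⟨c, D⟩ := Transfer.exists_dbl f hf hk
  obtain ⟨P⟩ : Nonempty (Sylow 2 Y) := inferInstance
  by_contra h
  have h1 : ∀ p ∈ (P : Subgroup Y), f p = 1 := by
    intro p hp
    obtain ⟨n, hn⟩ := P.2 ⟨p, hp⟩
    have h2 : orderOf (f p) ∣ 2 ^ n := by
      apply orderOf_dvd_of_pow_eq_one
      have := congrArg Subtype.val hn
      have h3 : p ^ 2 ^ n = 1 := by simpa using this
      rw [← map_pow, h3, map_one]
    have h3 : orderOf (f p) ∣ Nat.card X := orderOf_dvd_natCard _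
    exact orderOf_eq_one_iff.1 (Nat.eq_one_of_dvd_coprimes
      (Nat.Coprime.pow_left n ((Nat.Prime.coprime_iff_not_dvd Nat.prime_two).2 h)) h2 h3)
  have h2 : ⁅(P : Subgroup Y), (P : Subgroup Y)⁆ ≤ ⊥ := by
    rw [commutator_le]
    intro a ha b _
    rw [mem_bot, commutatorElement_eq_one_iff_mul_comm]
    rcases (D.ker a).1 (h1 a ha) with rfl | rfl
    · rw [one_mul, mul_one]
    · exact (D.comm b).symm
  exact D.ne (mem_bot.1 (h2 (D.mem_commutator hperf P)))

/-- The Sylow 2-subgroup is contained in the centralizer of an involution. -/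
theorem exists_central_inv {X : Type v} [Group X] [Finite X] (h : 2 ∣ Nat.card X) (S : Sylow 2 X) :
    ∃ t : X, orderOf t = 2 ∧ Odd (centralizer ({t} : Set X)).index := by
  have : Fact (Nat.Prime 2) := ⟨Nat.prime_two⟩
  have hS : Nontrivial (S : Subgroup X) := by
    have h1 := S.dvd_card_of_dvd_card h
    rw [← Finite.one_lt_card_iff_nontrivial]
    have h2 : 0 < Nat.card (S : Subgroup X) := Nat.card_pos
    exact lt_of_lt_of_le one_lt_two (Nat.le_of_dvd h2 h1)
  have hZ : Nontrivial (center (S : Subgroup X)) := S.2.center_nontrivial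
  obtain ⟨z, hz⟩ : ∃ z : center (S : Subgroup X), orderOf z = 2 := by
    have h1 : 2 ∣ Nat.card (center (S : Subgroup X)) := by
      obtain ⟨n, hn⟩ := (S.2.to_subgroup (center (S : Subgroup X))).exists_card_eq
      rcases Nat.eq_zero_or_pos n with h0 | h0
      · rw [h0, pow_zero] at hn
        have := Finite.one_lt_card (α := center (S : Subgroup X))
        omega
      · rw [hn]; exact dvd_pow_self 2 h0.ne'
    exact exists_prime_orderOf_dvd_card' 2 h1
  refine ⟨((z : (S : Subgroup X)) : X), ?_, ?_⟩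
  · rw [Subgroup.orderOf_coe, Subgroup.orderOf_coe, hz]
  · have h1 : (S : Subgroup X) ≤ centralizer {((z : (S : Subgroup X)) : X)} := by
      intro s hs
      rw [mem_centralizer_singleton_iff]
      have := mem_center_iff.1 z.2 ⟨s, hs⟩
      exact congrArg (fun t : (S : Subgroup X) => (t : X)) this
    have h2 : Odd (S : Subgroup X).index := by
      rw [← Nat.not_even_iff_odd, even_iff_two_dvd]
      exact S.not_dvd_index
    exact Odd.of_dvd_nat h2 (index_dvd_of_le h1)

/-! ### `PSL₃(q)` -/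

theorem psl_three {F : Type u} [Field F] [Fintype F] (hF : Odd (Fintype.card F))
    {X : Type v} [Group X] [Finite X] (e0 : X ≃* Matrix.ProjectiveSpecialLinearGroup (Fin 3) F)
    (h2 : 2 ∣ Nat.card X) (S : Sylow 2 X) :
    Cfsg.IsQuasiDihedral (S : Subgroup X) ∨ Cfsg.IsWreathed (S : Subgroup X) := by
  have : Fact (Nat.Prime 2) := ⟨Nat.prime_two⟩
  obtain ⟨t, ht, hi⟩ := exists_central_inv h2 S
  obtain ⟨Z, hZn, -, hZc, ⟨e⟩⟩ := Cfsg.Agent.S1219.result hF (e0 t) (by
    rw [← ht]; exact orderOf_injective e0.toMonoidHom e0.injective t)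
  let φ : GL (Fin 2) F →* X := e0.symm.toMonoidHom.comp ((centralizer
    ({e0 t} : Set (Matrix.ProjectiveSpecialLinearGroup (Fin 3) F))).subtype.comp
      (e.symm.toMonoidHom.comp (QuotientGroup.mk' Z)))
  have hφ : ∀ g, φ g = e0.symm ((e.symm (QuotientGroup.mk' Z g) : centralizer
    ({e0 t} : Set (Matrix.ProjectiveSpecialLinearGroup (Fin 3) F))) :
      Matrix.ProjectiveSpecialLinearGroup (Fin 3) F) := fun g => rfl
  have hker : φ.ker = Z := by
    ext g
    rw [MonoidHom.mem_ker, hφ, e0.symm.map_eq_one_iff, OneMemClass.coe_eq_one,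
      e.symm.map_eq_one_iff]
    exact QuotientGroup.eq_one_iff g
  have hrange : φ.range = centralizer ({t} : Set X) := by
    ext x
    rw [MonoidHom.mem_range, mem_centralizer_singleton_iff]
    constructor
    · rintro ⟨g, rfl⟩
      have h3 := mem_centralizer_singleton_iff.1 (e.symm (QuotientGroup.mk' Z g)).2
      apply e0.injective
      rw [hφ, map_mul, map_mul, e0.apply_symm_apply]
      exact h3
    · intro hx
      have hx' : e0 x ∈ centralizer
          ({e0 t} : Set (Matrix.ProjectiveSpecialLinearGroup (Fin 3) F)) := by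
        rw [mem_centralizer_singleton_iff, ← map_mul, ← map_mul, hx]
      obtain ⟨g, hg⟩ := QuotientGroup.mk'_surjective Z (e ⟨e0 x, hx'⟩)
      refine ⟨g, ?_⟩
      rw [hφ, hg, e.symm_apply_apply]
      exact e0.symm_apply_apply x
  have hk : Odd (Nat.card φ.ker) := by
    rw [hker, hZc]
    exact Odd.of_dvd_nat (by decide : Odd 3) (Nat.gcd_dvd_right _ _)
  obtain ⟨P⟩ : Nonempty (Sylow 2 (GL (Fin 2) F)) := inferInstance
  obtain ⟨e1⟩ := sylow_iso φ hk (by rw [hrange]; exact hi) P S
  have h3 := Cfsg.Agent.S1217.result P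
  have h4 : Fintype.card F % 4 = 3 ∨ Fintype.card F % 4 = 1 := by
    rw [Nat.odd_iff] at hF; omega
  rcases h4 with h4 | h4
  · exact Or.inl (TwoFusion.SylowTypeTransfer.isQuasiDihedral_of_mulEquiv e1 (h3.1 h4))
  · exact Or.inr (TwoFusion.SylowTypeTransfer.isWreathed_of_mulEquiv e1 (h3.2 h4))

/-! ### `M₁₁` -/

theorem mEleven {X : Type v} [Group X] [Finite X] (h : Cfsg.Spor.IsoM11 X)
    (h2 : 2 ∣ Nat.card X) (S : Sylow 2 X) : Cfsg.IsQuasiDihedral (S : Subgroup X) := by
  have : Fact (Nat.Prime 2) := ⟨Nat.prime_two⟩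
  obtain ⟨e0'⟩ := h
  let e0 := e0'.trans Cfsg.Agent.Schreier.MEleven.equiv.symm
  obtain ⟨t, ht, hi⟩ := exists_central_inv h2 S
  obtain ⟨e⟩ := Cfsg.Agent.S1603.result _ Cfsg.Agent.Schreier.MEleven.squareDodecad_mem _
    Cfsg.Agent.Schreier.MEleven.zero_mem (e0 t) (by
    rw [← ht]; exact orderOf_injective e0.toMonoidHom e0.injective t)
  let φ : GL (Fin 2) (ZMod 3) →* X := e0.symm.toMonoidHom.comp ((centralizer
    ({e0 t} : Set _)).subtype.comp e.symm.toMonoidHom)
  have hφ : ∀ g, φ g = e0.symm ((e.symm g : centralizer ({e0 t} : Set _)) : _) := fun g => rfl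
  have hinj : Function.Injective φ :=
    e0.symm.injective.comp (Subtype.val_injective.comp e.symm.injective)
  have hrange : φ.range = centralizer ({t} : Set X) := by
    ext x
    rw [MonoidHom.mem_range, mem_centralizer_singleton_iff]
    constructor
    · rintro ⟨g, rfl⟩
      have h3 := mem_centralizer_singleton_iff.1 (e.symm g).2
      apply e0.injective
      rw [hφ, map_mul, map_mul, e0.apply_symm_apply]
      exact h3
    · intro hx
      have hx' : e0 x ∈ centralizer ({e0 t} : Set _) := by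
        rw [mem_centralizer_singleton_iff, ← map_mul, ← map_mul, hx]
      refine ⟨e ⟨e0 x, hx'⟩, ?_⟩
      rw [hφ, e.symm_apply_apply]
      exact e0.symm_apply_apply x
  have hk : Odd (Nat.card φ.ker) := by
    rw [(MonoidHom.ker_eq_bot_iff φ).2 hinj, Subgroup.card_bot]
    exact odd_one
  obtain ⟨P⟩ : Nonempty (Sylow 2 (GL (Fin 2) (ZMod 3))) := inferInstance
  obtain ⟨e1⟩ := sylow_iso φ hk (by rw [hrange]; exact hi) P S
  exact TwoFusion.SylowTypeTransfer.isQuasiDihedral_of_mulEquiv e1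
    ((Cfsg.Agent.S1217.result P).1 (by rw [ZMod.card]))

/-! ### `PSU₃(q)` -/

section unitary

open Cfsg.Agent.TwoFusion.GUTwo

variable {F : Type u} [Field F] [Fintype F] {q : ℕ}

/-- The matrix `diag(g, d)`. -/
def blk (g : Matrix (Fin 2) (Fin 2) F) (d : F) : Matrix (Fin 3) (Fin 3) F :=
  !![g 0 0, g 0 1, 0; g 1 0, g 1 1, 0; 0, 0, d]

omit [Fintype F] in
theorem blk_mul (g h : Matrix (Fin 2) (Fin 2) F) (d e : F) :
    blk g d * blk h e = blk (g * h) (d * e) := by
  unfold blk
  ext i j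
  fin_cases i <;> fin_cases j <;> simp [Matrix.mul_apply, Fin.sum_univ_succ]

omit [Fintype F] in
theorem blk_one : blk (1 : Matrix (Fin 2) (Fin 2) F) 1 = 1 := by
  unfold blk
  ext i j
  fin_cases i <;> fin_cases j <;> simp

omit [Fintype F] in
theorem blk_det (g : Matrix (Fin 2) (Fin 2) F) (d : F) : (blk g d).det = g.det * d := by
  unfold blk
  rw [Matrix.det_fin_three, Matrix.det_fin_two]
  simp
  ring

omit [Fintype F] in
theorem blk_mulVec (g : Matrix (Fin 2) (Fin 2) F) (d : F) (u : Fin 3 → F) :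
    blk g d *ᵥ u = ![(g *ᵥ ![u 0, u 1]) 0, (g *ᵥ ![u 0, u 1]) 1, d * u 2] := by
  unfold blk
  ext i
  fin_cases i <;> simp [Matrix.mulVec, dotProduct, Fin.sum_univ_succ]

omit [Fintype F] in
theorem blk_injective {g h : Matrix (Fin 2) (Fin 2) F} {d e : F} (hgh : blk g d = blk h e) :
    g = h := by
  ext i j
  fin_cases i <;> fin_cases j
  · exact congrFun (congrFun hgh 0) 0
  · exact congrFun (congrFun hgh 0) 1
  · exact congrFun (congrFun hgh 1) 0
  · exact congrFun (congrFun hgh 1) 1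

omit [Fintype F] in
theorem det_ne_zero (g : GU2 F q) : g.1.1.det ≠ 0 :=
  ((Matrix.isUnit_iff_isUnit_det g.1.1).1 g.1.isUnit).ne_zero

theorem det_pow (hF : Fintype.card F = q ^ 2) (g : GU2 F q) : g.1.1.det ^ (q + 1) = 1 := by
  obtain ⟨h1, h3, h4⟩ := (mem_iff hF g.1).1 g.2
  rw [Matrix.det_fin_two]
  exact det_norm hF h1 h3 h4

theorem herm (hF : Fintype.card F = q ^ 2) (g : GU2 F q) (u v : Fin 3 → F) :
    hermForm 3 F q (blk g.1.1 (g.1.1.det)⁻¹ *ᵥ u) (blk g.1.1 (g.1.1.det)⁻¹ *ᵥ v) =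
      hermForm 3 F q u v := by
  have h1 : hermForm 2 F q (g.1.1 *ᵥ ![u 0, u 1]) (g.1.1 *ᵥ ![v 0, v 1]) =
      hermForm 2 F q ![u 0, u 1] ![v 0, v 1] := g.2 _ _
  have h2 : (g.1.1.det)⁻¹ * ((g.1.1.det)⁻¹) ^ q = 1 := by
    rw [← pow_succ', inv_pow, det_pow hF g, inv_one]
  rw [blk_mulVec, blk_mulVec]
  unfold hermForm at h1 ⊢
  rw [Fin.sum_univ_two, Fin.sum_univ_two] at h1
  rw [Fin.sum_univ_three, Fin.sum_univ_three]
  simp only [Matrix.cons_val_zero, Matrix.cons_val_one, Matrix.cons_val] at h1 ⊢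
  rw [h1, mul_pow]
  linear_combination (u 2 * v 2 ^ q) * h2

/-- The embedding of `GU₂(q)` in `SU₃(q)`. -/
noncomputable def emb (hF : Fintype.card F = q ^ 2) : GU2 F q →* Cfsg.SU 3 F q where
  toFun g := ⟨⟨blk g.1.1 (g.1.1.det)⁻¹, by
    rw [blk_det]
    exact mul_inv_cancel₀ (det_ne_zero g)⟩, herm hF g⟩
  map_one' := by
    apply Subtype.ext
    apply Subtype.ext
    show blk (1 : Matrix (Fin 2) (Fin 2) F) ((1 : Matrix (Fin 2) (Fin 2) F).det)⁻¹ = 1
    rw [Matrix.det_one, inv_one, blk_one]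
  map_mul' g h := by
    apply Subtype.ext
    apply Subtype.ext
    show blk (g.1.1 * h.1.1) ((g.1.1 * h.1.1).det)⁻¹ =
      blk g.1.1 (g.1.1.det)⁻¹ * blk h.1.1 (h.1.1.det)⁻¹
    rw [blk_mul, Matrix.det_mul, mul_inv]

theorem emb_injective (hF : Fintype.card F = q ^ 2) : Function.Injective (emb (q := q) hF) := by
  intro g h hgh
  apply Subtype.ext
  apply Units.ext
  have h1 : blk g.1.1 (g.1.1.det)⁻¹ = blk h.1.1 (h.1.1.det)⁻¹ :=
    congrArg (fun t : Cfsg.SU 3 F q => (t.1.1 : Matrix (Fin 3) (Fin 3) F)) hgh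
  exact blk_injective h1

theorem psu_three (hF : Fintype.card F = q ^ 2) (hq : Odd q)
    {X : Type v} [Group X] [Finite X] (e0 : X ≃* Cfsg.PSU 3 F q) (S : Sylow 2 X) :
    Cfsg.IsQuasiDihedral (S : Subgroup X) ∨ Cfsg.IsWreathed (S : Subgroup X) := by
  have : Fact (Nat.Prime 2) := ⟨Nat.prime_two⟩
  have hfin : Finite (Cfsg.PSU 3 F q) := Finite.of_equiv X e0.toEquiv
  let π : Cfsg.SU 3 F q →* Cfsg.PSU 3 F q := QuotientGroup.mk' _
  let φ : GU2 F q →* X := e0.symm.toMonoidHom.comp (π.comp (emb hF))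
  have hcZ : Nat.card (center (Cfsg.SU 3 F q)) = Nat.gcd 3 (q + 1) :=
    Cfsg.Agent.S0279.result hF 3 le_rfl
  have hker : ∀ g, g ∈ φ.ker ↔ emb hF g ∈ center (Cfsg.SU 3 F q) := by
    intro g
    rw [MonoidHom.mem_ker]
    show e0.symm (π (emb hF g)) = 1 ↔ _
    rw [e0.symm.map_eq_one_iff]
    exact QuotientGroup.eq_one_iff _
  have hkd : Nat.card φ.ker ∣ 3 := by
    have h1 : φ.ker.map (emb hF) ≤ center (Cfsg.SU 3 F q) := by
      rintro _ ⟨g, hg, rfl⟩
      exact (hker g).1 hg
    have h2 : Nat.card (φ.ker.map (emb hF)) = Nat.card φ.ker :=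
      Subgroup.card_map_of_injective (emb_injective hF)
    rw [← h2]
    exact (Subgroup.card_dvd_of_le h1).trans (hcZ ▸ Nat.gcd_dvd_left _ _)
  have hk : Odd (Nat.card φ.ker) := Odd.of_dvd_nat (by decide) hkd
  have hG := card_GU2 (F := F) hF
  have hS := Cfsg.Agent.S0278.result hF 3 (by norm_num)
  have hq2 := two_le hF
  have hidx : Odd φ.range.index := by
    -- orders
    have h1 : Nat.card φ.range * φ.range.index = Nat.card X := φ.range.card_mul_index
    have h2 : Nat.card φ.ker * Nat.card φ.range = Nat.card (GU2 F q) := by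
      rw [← Subgroup.index_ker, Subgroup.card_mul_index]
    have h3 : Nat.card (Cfsg.SU 3 F q) = Nat.gcd 3 (q + 1) * Nat.card X := by
      rw [← Subgroup.card_mul_index (center (Cfsg.SU 3 F q)), hcZ, Nat.card_congr e0.toEquiv]
      rfl
    have hprod : (∏ i ∈ Finset.range 3, (if Even i then q ^ (i + 1) + 1 else q ^ (i + 1) - 1)) =
        (q + 1) * (q ^ 2 - 1) * (q ^ 3 + 1) := by
      rw [Finset.prod_range_succ, Finset.prod_range_succ, Finset.prod_range_succ,
        Finset.prod_range_zero]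
      norm_num [Nat.even_iff]
    rw [hprod, h3] at hS
    rw [hG] at h2
    generalize Nat.card X = N at *
    generalize Nat.card φ.ker = k at *
    generalize Nat.card φ.range = R at *
    generalize φ.range.index = i at *
    generalize Nat.gcd 3 (q + 1) = g at *
    obtain ⟨m, rfl⟩ : ∃ m, q = m + 1 := ⟨q - 1, by omega⟩
    have hm : 0 < m := by omega
    have e1 : m + 1 - 1 = m := by omega
    have e2 : (m + 1) ^ 2 - 1 = m * (m + 2) := by
      have : (m + 1) ^ 2 = m * (m + 2) + 1 := by ring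
      omega
    have e3 : 3 * (3 - 1) / 2 = 3 := by norm_num
    rw [e2, e3, ← h1] at hS
    rw [e1] at h2
    have key : g * i = k * ((m + 1) ^ 2 * (m ^ 2 + m + 1)) := by
      have hpos : 0 < (m + 2) ^ 3 * m * (m + 1) := by positivity
      apply Nat.eq_of_mul_eq_mul_left hpos
      calc (m + 2) ^ 3 * m * (m + 1) * (g * i)
          = ((m + 1 + 1) * ((m + 1) * m) * (m + 1 + 1)) * ((m + 1 + 1) * (g * i)) := by ring
        _ = (k * R) * ((m + 1 + 1) * (g * i)) := by rw [h2]
        _ = k * ((m + 1 + 1) * (g * (R * i))) := by ring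
        _ = _ := by rw [hS]; ring
    have hodd : Odd (g * i) := by
      rw [key]
      have hme : Even m := by
        rw [Nat.odd_iff] at hq; rw [Nat.even_iff]; omega
      refine hk.mul ((Even.add_one hme).pow.mul ?_)
      refine Even.add_one ?_
      exact (hme.pow_of_ne_zero two_ne_zero).add hme
    exact (Nat.odd_mul.1 hodd).2
  obtain ⟨P⟩ : Nonempty (Sylow 2 (GU2 F q)) := inferInstance
  obtain ⟨e1⟩ := sylow_iso φ hk hidx P S
  have h3 := Cfsg.Agent.S1218.result q hF hq P
  have h4 : q % 4 = 3 ∨ q % 4 = 1 := by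
    rw [Nat.odd_iff] at hq; omega
  rcases h4 with h4 | h4
  · exact Or.inr (TwoFusion.SylowTypeTransfer.isWreathed_of_mulEquiv e1 (h3.2 h4))
  · exact Or.inl (TwoFusion.SylowTypeTransfer.isQuasiDihedral_of_mulEquiv e1 (h3.1 h4))

end unitary

/-! ### No perfect double covers -/

section final

variable {Y : Type u} {X : Type v} [Group Y] [Group X] [Finite Y] [Finite X]

theorem not_of_sylow (hperf : commutator Y = ⊤) (f : Y →* X) (hf : Function.Surjective f)
    (hk : Nat.card f.ker = 2) (S : Sylow 2 X)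
    (hS : Cfsg.IsQuasiDihedral (S : Subgroup X) ∨ Cfsg.IsWreathed (S : Subgroup X)) : False := by
  rcases hS with hS | hS
  · exact Transfer.not_quasiDihedral hperf f hf hk S hS
  · exact Transfer.not_wreathed hperf f hf hk S hS

/-- `PSL₃(q)`, `q` odd, has no perfect double cover. -/
theorem not_L3odd (hperf : commutator Y = ⊤) (f : Y →* X) (hf : Function.Surjective f)
    (hk : Nat.card f.ker = 2) (hX : GH.Defs.IsL3odd X) : False := by
  obtain ⟨F, _, _, hF, ⟨e⟩⟩ := hX
  obtain ⟨S⟩ : Nonempty (Sylow 2 X) := inferInstance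
  exact not_of_sylow hperf f hf hk S (psl_three hF e (two_dvd_card hperf f hf hk) S)

/-- `PSU₃(q)`, `q` odd, has no perfect double cover. -/
theorem not_U3odd (hperf : commutator Y = ⊤) (f : Y →* X) (hf : Function.Surjective f)
    (hk : Nat.card f.ker = 2) (hX : GH.Defs.IsU3odd X) : False := by
  obtain ⟨F, _, _, q, hF, hq, ⟨e⟩⟩ := hX
  obtain ⟨S⟩ : Nonempty (Sylow 2 X) := inferInstance
  exact not_of_sylow hperf f hf hk S (psu_three hF hq e S)

/-- `M₁₁` has no perfect double cover. -/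
theorem not_M11 (hperf : commutator Y = ⊤) (f : Y →* X) (hf : Function.Surjective f)
    (hk : Nat.card f.ker = 2) (hX : Cfsg.Spor.IsoM11 X) : False := by
  obtain ⟨S⟩ : Nonempty (Sylow 2 X) := inferInstance
  exact not_of_sylow hperf f hf hk S (Or.inl (mEleven hX (two_dvd_card hperf f hf hk) S))

end final

end Cfsg.Agent.GH.Cov.SylowThree
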