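import Mathlib
import Cfsg.Agent.GH.Defs
import Cfsg.Agent.GH.Cov.InstLie2
import Cfsg.Agent.GH.Cov.InstMathieu
import Cfsg.Agent.GH.Cov.InstJ3
import Cfsg.Agent.GH.Cov.InstAlt
import Cfsg.Agent.GH.Cov.SylowThree
import Cfsg.Agent.GH.Cov.CutJ2
import Cfsg.Agent.GH.Cov.LFour
import Cfsg.Agent.GH.Cov.LFiveInst
import Cfsg.Agent.GH.Cov.EEight
import Cfsg.Agent.GH.Cov.CutU34
import Cfsg.Agent.GH.Cov.PairG2
import Cfsg.Agent.GH.Cov.PairD4

/-!
# GH-COV, rank cut: the assembly
-/

set_option autoImplicit false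

open Cfsg Subgroup

namespace Cfsg.Agent.GH.Cov.Cut

open Cfsg.Agent.GH.Defs

universe u v

/-- `PSL₄(q)`, `q ≡ 3 mod 4`. -/
def IsL4three (X : Type*) [Group X] : Prop :=
  ∃ (F : Type) (_ : Field F) (_ : Fintype F), Fintype.card F % 4 = 3 ∧
    Nonempty (X ≃* Matrix.ProjectiveSpecialLinearGroup (Fin 4) F)

/-- `PSU₄(q)`, `q ≡ 1 mod 4`. -/
def IsU4one (X : Type*) [Group X] : Prop :=
  ∃ (F : Type) (_ : Field F) (_ : Fintype F) (q : ℕ), Fintype.card F = q ^ 2 ∧ q % 4 = 1 ∧
    Nonempty (X ≃* Cfsg.PSU 4 F q)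

/-- The simple groups with a double cover of sectional 2-rank at most 4. -/
def Surv (X : Type*) [Group X] : Prop :=
  IsL2odd X ∨ IsAlt 7 X ∨ (∃ n, 8 ≤ n ∧ n ≤ 11 ∧ IsAlt n X) ∨ IsSz8 X ∨ Spor.IsoM12 X ∨ IsSp4odd X ∨
    IsL4three X ∨ IsU4one X

variable {Y : Type u} {X : Type v} [Group Y] [Group X] [Finite Y]

theorem false_of_good {f : Y →* X} (hf : Function.Surjective f) (hk : Nat.card f.ker = 2)
    (hr : SectionalPRankLE 2 4 Y) (h : Sq.Good16 X) : False :=
  Sq.not_le_four f hf hk h hr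

theorem l4odd {f : Y →* X} (hf : Function.Surjective f) (hk : Nat.card f.ker = 2)
    (hr : SectionalPRankLE 2 4 Y) (h : IsL4odd X) : IsL4three X := by
  obtain ⟨F, _, _, hF, h8, ⟨e⟩⟩ := h
  rcases (by rw [Nat.odd_iff] at hF; omega : Fintype.card F % 4 = 3 ∨ Fintype.card F % 4 = 1) with h4 | h4
  · exact ⟨F, inferInstance, inferInstance, h4, ⟨e⟩⟩
  · exact (false_of_good hf hk hr ((LFour.psl_four (by rw [Nat.card_eq_fintype_card]; exact h4)).congr
      e.symm)).elim

theorem u4odd {f : Y →* X} (hf : Function.Surjective f) (hk : Nat.card f.ker = 2)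
    (hr : SectionalPRankLE 2 4 Y) (h : IsU4odd X) : IsU4one X := by
  obtain ⟨F, _, _, q, hF, hq, h8, ⟨e⟩⟩ := h
  rcases (by rw [Nat.odd_iff] at hq; omega : q % 4 = 1 ∨ q % 4 = 3) with h4 | h4
  · exact ⟨F, inferInstance, inferInstance, q, hF, h4, ⟨e⟩⟩
  · exact (false_of_good hf hk hr ((LFour.psu_four (by rw [Nat.card_eq_fintype_card]; exact hF) h4).congr
      e.symm)).elim

theorem not_l5odd {f : Y →* X} (hf : Function.Surjective f) (hk : Nat.card f.ker = 2)
    (hr : SectionalPRankLE 2 4 Y) (h : IsL5odd X) : False := by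
  obtain ⟨F, _, _, hF, ⟨e⟩⟩ := h
  exact false_of_good hf hk hr ((LFiveInst.psl_five (by
    rw [Nat.card_eq_fintype_card, Nat.odd_iff]; omega)).congr e.symm)

theorem not_u5odd {f : Y →* X} (hf : Function.Surjective f) (hk : Nat.card f.ker = 2)
    (hr : SectionalPRankLE 2 4 Y) (h : IsU5odd X) : False := by
  obtain ⟨F, _, _, q, hF, hq, ⟨e⟩⟩ := h
  exact false_of_good hf hk hr ((LFiveInst.psu_five (q := q) (by rw [Nat.card_eq_fintype_card]; exact hF)
    (by rw [Nat.odd_iff]; omega)).congr e.symm)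

/-- **The rank cut**, except for `G₂(q)`, `³D₄(q)` (hypothesis `hG`). -/
theorem cut_of [Finite X] (hG : IsG2odd X ∨ IsD4odd X → False) (hperf : commutator Y = ⊤) (f : Y →* X)
    (hf : Function.Surjective f) (hk : Nat.card f.ker = 2) (hr : SectionalPRankLE 2 4 Y) (hX : K4 X) :
    Surv X := by
  have hgood : Sq.Good16 X → Surv X := fun h => (false_of_good hf hk hr h).elim
  rcases hX with h | h | h | h | h | h | h | h | h | h | h | h | h | h | h | h | h | h
  · rcases h with h | h | h | h | h | h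
    · exact Or.inl h
    · exact (SylowThree.not_L3odd hperf f hf hk h).elim
    · exact (SylowThree.not_U3odd hperf f hf hk h).elim
    · exact absurd hr (CutU34.not_le_four h f hf hk)
    · exact Or.inr (Or.inl h)
    · exact (SylowThree.not_M11 hperf f hf hk h).elim
  · rcases h with h | h | h | h
    · exact (EEight.not_L28 hperf f hf hk h).elim
    · exact Or.inr (Or.inr (Or.inr (Or.inl h)))
    · exact (EEight.not_ree hperf f hf hk h).elim
    · exact (EEight.not_J1 hperf f hf hk h).elim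
  · exact hgood (InstLie2.IsL216.good h)
  · exact hgood (InstLie2.IsL34.good h)
  · exact Or.inr (Or.inr (Or.inl h))
  · exact Or.inr (Or.inr (Or.inr (Or.inr (Or.inr (Or.inl h)))))
  · exact Or.inr (Or.inr (Or.inr (Or.inr (Or.inr (Or.inr (Or.inl (l4odd hf hk hr h)))))))
  · exact Or.inr (Or.inr (Or.inr (Or.inr (Or.inr (Or.inr (Or.inr (u4odd hf hk hr h)))))))
  · exact (not_l5odd hf hk hr h).elim
  · exact (not_u5odd hf hk hr h).elim
  · exact (hG (Or.inl h.1)).elim
  · exact (hG (Or.inr h.1)).elim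
  · exact Or.inr (Or.inr (Or.inr (Or.inr (Or.inl h))))
  · exact hgood (InstMathieu.IsoM22.good h)
  · exact hgood (InstMathieu.IsoM23.good h)
  · exact absurd hr (CutJ2.not_le_four h f hf hk)
  · exact hgood (InstJ3.IsoJ3.good h)
  · exact hgood (InstAlt.HasAltCover.good h)

/-- **The rank cut.** -/
theorem cut [Finite X] (hperf : commutator Y = ⊤) (f : Y →* X)
    (hf : Function.Surjective f) (hk : Nat.card f.ker = 2) (hr : SectionalPRankLE 2 4 Y) (hX : K4 X) :
    Surv X := by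
  refine cut_of ?_ hperf f hf hk hr hX
  rintro (h | h)
  · exact PairG2.not_le_four h f hf hk hr
  · exact PairD4.not_le_four h f hf hk hr

end Cfsg.Agent.GH.Cov.Cut
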