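import Mathlib
import Cfsg.Agent.GH.Rank

/-!
# GH-COV, rank cut: LEMMA V

If `X/⟨c⟩` (with `c` a central involution) contains an elementary abelian subgroup `V` of order 16 whose
normalizer is transitive on its involutions, the preimage of `V` is elementary abelian of order 32.
-/

set_option autoImplicit false

namespace Cfsg.Agent.GH.Cov.CutV

open Cfsg Subgroup

theorem exists_not_mem {L : Type*} [Group L] (V : Subgroup L) (s : Finset L)
    (h : s.card < Nat.card V) : ∃ v ∈ V, v ∉ s := by
  classical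
  by_contra hcon
  push Not at hcon
  have h1 : (V : Set L) ⊆ ↑s := fun v hv => Finset.mem_coe.2 (hcon v hv)
  have h2 : Nat.card V ≤ s.card := by
    have h3 := Set.ncard_le_ncard h1 s.finite_toSet
    rw [Set.ncard_coe_finset] at h3
    exact h3
  omega

/-- **LEMMA V.** -/
theorem main {X : Type*} [Group X] [Finite X] {L : Type*} [Group L] (f : X →* L)
    (hf : Function.Surjective f) {c : X} (hc : c ∈ center X) (hc2 : orderOf c = 2)
    (hker : f.ker = zpowers c) (V : Subgroup L) (hV : Nat.card V = 16) (hsq : ∀ v ∈ V, v * v = 1)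
    (htr : ∀ v ∈ V, v ≠ 1 → ∀ w ∈ V, w ≠ 1 → ∃ g : L, g * v * g⁻¹ = w) :
    ¬ SectionalPRankLE 2 4 X := by
  classical
  intro hr
  have hcc : c * c = 1 := by
    have := pow_orderOf_eq_one c
    rw [hc2, pow_two] at this
    exact this
  have hc1 : c ≠ 1 := by
    intro h
    rw [h, orderOf_one] at hc2
    omega
  have hcomm : ∀ x : X, x * c = c * x := fun x => mem_center_iff.1 hc x
  have hk : ∀ x : X, f x = 1 → x = 1 ∨ x = c := by
    intro x hx
    have h1 : x ∈ zpowers c := hker ▸ (MonoidHom.mem_ker.2 hx)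
    obtain ⟨n, rfl⟩ := mem_zpowers_iff.1 h1
    rcases Int.even_or_odd' n with ⟨m, rfl | rfl⟩
    · left
      rw [zpow_mul, zpow_ofNat, pow_two, hcc, one_zpow]
    · right
      rw [zpow_add, zpow_mul, zpow_ofNat, pow_two, hcc, one_zpow, zpow_one, one_mul]
  have hfc : f c = 1 := by
    have : c ∈ f.ker := hker ▸ mem_zpowers c
    exact MonoidHom.mem_ker.1 this
  -- squares
  have hsqk : ∀ x : X, f x ∈ V → x * x = 1 ∨ x * x = c := fun x hx =>
    hk _ (by rw [map_mul]; exact hsq _ hx)
  have hlift : ∀ x y : X, f x = f y → x * x = y * y := by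
    intro x y h
    rcases hk (x * y⁻¹) (by rw [map_mul, map_inv, h, mul_inv_cancel]) with h1 | h1
    · rw [mul_inv_eq_one.1 h1]
    · rw [mul_inv_eq_iff_eq_mul.1 h1]
      calc c * y * (c * y) = c * (y * c) * y := by group
        _ = c * (c * y) * y := by rw [hcomm y]
        _ = (c * c) * (y * y) := by group
        _ = y * y := by rw [hcc, one_mul]
  have hconj : ∀ x y : X, f x ∈ V → f x ≠ 1 → f y ∈ V → f y ≠ 1 → x * x = y * y := by
    intro x y hx hx1 hy hy1
    obtain ⟨g, hg⟩ := htr _ hx hx1 _ hy hy1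
    obtain ⟨h, rfl⟩ := hf g
    have h1 : f (h * x * h⁻¹) = f y := by rw [map_mul, map_mul, map_inv, hg]
    have h2 := hlift _ _ h1
    rw [← h2]
    have h3 : x * x ∈ center X := by
      rcases hsqk x hx with h3 | h3
      · rw [h3]; exact one_mem _
      · rw [h3]; exact hc
    have h4 := mem_center_iff.1 h3 h
    calc x * x = h * (x * x) * h⁻¹ := by rw [h4]; group
      _ = h * x * h⁻¹ * (h * x * h⁻¹) := by group
  obtain ⟨v1, hv1, h1⟩ := exists_not_mem V {1} (by rw [hV]; simp)
  obtain ⟨v2, hv2, h2⟩ := exists_not_mem V {1, v1} (by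
    rw [hV]; exact lt_of_le_of_lt (Finset.card_le_two) (by norm_num))
  obtain ⟨v3, hv3, h3⟩ := exists_not_mem V {1, v1, v2, v1 * v2} (by
    rw [hV]; exact lt_of_le_of_lt (Finset.card_le_four) (by norm_num))
  simp only [Finset.mem_insert, Finset.mem_singleton, not_or] at h1 h2 h3
  obtain ⟨w1, rfl⟩ := hf v1
  obtain ⟨w2, rfl⟩ := hf v2
  obtain ⟨w3, rfl⟩ := hf v3
  have hVinv : ∀ v ∈ V, v⁻¹ = v := fun v hv => inv_eq_of_mul_eq_one_left (hsq v hv)
  rcases hsqk w1 hv1 with hw | hw
  · -- elementary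
    have hall : ∀ x : X, f x ∈ V → x * x = 1 := by
      intro x hx
      by_cases hx1 : f x = 1
      · rcases hk x hx1 with rfl | rfl
        · rw [one_mul]
        · exact hcc
      · rw [← hconj w1 x hv1 h1 hx hx1, hw]
    have hcard : Nat.card (V.comap f) = 32 := by
      rw [Rank.card_comap_of_surjective f hf, hV, hker, Nat.card_zpowers, hc2]
    have h5 := Rank.pRankLE hr (V.comap f) ⟨⟨fun a b => by
      have ha := hall a.1 a.2
      have hb := hall b.1 b.2
      have hab := hall (a.1 * b.1) (V.comap f |>.mul_mem a.2 b.2)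
      ext
      have e1 : a.1⁻¹ = a.1 := inv_eq_of_mul_eq_one_left ha
      have e2 : b.1⁻¹ = b.1 := inv_eq_of_mul_eq_one_left hb
      have e3 : (a.1 * b.1)⁻¹ = a.1 * b.1 := inv_eq_of_mul_eq_one_left hab
      rw [mul_inv_rev, e1, e2] at e3
      exact e3.symm⟩⟩ (fun a ha => by rw [pow_two]; exact hall a ha)
    rw [hcard] at h5
    omega
  · -- all of order 4
    have hall : ∀ x : X, f x ∈ V → f x ≠ 1 → x⁻¹ = c * x := by
      intro x hx hx1
      have h4 : x * x = c := by rw [← hconj w1 x hv1 h1 hx hx1, hw]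
      apply inv_eq_of_mul_eq_one_left
      rw [mul_assoc, h4, hcc]
    have hanti : ∀ x y : X, f x ∈ V → f x ≠ 1 → f y ∈ V → f y ≠ 1 → f (x * y) ≠ 1 →
        x * y = c * (y * x) := by
      intro x y hx hx1 hy hy1 hxy
      have e1 := hall x hx hx1
      have e2 := hall y hy hy1
      have e3 := hall (x * y) (by rw [map_mul]; exact V.mul_mem hx hy) hxy
      rw [mul_inv_rev, e1, e2] at e3
      -- c y c x = c x y
      have e4 : c * y * (c * x) = y * x := by
        calc c * y * (c * x) = c * (y * c) * x := by group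
          _ = (c * c) * (y * x) := by rw [hcomm y]; group
          _ = y * x := by rw [hcc, one_mul]
      rw [e4] at e3
      calc x * y = (c * c) * (x * y) := by rw [hcc, one_mul]
        _ = c * (c * (x * y)) := by group
        _ = c * (y * x) := by rw [← e3]
    have n12 : f (w1 * w2) ≠ 1 := by
      rw [map_mul]
      intro h
      exact h2.2 ((mul_eq_one_iff_inv_eq.1 h).symm.trans (hVinv _ hv1))
    have n13 : f (w1 * w3) ≠ 1 := by
      rw [map_mul]
      intro h
      exact h3.2.1 ((mul_eq_one_iff_inv_eq.1 h).symm.trans (hVinv _ hv1))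
    have n23 : f (w2 * w3) ≠ 1 := by
      rw [map_mul]
      intro h
      exact h3.2.2.1 ((mul_eq_one_iff_inv_eq.1 h).symm.trans (hVinv _ hv2))
    have n123 : f (w1 * (w2 * w3)) ≠ 1 := by
      rw [map_mul, map_mul, ← mul_assoc]
      intro h
      exact h3.2.2.2 ((mul_eq_one_iff_inv_eq.1 h).symm.trans (hVinv _ (V.mul_mem hv1 hv2)))
    have a12 := hanti w1 w2 hv1 h1 hv2 h2.1 n12
    have a13 := hanti w1 w3 hv1 h1 hv3 h3.1 n13
    have a123 := hanti w1 (w2 * w3) hv1 h1 (by rw [map_mul]; exact V.mul_mem hv2 hv3) n23 n123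
    have e : w1 * (w2 * w3) = w2 * w3 * w1 := by
      calc w1 * (w2 * w3) = (w1 * w2) * w3 := by group
        _ = c * (w2 * w1) * w3 := by rw [a12]
        _ = c * w2 * (w1 * w3) := by group
        _ = c * w2 * (c * (w3 * w1)) := by rw [a13]
        _ = c * (w2 * c) * (w3 * w1) := by group
        _ = c * (c * w2) * (w3 * w1) := by rw [hcomm w2]
        _ = (c * c) * (w2 * w3 * w1) := by group
        _ = w2 * w3 * w1 := by rw [hcc, one_mul]
    rw [e] at a123
    exact hc1 (mul_eq_right.1 a123.symm)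

end Cfsg.Agent.GH.Cov.CutV
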