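import Mathlib
import Cfsg.Agent.TwoFusion.PerfCore
import Cfsg.Agent.Intrinsic.Lifting

/-!
# The symmetric criterion: conjugates of `z` in `C(z)`

`z` is an element of the perfect core `K` of `C(z)`.  If every conjugate `y ≠ z` of `z` in `K` has
`z ∈ perf C_K(y)` and `y`, but not `z`, lies in a proper perfect normal subgroup of `perf C_K(y)`, then
`z ∉ perf C_K(e)` for all conjugates `e ≠ z` of `z` in `C(z)`.
-/

set_option autoImplicit false

open Subgroup
open Cfsg.Agent.TwoFusion.PerfCore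
open scoped commutatorElement

namespace Cfsg.Agent.GH.Cov.Iso

section defs

variable {G : Type*} [Group G]

/-- `c` lies in a proper perfect normal subgroup of `L`. -/
def PN (L : Subgroup G) (c : G) : Prop :=
  ∃ N : Subgroup G, N ≤ L ∧ L ≤ normalizer (N : Set G) ∧ ⁅N, N⁆ = N ∧ c ∈ N ∧ N ≠ L

/-- the centralizer of an element -/
abbrev cen (z : G) : Subgroup G := centralizer ({z} : Set G)

theorem mem_cen {x z : G} : x ∈ cen z ↔ x * z = z * x := mem_centralizer_singleton_iff

end defs

section maps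

variable {G : Type*} [Group G] {H : Type*} [Group H]

theorem PN.map {f : G →* H} (hf : Function.Injective f) {L : Subgroup G} {c : G} (h : PN L c) :
    PN (L.map f) (f c) := by
  obtain ⟨N, h1, h2, h3, h4, h5⟩ := h
  refine ⟨N.map f, map_mono h1, ?_, map_perfect h3 f, mem_map_of_mem f h4, ?_⟩
  · rintro _ ⟨x, hx, rfl⟩
    exact le_normalizer_map f (mem_map_of_mem f (h2 hx))
  · intro h
    exact h5 (map_injective hf h)

theorem PN.of_map {f : G →* H} (hf : Function.Injective f) {L : Subgroup G} {c : G}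
    (h : PN (L.map f) (f c)) : PN L c := by
  obtain ⟨N, h1, h2, h3, h4, h5⟩ := h
  have hN : (N.comap f).map f = N := by
    rw [map_comap_eq, inf_eq_right]
    exact h1.trans (map_le_range f L)
  refine ⟨N.comap f, ?_, ?_, ?_, h4, ?_⟩
  · rw [← comap_map_eq_self_of_injective hf L]
    exact comap_mono h1
  · intro x hx
    rw [mem_normalizer_iff]
    intro y
    have := (mem_normalizer_iff.1 (h2 (mem_map_of_mem f hx))) (f y)
    rw [mem_comap, mem_comap, this, map_mul, map_mul, map_inv]
  · apply map_injective hf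
    rw [map_commutator, hN, h3]
  · intro h
    apply h5
    rw [← h, hN]

theorem PN.map_equiv (e : G ≃* H) {L : Subgroup G} {c : G} :
    PN (L.map e.toMonoidHom) (e c) ↔ PN L c :=
  ⟨fun h => h.of_map e.injective, fun h => h.map e.injective⟩

theorem map_cen_equiv (e : G ≃* H) (z : G) : (cen z).map e.toMonoidHom = cen (e z) := by
  ext x
  constructor
  · rintro ⟨y, hy, rfl⟩
    have h1 := mem_cen.1 hy
    apply mem_cen.2
    change e y * e z = e z * e y
    rw [← map_mul, ← map_mul, h1]
  · intro hx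
    refine ⟨e.symm x, ?_, e.apply_symm_apply x⟩
    apply mem_cen.2
    apply e.injective
    rw [map_mul, map_mul, e.apply_symm_apply]
    exact mem_cen.1 hx

end maps

variable {G : Type*} [Group G] [Finite G]

omit [Finite G] in
/-- `perf C_K(e) = perf (C(z) ∩ C(e))`. -/
theorem perf_cen_inf {z e : G} :
    perf (perf (cen z) ⊓ cen e) = perf (cen z ⊓ cen e) := by
  apply le_antisymm
  · exact perf_mono (inf_le_inf_right _ (perf_le _))
  · apply le_perf _ (perf_perfect _)
    exact le_inf (perf_mono inf_le_left) ((perf_le _).trans inf_le_right)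

/-- **The symmetric criterion.** -/
theorem not_mem_perf {z : G}
    (h2 : ∀ y ∈ perf (cen z), (∃ g : G, g * z * g⁻¹ = y) → y ≠ z →
      z ∈ perf (perf (cen z) ⊓ cen y) ∧ PN (perf (perf (cen z) ⊓ cen y)) y ∧
        ¬ PN (perf (perf (cen z) ⊓ cen y)) z)
    {e g : G} (he : g * z * g⁻¹ = e) (hne : e ≠ z) :
    z ∉ perf (perf (cen z) ⊓ cen e) := by
  intro hz
  rw [perf_cen_inf] at hz
  set c : G ≃* G := MulAut.conj g with hc
  have hcz : c z = e := he
  have hK : (perf (cen z)).map c.toMonoidHom = perf (cen e) := by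
    rw [map_perf, map_cen_equiv, hcz]
  -- `z` lies in the perfect core of `C(e)`
  have hz1 : z ∈ perf (cen e) := perf_mono inf_le_right hz
  -- `y = g⁻¹ z g` lies in `K`
  have hy : g⁻¹ * z * g ∈ perf (cen z) := by
    rw [← hK] at hz1
    obtain ⟨y, hy, hyz⟩ := hz1
    have : y = g⁻¹ * z * g := by
      rw [← hyz]
      change y = g⁻¹ * (g * y * g⁻¹) * g
      group
    rwa [← this]
  have hyne : g⁻¹ * z * g ≠ z := by
    intro h
    apply hne
    rw [← he]
    nth_rw 1 [← h]
    group
  obtain ⟨k1, k2, k3⟩ := h2 _ hy ⟨g⁻¹, by group⟩ hyne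
  rw [perf_cen_inf] at k1 k2 k3
  have hcy : c (g⁻¹ * z * g) = z := by
    change g * (g⁻¹ * z * g) * g⁻¹ = z
    group
  have hmap : (perf (cen z ⊓ cen (g⁻¹ * z * g))).map c.toMonoidHom = perf (cen z ⊓ cen e) := by
    rw [map_perf, Subgroup.map_inf _ _ _ c.injective, map_cen_equiv, map_cen_equiv, hcz, hcy,
      inf_comm]
  have m1 : e ∈ perf (cen z ⊓ cen e) := by
    rw [← hmap, ← hcz]
    exact mem_map_of_mem _ k1
  have m3 : ¬ PN (perf (cen z ⊓ cen e)) e := by
    rw [← hmap, ← hcz]
    exact fun h => k3 ((PN.map_equiv c).1 h)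
  obtain ⟨-, j2, -⟩ := h2 e (perf_mono inf_le_left m1) ⟨g, he⟩ hne
  rw [perf_cen_inf] at j2
  exact m3 j2

/-! ### lifting along quotients by odd subgroups -/

section lift

variable {L : Type*} [Group L]

omit [Finite G] in
/-- `a ∈ R`, `f a = f y`, `y` an involution commuting with `a`, odd kernel: then `y ∈ R`. -/
theorem mem_of_map_eq {f : G →* L} (hf : Odd (Nat.card f.ker)) {R : Subgroup G} {y a : G}
    (hy : y * y = 1) (ha : a ∈ R) (hc : a * y = y * a) (h : f a = f y) : y ∈ R := by
  have ho : y⁻¹ * a ∈ f.ker := by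
    rw [MonoidHom.mem_ker, map_mul, map_inv, h, inv_mul_cancel]
  have hcomm : Commute y (y⁻¹ * a) := by
    change y * (y⁻¹ * a) = y⁻¹ * a * y
    rw [mul_assoc, hc]
    group
  have h1 : a ^ Nat.card f.ker = y := by
    have h2 : (y⁻¹ * a) ^ Nat.card f.ker = 1 := by
      have := pow_card_eq_one' (x := (⟨y⁻¹ * a, ho⟩ : f.ker))
      exact congrArg Subtype.val this
    have h3 : y ^ Nat.card f.ker = y := by
      obtain ⟨k, hk⟩ := hf
      rw [hk, pow_succ, pow_mul, pow_two, hy, one_pow, one_mul]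
    calc a ^ Nat.card f.ker = (y * (y⁻¹ * a)) ^ Nat.card f.ker := by rw [mul_inv_cancel_left]
      _ = y ^ Nat.card f.ker * (y⁻¹ * a) ^ Nat.card f.ker := hcomm.mul_pow _
      _ = y := by rw [h2, h3, mul_one]
  rw [← h1]
  exact R.pow_mem ha _

/-- `PN` lifts along a quotient by an odd subgroup. -/
theorem PN.lift {f : G →* L} (hf : Odd (Nat.card f.ker)) {R : Subgroup G} {y : G}
    (hy : y * y = 1) (hR : R ≤ cen y) (h : PN (R.map f) (f y)) : PN R y := by
  obtain ⟨N, h1, h2, h3, h4, h5⟩ := h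
  have hM : (R ⊓ N.comap f).map f = N := by
    apply le_antisymm
    · rintro _ ⟨x, hx, rfl⟩
      exact hx.2
    · intro n hn
      obtain ⟨x, hx, rfl⟩ := h1 hn
      exact ⟨x, ⟨hx, hn⟩, rfl⟩
  have hN : (perf (R ⊓ N.comap f)).map f = N := by
    rw [map_perf, hM, perf_eq_self h3]
  have hle : perf (R ⊓ N.comap f) ≤ R := (perf_le _).trans inf_le_left
  refine ⟨perf (R ⊓ N.comap f), hle, ?_, perf_perfect _, ?_, ?_⟩
  · refine le_trans ?_ (normalizer_le_normalizer_perf _)
    intro x hx
    rw [mem_normalizer_iff]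
    intro w
    have h6 := (mem_normalizer_iff.1 (h2 (mem_map_of_mem f hx))) (f w)
    have h7 := (mem_normalizer_iff.1 (le_normalizer hx : x ∈ normalizer (R : Set G))) w
    rw [mem_inf, mem_inf, mem_comap, mem_comap, map_mul, map_mul, map_inv, ← h6, ← h7]
  · have : f y ∈ (perf (R ⊓ N.comap f)).map f := by rw [hN]; exact h4
    obtain ⟨a, ha, hay⟩ := this
    exact mem_of_map_eq hf hy ha (mem_cen.1 (hR (hle ha))) hay
  · intro h
    apply h5
    rw [← h, hN]

omit [Finite G] in
/-- `PN` passes to a quotient by a solvable subgroup. -/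
theorem PN.push {f : G →* L} (hf : Group.IsSolvable f.ker) {R : Subgroup G} {y : G}
    (hR : ⁅R, R⁆ = R) (h : PN R y) : PN (R.map f) (f y) := by
  obtain ⟨N, h1, h2, h3, h4, h5⟩ := h
  refine ⟨N.map f, map_mono h1, ?_, map_perfect h3 f, mem_map_of_mem f h4, ?_⟩
  · rintro _ ⟨x, hx, rfl⟩
    exact le_normalizer_map f (mem_map_of_mem f (h2 hx))
  · intro h
    apply h5
    apply le_antisymm h1
    -- `R / N` is solvable
    have hn : (N.subgroupOf R).Normal := normal_subgroupOf_of_le_normalizer h2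
    let t : ↥(f.ker ⊓ R) →* R ⧸ N.subgroupOf R :=
      (QuotientGroup.mk' (N.subgroupOf R)).comp (inclusion inf_le_right)
    have ht : Function.Surjective t := by
      intro x
      obtain ⟨⟨r, hr⟩, rfl⟩ := QuotientGroup.mk_surjective x
      have h6 : f r ∈ N.map f := by
        rw [h]
        exact mem_map_of_mem f hr
      obtain ⟨n, hn1, hn2⟩ := h6
      have h7 : r * n⁻¹ ∈ f.ker := by
        rw [MonoidHom.mem_ker, map_mul, map_inv, hn2, mul_inv_cancel]
      refine ⟨⟨r * n⁻¹, h7, R.mul_mem hr (R.inv_mem (h1 hn1))⟩, ?_⟩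
      change (QuotientGroup.mk (⟨r * n⁻¹, _⟩ : R) : R ⧸ N.subgroupOf R) = QuotientGroup.mk _
      rw [QuotientGroup.eq, mem_subgroupOf]
      have : ((⟨r * n⁻¹, R.mul_mem hr (R.inv_mem (h1 hn1))⟩ : R)⁻¹ * ⟨r, hr⟩ : R).1 = n := by
        change (r * n⁻¹)⁻¹ * r = n
        group
      rw [this]
      exact hn1
    have hs0 : Group.IsSolvable ↥(f.ker ⊓ R) :=
      Group.isSolvable_of_isSolvable_injective (f := inclusion inf_le_left)
        (inclusion_injective _)
    have hs : Group.IsSolvable (R ⧸ N.subgroupOf R) := Group.isSolvable_of_surjective ht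
    have hRp : ⁅(⊤ : Subgroup R), (⊤ : Subgroup R)⁆ = ⊤ := by
      apply map_injective R.subtype_injective
      rw [map_commutator, ← MonoidHom.range_eq_map, R.range_subtype, hR]
    have hk := le_ker_of_perfect hRp (QuotientGroup.mk' (N.subgroupOf R)) inferInstance
    intro r hr
    have : (⟨r, hr⟩ : R) ∈ (QuotientGroup.mk' (N.subgroupOf R)).ker := hk (mem_top _)
    rw [QuotientGroup.ker_mk', mem_subgroupOf] at this
    exact this

end lift

end Cfsg.Agent.GH.Cov.Iso
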