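import Mathlib
import Cfsg.Agent.GH.Cov.Iso

/-!
# Centralizers in `K` and in `K / O(K)`
-/

set_option autoImplicit false

open Subgroup
open Cfsg.Agent.TwoFusion.PerfCore
open Cfsg.Agent.GH.Cov.Iso
open scoped commutatorElement

namespace Cfsg.Agent.GH.Cov.Down

/-- The fixed points of an automorphism. -/
def fix {L : Type*} [Group L] (α : MulAut L) : Subgroup L where
  carrier := {x | α x = x}
  mul_mem' := fun {a b} ha hb => by
    simp only [Set.mem_ofPred_eq] at *
    rw [map_mul, ha, hb]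
  one_mem' := map_one α
  inv_mem' := fun {a} ha => by
    simp only [Set.mem_ofPred_eq] at *
    rw [map_inv, ha]

theorem mem_fix {L : Type*} [Group L] {α : MulAut L} {x : L} : x ∈ fix α ↔ α x = x := Iff.rfl

theorem fix_conj {L : Type*} [Group L] (y : L) : fix (MulAut.conj y) = cen y := by
  ext x
  rw [mem_fix, mem_cen, MulAut.conj_apply, mul_inv_eq_iff_eq_mul]
  exact eq_comm

/-- The condition on the involutions of `K` in the symmetric criterion. -/
def Good {K : Type*} [Group K] (z y : K) : Prop :=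
  z ∈ perf (cen y) ∧ PN (perf (cen y)) y ∧ ¬ PN (perf (cen y)) z

variable {G : Type*} [Group G]

theorem inf_cen {K : Subgroup G} (y : K) : K ⊓ cen (y : G) = (cen y).map K.subtype := by
  ext x
  constructor
  · rintro ⟨h1, h2⟩
    refine ⟨⟨x, h1⟩, ?_, rfl⟩
    apply mem_cen.2
    apply Subtype.ext
    exact mem_cen.1 h2
  · rintro ⟨x, h1, rfl⟩
    refine ⟨x.2, ?_⟩
    apply mem_cen.2
    exact congrArg Subtype.val (mem_cen.1 h1)

/-- `Good` in the subgroup `K` of `G`. -/
theorem Good.up [Finite G] {K : Subgroup G} {z y : K} (h : Good z y) :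
    (z : G) ∈ perf (K ⊓ cen (y : G)) ∧ PN (perf (K ⊓ cen (y : G))) (y : G) ∧
      ¬ PN (perf (K ⊓ cen (y : G))) (z : G) := by
  rw [inf_cen, ← map_perf]
  refine ⟨mem_map_of_mem _ h.1, h.2.1.map K.subtype_injective, fun h3 => h.2.2 ?_⟩
  exact PN.of_map K.subtype_injective h3

section lift

variable {L : Type*} [Group L] {K : Subgroup G}

/-- Lifting of fixed points. -/
theorem exists_fixed_lift [Finite G] {f : K →* L} (hs : Function.Surjective f)
    (hf : Odd (Nat.card f.ker)) {e : G} (hee : e * e = 1) (heK : e ∈ normalizer (K : Set G))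
    {α : MulAut L} (hα : ∀ (k : K) (h : e * k * e⁻¹ ∈ K), f ⟨e * k * e⁻¹, h⟩ = α (f k)) {x : L}
    (hx : α x = x) : ∃ k : K, e * k = k * e ∧ f k = x := by
  obtain ⟨m, rfl⟩ := hs x
  have hconj : ∀ k : K, e * (k : G) * e⁻¹ ∈ K := fun k => (mem_normalizer_iff.1 heK _).1 k.2
  set N : Subgroup G := f.ker.map K.subtype with hN
  have hNodd : Odd (Nat.card N) := by
    rwa [Subgroup.card_map_of_injective K.subtype_injective]
  have heN : e ∈ normalizer (N : Set G) := by
    have h1 : ∀ n ∈ N, e * n * e⁻¹ ∈ N := by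
      rintro _ ⟨n, hn, rfl⟩
      refine ⟨⟨e * n * e⁻¹, hconj n⟩, ?_, rfl⟩
      have hn' : f n = 1 := hn
      rw [SetLike.mem_coe, MonoidHom.mem_ker, hα n (hconj n), hn', map_one]
    have he' : e⁻¹ = e := inv_eq_of_mul_eq_one_left hee
    rw [mem_normalizer_iff]
    intro n
    refine ⟨h1 n, fun h2 => ?_⟩
    have h3 := h1 _ h2
    rw [he'] at h3
    have h4 : e * (e * n * e) * e = (e * e) * n * (e * e) := by group
    rw [h4, hee, one_mul, mul_one] at h3
    exact h3
  obtain ⟨o, ho, hoc⟩ := Cfsg.Agent.Intrinsic.Lifting.exists_commute hNodd (v := e) (m := (m : G))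
    (n := 1) (by rw [pow_one, pow_two, hee]) heN (by
      refine ⟨m⁻¹ * ⟨e * m * e⁻¹, hconj m⟩, ?_, rfl⟩
      rw [SetLike.mem_coe, MonoidHom.mem_ker, map_mul, map_inv, hα m (hconj m), hx, inv_mul_cancel])
  obtain ⟨o, ho, rfl⟩ := ho
  refine ⟨m * o, hoc, ?_⟩
  have ho' : f o = 1 := ho
  rw [map_mul, ho', mul_one]

/-- `z ∈ perf C_K(e)` from the quotient. -/
theorem mem_perf_of_quot [Finite G] {f : K →* L} (hs : Function.Surjective f)
    (hf : Odd (Nat.card f.ker)) {e : G} (hee : e * e = 1) (heK : e ∈ normalizer (K : Set G))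
    {α : MulAut L} (hα : ∀ (k : K) (h : e * k * e⁻¹ ∈ K), f ⟨e * k * e⁻¹, h⟩ = α (f k)) {z : K}
    (hzz : z * z = 1) (hz : ∀ k : K, k * z = z * k) (hx : f z ∈ perf (fix α)) :
    (z : G) ∈ perf (K ⊓ cen e) := by
  have hfinK : Finite K := inferInstance
  -- the centralizer of `e` in `K`
  set C : Subgroup K := (K ⊓ cen e).subgroupOf K with hC
  have h1 : C.map f = fix α := by
    apply le_antisymm
    · rintro _ ⟨k, hk, rfl⟩
      have hk' : (k : G) * e = e * k := mem_cen.1 (mem_subgroupOf.1 hk).2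
      have hk2 : e * (k : G) * e⁻¹ = k := by rw [← hk', mul_inv_cancel_right]
      have h2 : e * (k : G) * e⁻¹ ∈ K := by rw [hk2]; exact k.2
      rw [mem_fix, ← hα k h2]
      exact congrArg f (Subtype.ext hk2)
    · intro x hx
      obtain ⟨k, hk1, hk2⟩ := exists_fixed_lift hs hf hee heK hα hx
      refine ⟨k, ?_, hk2⟩
      exact mem_subgroupOf.2 ⟨k.2, mem_cen.2 hk1.symm⟩
  rw [← h1, ← map_perf] at hx
  obtain ⟨a, ha, haz⟩ := hx
  have h2 : z ∈ perf C := mem_of_map_eq hf hzz ha (hz a) haz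
  have h3 : (perf C).map K.subtype = perf (K ⊓ cen e) := by
    rw [map_perf, hC, subgroupOf_map_subtype, inf_assoc, inf_comm (cen e), ← inf_assoc, inf_idem]
  rw [← h3]
  exact mem_map_of_mem _ h2

end lift

section quot

variable {K : Type*} [Group K] [Finite K] {L : Type*} [Group L]

/-- `C_K(y)` maps onto the centralizer of the image of `y`. -/
theorem map_cen {f : K →* L} (hs : Function.Surjective f) (hf : Odd (Nat.card f.ker)) {y : K}
    (hy : y * y = 1) : (cen y).map f = cen (f y) := by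
  apply le_antisymm
  · rintro _ ⟨k, hk, rfl⟩
    have := mem_cen.1 hk
    apply mem_cen.2
    rw [← map_mul, this, map_mul]
  · intro x hx
    obtain ⟨m, rfl⟩ := hs x
    have hx' := mem_cen.1 hx
    obtain ⟨o, ho, hoc⟩ := Cfsg.Agent.Intrinsic.Lifting.exists_commute hf (v := y) (m := m)
      (n := 1) (by rw [pow_one, pow_two, hy]) (by
        rw [normalizer_eq_top]; exact mem_top _) (by
        rw [MonoidHom.mem_ker, map_mul, map_inv, map_mul, map_mul, map_inv, ← hx',
          mul_inv_cancel_right, inv_mul_cancel])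
    refine ⟨m * o, mem_cen.2 hoc.symm, ?_⟩
    rw [map_mul, show f o = 1 from ho, mul_one]

/-- `Good` lifts along odd solvable kernels. -/
theorem Good.lift {f : K →* L} (hs : Function.Surjective f) (hf : Odd (Nat.card f.ker))
    (hsol : Group.IsSolvable f.ker) {z y : K} (hz : z * z = 1) (hzc : ∀ k : K, k * z = z * k)
    (hy : y * y = 1) (h : Good (f z) (f y)) : Good z y := by
  obtain ⟨h1, h2, h3⟩ := h
  rw [← map_cen hs hf hy, ← map_perf] at h1 h2 h3
  refine ⟨?_, ?_, ?_⟩
  · obtain ⟨a, ha, haz⟩ := h1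
    exact mem_of_map_eq hf hz ha (hzc a) haz
  · exact PN.lift hf hy (perf_le _) h2
  · intro h
    exact h3 (PN.push hsol (perf_perfect _) h)

end quot

end Cfsg.Agent.GH.Cov.Down
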