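import Mathlib

/-!
# GH-COV, fact (F5) for `PSL₄(q)`, `q ≡ 3 mod 4`, and `PSU₄(q)`, `q ≡ 1 mod 4`: normal forms

`P` = the matrices of the group (`GL₄` or `GU₄`), `N` = its scalars, `-1` is not a square in `N` and every
element of `N` is plus or minus a square.

* `typeA` : `g ∈ P`, `g² = l`, `det g` not a square in `N` ⟹ `g = c a D a⁻¹`, `D = diag(1,1,1,-1)`, `det a = 1`.
* `typeB` : `h ∈ P`, `hᵀ = l h`, `det h` not a square in `N` ⟹ `h = c a D aᵀ`, `det a = 1`.
-/

set_option autoImplicit false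

namespace Cfsg.Agent.GH.Cov.F5Core

open Matrix

variable {F : Type*} [Field F]

/-- `4 × 4` matrices. -/
abbrev M4 (F : Type*) := Matrix (Fin 4) (Fin 4) F

/-- `diag(1,1,1,-1)`. -/
def D1 (F : Type*) [Field F] : M4 F := diagonal ![1, 1, 1, -1]

/-- The matrix group and its scalars. -/
structure Good (P : M4 F → Prop) (N : F → Prop) : Prop where
  one : P 1
  mul : ∀ {A B : M4 F}, P A → P B → P (A * B)
  det_ne : ∀ {A : M4 F}, P A → A.det ≠ 0
  inv : ∀ {A : M4 F}, P A → P A⁻¹
  tr : ∀ {A : M4 F}, P A → P Aᵀ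
  det : ∀ {A : M4 F}, P A → N A.det
  diag : ∀ d : Fin 4 → F, P (diagonal d) ↔ ∀ i, N (d i)
  perm : ∀ σ : Equiv.Perm (Fin 4), P (σ.permMatrix F)
  n_one : N 1
  n_neg : N (-1)
  n_mul : ∀ {a b : F}, N a → N b → N (a * b)
  n_inv : ∀ {a : F}, N a → N a⁻¹
  n_ne : ∀ {a : F}, N a → a ≠ 0
  n_sq : ∀ {a : F}, N a → ∃ s, N s ∧ (a = s * s ∨ a = -(s * s))
  n_not : ∀ {s : F}, N s → s * s ≠ -1
  frameInv : ∀ g : M4 F, P g → g * g = 1 → ∃ (a : M4 F) (e : Fin 4 → F), P a ∧
    (∀ i, e i = 1 ∨ e i = -1) ∧ g = a * diagonal e * a⁻¹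
  frameSym : ∀ h : M4 F, P h → hᵀ = h → ∃ (a : M4 F) (e : Fin 4 → F), P a ∧
    (∀ i, N (e i)) ∧ h = a * diagonal e * aᵀ
  iSq : ∀ g : M4 F, P g → g * g = -1 → ∃ s, N s ∧ g.det = s * s
  skew : ∀ h : M4 F, P h → hᵀ = -h → ∃ s, N s ∧ h.det = s * s

theorem perm_diag (σ : Equiv.Perm (Fin 4)) (d : Fin 4 → F) :
    σ.permMatrix F * diagonal d * (σ.permMatrix F)ᵀ = diagonal (d ∘ σ) := by
  ext i j
  rw [mul_apply, Finset.sum_eq_single (σ i)]
  · rw [mul_diagonal]
    simp only [Equiv.Perm.permMatrix, PEquiv.toMatrix_apply, transpose_apply, diagonal_apply,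
      Equiv.toPEquiv_apply, Option.mem_def, Option.some.injEq, Function.comp]
    by_cases h : i = j
    · subst h; simp
    · have : ¬ (σ j = σ i) := fun h' => h (σ.injective h').symm
      simp [h, this]
  · intro k _ hk
    rw [mul_diagonal]
    simp only [Equiv.Perm.permMatrix, PEquiv.toMatrix_apply, Equiv.toPEquiv_apply, Option.mem_def,
      Option.some.injEq]
    rw [if_neg (fun h => hk h.symm)]
    ring
  · intro h
    exact absurd (Finset.mem_univ _) h

theorem perm_inv (σ : Equiv.Perm (Fin 4)) : (σ.permMatrix F)⁻¹ = (σ.permMatrix F)ᵀ := by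
  apply inv_eq_right_inv
  rw [transpose_permMatrix, ← permMatrix_mul, inv_mul_cancel, permMatrix_one]

/-- Sign patterns with product `-1`. -/
theorem pattern (e : Fin 4 → F) (he : ∀ i, e i = 1 ∨ e i = -1)
    (hp : ∏ i, e i ≠ 1) : ∃ (σ : Equiv.Perm (Fin 4)) (c : F), (c = 1 ∨ c = -1) ∧
      diagonal e = c • diagonal ((![1, 1, 1, -1] : Fin 4 → F) ∘ σ) := by
  rw [Fin.prod_univ_four] at hp
  have key : ∀ (σ : Equiv.Perm (Fin 4)) (c : F), (c = 1 ∨ c = -1) →
      (∀ i, e i = c * (![1, 1, 1, -1] : Fin 4 → F) (σ i)) →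
      ∃ (σ : Equiv.Perm (Fin 4)) (c : F), (c = 1 ∨ c = -1) ∧
      diagonal e = c • diagonal ((![1, 1, 1, -1] : Fin 4 → F) ∘ σ) := by
    intro σ c hc h
    refine ⟨σ, c, hc, ?_⟩
    rw [← diagonal_smul]
    congr 1
    funext i
    exact h i
  rcases he 0 with e0 | e0 <;> rcases he 1 with e1 | e1 <;> rcases he 2 with e2 | e2 <;>
    rcases he 3 with e3 | e3 <;> simp only [e0, e1, e2, e3] at hp
  all_goals first
    | (exfalso; apply hp; ring1)
    | skip
  · exact key (Equiv.swap 3 3) 1 (Or.inl rfl) (by intro i; fin_cases i <;> simp [e0, e1, e2, e3])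
  · exact key (Equiv.swap 2 3) 1 (Or.inl rfl)
      (by intro i; fin_cases i <;> simp [e0, e1, e2, e3, Equiv.swap_apply_def])
  · exact key (Equiv.swap 1 3) 1 (Or.inl rfl)
      (by intro i; fin_cases i <;> simp [e0, e1, e2, e3, Equiv.swap_apply_def])
  · exact key (Equiv.swap 0 3) (-1) (Or.inr rfl)
      (by intro i; fin_cases i <;> simp [e0, e1, e2, e3, Equiv.swap_apply_def])
  · exact key (Equiv.swap 0 3) 1 (Or.inl rfl)
      (by intro i; fin_cases i <;> simp [e0, e1, e2, e3, Equiv.swap_apply_def])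
  · exact key (Equiv.swap 1 3) (-1) (Or.inr rfl)
      (by intro i; fin_cases i <;> simp [e0, e1, e2, e3, Equiv.swap_apply_def])
  · exact key (Equiv.swap 2 3) (-1) (Or.inr rfl)
      (by intro i; fin_cases i <;> simp [e0, e1, e2, e3, Equiv.swap_apply_def])
  · exact key (Equiv.swap 3 3) (-1) (Or.inr rfl)
      (by intro i; fin_cases i <;> simp [e0, e1, e2, e3, Equiv.swap_apply_def])

namespace Good

variable {P : M4 F → Prop} {N : F → Prop} (H : Good P N)

include H

theorem one_ne : (1 : F) ≠ -1 := by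
  intro h
  exact H.n_not H.n_one (by rw [mul_one]; exact h)

theorem scal {c : F} : P (c • 1) ↔ N c := by
  have : (c • 1 : M4 F) = diagonal (fun _ => c) := by
    rw [← diagonal_one, ← diagonal_smul]
    congr 1
    funext i
    simp
  rw [this, H.diag]
  exact ⟨fun h => h 0, fun h _ => h⟩

theorem smul {c : F} (hc : N c) {A : M4 F} (hA : P A) : P (c • A) := by
  have : c • A = (c • 1 : M4 F) * A := by rw [smul_mul_assoc, one_mul]
  rw [this]
  exact H.mul (H.scal.2 hc) hA

theorem isUnit {A : M4 F} (hA : P A) : IsUnit A.det := (H.det_ne hA).isUnit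

theorem n_pm {c : F} (hc : c = 1 ∨ c = -1) : N c := by
  rcases hc with rfl | rfl
  · exact H.n_one
  · exact H.n_neg

/-- Every element of `N` is plus or minus a fourth power. -/
theorem fourth {u : F} (hu : N u) : ∃ r, N r ∧ ∃ e : F, (e = 1 ∨ e = -1) ∧ u = e * r ^ 4 := by
  obtain ⟨s, hs, h1⟩ := H.n_sq hu
  obtain ⟨r, hr, h2⟩ := H.n_sq hs
  have h3 : s * s = r ^ 4 := by
    rcases h2 with h2 | h2 <;> rw [h2] <;> ring
  refine ⟨r, hr, ?_⟩
  rcases h1 with h1 | h1
  · exact ⟨1, Or.inl rfl, by rw [h1, h3]; ring⟩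
  · exact ⟨-1, Or.inr rfl, by rw [h1, h3]; ring⟩

theorem P_D1 : P (D1 F) := by
  unfold D1
  rw [H.diag]
  intro i
  fin_cases i
  · exact H.n_one
  · exact H.n_one
  · exact H.n_one
  · exact H.n_neg

/-- `g ∈ P` with `g²` scalar and `det g` not a square. -/
theorem typeA {g : M4 F} (hg : P g) {l : F} (hl : g * g = l • 1)
    (hd : ∀ s, N s → g.det ≠ s * s) :
    ∃ (a : M4 F) (c : F), P a ∧ a.det = 1 ∧ N c ∧ g = c • (a * D1 F * a⁻¹) := by
  have hNl : N l := H.scal.1 (hl ▸ H.mul hg hg)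
  obtain ⟨s, hs, hls⟩ := H.n_sq hNl
  have hs0 := H.n_ne hs
  set g' : M4 F := s⁻¹ • g with hg'
  have hPg' : P g' := H.smul (H.n_inv hs) hg
  have hgg : g = s • g' := by rw [hg', smul_smul, mul_inv_cancel₀ hs0, one_smul]
  have hsq : g' * g' = (s⁻¹ * s⁻¹ * l) • 1 := by
    rw [hg', smul_mul_smul_comm, hl, smul_smul]
  have hdet : g.det = s ^ 4 * g'.det := by
    rw [hgg, det_smul, Fintype.card_fin]
  rcases hls with hls | hls
  · -- `g' ^ 2 = 1`
    have h1 : g' * g' = 1 := by
      rw [hsq, hls]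
      have : s⁻¹ * s⁻¹ * (s * s) = 1 := by field_simp
      rw [this, one_smul]
    obtain ⟨a, e, ha, he, hae⟩ := H.frameInv g' hPg' h1
    have hua := H.isUnit ha
    have hprod : ∏ i, e i ≠ 1 := by
      intro hp
      have h2 : g'.det = 1 := by
        rw [hae, det_mul, det_mul, det_diagonal, hp, mul_one, ← det_mul,
          mul_nonsing_inv _ hua, det_one]
      exact hd (s * s) (H.n_mul hs hs) (by rw [hdet, h2]; ring)
    obtain ⟨σ, c, hc, hec⟩ := pattern e he hprod
    have hPσ := H.perm σ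
    obtain ⟨b, hb⟩ : ∃ b : M4 F, b = a * σ.permMatrix F := ⟨_, rfl⟩
    have hPb : P b := hb ▸ H.mul ha hPσ
    have hub := H.isUnit hPb
    have hg'b : g' = c • (b * D1 F * b⁻¹) := by
      rw [hae, hec, ← perm_diag, hb, Matrix.mul_inv_rev, perm_inv]
      simp only [mul_smul_comm, smul_mul_assoc, D1, mul_assoc]
    set t : M4 F := diagonal ![b.det⁻¹, 1, 1, 1] with ht
    have hPt : P t := by
      rw [ht, H.diag]
      intro i
      fin_cases i
      · exact H.n_inv (H.det hPb)
      · exact H.n_one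
      · exact H.n_one
      · exact H.n_one
    have hut := H.isUnit hPt
    have htD : t * D1 F * t⁻¹ = D1 F := by
      have h2 : t * D1 F = D1 F * t := by
        rw [ht, D1, diagonal_mul_diagonal, diagonal_mul_diagonal]
        congr 1
        funext i
        ring
      rw [h2, mul_assoc, mul_nonsing_inv _ hut, mul_one]
    refine ⟨b * t, s * c, H.mul hPb hPt, ?_, H.n_mul hs (H.n_pm hc), ?_⟩
    · rw [det_mul, ht, det_diagonal, Fin.prod_univ_four]
      simp [H.det_ne hPb]
    · rw [hgg, hg'b, smul_smul, Matrix.mul_inv_rev b t]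
      congr 1
      calc b * D1 F * b⁻¹ = b * (t * D1 F * t⁻¹) * b⁻¹ := by rw [htD]
        _ = _ := by simp only [mul_assoc]
  · -- `g' ^ 2 = -1`
    exfalso
    have h1 : g' * g' = -1 := by
      rw [hsq, hls]
      have : s⁻¹ * s⁻¹ * (-(s * s)) = -1 := by field_simp
      rw [this, neg_smul, one_smul]
    obtain ⟨r, hr, hrr⟩ := H.iSq g' hPg' h1
    exact hd (s * s * r) (H.n_mul (H.n_mul hs hs) hr) (by rw [hdet, hrr]; ring)

/-- `h ∈ P` with `hᵀ = l h` and `det h` not a square. -/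
theorem typeB {h : M4 F} (hh : P h) {l : F} (hl : hᵀ = l • h)
    (hd : ∀ s, N s → h.det ≠ s * s) :
    ∃ (a : M4 F) (c : F), P a ∧ a.det = 1 ∧ N c ∧ h = c • (a * D1 F * aᵀ) := by
  have hl2 : l = 1 ∨ l = -1 := by
    have h1 : h = (l * l) • h := by
      calc h = hᵀᵀ := (transpose_transpose h).symm
        _ = (l * l) • h := by rw [hl, transpose_smul, hl, smul_smul]
    have h2 : h ≠ 0 := by
      rintro rfl
      exact H.det_ne hh (Matrix.det_zero)
    have h3 : (1 - l * l) • h = 0 := by rw [sub_smul, one_smul, ← h1, sub_self]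
    rcases smul_eq_zero.1 h3 with h4 | h4
    · have h5 : (l - 1) * (l + 1) = 0 := by linear_combination -h4
      rcases mul_eq_zero.1 h5 with h6 | h6
      · exact Or.inl (by linear_combination h6)
      · exact Or.inr (by linear_combination h6)
    · exact absurd h4 h2
  rcases hl2 with rfl | rfl
  · rw [one_smul] at hl
    obtain ⟨a, e, ha, he, hae⟩ := H.frameSym h hh hl
    choose s hs hse using fun i => H.n_sq (he i)
    -- signs
    have hε : ∃ ε : Fin 4 → F, (∀ i, ε i = 1 ∨ ε i = -1) ∧ ∀ i, e i = s i * ε i * s i := by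
      refine ⟨fun i => e i * (s i)⁻¹ * (s i)⁻¹, fun i => ?_, fun i => ?_⟩
      · have h0 := H.n_ne (hs i)
        rcases hse i with h1 | h1
        · left
          change e i * (s i)⁻¹ * (s i)⁻¹ = 1
          rw [h1]; field_simp
        · right
          change e i * (s i)⁻¹ * (s i)⁻¹ = -1
          rw [h1]; field_simp
      · have h0 := H.n_ne (hs i)
        change e i = s i * (e i * (s i)⁻¹ * (s i)⁻¹) * s i
        field_simp
    obtain ⟨ε, hε1, hε2⟩ := hε
    obtain ⟨a', ha'⟩ : ∃ a' : M4 F, a' = a * diagonal s := ⟨_, rfl⟩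
    have hPa' : P a' := ha' ▸ H.mul ha ((H.diag s).2 hs)
    have hh' : h = a' * diagonal ε * a'ᵀ := by
      rw [hae, ha', transpose_mul, diagonal_transpose]
      have h1 : diagonal e = diagonal s * diagonal ε * diagonal s := by
        rw [diagonal_mul_diagonal, diagonal_mul_diagonal]
        congr 1
        funext i
        exact hε2 i
      rw [h1]
      simp only [mul_assoc]
    have hprod : ∏ i, ε i ≠ 1 := by
      intro hp
      exact hd a'.det (H.det hPa') (by
        rw [hh', det_mul, det_mul, det_diagonal, hp, mul_one, det_transpose])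
    obtain ⟨σ, c, hc, hec⟩ := pattern ε hε1 hprod
    have hPσ := H.perm σ
    obtain ⟨b, hb⟩ : ∃ b : M4 F, b = a' * σ.permMatrix F := ⟨_, rfl⟩
    have hPb : P b := hb ▸ H.mul hPa' hPσ
    have hhb : h = c • (b * D1 F * bᵀ) := by
      rw [hh', hec, ← perm_diag, hb, transpose_mul]
      simp only [mul_smul_comm, smul_mul_assoc, D1, mul_assoc]
    obtain ⟨r, hr, w, hw, hrw⟩ := H.fourth (H.n_inv (H.det hPb))
    have hr0 := H.n_ne hr
    set t : M4 F := diagonal ![w, 1, 1, 1] with ht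
    have hPt : P t := by
      rw [ht, H.diag]
      intro i
      fin_cases i
      · exact H.n_pm hw
      · exact H.n_one
      · exact H.n_one
      · exact H.n_one
    have htD : t * D1 F * tᵀ = D1 F := by
      rw [ht, D1, diagonal_transpose, diagonal_mul_diagonal, diagonal_mul_diagonal]
      congr 1
      funext i
      fin_cases i
      · rcases hw with rfl | rfl <;> simp
      · simp
      · simp
      · simp
    have hwdet : t.det = w := by
      rw [ht, det_diagonal, Fin.prod_univ_four]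
      simp
    refine ⟨r • (b * t), c * (r⁻¹ * r⁻¹), H.smul hr (H.mul hPb hPt), ?_,
      H.n_mul (H.n_pm hc) (H.n_mul (H.n_inv hr) (H.n_inv hr)), ?_⟩
    · rw [det_smul, Fintype.card_fin, det_mul, hwdet]
      have h1 : b.det ≠ 0 := H.det_ne hPb
      calc r ^ 4 * (b.det * w) = b.det * (w * r ^ 4) := by ring
        _ = 1 := by rw [← hrw, mul_inv_cancel₀ h1]
    · have h1 : c * (r⁻¹ * r⁻¹) * (r * r) = c := by field_simp
      rw [hhb, transpose_smul]
      simp only [smul_mul_assoc, mul_smul_comm, smul_smul]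
      rw [h1, transpose_mul b t]
      congr 1
      calc b * D1 F * bᵀ = b * (t * D1 F * tᵀ) * bᵀ := by rw [htD]
        _ = _ := by simp only [mul_assoc]
  · exfalso
    rw [neg_smul, one_smul] at hl
    obtain ⟨s, hs, hss⟩ := H.skew h hh hl
    exact hd s hs hss

end Good

end Cfsg.Agent.GH.Cov.F5Core
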