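import Cfsg.Agent.GH.Cov.F5Core
import Cfsg.Agent.LieClassical.HermBasic
import Cfsg.Agent.ClassicalGeometry.HermOrthonormal

/-!
# GH-COV, (F5) for `PSU₄(q)`, `q ≡ 1 mod 4`: the structure `Good` for the unitary matrices
-/

set_option autoImplicit false

namespace Cfsg.Agent.GH.Cov.F5Uni

open Cfsg Matrix Cfsg.Agent.LieClassical.HermBasic Cfsg.Agent.GH.Cov.F5Core

variable {F : Type*} [Field F] [Fintype F] {q : ℕ}

/-- Entrywise conjugation. -/
def cn (hF : Fintype.card F = q ^ 2) (A : M4 F) : M4 F := A.map (conj hF)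

/-- Unitary matrices. -/
def Un (hF : Fintype.card F = q ^ 2) (A : M4 F) : Prop := Aᵀ * cn hF A = 1

/-- Elements of norm one. -/
def No (F : Type*) [Field F] (q : ℕ) (a : F) : Prop := a * a ^ q = 1

variable (hF : Fintype.card F = q ^ 2)

theorem cn_mul (A B : M4 F) : cn hF (A * B) = cn hF A * cn hF B := by
  unfold cn
  exact Matrix.map_mul (f := (conj hF : F →+* F))

theorem cn_one : cn hF (1 : M4 F) = 1 := by
  unfold cn
  exact Matrix.map_one _ (map_zero _) (map_one _)

theorem cn_cn (A : M4 F) : cn hF (cn hF A) = A := by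
  ext i j
  change conj hF (conj hF (A i j)) = A i j
  rw [conj_apply, conj_apply, pow_q_pow_q hF]

theorem cn_tr (A : M4 F) : cn hF Aᵀ = (cn hF A)ᵀ := rfl

theorem cn_smul (c : F) (A : M4 F) : cn hF (c • A) = c ^ q • cn hF A := by
  ext i j
  change conj hF (c * A i j) = c ^ q * conj hF (A i j)
  rw [map_mul, conj_apply]

theorem cn_neg (A : M4 F) : cn hF (-A) = -cn hF A := by
  ext i j
  change conj hF (-A i j) = -conj hF (A i j)
  rw [map_neg]

theorem cn_add (A B : M4 F) : cn hF (A + B) = cn hF A + cn hF B := by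
  ext i j
  change conj hF (A i j + B i j) = _
  rw [map_add]
  rfl

theorem det_cn (A : M4 F) : (cn hF A).det = A.det ^ q := by
  have h := RingHom.map_det (conj hF : F →+* F) A
  change conj hF A.det = _ at h
  rw [conj_apply] at h
  rw [h]
  rfl

theorem cn_diag (d : Fin 4 → F) : cn hF (diagonal d) = diagonal fun i => d i ^ q := by
  unfold cn
  rw [diagonal_map (map_zero _)]
  rfl

variable {hF}

theorem Un.inv_eq {A : M4 F} (h : Un hF A) : A⁻¹ = (cn hF A)ᵀ := by
  apply inv_eq_left_inv
  have := congrArg transpose h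
  rwa [transpose_mul, transpose_transpose, transpose_one] at this

theorem Un.isUnit {A : M4 F} (h : Un hF A) : IsUnit A.det := by
  have := congrArg Matrix.det h
  rw [det_mul, det_transpose, det_one] at this
  exact IsUnit.of_mul_eq_one _ this

theorem Un.left {A : M4 F} (h : Un hF A) : (cn hF A)ᵀ * A = 1 := by
  rw [← h.inv_eq, nonsing_inv_mul _ h.isUnit]

theorem Un.right {A : M4 F} (h : Un hF A) : A * (cn hF A)ᵀ = 1 := by
  rw [← h.inv_eq, mul_nonsing_inv _ h.isUnit]

theorem Un.right' {A : M4 F} (h : Un hF A) : cn hF A * Aᵀ = 1 := by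
  have := congrArg transpose h.right
  rwa [transpose_mul, transpose_transpose, transpose_one] at this

theorem Un.cn_inv {A : M4 F} (h : Un hF A) : (cn hF A)⁻¹ = Aᵀ := inv_eq_left_inv h

theorem un_one : Un hF 1 := by
  unfold Un
  rw [transpose_one, cn_one, mul_one]

theorem Un.mul {A B : M4 F} (hA : Un hF A) (hB : Un hF B) : Un hF (A * B) := by
  unfold Un
  rw [transpose_mul, cn_mul]
  calc Bᵀ * Aᵀ * (cn hF A * cn hF B) = Bᵀ * (Aᵀ * cn hF A) * cn hF B := by simp only [mul_assoc]
    _ = 1 := by rw [hA, mul_one, hB]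

theorem Un.tr {A : M4 F} (hA : Un hF A) : Un hF Aᵀ := by
  unfold Un
  rw [transpose_transpose, cn_tr, hA.right]

theorem Un.cn {A : M4 F} (hA : Un hF A) : Un hF (cn hF A) := by
  unfold Un
  rw [cn_cn, hA.left]

theorem Un.inv {A : M4 F} (hA : Un hF A) : Un hF A⁻¹ := by
  rw [hA.inv_eq]
  exact hA.cn.tr

theorem Un.det {A : M4 F} (hA : Un hF A) : No F q A.det := by
  have := congrArg Matrix.det hA
  rwa [det_mul, det_transpose, det_cn, det_one] at this

theorem un_diag (d : Fin 4 → F) : Un hF (diagonal d) ↔ ∀ i, No F q (d i) := by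
  unfold Un
  rw [diagonal_transpose, cn_diag, diagonal_mul_diagonal, ← diagonal_one, diagonal_eq_diagonal_iff]
  rfl

theorem un_perm (σ : Equiv.Perm (Fin 4)) : Un hF (σ.permMatrix F) := by
  unfold Un
  have h : cn hF (σ.permMatrix F) = σ.permMatrix F := by
    ext i j
    change conj hF (σ.permMatrix F i j) = _
    simp only [Equiv.Perm.permMatrix, PEquiv.toMatrix_apply]
    split_ifs
    · exact map_one _
    · exact map_zero _
  rw [h, transpose_permMatrix, ← permMatrix_mul, mul_inv_cancel, permMatrix_one]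

omit [Fintype F] in
theorem No.ne {a : F} (h : No F q a) : a ≠ 0 := by
  rintro rfl
  unfold No at h
  rw [zero_mul] at h
  exact zero_ne_one h

omit [Fintype F] in
theorem No.mul {a b : F} (ha : No F q a) (hb : No F q b) : No F q (a * b) := by
  unfold No at *
  rw [mul_pow]
  linear_combination b * b ^ q * ha + hb

omit [Fintype F] in
theorem No.inv {a : F} (ha : No F q a) : No F q a⁻¹ := by
  unfold No at *
  rw [inv_pow, ← mul_inv, ha, inv_one]

omit [Fintype F] in
theorem No.pow {a : F} (ha : No F q a) (k : ℕ) : No F q (a ^ k) := by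
  unfold No at *
  rw [← pow_mul, mul_comm k q, pow_mul, ← mul_pow, ha, one_pow]

omit [Fintype F] in
theorem no_one : No F q 1 := by
  unfold No
  rw [one_pow, one_mul]

theorem no_neg (hF : Fintype.card F = q ^ 2) : No F q (-1) := by
  unfold No
  rw [neg_pow_q hF, one_pow]
  ring

theorem two_ne (hF : Fintype.card F = q ^ 2) (hq : q % 4 = 1) : (2 : F) ≠ 0 := by
  have h1 : Fintype.card F % 2 = 1 := by
    rw [hF, Nat.pow_mod]
    have : q % 2 = 1 := by omega
    rw [this]
  have h2 : ringChar F ≠ 2 := fun h => by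
    have := FiniteField.even_card_of_char_two h
    omega
  exact Ring.two_ne_zero h2

omit [Fintype F] in
theorem pm_of_sq {x : F} (h : x ^ 2 = 1) : x = 1 ∨ x = -1 := by
  have : (x - 1) * (x + 1) = 0 := by linear_combination h
  rcases mul_eq_zero.1 this with h | h
  · exact Or.inl (by linear_combination h)
  · exact Or.inr (by linear_combination h)

omit [Fintype F] in
theorem No.sq (hq : q % 4 = 1) {a : F} (ha : No F q a) :
    ∃ s, No F q s ∧ (a = s * s ∨ a = -(s * s)) := by
  obtain ⟨k, hk⟩ : ∃ k, q = 4 * k + 1 := ⟨q / 4, by omega⟩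
  have h1 : a ^ (q + 1) = 1 := by rw [pow_succ']; exact ha
  have h2 : (a ^ (2 * k + 1)) ^ 2 = 1 := by
    rw [← pow_mul, ← h1]
    congr 1
    omega
  refine ⟨a ^ (k + 1), ha.pow _, ?_⟩
  have h3 : a ^ (k + 1) * a ^ (k + 1) = a * a ^ (2 * k + 1) := by ring
  rcases pm_of_sq h2 with h4 | h4
  · left; rw [h3, h4, mul_one]
  · right; rw [h3, h4]; ring

theorem No.not (hF : Fintype.card F = q ^ 2) (hq : q % 4 = 1) {s : F} (hs : No F q s) :
    s * s ≠ -1 := by
  intro h
  obtain ⟨k, hk⟩ : ∃ k, q = 4 * k + 1 := ⟨q / 4, by omega⟩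
  have h1 : s ^ (q + 1) = 1 := by rw [pow_succ']; exact hs
  have h2 : s ^ (q + 1) = (s * s) ^ (2 * k + 1) := by
    rw [← pow_two, ← pow_mul]
    congr 1
    omega
  rw [h1, h, Odd.neg_one_pow ⟨k, rfl⟩] at h2
  apply two_ne hF hq
  linear_combination h2

/-! ### frames -/

section frame

/-- The Hermitian form as a sesquilinear map (semilinear in the first variable). -/
noncomputable def bil (hF : Fintype.card F = q ^ 2) :
    (Fin 4 → F) →ₛₗ[(conj hF : F →+* F)] (Fin 4 → F) →ₗ[F] F :=
  LinearMap.mk₂'ₛₗ (conj hF : F →+* F) (RingHom.id F) (fun x y => hermForm 4 F q y x)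
    (fun x x' y => by rw [herm_add_right hF])
    (fun c x y => by rw [herm_smul_right]; rfl)
    (fun x y y' => by rw [herm_add_left])
    (fun c x y => by rw [herm_smul_left]; rfl)

theorem bil_apply (hF : Fintype.card F = q ^ 2) (x y : Fin 4 → F) :
    bil hF x y = hermForm 4 F q y x := rfl

theorem bil_symm (hF : Fintype.card F = q ^ 2) : (bil hF).IsSymm := by
  refine ⟨fun x y => ?_⟩
  change conj hF (hermForm 4 F q y x) = hermForm 4 F q x y
  rw [conj_apply, ← herm_swap hF]

theorem bil_sep (hF : Fintype.card F = q ^ 2) : (bil hF).SeparatingLeft := by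
  intro x hx
  apply herm_nondeg hF
  intro y
  rw [herm_swap hF, ← bil_apply hF, hx, zero_pow_q hF]

theorem conj_ne_id (hF : Fintype.card F = q ^ 2) : (conj hF : F →+* F) ≠ RingHom.id F := by
  intro h
  obtain ⟨x, hx⟩ := exists_not_fixed hF
  exact hx (DFunLike.congr_fun h x)

variable {τ : F ≃+* F} {T : (Fin 4 → F) → (Fin 4 → F)}

theorem exists_family (hF : Fintype.card F = q ^ 2) (h2 : (2 : F) ≠ 0)
    (hadd : ∀ u v, T (u + v) = T u + T v) (hsmul : ∀ (c : F) v, T (c • v) = τ c • T v)
    (hTT : ∀ v, T (T v) = v)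
    (hB : ∀ u v, hermForm 4 F q (T u) (T v) = τ (hermForm 4 F q u v)) (k : ℕ) (hk : k ≤ 4) :
    ∃ (v : Fin k → Fin 4 → F) (c : Fin k → F),
      (∀ i j, hermForm 4 F q (v i) (v j) = if i = j then 1 else 0) ∧ ∀ i, T (v i) = c i • v i := by
  induction k with
  | zero => exact ⟨Fin.elim0, Fin.elim0, fun i => Fin.elim0 i, fun i => Fin.elim0 i⟩
  | succ k ih =>
    obtain ⟨v, c, hv, hc⟩ := ih (by omega)
    have hv' : ∀ i j, bil hF (v i) (v j) = if i = j then 1 else 0 := by
      intro i j
      rw [bil_apply, hv]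
      by_cases h : i = j
      · subst h; rfl
      · rw [if_neg h, if_neg (Ne.symm h)]
    obtain ⟨u, hu1, hu2⟩ := ClassicalGeometry.HermOrthonormal.exists_extend (conj_ne_id hF)
      (fun a => by change conj hF (conj hF a) = a; rw [conj_apply, conj_apply, pow_q_pow_q hF])
      (bil hF) (bil_symm hF) (bil_sep hF) (by simp; omega) hv'
    rw [bil_apply] at hu1
    have hu2' : ∀ i, hermForm 4 F q u (v i) = 0 := fun i => hu2 i
    have hc0 : ∀ i, c i * c i ^ q = 1 := by
      intro i
      have h1 := hB (v i) (v i)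
      rw [hc, herm_smul_left, herm_smul_right, hv, if_pos rfl, map_one, mul_one] at h1
      exact h1
    have hTu : ∀ i, hermForm 4 F q (T u) (v i) = 0 := by
      intro i
      have h1 := hB u (v i)
      rw [hu2', map_zero, hc, herm_smul_right] at h1
      rcases mul_eq_zero.1 h1 with h3 | h3
      · exfalso
        have h4 := hc0 i
        rw [h3, mul_zero] at h4
        exact zero_ne_one h4
      · exact h3
    have hTT' : hermForm 4 F q (T u) (T u) = 1 := by rw [hB, hu1, map_one]
    -- one of `u ± T u` is anisotropic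
    obtain ⟨w, s, hs, hTw, hw0, hwv⟩ : ∃ (w : Fin 4 → F) (s : F), (s = 1 ∨ s = -1) ∧ T w = s • w ∧
        hermForm 4 F q w w ≠ 0 ∧ ∀ i, hermForm 4 F q w (v i) = 0 := by
      by_cases h : hermForm 4 F q (u + T u) (u + T u) = 0
      · refine ⟨u - T u, -1, Or.inr rfl, ?_, ?_, ?_⟩
        · have h3 : T (u - T u) = T u - u := by
            have h4 : T (-(T u)) = - u := by
              have := hsmul (-1) (T u)
              rw [neg_one_smul, map_neg, map_one, neg_one_smul, hTT] at this
              exact this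
            rw [sub_eq_add_neg, hadd, h4, ← sub_eq_add_neg]
          rw [h3, neg_one_smul, neg_sub]
        · intro h5
          rw [herm_add_left, herm_add_right hF, herm_add_right hF, hu1, hTT'] at h
          rw [herm_sub_left, herm_sub_right hF, herm_sub_right hF, hu1, hTT'] at h5
          have h6 : (2 : F) * 2 = 0 := by linear_combination h + h5
          rcases mul_eq_zero.1 h6 with h7 | h7 <;> exact h2 h7
        · intro i
          rw [herm_sub_left, hu2', hTu, sub_zero]
      · refine ⟨u + T u, 1, Or.inl rfl, ?_, h, ?_⟩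
        · rw [hadd, hTT, one_smul, add_comm]
        · intro i
          rw [herm_add_left, hu2', hTu, add_zero]
    obtain ⟨e, he⟩ := exists_norm_eq hF (c := (hermForm 4 F q w w)⁻¹) (by
      rw [inv_pow, herm_self_pow hF])
    have he0 : e ≠ 0 := by
      rintro rfl
      rw [zero_mul] at he
      exact hw0 (inv_eq_zero.1 he.symm)
    refine ⟨Fin.cons (e • w) v, Fin.cons (τ e * s * e⁻¹) c, fun i j => ?_, fun i => ?_⟩
    · refine Fin.cases ?_ (fun i => ?_) i <;> refine Fin.cases ?_ (fun j => ?_) j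
      · rw [Fin.cons_zero, if_pos rfl, herm_smul_left, herm_smul_right]
        calc e * (e ^ q * hermForm 4 F q w w) = (e * e ^ q) * hermForm 4 F q w w := by ring
          _ = 1 := by rw [he, inv_mul_cancel₀ hw0]
      · rw [Fin.cons_zero, Fin.cons_succ, if_neg (Fin.succ_ne_zero j).symm, herm_smul_left, hwv,
          mul_zero]
      · rw [Fin.cons_zero, Fin.cons_succ, if_neg (Fin.succ_ne_zero i), herm_smul_right,
          herm_swap hF, hwv, zero_pow_q hF, mul_zero]
      · rw [Fin.cons_succ, Fin.cons_succ, hv]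
        simp
    · refine Fin.cases ?_ (fun i => ?_) i
      · rw [Fin.cons_zero, Fin.cons_zero, hsmul, hTw, smul_smul, smul_smul]
        congr 1
        field_simp
      · rw [Fin.cons_succ, Fin.cons_succ, hc]

end frame

/-! ### the structure `Good` -/

/-- Conjugate vector. -/
def cv (q : ℕ) (v : Fin 4 → F) : Fin 4 → F := fun i => v i ^ q

omit [Fintype F] in
theorem herm_eq (u v : Fin 4 → F) : hermForm 4 F q u v = u ⬝ᵥ cv q v := rfl

theorem cn_mulVec (hF : Fintype.card F = q ^ 2) (A : M4 F) (v : Fin 4 → F) :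
    cn hF A *ᵥ cv q v = cv q (A *ᵥ v) := by
  funext i
  change ∑ j, conj hF (A i j) * v j ^ q = (∑ j, A i j * v j) ^ q
  rw [sum_pow_q hF]
  exact Finset.sum_congr rfl fun j _ => by rw [conj_apply, mul_pow]

theorem cv_cv (hF : Fintype.card F = q ^ 2) (v : Fin 4 → F) : cv q (cv q v) = v := by
  funext i
  exact pow_q_pow_q hF _

theorem Un.herm {A : M4 F} (h : Un hF A) (u v : Fin 4 → F) :
    hermForm 4 F q (A *ᵥ u) (A *ᵥ v) = hermForm 4 F q u v := by
  rw [herm_eq, herm_eq, ← cn_mulVec hF, dotProduct_mulVec, ← mulVec_transpose, mulVec_mulVec,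
    h.left, one_mulVec]

/-- The matrix with given columns. -/
def cols (v : Fin 4 → Fin 4 → F) : M4 F := Matrix.of fun i j => v j i

theorem un_cols (hF : Fintype.card F = q ^ 2) {v : Fin 4 → Fin 4 → F}
    (h : ∀ i j, hermForm 4 F q (v i) (v j) = if i = j then 1 else 0) : Un hF (cols v) := by
  ext i j
  rw [one_apply, ← h i j]
  rfl

theorem frameInv (hF : Fintype.card F = q ^ 2) (h2 : (2 : F) ≠ 0) (g : M4 F) (hg : Un hF g)
    (hgg : g * g = 1) : ∃ (a : M4 F) (e : Fin 4 → F), Un hF a ∧ (∀ i, e i = 1 ∨ e i = -1) ∧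
      g = a * diagonal e * a⁻¹ := by
  obtain ⟨v, c, hv, hc⟩ := exists_family (τ := RingEquiv.refl F) (T := fun v => g *ᵥ v) hF h2
    (fun u v => mulVec_add _ _ _) (fun c v => mulVec_smul _ _ _)
    (fun v => by change g *ᵥ (g *ᵥ v) = v; rw [mulVec_mulVec, hgg, one_mulVec])
    (fun u v => hg.herm u v) 4 le_rfl
  have hu := un_cols hF hv
  refine ⟨cols v, c, hu, fun i => ?_, ?_⟩
  · have h1 : v i = (c i ^ 2) • v i := by
      have h2 : g *ᵥ (g *ᵥ v i) = v i := by rw [mulVec_mulVec, hgg, one_mulVec]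
      have h3 : g *ᵥ v i = c i • v i := hc i
      rw [h3, mulVec_smul, h3, smul_smul] at h2
      rw [pow_two]
      exact h2.symm
    have h2 : v i ≠ 0 := by
      intro h0
      have h3 := hv i i
      rw [h0, herm_zero_left, if_pos rfl] at h3
      exact zero_ne_one h3
    have h3 : (1 - c i ^ 2) • v i = 0 := by rw [sub_smul, one_smul, ← h1, sub_self]
    rcases smul_eq_zero.1 h3 with h4 | h4
    · exact pm_of_sq (by linear_combination -h4)
    · exact absurd h4 h2
  · have h1 : g * cols v = cols v * diagonal c := by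
      ext i j
      rw [mul_diagonal]
      have h2 := congrFun (hc j) i
      change (∑ k, g i k * v j k) = v j i * c j
      change (∑ k, g i k * v j k) = c j * v j i at h2
      rw [h2, mul_comm]
    rw [← h1, mul_assoc, mul_nonsing_inv _ hu.isUnit, mul_one]

theorem frameSym (hF : Fintype.card F = q ^ 2) (h2 : (2 : F) ≠ 0) (h : M4 F) (hh : Un hF h)
    (hhh : hᵀ = h) : ∃ (a : M4 F) (e : Fin 4 → F), Un hF a ∧ (∀ i, No F q (e i)) ∧
      h = a * diagonal e * aᵀ := by
  have hcc : ∀ v, h *ᵥ cv q (h *ᵥ cv q v) = v := by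
    intro v
    rw [← cn_mulVec hF, cv_cv hF, mulVec_mulVec]
    have : h * cn hF h = 1 := by
      have := hh
      unfold Un at this
      rwa [hhh] at this
    rw [this, one_mulVec]
  obtain ⟨v, c, hv, hc⟩ := exists_family (τ := conj hF) (T := fun v => h *ᵥ cv q v) hF h2
    (fun u v => by
      change h *ᵥ cv q (u + v) = _
      have : cv q (u + v) = cv q u + cv q v := by
        funext i
        exact add_pow_q hF _ _
      rw [this, mulVec_add])
    (fun c v => by
      change h *ᵥ cv q (c • v) = _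
      have : cv q (c • v) = (conj hF c) • cv q v := by
        funext i
        exact mul_pow _ _ _
      rw [this, mulVec_smul])
    hcc
    (fun u v => by
      change hermForm 4 F q (h *ᵥ cv q u) (h *ᵥ cv q v) = _
      rw [hh.herm, conj_apply, herm_eq, herm_eq]
      change (∑ i, u i ^ q * (v i ^ q) ^ q) = (∑ i, u i * v i ^ q) ^ q
      rw [sum_pow_q hF]
      exact Finset.sum_congr rfl fun i _ => by rw [mul_pow]) 4 le_rfl
  have hu := un_cols hF hv
  have hc' : ∀ i, h *ᵥ cv q (v i) = c i • v i := hc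
  refine ⟨cols v, c, hu, fun i => ?_, ?_⟩
  · have h1 : hermForm 4 F q (h *ᵥ cv q (v i)) (h *ᵥ cv q (v i)) = 1 := by
      rw [hh.herm, herm_eq]
      have h3 := hv i i
      rw [if_pos rfl, herm_eq] at h3
      have h4 : cv q (v i) ⬝ᵥ cv q (cv q (v i)) = (v i ⬝ᵥ cv q (v i)) ^ q := by
        change (∑ k, v i k ^ q * (v i k ^ q) ^ q) = (∑ k, v i k * v i k ^ q) ^ q
        rw [sum_pow_q hF]
        exact Finset.sum_congr rfl fun i _ => by rw [mul_pow]
      rw [h4, h3, one_pow]
    rw [hc', herm_smul_left, herm_smul_right, hv, if_pos rfl, mul_one] at h1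
    exact h1
  · have h1 : h * cn hF (cols v) = cols v * diagonal c := by
      ext i j
      rw [mul_diagonal]
      have h2 := congrFun (hc' j) i
      change (∑ k, h i k * conj hF (v j k)) = v j i * c j
      change (∑ k, h i k * v j k ^ q) = c j * v j i at h2
      rw [mul_comm, ← h2]
      rfl
    rw [← h1, mul_assoc, hu.right', mul_one]

theorem iSq (hF : Fintype.card F = q ^ 2) (hq : q % 4 = 1) (g : M4 F) (hg : Un hF g)
    (hgg : g * g = -1) : ∃ s, No F q s ∧ g.det = s * s := by
  have h2 := two_ne hF hq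
  have hd : g.det ^ 2 = 1 := by
    rw [pow_two, ← det_mul, hgg, det_neg, det_one, Fintype.card_fin]
    norm_num
  rcases pm_of_sq hd with hd | hd
  · exact ⟨1, no_one, by rw [hd, mul_one]⟩
  · exfalso
    have hinv : g⁻¹ = -g := inv_eq_left_inv (by rw [neg_mul, hgg, neg_neg])
    have h1 : (1 + g) * (1 + g) = (2 : F) • g := by
      have : (1 + g) * (1 + g) = 1 + g + g + g * g := by
        simp only [mul_add, add_mul, one_mul, mul_one]
        abel
      rw [this, hgg, two_smul]
      abel
    have h3 : (1 + g).det ^ 2 = -16 := by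
      rw [pow_two, ← det_mul, h1, det_smul, Fintype.card_fin, hd]
      norm_num
    have h4 : (1 + g).det ^ q = (1 - g).det := by
      rw [← det_cn hF, cn_add, cn_one, ← det_transpose, transpose_add, transpose_one, ← hg.inv_eq,
        hinv, sub_eq_add_neg]
    have h5 : (1 + g) * (1 - g) = (2 : F) • 1 := by
      have : (1 + g) * (1 - g) = 1 - g * g := by
        simp only [mul_sub, add_mul, one_mul, mul_one]
        abel
      rw [this, hgg, two_smul, sub_neg_eq_add]
    have h6 : (1 + g).det * (1 + g).det ^ q = 16 := by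
      rw [h4, ← det_mul, h5, det_smul, Fintype.card_fin, det_one]
      norm_num
    obtain ⟨k, hk⟩ : ∃ k, q = 4 * k + 1 := ⟨q / 4, by omega⟩
    have h7 : (1 + g).det ^ (4 * k) = (16 : F) ^ (2 * k) := by
      rw [show 4 * k = 2 * (2 * k) by ring, pow_mul, h3, Even.neg_pow ⟨k, by ring⟩]
    have h8 : (16 : F) ^ (q - 1) = 1 := by
      have h9 : (16 : F) ^ q = 16 := by
        have : ((16 : ℕ) : F) ^ q = ((16 : ℕ) : F) := by
          rw [← conj_apply hF, map_natCast]
        simpa using this
      have h10 : (16 : F) ≠ 0 := by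
        have : (16 : F) = 2 ^ 4 := by norm_num
        rw [this]
        exact pow_ne_zero _ h2
      have h11 : (16 : F) ^ (q - 1) * 16 = 1 * 16 := by
        rw [← pow_succ, show q - 1 + 1 = q by omega, h9, one_mul]
      exact mul_right_cancel₀ h10 h11
    have h4' : (4 : F) ^ q = 4 := by
      have : ((4 : ℕ) : F) ^ q = ((4 : ℕ) : F) := by
        rw [← conj_apply hF, map_natCast]
      simpa using this
    have h40 : (4 : F) ≠ 0 := by
      have : (4 : F) = 2 ^ 2 := by norm_num
      rw [this]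
      exact pow_ne_zero _ h2
    have h12 : (4 : F) ^ (q - 1) = 1 := by
      have h11 : (4 : F) ^ (q - 1) * 4 = 1 * 4 := by
        rw [← pow_succ, show q - 1 + 1 = q by omega, h4', one_mul]
      exact mul_right_cancel₀ h40 h11
    have h13 : (16 : F) ^ (2 * k) = 1 := by
      have : (16 : F) ^ (2 * k) = (4 : F) ^ (q - 1) := by
        rw [show (16 : F) = 4 ^ 2 by norm_num, ← pow_mul]
        congr 1
        omega
      rw [this, h12]
    have h14 : (1 + g).det ^ q = (1 + g).det := by
      rw [hk, pow_succ, h7, h13, one_mul]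
    rw [h14, ← pow_two, h3] at h6
    have h15 : (2 : F) ^ 5 = 0 := by linear_combination -h6
    exact pow_ne_zero _ h2 h15

omit [Fintype F] in
/-- A skew matrix. -/
theorem skew_form {h : M4 F} (h2 : (2 : F) ≠ 0) (hh : hᵀ = -h) :
    ∃ a b c d e f : F, h = !![0, a, b, c; -a, 0, d, e; -b, -d, 0, f; -c, -e, -f, 0] := by
  have h1 : ∀ i j, h j i = -h i j := fun i j => by
    have := congrFun (congrFun hh i) j
    exact this
  have h0 : ∀ i, h i i = 0 := fun i => by
    have h3 := h1 i i
    have h4 : (2 : F) * h i i = 0 := by linear_combination h3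
    exact (mul_eq_zero.1 h4).resolve_left h2
  refine ⟨h 0 1, h 0 2, h 0 3, h 1 2, h 1 3, h 2 3, ?_⟩
  ext i j
  fin_cases i <;> fin_cases j <;> simp [h0, h1 0 1, h1 0 2, h1 0 3, h1 1 2, h1 1 3, h1 2 3]

omit [Fintype F] in
/-- The determinant of a skew matrix. -/
theorem skew_det (a b c d e f : F) :
    (!![0, a, b, c; -a, 0, d, e; -b, -d, 0, f; -c, -e, -f, 0] : M4 F).det =
      (a * f - b * e + c * d) * (a * f - b * e + c * d) := by
  rw [Matrix.det_succ_row_zero]
  simp [Fin.sum_univ_succ, Matrix.det_fin_three, Matrix.submatrix, Fin.succAbove, Fin.succ, Fin.castSucc]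
  ring

omit [Fintype F] in
/-- The product with the dual skew matrix. -/
theorem skew_mul (a b c d e f : F) :
    (!![0, a, b, c; -a, 0, d, e; -b, -d, 0, f; -c, -e, -f, 0] : M4 F) *
      !![0, f, -e, d; -f, 0, c, -b; e, -c, 0, a; -d, b, -a, 0] =
      (-(a * f - b * e + c * d)) • 1 := by
  ext i j
  rw [mul_apply, Fin.sum_univ_four]
  fin_cases i <;> fin_cases j <;> simp [one_apply] <;> ring

theorem skew (hF : Fintype.card F = q ^ 2) (hq : q % 4 = 1) (h : M4 F) (hU : Un hF h)
    (hh : hᵀ = -h) : ∃ s, No F q s ∧ h.det = s * s := by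
  have h2 := two_ne hF hq
  obtain ⟨a, b, c, d, e, f, rfl⟩ := skew_form h2 hh
  obtain ⟨p, hp⟩ : ∃ p, p = a * f - b * e + c * d := ⟨_, rfl⟩
  have hdet := skew_det a b c d e f
  have hmul := skew_mul a b c d e f
  rw [← hp] at hdet hmul
  have hp0 : p ≠ 0 := by
    rintro rfl
    rw [mul_zero] at hdet
    exact hU.isUnit.ne_zero hdet
  refine ⟨p, ?_, hdet⟩
  -- the inverse
  have hinv : (cn hF !![0, a, b, c; -a, 0, d, e; -b, -d, 0, f; -c, -e, -f, 0])ᵀ =
      (-p⁻¹) • !![0, f, -e, d; -f, 0, c, -b; e, -c, 0, a; -d, b, -a, 0] := by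
    rw [← hU.inv_eq]
    apply inv_eq_right_inv
    rw [mul_smul_comm, hmul, smul_smul]
    have : -p⁻¹ * -p = 1 := by field_simp
    rw [this, one_smul]
  have key : ∀ i j, (!![0, a, b, c; -a, 0, d, e; -b, -d, 0, f; -c, -e, -f, 0] : M4 F) j i ^ q =
      (-p⁻¹) * (!![0, f, -e, d; -f, 0, c, -b; e, -c, 0, a; -d, b, -a, 0] : M4 F) i j := by
    intro i j
    exact congrFun (congrFun hinv i) j
  have ha : a ^ q = p⁻¹ * f := by
    have := key 1 0
    simpa using this
  have hb : b ^ q = -(p⁻¹ * e) := by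
    have := key 2 0
    simpa using this
  have hc : c ^ q = p⁻¹ * d := by
    have := key 3 0
    simpa using this
  have hd : d ^ q = p⁻¹ * c := by
    have := key 2 1
    simpa using this
  have he : e ^ q = -(p⁻¹ * b) := by
    have := key 3 1
    simpa using this
  have hf : f ^ q = p⁻¹ * a := by
    have := key 3 2
    simpa using this
  have hpq : p ^ q = a ^ q * f ^ q - b ^ q * e ^ q + c ^ q * d ^ q := by
    rw [← conj_apply hF, hp, map_add, map_sub, map_mul, map_mul, map_mul]
    rfl
  unfold No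
  rw [hpq, ha, hb, hc, hd, he, hf]
  have h3 : p * (p⁻¹ * f * (p⁻¹ * a) - -(p⁻¹ * e) * -(p⁻¹ * b) + p⁻¹ * d * (p⁻¹ * c)) =
      p * p⁻¹ * p⁻¹ * (a * f - b * e + c * d) := by ring
  rw [h3, ← hp, mul_inv_cancel₀ hp0, one_mul, inv_mul_cancel₀ hp0]

/-- The structure `Good` for the unitary matrices. -/
theorem good (hF : Fintype.card F = q ^ 2) (hq : q % 4 = 1) : Good (Un hF) (No F q) where
  one := un_one
  mul hA hB := hA.mul hB
  det_ne hA := hA.isUnit.ne_zero
  inv hA := hA.inv
  tr hA := hA.tr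
  det hA := hA.det
  diag := un_diag
  perm := un_perm
  n_one := no_one
  n_neg := no_neg hF
  n_mul ha hb := ha.mul hb
  n_inv ha := ha.inv
  n_ne ha := ha.ne
  n_sq ha := ha.sq hq
  n_not hs := hs.not hF hq
  frameInv := frameInv hF (two_ne hF hq)
  frameSym := frameSym hF (two_ne hF hq)
  iSq := iSq hF hq
  skew := skew hF hq

end Cfsg.Agent.GH.Cov.F5Uni
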