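import Mathlib
import Cfsg.Agent.GH.Cov.F5Uni
import Cfsg.Agent.GH.Cov.LieL4

/-!
# GH-COV, (F5) for `PSL(4, F)`, `|F| ≡ 3 mod 4`: `GL(4, F)` is `Good`
-/

set_option autoImplicit false

open Matrix Module
open Cfsg.Agent.GH.Cov.F5Core

namespace Cfsg.Agent.GH.Cov.F5L4Good

variable {F : Type*} [Field F]

theorem two_ne [Fintype F] (hF : Fintype.card F % 4 = 3) : (2 : F) ≠ 0 := by
  intro h
  have h1 : ringChar F = 2 := by
    have := (ringChar.spec F 2).1 (by exact_mod_cast h)
    exact (Nat.dvd_prime Nat.prime_two).1 this |>.resolve_left (CharP.ringChar_ne_one)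
  have h2 := FiniteField.even_card_of_char_two h1
  omega

theorem sq_ne [Fintype F] (hF : Fintype.card F % 4 = 3) (a : F) : a * a ≠ -1 := by
  intro ha
  have h3 : IsSquare (-1 : F) := ⟨a, ha.symm⟩
  rw [FiniteField.isSquare_neg_one_iff] at h3
  exact h3 hF

/-- Every element is plus or minus a square. -/
theorem sq_or [Fintype F] (hF : Fintype.card F % 4 = 3) (a : F) : ∃ s, a = s * s ∨ a = -(s * s) := by
  classical
  by_cases h : IsSquare a
  · obtain ⟨s, hs⟩ := h
    exact ⟨s, Or.inl hs⟩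
  · have h2 : ringChar F ≠ 2 := by
      intro h3
      have := FiniteField.even_card_of_char_two h3
      omega
    have h3 : IsSquare (-a) := by
      have h4 : ¬ IsSquare (-1 : F) := by
        rw [FiniteField.isSquare_neg_one_iff]
        exact fun h => h hF
      have ha0 : a ≠ 0 := by
        rintro rfl
        exact h ⟨0, by simp⟩
      have e1 := (quadraticChar_neg_one_iff_not_isSquare).2 h
      have e2 := (quadraticChar_neg_one_iff_not_isSquare).2 h4
      have e3 : quadraticChar F (-a) = 1 := by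
        rw [show -a = -1 * a by ring, map_mul, e1, e2]
        norm_num
      exact (quadraticChar_one_iff_isSquare (neg_ne_zero.2 ha0)).1 e3
    obtain ⟨s, hs⟩ := h3
    exact ⟨s, Or.inr (by rw [← hs, neg_neg])⟩

/-- An involutory matrix is diagonalizable. -/
theorem frameInv (h2 : (2 : F) ≠ 0) (g : M4 F) (hg : g * g = 1) :
    ∃ (a : M4 F) (e : Fin 4 → F), a.det ≠ 0 ∧ (∀ i, e i = 1 ∨ e i = -1) ∧ g = a * diagonal e * a⁻¹ := by
  obtain ⟨k, l, b, hb1, hb2⟩ := LieL4.exists_basis h2 g hg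
  have hcard : Fintype.card (Fin 4) = Fintype.card (Fin k ⊕ Fin l) := by
    have h3 := Module.finrank_eq_card_basis b
    rw [Module.finrank_fintype_fun_eq_card] at h3
    exact h3
  obtain ⟨e0⟩ : Nonempty (Fin 4 ≃ Fin k ⊕ Fin l) := ⟨Fintype.equivOfCardEq hcard⟩
  set c := b.reindex e0.symm with hc
  set a : M4 F := Matrix.of fun i j => c j i with ha
  set e : Fin 4 → F := fun j => Sum.elim (fun _ => -1) (fun _ => 1) (e0 j) with he
  have hadet : a.det ≠ 0 := by
    have h3 : a = (Pi.basisFun F (Fin 4)).toMatrix c := by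
      ext i j
      simp [ha, Basis.toMatrix_apply]
    rw [h3]
    exact ((Pi.basisFun F (Fin 4)).isUnit_det c).ne_zero
  have hcj : ∀ j, g *ᵥ c j = e j • c j := by
    intro j
    rw [hc, Basis.reindex_apply, Equiv.symm_symm, he]
    change _ = (Sum.elim (fun _ => -1) (fun _ => 1) (e0 j) : F) • _
    rcases e0 j with i | i
    · rw [hb1]
      simp
    · rw [hb2]
      simp
  refine ⟨a, e, hadet, fun j => ?_, ?_⟩
  · change (Sum.elim (fun _ => -1) (fun _ => 1) (e0 j) : F) = 1 ∨ (Sum.elim (fun _ => -1) (fun _ => 1) (e0 j) : F) = -1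
    rcases e0 j with i | i
    · exact Or.inr rfl
    · exact Or.inl rfl
  · have h3 : g * a = a * diagonal e := by
      ext i j
      have h4 : (g * a) i j = (g *ᵥ c j) i := rfl
      rw [h4, hcj, mul_diagonal, ha]
      change e j * c j i = c j i * e j
      ring
    rw [← h3, mul_assoc, mul_nonsing_inv _ hadet.isUnit, mul_one]

/-- A symmetric matrix is congruent to a diagonal matrix. -/
theorem frameSym (h2 : (2 : F) ≠ 0) (h : M4 F) (hdet : h.det ≠ 0) (hh : hᵀ = h) :
    ∃ (a : M4 F) (e : Fin 4 → F), a.det ≠ 0 ∧ (∀ i, e i ≠ 0) ∧ h = a * diagonal e * aᵀ := by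
  have hinv : Invertible (2 : F) := invertibleOfNonzero h2
  have hsymm : (Matrix.toBilin' h).IsSymm := by
    refine ⟨fun x y => ?_⟩
    rw [Matrix.toBilin'_apply', Matrix.toBilin'_apply', dotProduct_mulVec, ← mulVec_transpose, hh,
      dotProduct_comm]
  obtain ⟨v, hv⟩ := LinearMap.BilinForm.exists_orthogonal_basis
    (LinearMap.BilinForm.isSymm_iff.1 hsymm)
  have hfr : finrank F (Fin 4 → F) = 4 := by simp
  obtain ⟨c, hc⟩ : ∃ c : Basis (Fin 4) F (Fin 4 → F), c = v.reindex (finCongr hfr) := ⟨_, rfl⟩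
  have hortho : ∀ i j, i ≠ j → c i ⬝ᵥ h *ᵥ c j = 0 := by
    intro i j hij
    have h3 := LinearMap.isOrthoᵢ_def.1 hv ((finCongr hfr).symm i) ((finCongr hfr).symm j)
      (fun h => hij ((finCongr hfr).symm.injective h))
    rw [hc, Basis.reindex_apply, Basis.reindex_apply, ← Matrix.toBilin'_apply']
    exact h3
  set V : M4 F := Matrix.of fun i j => c j i with hV
  have hVdet : V.det ≠ 0 := by
    have h3 : V = (Pi.basisFun F (Fin 4)).toMatrix c := by
      ext i j
      simp [hV, Basis.toMatrix_apply]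
    rw [h3]
    exact ((Pi.basisFun F (Fin 4)).isUnit_det c).ne_zero
  have hVT : IsUnit Vᵀ.det := by
    rw [det_transpose]
    exact hVdet.isUnit
  set e : Fin 4 → F := fun i => c i ⬝ᵥ h *ᵥ c i with he
  have h4 : Vᵀ * h * V = diagonal e := by
    ext i j
    have h5 : (Vᵀ * h * V) i j = c i ⬝ᵥ h *ᵥ c j := by
      rw [mul_assoc, Matrix.mul_apply]
      rfl
    rw [h5, diagonal_apply]
    by_cases hij : i = j
    · subst hij
      rw [if_pos rfl]
    · rw [if_neg hij, hortho i j hij]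
  have h5 : h = Vᵀ⁻¹ * diagonal e * (Vᵀ⁻¹)ᵀ := by
    rw [← h4, transpose_nonsing_inv, transpose_transpose]
    calc h = (Vᵀ⁻¹ * Vᵀ) * h * (V * V⁻¹) := by
          rw [nonsing_inv_mul _ hVT, mul_nonsing_inv _ hVdet.isUnit, one_mul, mul_one]
      _ = _ := by simp only [mul_assoc]
  refine ⟨Vᵀ⁻¹, e, ?_, ?_, h5⟩
  · exact (isUnit_nonsing_inv_det _ hVT).ne_zero
  · intro i hi
    have h6 := congrArg det h4
    rw [det_diagonal, Finset.prod_eq_zero (Finset.mem_univ i) hi, det_mul, det_mul, det_transpose] at h6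
    exact mul_ne_zero (mul_ne_zero hVdet hdet) hVdet h6

theorem iSq (h2 : (2 : F) ≠ 0) (g : M4 F) (hdet : g.det ≠ 0) (hg : g * g = -1) :
    ∃ s, s ≠ 0 ∧ g.det = s * s := by
  have h3 : (1 + g) * (1 + g) = (2 : F) • g := by
    rw [mul_add, add_mul, add_mul, hg, mul_one, one_mul, mul_one, two_smul]
    abel
  have h4 := congrArg det h3
  rw [det_mul, det_smul, Fintype.card_fin] at h4
  have h5 : g.det = ((1 + g).det / 4) * ((1 + g).det / 4) := by
    have h6 : (4 : F) ≠ 0 := by
      rw [show (4 : F) = 2 * 2 by norm_num]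
      exact mul_ne_zero h2 h2
    rw [div_mul_div_comm, h4, eq_div_iff (mul_ne_zero h6 h6)]
    ring
  refine ⟨(1 + g).det / 4, ?_, h5⟩
  intro h6
  rw [h6, mul_zero] at h5
  exact hdet h5

theorem skew (h2 : (2 : F) ≠ 0) (h : M4 F) (hdet : h.det ≠ 0) (hh : hᵀ = -h) :
    ∃ s, s ≠ 0 ∧ h.det = s * s := by
  obtain ⟨a, b, c, d, e, f, rfl⟩ := F5Uni.skew_form h2 hh
  have h3 := F5Uni.skew_det a b c d e f
  refine ⟨_, ?_, h3⟩
  intro h4
  rw [h4, mul_zero] at h3
  exact hdet h3

theorem good [Fintype F] (hF : Fintype.card F % 4 = 3) :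
    Good (fun A : M4 F => A.det ≠ 0) (fun c : F => c ≠ 0) where
  one := by rw [det_one]; exact one_ne_zero
  mul hA hB := by rw [det_mul]; exact mul_ne_zero hA hB
  det_ne h := h
  inv h := (isUnit_nonsing_inv_det _ h.isUnit).ne_zero
  tr h := by rw [det_transpose]; exact h
  det h := h
  diag d := by
    rw [det_diagonal, Finset.prod_ne_zero_iff]
    simp
  perm σ := by
    rw [det_permutation]
    intro h
    have h3 := Int.units_eq_one_or (Equiv.Perm.sign σ)
    rcases h3 with h3 | h3 <;> rw [h3] at h <;> simp at h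
  n_one := one_ne_zero
  n_neg := neg_ne_zero.2 one_ne_zero
  n_mul ha hb := mul_ne_zero ha hb
  n_inv ha := inv_ne_zero ha
  n_ne ha := ha
  n_sq {a} ha := by
    obtain ⟨s, hs⟩ := sq_or hF a
    refine ⟨s, ?_, hs⟩
    rintro rfl
    rcases hs with hs | hs <;> simp at hs <;> exact ha hs
  n_not {s} _ := sq_ne hF s
  frameInv g _ hg := frameInv (two_ne hF) g hg
  frameSym h hd hh := frameSym (two_ne hF) h hd hh
  iSq g hd hg := iSq (two_ne hF) g hd hg
  skew h hd hh := skew (two_ne hF) h hd hh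

end Cfsg.Agent.GH.Cov.F5L4Good
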