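import Mathlib
import Cfsg.Agent.Transfer.SL23Recog
import Cfsg.Agent.ClassicalGeometry.QuatPair
import Cfsg.Agent.LieClassical.SLTwoSylowTwo
import Cfsg.Agent.ClassificationK.SLTwoAction
import Cfsg.Agent.S0261

/-!
# Facts on `SL(2, q)`, `q` odd

`SLFacts c i j w` : `c` is the unique involution, central; `i, j, w` generate `SL(2,3)`,
`⟨i, j⟩ = Q₈`; `C(⟨i, j⟩) = ⟨c⟩`; no subgroup of index two; quaternion Sylow 2-subgroups.

`exists_sl` : this holds in `SL(2, K)` for every finite field `K` of odd order.
-/

set_option autoImplicit false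

namespace Cfsg.Agent.GH.Cov.SLTwoFacts

open Matrix Cfsg.Agent.Transfer.SL23Recog Cfsg.Agent.ClassicalGeometry.QuatPair

/-- The facts on `SL(2, q)`, `q` odd. -/
structure SLFacts {A : Type*} [Group A] (c i j w : A) : Prop where
  finite : Finite A
  cc : c * c = 1
  c_ne : c ≠ 1
  central : ∀ g, c * g = g * c
  uniq : ∀ g, g * g = 1 → g = 1 ∨ g = c
  ii : i * i = c
  jj : j * j = c
  rel : SLRel i j w
  w3 : w ^ 3 = 1
  cent : ∀ g, g * i = i * g → g * j = j * g → g = 1 ∨ g = c
  no_two : ∀ H : Subgroup A, H.index ≠ 2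
  sylow : ∀ P : Sylow 2 A, ∃ k : ℕ, 1 ≤ k ∧
    Nonempty ((P : Subgroup A) ≃* QuaternionGroup (2 ^ k))

namespace SLFacts

variable {A : Type*} [Group A] {c i j w : A}

theorem map {A' : Type*} [Group A'] (h : SLFacts c i j w) (e : A ≃* A') :
    SLFacts (e c) (e i) (e j) (e w) where
  finite := by have := h.finite; exact Finite.of_equiv A e.toEquiv
  cc := by rw [← map_mul, h.cc, map_one]
  c_ne := by rw [Ne, EmbeddingLike.map_eq_one_iff]; exact h.c_ne
  central g := by
    obtain ⟨g, rfl⟩ := e.surjective g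
    rw [← map_mul, ← map_mul, h.central]
  uniq g hg := by
    obtain ⟨g, rfl⟩ := e.surjective g
    rw [← map_mul, EmbeddingLike.map_eq_one_iff] at hg
    rcases h.uniq g hg with rfl | rfl
    · exact Or.inl (map_one e)
    · exact Or.inr rfl
  ii := by rw [← map_mul, h.ii]
  jj := by rw [← map_mul, h.jj]
  rel :=
    { hi := by rw [← map_pow, h.rel.hi, map_one]
      hj := by rw [← map_pow, h.rel.hj, map_pow]
      hji := by rw [← map_inv, ← map_mul, ← map_mul, h.rel.hji, map_inv]
      hti := by rw [← map_inv, ← map_mul, ← map_mul, h.rel.hti]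
      htj := by rw [← map_inv, ← map_mul, ← map_mul, h.rel.htj, map_mul] }
  w3 := by rw [← map_pow, h.w3, map_one]
  cent g hi hj := by
    obtain ⟨g, rfl⟩ := e.surjective g
    rw [← map_mul, ← map_mul, e.apply_eq_iff_eq] at hi hj
    rcases h.cent g hi hj with rfl | rfl
    · exact Or.inl (map_one e)
    · exact Or.inr rfl
  no_two H hH := by
    apply h.no_two (H.comap e.toMonoidHom)
    rw [← hH]
    exact Subgroup.index_comap_of_surjective H e.surjective
  sylow P := by
    have := h.finite
    have hP : (P : Subgroup A').map e.symm.toMonoidHom ≃* (P : Subgroup A') :=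
      ((P : Subgroup A').equivMapOfInjective _ e.symm.injective).symm
    have hp : IsPGroup 2 ((P : Subgroup A').map e.symm.toMonoidHom) := P.isPGroup'.map _
    obtain ⟨Q, hQ⟩ := hp.exists_le_sylow
    have hcard : Nat.card A = Nat.card A' := Nat.card_congr e.toEquiv
    have : Finite A' := Finite.of_equiv A e.toEquiv
    have hc : Nat.card Q = Nat.card P := by
      rw [Q.card_eq_multiplicity, P.card_eq_multiplicity, hcard]
    have heq : (P : Subgroup A').map e.symm.toMonoidHom = (Q : Subgroup A) := by
      apply Subgroup.eq_of_le_of_card_ge hQ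
      rw [Nat.card_congr hP.toEquiv]
      exact hc.le
    obtain ⟨k, hk, ⟨f⟩⟩ := h.sylow Q
    exact ⟨k, hk, ⟨(hP.symm.trans (MulEquiv.subgroupCongr heq)).trans f⟩⟩

theorem i_ne_j (h : SLFacts c i j w) : i ≠ j := by
  intro e
  have h1 := h.rel.hji
  rw [← e, mul_inv_cancel_right] at h1
  have h2 : i * i = 1 := by nth_rw 2 [h1]; exact mul_inv_cancel i
  exact h.c_ne (h.ii.symm.trans h2)

theorem j_notMem (h : SLFacts c i j w) : j ∉ Subgroup.zpowers i := by
  intro hj
  obtain ⟨k, hk⟩ := Subgroup.mem_zpowers_iff.1 hj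
  have h1 := h.rel.hji
  have h2 : j * i * j⁻¹ = i := by
    rw [← hk]; group
  rw [h2] at h1
  have h3 : i * i = 1 := by nth_rw 2 [h1]; exact mul_inv_cancel i
  exact h.c_ne (h.ii.symm.trans h3)

theorem orderOf_i (h : SLFacts c i j w) : orderOf i = 4 := by
  have h1 : orderOf i ∣ 2 ^ 2 := orderOf_dvd_of_pow_eq_one h.rel.hi
  have h2 : ¬ orderOf i ∣ 2 ^ 1 := by
    rw [orderOf_dvd_iff_pow_eq_one, pow_one, pow_two, h.ii]
    exact h.c_ne
  have : orderOf i ∣ 4 := h1
  have h3 : orderOf i ≤ 4 := Nat.le_of_dvd (by norm_num) this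
  have h4 : 0 < orderOf i := Nat.pos_of_dvd_of_pos this (by norm_num)
  interval_cases (orderOf i) <;> first | rfl | (exfalso; revert h1 h2; decide)

theorem orderOf_w (h : SLFacts c i j w) : orderOf w = 3 := by
  apply orderOf_eq_prime h.w3
  intro e
  have h1 := h.rel.hti
  rw [e, one_mul, inv_one, mul_one] at h1
  exact h.i_ne_j h1

theorem card_Q (h : SLFacts c i j w) : Nat.card (Subgroup.closure ({i, j} : Set A)) = 8 := by
  obtain ⟨hf, hle⟩ := h.rel.toQRel.card_le
  have hi : i ∈ Subgroup.closure ({i, j} : Set A) := Subgroup.subset_closure (by simp)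
  have hj : j ∈ Subgroup.closure ({i, j} : Set A) := Subgroup.subset_closure (by simp)
  have hz : Subgroup.zpowers i ≤ Subgroup.closure ({i, j} : Set A) :=
    (Subgroup.zpowers_le).2 hi
  have h1 : Nat.card (Subgroup.zpowers i) = 4 := by rw [Nat.card_zpowers, h.orderOf_i]
  have h2 : 4 ∣ Nat.card (Subgroup.closure ({i, j} : Set A)) := by
    rw [← h1]; exact Subgroup.card_dvd_of_le hz
  have h3 : Nat.card (Subgroup.closure ({i, j} : Set A)) ≠ 4 := by
    intro h4
    have h5 := Subgroup.eq_of_le_of_card_ge hz (by rw [h1, h4])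
    apply h.j_notMem
    rw [h5]; exact hj
  have h4 : 0 < Nat.card (Subgroup.closure ({i, j} : Set A)) := Nat.card_pos
  omega

theorem card_B (h : SLFacts c i j w) : Nat.card (Subgroup.closure ({i, j, w} : Set A)) = 24 := by
  obtain ⟨hf, hle⟩ := h.rel.card_le h.w3
  have h1 : Subgroup.closure ({i, j} : Set A) ≤ Subgroup.closure ({i, j, w} : Set A) :=
    Subgroup.closure_mono (by
      intro x hx
      rcases hx with rfl | hx
      · simp
      · rw [Set.mem_singleton_iff] at hx; subst hx; simp)
  have h2 : 8 ∣ Nat.card (Subgroup.closure ({i, j, w} : Set A)) := by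
    rw [← h.card_Q]; exact Subgroup.card_dvd_of_le h1
  have hw : w ∈ Subgroup.closure ({i, j, w} : Set A) := Subgroup.subset_closure (by simp)
  have h3 : 3 ∣ Nat.card (Subgroup.closure ({i, j, w} : Set A)) := by
    rw [← h.orderOf_w, ← Nat.card_zpowers]
    exact Subgroup.card_dvd_of_le ((Subgroup.zpowers_le).2 hw)
  have h4 : 24 ∣ Nat.card (Subgroup.closure ({i, j, w} : Set A)) :=
    Nat.Coprime.mul_dvd_of_dvd_of_dvd (by norm_num : Nat.Coprime 8 3) h2 h3
  exact le_antisymm hle (Nat.le_of_dvd Nat.card_pos h4)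

/-- `⟨i, j, w⟩ ≅ SL(2, 3)`. -/
theorem nonempty_B (h : SLFacts c i j w) :
    Nonempty (Subgroup.closure ({i, j, w} : Set A) ≃* SpecialLinearGroup (Fin 2) (ZMod 3)) := by
  have hi : i ∈ Subgroup.closure ({i, j, w} : Set A) := Subgroup.subset_closure (by simp)
  have hj : j ∈ Subgroup.closure ({i, j, w} : Set A) := Subgroup.subset_closure (by simp)
  have hw : w ∈ Subgroup.closure ({i, j, w} : Set A) := Subgroup.subset_closure (by simp)
  refine sl23_of_relations (i := (⟨i, hi⟩ : Subgroup.closure ({i, j, w} : Set A)))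
    (j := ⟨j, hj⟩) (t := ⟨w, hw⟩) ?_ (Subtype.ext h.w3) ?_ h.card_B
  · exact
      { hi := Subtype.ext h.rel.hi
        hj := Subtype.ext h.rel.hj
        hji := Subtype.ext h.rel.hji
        hti := Subtype.ext h.rel.hti
        htj := Subtype.ext h.rel.htj }
  · have h1 := Subgroup.closure_closure_coe_preimage (k := ({i, j, w} : Set A))
    rw [← h1]
    congr 1
    ext x
    rcases x with ⟨x, hx⟩
    simp [Subtype.ext_iff]

end SLFacts

section SL

variable {K : Type*} [Field K]

/-- The special linear group has no subgroup of index two (odd characteristic). -/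
theorem sl_index_ne_two [Finite K] (h2 : (2 : K) ≠ 0) (H : Subgroup (SpecialLinearGroup (Fin 2) K)) :
    H.index ≠ 2 := by
  intro hH
  have key : ∀ g : SpecialLinearGroup (Fin 2) K, g * g ∈ H := fun g => by
    have h1 := Subgroup.mul_self_mem_of_index_two hH g
    exact h1
  have hU : ∀ a : K, ClassificationK.SLTwoAction.U a ∈ H := by
    intro a
    have h1 := key (ClassificationK.SLTwoAction.U (a / 2))
    have h3 : ClassificationK.SLTwoAction.U (a / 2) * ClassificationK.SLTwoAction.U (a / 2) =
        ClassificationK.SLTwoAction.U a := by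
      apply Subtype.ext
      change !![1, a / 2; 0, 1] * !![1, a / 2; 0, 1] = !![1, a; 0, 1]
      ext i j
      fin_cases i <;> fin_cases j <;> simp [Matrix.mul_apply, Fin.sum_univ_two]
      rw [← two_mul]; exact mul_div_cancel₀ a h2
    rwa [h3] at h1
  have hL : ∀ a : K, ClassificationK.SLTwoAction.L a ∈ H := by
    intro a
    have h1 := key (ClassificationK.SLTwoAction.L (a / 2))
    have h3 : ClassificationK.SLTwoAction.L (a / 2) * ClassificationK.SLTwoAction.L (a / 2) =
        ClassificationK.SLTwoAction.L a := by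
      apply Subtype.ext
      change !![1, 0; a / 2, 1] * !![1, 0; a / 2, 1] = !![1, 0; a, 1]
      ext i j
      fin_cases i <;> fin_cases j <;> simp [Matrix.mul_apply, Fin.sum_univ_two]
      rw [← two_mul]; exact mul_div_cancel₀ a h2
    rwa [h3] at h1
  have h3 : H = ⊤ := by
    rw [eq_top_iff]
    intro M _
    exact ClassificationK.SLTwoAction.mem_of_elem H hU hL M
  rw [h3, Subgroup.index_top] at hH
  norm_num at hH

theorem two_ne_zero_of_odd [Fintype K] (hK : Odd (Fintype.card K)) : (2 : K) ≠ 0 := by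
  intro h
  have h1 : ringChar K = 2 := by
    have := (ringChar.spec K 2).1 (by exact_mod_cast h)
    exact (Nat.dvd_prime Nat.prime_two).1 this |>.resolve_left (CharP.ringChar_ne_one)
  have h2 := FiniteField.even_card_of_char_two h1
  rw [Nat.odd_iff] at hK
  omega

theorem exists_sl [Fintype K] (hK : Odd (Fintype.card K)) :
    ∃ c i j w : SpecialLinearGroup (Fin 2) K, SLFacts c i j w := by
  classical
  have h2 := two_ne_zero_of_odd hK
  obtain ⟨s, t, hst⟩ := exists_sq_add_sq_eq_neg_one (F := K) h2
  obtain ⟨r, hr⟩ : ∃ r : K, 2 * r = 1 := ⟨2⁻¹, mul_inv_cancel₀ h2⟩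
  let i : SpecialLinearGroup (Fin 2) K := ⟨!![0, 1; -1, 0], by simp [Matrix.det_fin_two]⟩
  let j : SpecialLinearGroup (Fin 2) K := ⟨!![s, t; t, -s], by
    rw [Matrix.det_fin_two_of]; linear_combination -hst⟩
  let w : SpecialLinearGroup (Fin 2) K :=
    ⟨!![r * (-1 - s - t), r * (-1 - t + s); r * (1 - t + s), r * (-1 + s + t)], by
      rw [Matrix.det_fin_two_of]
      linear_combination (-2 * r ^ 2) * hst + (2 * r + 1) * hr⟩
  have hi : (i : Matrix (Fin 2) (Fin 2) K) = !![0, 1; -1, 0] := rfl
  have hj : (j : Matrix (Fin 2) (Fin 2) K) = !![s, t; t, -s] := rfl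
  have hw : (w : Matrix (Fin 2) (Fin 2) K) =
    !![r * (-1 - s - t), r * (-1 - t + s); r * (1 - t + s), r * (-1 + s + t)] := rfl
  have hii : i * i = -1 := by
    apply Subtype.ext
    change (i : Matrix (Fin 2) (Fin 2) K) * (i : Matrix (Fin 2) (Fin 2) K) =
      ((-1 : SpecialLinearGroup (Fin 2) K) : Matrix (Fin 2) (Fin 2) K)
    rw [LieClassical.SLTwoSylowTwo.coe_neg_one, hi, Matrix.mul_fin_two]
    simp
  have hjj : j * j = -1 := by
    apply Subtype.ext
    change (j : Matrix (Fin 2) (Fin 2) K) * (j : Matrix (Fin 2) (Fin 2) K) =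
      ((-1 : SpecialLinearGroup (Fin 2) K) : Matrix (Fin 2) (Fin 2) K)
    rw [LieClassical.SLTwoSylowTwo.coe_neg_one, hj, Matrix.mul_fin_two]
    ext a b
    fin_cases a <;> fin_cases b <;> simp
    · linear_combination hst
    · ring
    · ring
    · linear_combination hst
  have hc1 : (-1 : SpecialLinearGroup (Fin 2) K) * -1 = 1 := by
    rw [neg_mul_neg, one_mul]
  have hcen : ∀ g : SpecialLinearGroup (Fin 2) K, -1 * g = g * -1 := fun g => by
    rw [neg_one_mul, mul_neg_one]
  have hwi : w * i = j * w := by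
    apply Subtype.ext
    change (w : Matrix (Fin 2) (Fin 2) K) * (i : Matrix (Fin 2) (Fin 2) K) =
      (j : Matrix (Fin 2) (Fin 2) K) * (w : Matrix (Fin 2) (Fin 2) K)
    rw [hi, hj, hw, Matrix.mul_fin_two, Matrix.mul_fin_two]
    ext a b
    fin_cases a <;> fin_cases b <;> simp
    · linear_combination r * hst
    · linear_combination (-r) * hst
    · linear_combination r * hst
    · linear_combination r * hst
  have hwj : w * j = i * j * w := by
    apply Subtype.ext
    change (w : Matrix (Fin 2) (Fin 2) K) * (j : Matrix (Fin 2) (Fin 2) K) =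
      (i : Matrix (Fin 2) (Fin 2) K) * (j : Matrix (Fin 2) (Fin 2) K) *
        (w : Matrix (Fin 2) (Fin 2) K)
    rw [hi, hj, hw, Matrix.mul_fin_two, Matrix.mul_fin_two, Matrix.mul_fin_two]
    ext a b
    fin_cases a <;> fin_cases b <;> simp
    · ring
    · ring
    · ring
    · ring
  have hw3 : w ^ 3 = 1 := by
    have h3 : w * w = w⁻¹ := by
      apply Subtype.ext
      rw [SpecialLinearGroup.SL2_inv_expl]
      change (w : Matrix (Fin 2) (Fin 2) K) * (w : Matrix (Fin 2) (Fin 2) K) =
        !![w.1 1 1, -w.1 0 1; -w.1 1 0, w.1 0 0]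
      rw [hw, Matrix.mul_fin_two]
      ext a b
      fin_cases a <;> fin_cases b <;> simp
      · linear_combination (2 * r ^ 2) * hst + r * (s + t - 1) * hr
      · linear_combination (-r) * (s - 1 - t) * hr
      · linear_combination (-r) * (1 - t + s) * hr
      · linear_combination (2 * r ^ 2) * hst + r * (-s - t - 1) * hr
    rw [pow_succ, pow_two, h3, inv_mul_cancel]
  have hij : i * j = -1 * (j * i) := by
    apply Subtype.ext
    rw [neg_one_mul]
    change (i : Matrix (Fin 2) (Fin 2) K) * (j : Matrix (Fin 2) (Fin 2) K) =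
      -((j : Matrix (Fin 2) (Fin 2) K) * (i : Matrix (Fin 2) (Fin 2) K))
    rw [hi, hj, Matrix.mul_fin_two, Matrix.mul_fin_two]
    ext a b
    fin_cases a <;> fin_cases b <;> simp
  refine ⟨-1, i, j, w, ?_⟩
  exact
    { finite := inferInstance
      cc := hc1
      c_ne := by
        intro e
        have h3 := congrArg (fun M : SpecialLinearGroup (Fin 2) K =>
          (M : Matrix (Fin 2) (Fin 2) K) 0 0) e
        simp only [LieClassical.SLTwoSylowTwo.coe_neg_one] at h3
        simp at h3
        apply h2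
        linear_combination (-1 : K) * h3
      central := hcen
      uniq := fun g hg => by
        by_cases h1 : g = 1
        · exact Or.inl h1
        · exact Or.inr (LieClassical.SLTwoSylowTwo.eq_neg_one_of_sq h2 g h1 (by rw [pow_two, hg]))
      ii := hii
      jj := hjj
      rel :=
        { hi := by
            rw [show (4 : ℕ) = 2 * 2 from rfl, pow_mul, pow_two, pow_two, hii, hc1]
          hj := by rw [pow_two, pow_two, hii, hjj]
          hji := by
            have h3 : i⁻¹ = -1 * i := by
              rw [inv_eq_iff_mul_eq_one, ← mul_assoc, ← hcen, mul_assoc, hii, hc1]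
            have h4 : j * i = -1 * (i * j) := by
              rw [hij, ← mul_assoc, hc1, one_mul]
            rw [h3, h4, mul_assoc, mul_assoc, mul_inv_cancel, mul_one]
          hti := by rw [hwi, mul_inv_cancel_right]
          htj := by rw [hwj, mul_inv_cancel_right] }
      w3 := hw3
      cent := fun g hgi hgj => by
        have hp : IsPair (i : Matrix (Fin 2) (Fin 2) K) (j : Matrix (Fin 2) (Fin 2) K) := by
          have hn : ((-1 : SpecialLinearGroup (Fin 2) K) : Matrix (Fin 2) (Fin 2) K) = -1 := rfl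
          refine ⟨?_, ?_, ?_⟩
          · exact (congrArg Subtype.val hii).trans hn
          · exact (congrArg Subtype.val hjj).trans hn
          · have h3 := congrArg Subtype.val hij
            rw [neg_one_mul] at h3
            exact h3
        obtain ⟨a, ha⟩ := hp.commutant h2 (g := (g : Matrix (Fin 2) (Fin 2) K))
          (congrArg Subtype.val hgi) (congrArg Subtype.val hgj)
        have hdet := g.2
        rw [ha, Matrix.det_smul, Matrix.det_one, mul_one, Fintype.card_fin] at hdet
        have h3 : (a - 1) * (a + 1) = 0 := by linear_combination hdet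
        rcases mul_eq_zero.1 h3 with h4 | h4
        · left
          apply Subtype.ext
          rw [ha, sub_eq_zero.1 h4, one_smul]; rfl
        · right
          apply Subtype.ext
          rw [ha, eq_neg_of_add_eq_zero_left h4, neg_one_smul]; rfl
      no_two := sl_index_ne_two h2
      sylow := fun P => Cfsg.Agent.S0261.result hK P }

end SL

end Cfsg.Agent.GH.Cov.SLTwoFacts
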