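import Mathlib
import Cfsg.Agent.GH.Cov.LieData
import Cfsg.Agent.GH.Cov.SLTwoFacts
import Cfsg.Agent.GH.Cov.LieL4
import Cfsg.Agent.GH.Cov.SLCore
import Cfsg.Agent.ClassificationK.SLTwoAction
import Cfsg.Agent.LFourA.FieldInv

/-!
# `PSL(4, F)`, `|F| ≡ 3 mod 4`: the core data (F1)-(F4)
-/

set_option autoImplicit false

open Matrix Module
open Cfsg.Agent.GH.Cov.LieData Cfsg.Agent.GH.Cov.SLTwoFacts Cfsg.Agent.GH.Cov.LieL4
open Cfsg.Agent.ClassificationK

namespace Cfsg.Agent.GH.Cov.LieL4Core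

variable {F : Type*} [Field F]

theorem neg_one_ne (h2 : (2 : F) ≠ 0) : (-1 : S2 F) ≠ 1 := by
  intro h
  have h3 := congrArg (fun x : S2 F => x.1 0 0) h
  have h4 : (-1 : F) = 1 := h3
  apply h2
  linear_combination -h4

theorem m1_ne_one (h2 : (2 : F) ≠ 0) : (m1 : S4 F) ≠ 1 := by
  intro h
  rw [← blk_one] at h
  exact neg_one_ne h2 (blk_inj h).1

theorem m1_mul_T : (m1 : S4 F) * T = blk 1 (-1) := by
  rw [m1, T, blk_mul]
  simp

theorem T_sq : (T : S4 F) * T = 1 := by
  rw [T, blk_mul]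
  simp [blk_one]

theorem T_ne_one (h2 : (2 : F) ≠ 0) : (T : S4 F) ≠ 1 := by
  intro h
  rw [← blk_one] at h
  exact neg_one_ne h2 (blk_inj h).1

theorem T_ne_m1 (h2 : (2 : F) ≠ 0) : (T : S4 F) ≠ m1 := by
  intro h
  exact neg_one_ne h2 (blk_inj h).2.symm

/-- `ker π = {1, -1}`. -/
structure Quot (L : Type*) [Group L] (π : S4 F →* L) : Prop where
  surj : Function.Surjective π
  ker : ∀ g, π g = 1 ↔ g = 1 ∨ g = m1

section quot

variable {L : Type*} [Group L] {π : S4 F →* L} (hπ : Quot L π)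

include hπ

theorem map_m1 : π m1 = 1 := (hπ.ker _).2 (Or.inr rfl)

theorem map_eq_iff {g h : S4 F} : π g = π h ↔ g = h ∨ g = m1 * h := by
  constructor
  · intro h3
    have h4 : π (g * h⁻¹) = 1 := by rw [map_mul, map_inv, h3, mul_inv_cancel]
    rcases (hπ.ker _).1 h4 with h5 | h5
    · exact Or.inl (mul_inv_eq_one.1 h5)
    · right
      rw [← h5, inv_mul_cancel_right]
  · rintro (rfl | rfl)
    · rfl
    · rw [map_mul, map_m1 hπ, one_mul]

theorem b1_inj (h2 : (2 : F) ≠ 0) {a b : S2 F} (h : π (b1 a) = π (b1 b)) : a = b := by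
  rcases (map_eq_iff hπ).1 h with h3 | h3
  · exact (blk_inj h3).1
  · exfalso
    rw [m1, b1_apply, b1_apply, blk_mul] at h3
    have h4 := (blk_inj h3).2
    rw [mul_one] at h4
    exact neg_one_ne h2 h4.symm

theorem b2_inj (h2 : (2 : F) ≠ 0) {a b : S2 F} (h : π (b2 a) = π (b2 b)) : a = b := by
  rcases (map_eq_iff hπ).1 h with h3 | h3
  · exact (blk_inj h3).2
  · exfalso
    rw [m1, b2_apply, b2_apply, blk_mul] at h3
    have h4 := (blk_inj h3).1
    rw [mul_one] at h4
    exact neg_one_ne h2 h4.symm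

theorem map_b2_neg_one : π (b2 (-1)) = π T := by
  rw [map_eq_iff hπ]
  right
  rw [m1_mul_T, b2_apply]

end quot

/-! ### generation by elements of odd order -/

theorem U_pow (c : F) (n : ℕ) : SLTwoAction.U c ^ n = SLTwoAction.U (n * c) := by
  induction n with
  | zero =>
    apply Subtype.ext
    change (1 : Matrix (Fin 2) (Fin 2) F) = !![1, (0 : ℕ) * c; 0, 1]
    ext i j
    fin_cases i <;> fin_cases j <;> simp
  | succ n ih =>
    rw [pow_succ, ih]
    apply Subtype.ext
    change !![1, (n : F) * c; 0, 1] * !![1, c; 0, 1] = !![1, ((n + 1 : ℕ) : F) * c; 0, 1]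
    ext i j
    fin_cases i <;> fin_cases j <;> simp
    ring

theorem L_pow (c : F) (n : ℕ) : SLTwoAction.L c ^ n = SLTwoAction.L (n * c) := by
  induction n with
  | zero =>
    apply Subtype.ext
    change (1 : Matrix (Fin 2) (Fin 2) F) = !![1, 0; (0 : ℕ) * c, 1]
    ext i j
    fin_cases i <;> fin_cases j <;> simp
  | succ n ih =>
    rw [pow_succ, ih]
    apply Subtype.ext
    change !![1, 0; (n : F) * c, 1] * !![1, 0; c, 1] = !![1, 0; ((n + 1 : ℕ) : F) * c, 1]
    ext i j
    fin_cases i <;> fin_cases j <;> simp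
    ring

/-- The image of `SL₂(F)`, `|F|` odd, is generated by elements of odd order. -/
theorem range_le_closure [Fintype F] (hF : Odd (Fintype.card F)) {L : Type*} [Group L] (f : S2 F →* L) :
    f.range ≤ Subgroup.closure {a : L | a ∈ f.range ∧ Odd (orderOf a)} := by
  have hcard : ((Fintype.card F : ℕ) : F) = 0 := Nat.cast_card_eq_zero F
  rintro _ ⟨x, rfl⟩
  have h1 : x ∈ (Subgroup.closure {a : L | a ∈ f.range ∧ Odd (orderOf a)}).comap f := by
    refine SLTwoAction.mem_of_elem _ (fun c => ?_) (fun c => ?_) x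
    · rw [Subgroup.mem_comap]
      refine Subgroup.subset_closure ⟨⟨_, rfl⟩, ?_⟩
      have h2 : f (SLTwoAction.U c) ^ Fintype.card F = 1 := by
        rw [← map_pow, U_pow, hcard, zero_mul, ← map_one f]
        congr 1
        apply Subtype.ext
        change !![1, (0 : F); 0, 1] = (1 : Matrix (Fin 2) (Fin 2) F)
        ext i j
        fin_cases i <;> fin_cases j <;> simp
      exact hF.of_dvd_nat (orderOf_dvd_of_pow_eq_one h2)
    · rw [Subgroup.mem_comap]
      refine Subgroup.subset_closure ⟨⟨_, rfl⟩, ?_⟩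
      have h2 : f (SLTwoAction.L c) ^ Fintype.card F = 1 := by
        rw [← map_pow, L_pow, hcard, zero_mul, ← map_one f]
        congr 1
        apply Subtype.ext
        change !![1, 0; (0 : F), 1] = (1 : Matrix (Fin 2) (Fin 2) F)
        ext i j
        fin_cases i <;> fin_cases j <;> simp
      exact hF.of_dvd_nat (orderOf_dvd_of_pow_eq_one h2)
  exact h1

/-- The centralizer of a quaternion pair in `SL₂(F)`. -/
theorem eq_of_comm (h2 : (2 : F) ≠ 0) {u v a : S2 F} (hu : u * u = -1) (hv : v * v = -1)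
    (huv : v * u = -1 * (u * v)) (hau : a * u = u * a) (hav : a * v = v * a) : a = 1 ∨ a = -1 := by
  have h3 : a.1 = a.1 0 0 • (1 : Matrix (Fin 2) (Fin 2) F) := by
    refine LFourA.FieldInv.scalar_of_quat h2 hv hu ?_ (congrArg Subtype.val hav)
      (congrArg Subtype.val hau)
    rw [huv, neg_one_mul]
  set c := a.1 0 0 with hc
  have h4 : c * c = 1 := by
    have h5 := a.2
    rw [h3, det_smul, det_one, Fintype.card_fin, mul_one] at h5
    rw [← h5, sq]
  have h5 : (c - 1) * (c + 1) = 0 := by linear_combination h4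
  rcases mul_eq_zero.1 h5 with h6 | h6
  · left
    apply Subtype.ext
    rw [h3, sub_eq_zero.1 h6, one_smul]
    rfl
  · right
    apply Subtype.ext
    rw [h3, eq_neg_of_add_eq_zero_left h6, neg_one_smul]
    rfl

/-! ### the centralizer of `t` in the quotient -/

theorem anti_ne (h2 : (2 : F) ≠ 0) {g : S4 F} (h : g * T = m1 * (T * g)) : g * T ≠ T * g := by
  intro h'
  have h3 : (m1 : S4 F) * (T * g) = 1 * (T * g) := by
    rw [← h, one_mul]
    exact h'
  exact m1_ne_one h2 (mul_right_cancel h3)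

theorem conj_SS_mem (h2 : (2 : F) ≠ 0) {g : S4 F} (hg : g * T = T * g ∨ g * T = m1 * (T * g)) {x : S4 F}
    (hx : x ∈ SS F) : g * x * g⁻¹ ∈ SS F := by
  have key : ∀ g ∈ Dg F, ∀ x ∈ SS F, g * x * g⁻¹ ∈ SS F := by
    intro g hg x hx
    have hxD := SS_le_Dg h2 hx
    have h3 : ((⟨g, hg⟩ * ⟨x, hxD⟩ * ⟨g, hg⟩⁻¹ : Dg F) : S4 F) = g * x * g⁻¹ := rfl
    rw [← h3, mem_SS_iff h2, map_mul, map_mul, (mem_SS_iff h2 ⟨x, hxD⟩).1 hx, mul_one, ← map_mul,
      mul_inv_cancel, map_one]
  rcases hg with hg | hg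
  · exact key g (Subgroup.mem_centralizer_singleton_iff.2 hg) x hx
  · obtain ⟨a, b, h3⟩ := key _ (W_mul_mem_Dg h2 hg) x hx
    refine ⟨b, a, ?_⟩
    have h4 : g * x * g⁻¹ = W⁻¹ * (W * g * x * (W * g)⁻¹) * W := by group
    rw [h4, h3, mul_assoc, ← W_blk, ← mul_assoc, inv_mul_cancel, one_mul]

section cent

variable {L : Type*} [Group L] {π : S4 F →* L}

/-- The image of the block diagonal matrices. -/
theorem range_sup : (π.comp b1).range ⊔ (π.comp b2).range = (SS F).map π := by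
  apply le_antisymm
  · refine sup_le ?_ ?_
    · rintro _ ⟨a, rfl⟩
      exact ⟨b1 a, ⟨a, 1, rfl⟩, rfl⟩
    · rintro _ ⟨a, rfl⟩
      exact ⟨b2 a, ⟨1, a, rfl⟩, rfl⟩
  · rintro _ ⟨_, ⟨a, b, rfl⟩, rfl⟩
    rw [← b1_mul_b2, map_mul]
    exact Subgroup.mul_mem_sup ⟨a, rfl⟩ ⟨b, rfl⟩

variable (hπ : Quot L π)

include hπ

theorem comm_iff {g : S4 F} : π g * π T = π T * π g ↔ g * T = T * g ∨ g * T = m1 * (T * g) := by
  rw [← map_mul, ← map_mul, map_eq_iff hπ]

theorem not_eight_dvd [Fintype F] (hF : Fintype.card F % 4 = 3) (h2 : (2 : F) ≠ 0) :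
    ¬ 8 ∣ ((SS F).map π).relIndex (Subgroup.centralizer {π T}) := by
  have h3 : (SS F).map π ≤ (Dg F).map π := Subgroup.map_mono (SS_le_Dg h2)
  have h4 : (Dg F).map π ≤ Subgroup.centralizer {π T} := by
    rintro _ ⟨g, hg, rfl⟩
    rw [Subgroup.mem_centralizer_singleton_iff]
    exact (comm_iff hπ).2 (Or.inl (Subgroup.mem_centralizer_singleton_iff.1 hg))
  rw [← Subgroup.relIndex_mul_relIndex _ _ _ h3 h4]
  have h5 : ((SS F).map π).relIndex ((Dg F).map π) ∣ Fintype.card F - 1 := by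
    have h6 : π.ker ≤ SS F := by
      intro g hg
      rcases (hπ.ker g).1 hg with rfl | rfl
      · exact one_mem _
      · exact ⟨_, _, rfl⟩
    rw [Subgroup.relIndex_map_map, sup_eq_left.2 h6, sup_eq_left.2 (h6.trans (SS_le_Dg h2))]
    exact SS_relIndex_dvd h2
  have h6 : ((Dg F).map π).relIndex (Subgroup.centralizer {π T}) = 2 := by
    rw [Subgroup.relIndex, Subgroup.index_eq_two_iff]
    have hW : (W : S4 F) * T = m1 * (T * W) := by
      rw [anti_T_iff h2, coe_W, toBlocks_fromBlocks₁₁, toBlocks_fromBlocks₂₂]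
      exact ⟨rfl, rfl⟩
    have hmem : ∀ g : S4 F, π g ∈ (Dg F).map π ↔ g ∈ Dg F := by
      intro g
      constructor
      · rintro ⟨x, hx, hxg⟩
        rcases (map_eq_iff hπ).1 hxg with rfl | rfl
        · exact hx
        · have hm : (m1 : S4 F) ∈ Dg F := Subgroup.mem_centralizer_singleton_iff.2 (m1_comm T)
          have := (Dg F).mul_mem hm hx
          rwa [← mul_assoc, m1_sq, one_mul] at this
      · intro hg
        exact ⟨g, hg, rfl⟩
    have hWD : (W : S4 F) ∉ Dg F := by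
      intro h
      exact anti_ne h2 hW (Subgroup.mem_centralizer_singleton_iff.1 h)
    have hWC : π W ∈ Subgroup.centralizer {π (T : S4 F)} :=
      Subgroup.mem_centralizer_singleton_iff.2 ((comm_iff hπ).2 (Or.inr hW))
    refine ⟨⟨π W, hWC⟩, ?_⟩
    rintro ⟨b, hb⟩
    obtain ⟨g, rfl⟩ := hπ.surj b
    have hb' := (comm_iff hπ).1 (Subgroup.mem_centralizer_singleton_iff.1 hb)
    have e1 : ((⟨π g, hb⟩ : Subgroup.centralizer {π (T : S4 F)}) * ⟨π W, hWC⟩ ∈
        ((Dg F).map π).subgroupOf (Subgroup.centralizer {π T})) ↔ g * W ∈ Dg F := by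
      rw [Subgroup.mem_subgroupOf, ← hmem, map_mul]
      rfl
    have e2 : ((⟨π g, hb⟩ : Subgroup.centralizer {π (T : S4 F)}) ∈
        ((Dg F).map π).subgroupOf (Subgroup.centralizer {π T})) ↔ g ∈ Dg F := by
      rw [Subgroup.mem_subgroupOf, ← hmem]
    rw [e1, e2]
    rcases hb' with h7 | h7
    · refine Or.inr ⟨Subgroup.mem_centralizer_singleton_iff.2 h7, ?_⟩
      intro h8
      apply hWD
      have h9 := (Dg F).mul_mem ((Dg F).inv_mem (Subgroup.mem_centralizer_singleton_iff.2 h7)) h8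
      rwa [inv_mul_cancel_left] at h9
    · have h8 : g ∉ Dg F := by
        intro h
        exact anti_ne h2 h7 (Subgroup.mem_centralizer_singleton_iff.1 h)
      refine Or.inl ⟨?_, h8⟩
      rw [Dg, Subgroup.mem_centralizer_singleton_iff]
      calc g * W * T = g * (W * T) := mul_assoc _ _ _
        _ = g * (m1 * (T * W)) := by rw [hW]
        _ = m1 * (g * T) * W := by rw [← mul_assoc, ← m1_comm, mul_assoc, mul_assoc, mul_assoc]
        _ = m1 * (m1 * (T * g)) * W := by rw [h7]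
        _ = T * (g * W) := by rw [← mul_assoc, m1_sq, one_mul, mul_assoc]
  rw [h6]
  intro h8
  have h9 : 8 ∣ (Fintype.card F - 1) * 2 := h8.trans (Nat.mul_dvd_mul_right h5 2)
  omega

end cent

/-! ### the core data -/

section core

variable {L : Type*} [Group L]

theorem trip_of {A : Type*} [Group A] {c i j w : A} (h : SLFacts c i j w) (f : A →* L) :
    Trip (f c) (f i) (f j) (f w) where
  ii := by rw [← map_mul, h.ii]
  jj := by rw [← map_mul, h.jj]
  ji := by
    have h1 : j * i = c * (i * j) := by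
      have h3 := h.rel.hji
      have h4 : i⁻¹ = c * i := by
        rw [inv_eq_iff_mul_eq_one, ← mul_assoc, ← h.central, mul_assoc, h.ii, h.cc]
      rw [h4, mul_inv_eq_iff_eq_mul] at h3
      rw [h3, mul_assoc]
    rw [← map_mul, h1, map_mul, map_mul]
  d3 := by
    have h1 := h.w3
    rw [pow_succ, pow_two] at h1
    rw [← map_mul, ← map_mul, h1, map_one]
  di := by rw [← map_inv, ← map_mul, ← map_mul, h.rel.hti]
  dj := by rw [← map_inv, ← map_mul, ← map_mul, h.rel.htj, map_mul]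

/-- (F1)-(F4) for `L = SL₄(F) / {1, -1}`. -/
noncomputable def core [Fintype F] (hF : Fintype.card F % 4 = 3) (π : S4 F →* L) (hπ : Quot L π) (i j w : S2 F)
    (h : SLFacts (-1) i j w) : Core L :=
  have hodd : Odd (Fintype.card F) := Nat.odd_iff.2 (by omega)
  have h2 : (2 : F) ≠ 0 := two_ne_zero_of_odd hodd
  have h1 : ∀ a : F, a * a ≠ -1 := by
    intro a ha
    have h3 : IsSquare (-1 : F) := ⟨a, ha.symm⟩
    rw [FiniteField.isSquare_neg_one_iff] at h3
    exact h3 hF
  { t := π T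
    i₁ := π (b1 i)
    j₁ := π (b1 j)
    d₁ := π (b1 w)
    i₂ := π (b2 i)
    j₂ := π (b2 j)
    d₂ := π (b2 w)
    A₁ := (π.comp b1).range
    A₂ := (π.comp b2).range
    tt := by rw [← map_mul, T_sq, map_one]
    t_ne := by
      intro h3
      rcases (hπ.ker _).1 h3 with h4 | h4
      · exact T_ne_one h2 h4
      · exact T_ne_m1 h2 h4
    trip₁ := trip_of h (π.comp b1)
    trip₂ := by
      have h3 := trip_of h (π.comp b2)
      have h4 : (π.comp b2) (-1) = π T := map_b2_neg_one hπ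
      rw [h4] at h3
      exact h3
    i₁_mem := ⟨_, rfl⟩
    j₁_mem := ⟨_, rfl⟩
    d₁_mem := ⟨_, rfl⟩
    i₂_mem := ⟨_, rfl⟩
    j₂_mem := ⟨_, rfl⟩
    d₂_mem := ⟨_, rfl⟩
    comm := by
      rintro _ ⟨a, rfl⟩ _ ⟨b, rfl⟩
      change π (b1 a) * π (b2 b) = π (b2 b) * π (b1 a)
      rw [← map_mul, ← map_mul, b1_comm_b2]
    inv₁ := by
      rintro _ ⟨a, rfl⟩ ha
      have h3 : π (b1 (a * a)) = π (b1 1) := by
        rw [map_mul, map_mul, map_one, map_one]
        exact ha
      rcases h.uniq a (b1_inj hπ h2 h3) with rfl | rfl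
      · left
        exact map_one (π.comp b1)
      · right
        rfl
    inv₂ := by
      rintro _ ⟨a, rfl⟩ ha
      have h3 : π (b2 (a * a)) = π (b2 1) := by
        rw [map_mul, map_mul, map_one, map_one]
        exact ha
      rcases h.uniq a (b2_inj hπ h2 h3) with rfl | rfl
      · left
        exact map_one (π.comp b2)
      · right
        exact map_b2_neg_one hπ
    gen₁ := range_le_closure hodd _
    gen₂ := range_le_closure hodd _
    cent₂ := by
      rintro _ ⟨u, rfl⟩ hu _ ⟨a, rfl⟩ _ ⟨b, rfl⟩ ha hb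
      have h3 : u * u ≠ 1 := by
        intro h4
        apply hu
        rw [← map_mul, h4, map_one]
      rw [← map_mul, ← map_mul] at ha hb ⊢
      have h4 : a * u = u * a := b2_inj hπ h2 ha
      have h5 : b * u = u * b := b2_inj hπ h2 hb
      rw [SLCore.sl2_comm h3 h4 h5]
    invol := by
      intro u hu hu1
      obtain ⟨g, rfl⟩ := hπ.surj u
      rw [← map_mul] at hu
      rcases (hπ.ker _).1 hu with h3 | h3
      · left
        have hg1 : g ≠ 1 := by
          rintro rfl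
          exact hu1 (map_one π)
        have hg2 : g ≠ m1 := by
          rintro rfl
          exact hu1 ((hπ.ker _).2 (Or.inr rfl))
        obtain ⟨x, hx⟩ := conj_of_sq h2 h3 hg1 hg2
        refine IsConj.symm (isConj_iff.2 ⟨π x, ?_⟩)
        rw [← map_inv, ← map_mul, ← map_mul, hx]
        rfl
      · right
        obtain ⟨x, hx⟩ := conj_of_sq' (by omega) h1 h3 h.ii h.ii
        refine IsConj.symm (isConj_iff.2 ⟨π x, ?_⟩)
        rw [← map_inv, ← map_mul, ← map_mul, hx, ← map_mul, b1_mul_b2]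
    swap := by
      refine ⟨π W, ?_⟩
      rw [← map_inv, ← map_mul, ← map_mul, b1_apply, W_conj, b2_apply]
    norm := by
      intro g hg a ha
      obtain ⟨g, rfl⟩ := hπ.surj g
      rw [range_sup] at ha ⊢
      obtain ⟨x, hx, rfl⟩ := ha
      refine ⟨g * x * g⁻¹, conj_SS_mem h2 ((comm_iff hπ).1 hg) hx, ?_⟩
      rw [map_mul, map_mul, map_inv]
    index := by
      rw [range_sup]
      exact not_eight_dvd hπ hF h2 }

end core

/-! ### `PSL(4, F)` -/

theorem sq_ne [Fintype F] (hF : Fintype.card F % 4 = 3) (a : F) : a * a ≠ -1 := by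
  intro ha
  have h3 : IsSquare (-1 : F) := ⟨a, ha.symm⟩
  rw [FiniteField.isSquare_neg_one_iff] at h3
  exact h3 hF

/-- The projection `SL (Fin 2 ⊕ Fin 2) F → PSL (Fin 4) F`. -/
noncomputable def proj (F : Type*) [Field F] : S4 F →* ProjectiveSpecialLinearGroup (Fin 4) F :=
  (pslEquiv (F := F)).symm.toMonoidHom.comp (QuotientGroup.mk' (Subgroup.center (S4 F)))

/-- In terms of the `Fin 4` model. -/
theorem proj_reindex (g : SpecialLinearGroup (Fin 4) F) :
    proj F (slReindex (F := F) (finSumFinEquiv (m := 2) (n := 2)).symm g) =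
      QuotientGroup.mk' (Subgroup.center (SpecialLinearGroup (Fin 4) F)) g := by
  change (pslEquiv (F := F)).symm _ = _
  rw [MulEquiv.symm_apply_eq]
  rfl

theorem quot_proj [Fintype F] (hF : Fintype.card F % 4 = 3) : Quot _ (proj F) where
  surj := (pslEquiv (F := F)).symm.surjective.comp (QuotientGroup.mk'_surjective _)
  ker g := by
    rw [← mem_center_iff (sq_ne hF)]
    change (pslEquiv (F := F)).symm _ = 1 ↔ _
    rw [EmbeddingLike.map_eq_one_iff]
    exact QuotientGroup.eq_one_iff g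

/-- `SLFacts` with `c = -1`. -/
theorem exists_facts [Fintype F] (hF : Odd (Fintype.card F)) : ∃ i j w : S2 F, SLFacts (-1) i j w := by
  obtain ⟨c, i, j, w, h⟩ := exists_sl hF
  rcases h.uniq (-1) (by rw [neg_mul_neg, one_mul]) with h3 | h3
  · exact absurd h3 (neg_one_ne (two_ne_zero_of_odd hF))
  · exact ⟨i, j, w, h3 ▸ h⟩

/-- (F1)-(F4) for `PSL(4, F)`, `|F| ≡ 3 mod 4`. -/
theorem exists_core [Fintype F] (hF : Fintype.card F % 4 = 3) :
    ∃ (i j w : S2 F) (_ : SLFacts (-1) i j w) (D : Core (ProjectiveSpecialLinearGroup (Fin 4) F)),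
      D.t = proj F T ∧ D.i₁ = proj F (b1 i) ∧ D.j₁ = proj F (b1 j) ∧ D.d₁ = proj F (b1 w) ∧
      D.i₂ = proj F (b2 i) ∧ D.j₂ = proj F (b2 j) ∧ D.d₂ = proj F (b2 w) ∧
      D.A₁ = ((proj F).comp b1).range ∧ D.A₂ = ((proj F).comp b2).range := by
  obtain ⟨i, j, w, h⟩ := exists_facts (F := F) (Nat.odd_iff.2 (by omega))
  exact ⟨i, j, w, h, core hF (proj F) (quot_proj hF) i j w h, rfl, rfl, rfl, rfl, rfl, rfl, rfl, rfl, rfl⟩

end Cfsg.Agent.GH.Cov.LieL4Core
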