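import Mathlib
import Cfsg.Agent.GH.Cov.F5L4Good
import Cfsg.Agent.GH.Cov.LieL4Core
import Cfsg.Agent.ClassicalGeometry.AutPSL.Main
import Cfsg.Agent.Lib.FieldAutCard
import Cfsg.Agent.S0265

/-!
# GH-COV, (F5a) for `PSL(4, F)`, `|F| ≡ 3 mod 4`: the outer automorphism group
-/

set_option autoImplicit false

open Matrix Module
open Cfsg.Agent.GH.Cov.F5Core Cfsg.Agent.GH.Cov.LieData Cfsg.Agent.GH.Cov.SLTwoFacts
open Cfsg.Agent.GH.Cov.LieL4 Cfsg.Agent.GH.Cov.LieL4Core
open Cfsg.Agent.ClassicalGeometry.AutPSL.Root Cfsg.Agent.ClassicalGeometry.AutPSL.Auto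
open Cfsg.Agent.ClassicalGeometry.AutPSL.Main

namespace Cfsg.Agent.GH.Cov.F5L4Out

variable {F : Type*} [Field F]

/-- `L = PSL(4, F)`. -/
abbrev PL (F : Type*) [Field F] := ProjectiveSpecialLinearGroup (Fin 4) F

/-- `SL(4, F)`. -/
abbrev SF (F : Type*) [Field F] := SpecialLinearGroup (Fin 4) F

/-- The inner automorphisms. -/
abbrev Inn (L : Type*) [Group L] : Subgroup (MulAut L) := (MulAut.conj : L →* MulAut L).range

/-- Inner automorphisms of `PSL`. -/
theorem lift_cj_toGL (u : SF F) : lift (cj (SpecialLinearGroup.toGL u)) = MulAut.conj (pr u) := by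
  apply MulEquiv.ext
  intro x
  obtain ⟨x, rfl⟩ := pr_surjective x
  rw [lift_pr, MulAut.conj_apply, ← map_inv, ← map_mul, ← map_mul]
  congr 1

theorem pow_mod_four {x : ℕ} (hx : x % 4 = 0 ∨ x % 4 = 1) (k : ℕ) : x ^ k % 4 = 0 ∨ x ^ k % 4 = 1 := by
  induction k with
  | zero => right; simp
  | succ k ih =>
    rw [pow_succ, Nat.mul_mod]
    rcases hx with h4 | h4 <;> rcases ih with ih | ih <;> simp [h4, ih]

theorem odd_card_aut [Fintype F] (hF : Fintype.card F % 4 = 3) : Odd (Nat.card (F ≃+* F)) := by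
  obtain ⟨p, hp⟩ := CharP.exists F
  obtain ⟨n, hp', hn⟩ := FiniteField.card F p
  have : Fact p.Prime := ⟨hp'⟩
  rw [Lib.FieldAutCard.card_ringAut n.pos hn]
  rcases Nat.even_or_odd (n : ℕ) with h | h
  · exfalso
    obtain ⟨k, hk⟩ := h
    rw [hn, hk, ← two_mul, pow_mul] at hF
    have h4 : p ^ 2 % 4 = 0 ∨ p ^ 2 % 4 = 1 := by
      have h5 : p % 4 = 0 ∨ p % 4 = 1 ∨ p % 4 = 2 ∨ p % 4 = 3 := by omega
      rcases h5 with h5 | h5 | h5 | h5 <;> simp [Nat.pow_mod, h5]
    have h3 := pow_mod_four h4 k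
    omega
  · exact h

theorem finite_PL [Finite F] : Finite (PL F) := Finite.of_surjective _ pr_surjective

theorem conj_injective : Function.Injective (MulAut.conj : PL F →* MulAut (PL F)) := by
  rw [injective_iff_map_eq_one]
  intro x hx
  obtain ⟨u, rfl⟩ := pr_surjective x
  rw [← lift_cj_toGL] at hx
  have h1 : lift (cj (SpecialLinearGroup.toGL u) * fld (1 : F ≃+* F)) = lift (fld 1) := by
    rw [map_one, mul_one, hx, map_one]
  obtain ⟨⟨r, hr⟩, -⟩ := injective_aux h1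
  rw [pr_eq_one_iff, Subgroup.mem_center_iff]
  intro g
  apply Subtype.ext
  change g.1 * u.1 = u.1 * g.1
  have hr' : scalar (Fin 4) r = u.1 := hr
  rw [← hr']
  exact (scalar_commute (n := Fin 4) r (Commute.all r) g.1).symm

/-- `|SL| = 2 |PSL|`. -/
theorem card_SF [Fintype F] (hF : Fintype.card F % 4 = 3) : Nat.card (SF F) = 2 * Nat.card (PL F) := by
  have h1 := Subgroup.card_eq_card_quotient_mul_card_subgroup (Subgroup.center (SF F))
  have h2 : Nat.card (Subgroup.center (SF F)) = 2 := by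
    have h3 : Nat.card (Subgroup.center (S4 F)) = 2 := by
      rw [Nat.card_eq_two_iff]
      refine ⟨⟨1, one_mem _⟩, ⟨m1, m1_mem_center⟩, ?_, ?_⟩
      · intro h
        exact m1_ne_one (F5L4Good.two_ne hF) (congrArg Subtype.val h).symm
      · ext ⟨x, hx⟩
        have := (mem_center_iff (F5L4Good.sq_ne hF) x).1 hx
        simp only [Set.mem_insert_iff, Set.mem_singleton_iff, Set.mem_univ, iff_true, Subtype.mk.injEq]
        exact this
    rw [← h3]
    exact Nat.card_congr (Subgroup.centerCongr (slReindex (F := F) (finSumFinEquiv (m := 2) (n := 2)).symm)).toEquiv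
  rw [h1, h2, mul_comm]

/-- `|Out(L)|` is not divisible by 8. -/
theorem index_inn [Fintype F] (hF : Fintype.card F % 4 = 3) : ¬ 8 ∣ (Inn (PL F)).index := by
  obtain ⟨p, hp⟩ := CharP.exists F
  obtain ⟨n, hp', hn⟩ := FiniteField.card F p
  have : Fact p.Prime := ⟨hp'⟩
  have hfin : Finite (PL F) := finite_PL
  have h1 := card_three (F := F) (n := 4) p (by norm_num)
  rw [S0265.result, card_SF hF] at h1
  have h2 := Subgroup.index_mul_card (Inn (PL F))
  have h3 : Nat.card (Inn (PL F)) = Nat.card (PL F) :=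
    (Nat.card_congr (MonoidHom.ofInjective conj_injective).toEquiv).symm
  rw [h1, h3] at h2
  have h4 : 0 < Nat.card (PL F) := Nat.card_pos
  have h5 : (Inn (PL F)).index = 4 * Nat.card (F ≃+* F) := by
    apply Nat.eq_of_mul_eq_mul_right h4
    rw [h2]
    ring
  rw [h5]
  obtain ⟨k, hk⟩ := odd_card_aut hF
  omega

/-- Bad automorphisms form a union of classes. -/
theorem bad_conj {L : Type*} [Group L] {D : Core L} {φ : MulAut L} (h : Bad D φ) (g : MulAut L) :
    Bad D (g * φ * g⁻¹) := by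
  obtain ⟨h1, h2, χ, h3, h4, h5, h6, h7, h8⟩ := h
  have key : ∀ x, φ (χ x) = χ x → (g * φ * g⁻¹) ((g * χ) x) = (g * χ) x := by
    intro x hx
    rw [MulAut.mul_apply, MulAut.mul_apply, MulAut.mul_apply, MulAut.inv_apply_self, hx]
  refine ⟨?_, ?_, g * χ, key _ h3, key _ h4, key _ h5, key _ h6, key _ h7, key _ h8⟩
  · calc g * φ * g⁻¹ * (g * φ * g⁻¹) = g * (φ * φ) * g⁻¹ := by group
      _ = 1 := by rw [h1]; group
  · intro h9
    apply h2
    have hn : (Inn L).Normal := by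
      refine ⟨?_⟩
      rintro _ ⟨u, rfl⟩ k
      refine ⟨k u, ?_⟩
      apply MulEquiv.ext
      intro x
      rw [MulAut.conj_apply, MulAut.mul_apply, MulAut.mul_apply, MulAut.conj_apply, map_mul, map_mul, map_inv,
        MulAut.apply_inv_self]
    have := hn.conj_mem _ h9 g⁻¹
    have e : g⁻¹ * (g * φ * g⁻¹) * g⁻¹⁻¹ = φ := by group
    rwa [e] at this

/-- If some bad automorphism exists and `8 ∤ |Out|`, then (F5a). -/
theorem out_of_bad {L : Type*} [Group L] [Finite L] {D : Core L} {φ : MulAut L} (hφ : Bad D φ)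
    (h8 : ¬ 8 ∣ (Inn L).index) (H : Subgroup (MulAut L)) (hH : Inn L ≤ H) (hbad : ∀ ψ ∈ H, ¬ Bad D ψ) :
    ¬ 4 ∣ (Inn L).relIndex H := by
  intro h4
  have : Finite (MulAut L) := Finite.of_injective (fun α : MulAut L => (α : L → L))
    (fun α β h => MulEquiv.ext (congrFun h))
  have h1 := Subgroup.relIndex_mul_index hH
  have hodd : ¬ 2 ∣ H.index := by
    intro h2
    apply h8
    rw [← h1]
    exact mul_dvd_mul h4 h2
  -- a Sylow 2-subgroup of `MulAut L` inside `H`
  have hfact : Fact (Nat.Prime 2) := ⟨Nat.prime_two⟩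
  obtain ⟨P⟩ : Nonempty (Sylow 2 H) := inferInstance
  have hPcard : (P : Subgroup H).index ≠ 0 ∧ ¬ 2 ∣ (P : Subgroup H).index := by
    exact ⟨Subgroup.index_ne_zero_of_finite, P.not_dvd_index⟩
  have hQp : IsPGroup 2 ((P : Subgroup H).map H.subtype) := P.isPGroup'.map _
  have hQi : ¬ 2 ∣ ((P : Subgroup H).map H.subtype).index := by
    rw [Subgroup.index_map_subtype]
    intro h2
    rcases (Nat.Prime.dvd_mul Nat.prime_two).1 h2 with h3 | h3
    · exact hPcard.2 h3
    · exact hodd h3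
  obtain ⟨Q, hQ⟩ : ∃ Q : Sylow 2 (MulAut L), (Q : Subgroup (MulAut L)) = (P : Subgroup H).map H.subtype :=
    ⟨hQp.toSylow hQi, rfl⟩
  have hz : IsPGroup 2 (Subgroup.zpowers φ) := by
    have h3 : φ ^ 2 ^ 1 = 1 := by rw [pow_one, pow_two]; exact hφ.1
    rw [IsPGroup.iff_card]
    have h4 : Nat.card (Subgroup.zpowers φ) ∣ 2 ^ 1 := by
      rw [Nat.card_zpowers]
      exact orderOf_dvd_of_pow_eq_one h3
    obtain ⟨k, -, hk⟩ := (Nat.dvd_prime_pow Nat.prime_two).1 h4
    exact ⟨k, hk⟩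
  obtain ⟨R, hR⟩ := hz.exists_le_sylow
  obtain ⟨g, hg⟩ := MulAction.exists_smul_eq (MulAut L) R Q
  have h3 : g * φ * g⁻¹ ∈ (Q : Subgroup (MulAut L)) := by
    rw [← hg, Sylow.coe_subgroup_smul]
    exact ⟨φ, hR (Subgroup.mem_zpowers φ), rfl⟩
  rw [hQ] at h3
  obtain ⟨x, -, hx⟩ := h3
  exact hbad _ (hx ▸ x.2) (bad_conj hφ g)

end Cfsg.Agent.GH.Cov.F5L4Out
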