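import Mathlib
import Cfsg.Agent.GH.Cov.F5L4Good
import Cfsg.Agent.ClassicalGeometry.NonsplitTorus
import Cfsg.Agent.LieClassical.SLTwoSylowTwo

/-!
# GH-COV, (F5) for `PSL(4, F)`, `|F| ≡ 3 mod 4`: a semidihedral subgroup of `GL(2, F)`
-/

set_option autoImplicit false

open Matrix Module

namespace Cfsg.Agent.GH.Cov.F5L4Torus

variable {F : Type*} [Field F]

/-- `SL(2, F)`. -/
abbrev S2 (F : Type*) [Field F] := SpecialLinearGroup (Fin 2) F

/-- `(1 - r⁻¹)(1 - r) = det (1 - r⁻¹)`. -/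
theorem norm_eq (r : S2 F) :
    (1 - (r⁻¹ : S2 F).1) * (1 - r.1) = (1 - (r⁻¹ : S2 F).1).det • (1 : Matrix (Fin 2) (Fin 2) F) := by
  have hi : (r⁻¹ : S2 F).1 = !![r.1 1 1, -r.1 0 1; -r.1 1 0, r.1 0 0] := by
    rw [SpecialLinearGroup.SL2_inv_expl]
    rfl
  rw [hi, det_fin_two]
  ext i j
  fin_cases i <;> fin_cases j <;> simp [Matrix.mul_apply, Fin.sum_univ_two] <;> ring

/-- Uniqueness of the involution of `SL₂`. -/
theorem eq_neg_one (h2 : (2 : F) ≠ 0) {x : S2 F} (hx : x * x = 1) (h1 : x ≠ 1) : x = -1 :=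
  LieClassical.SLTwoSylowTwo.eq_neg_one_of_sq h2 x h1 (by rw [pow_two]; exact hx)

/-- Quaternion `⟨r, s⟩` and semidihedral `⟨r, s, G⟩`. -/
theorem exists_semi [Fintype F] (hF : Fintype.card F % 4 = 3) :
    ∃ (n k : ℕ) (r s : S2 F) (G : Matrix (Fin 2) (Fin 2) F), 1 ≤ n ∧ Odd k ∧
      Fintype.card F + 1 = 2 ^ (n + 1) * k ∧ r ^ 2 ^ n = -1 ∧ s * s = -1 ∧ s * r * s⁻¹ = r⁻¹ ∧
      G * G = 1 ∧ G.det = -1 ∧ G * r.1 = (r⁻¹ : S2 F).1 * G ∧ G * s.1 = (-(r⁻¹ * s) : S2 F).1 * G := by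
  have h2 : (2 : F) ≠ 0 := F5L4Good.two_ne hF
  obtain ⟨a, s, K, ha, hs, hsa, -, hT, hunit, hcomm⟩ := ClassicalGeometry.NonsplitTorus.exists_torus (F := F)
  obtain ⟨m, k, hk, hmk⟩ : ∃ m k : ℕ, Odd k ∧ Fintype.card F + 1 = 2 ^ m * k := by
    obtain ⟨m, k, hk, h⟩ := Nat.exists_eq_two_pow_mul_odd (n := Fintype.card F + 1) (by omega)
    exact ⟨m, k, hk, h⟩
  have hm : 2 ≤ m := by
    by_contra hcon
    have hm' : m = 0 ∨ m = 1 := by omega
    obtain ⟨c, hc⟩ := hk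
    rcases hm' with rfl | rfl
    · rw [pow_zero, one_mul] at hmk
      omega
    · rw [pow_one] at hmk
      omega
  obtain ⟨n, rfl⟩ : ∃ n, m = n + 1 := ⟨m - 1, by omega⟩
  have hk0 : 0 < k := hk.pos
  set r : S2 F := a ^ k with hr
  have hor : orderOf r = 2 ^ (n + 1) := by
    rw [hr, orderOf_pow_of_dvd hk0.ne' (by rw [ha, hmk]; exact Dvd.intro_left _ rfl), ha, hmk]
    exact Nat.mul_div_cancel _ hk0
  have hrn : r ^ 2 ^ n = -1 := by
    apply eq_neg_one h2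
    · rw [← pow_add, ← two_mul, ← pow_succ', ← hor, pow_orderOf_eq_one]
    · intro h
      have h3 := orderOf_dvd_of_pow_eq_one h
      rw [hor] at h3
      have h4 := Nat.le_of_dvd (by positivity) h3
      rw [pow_succ] at h4
      have : 0 < 2 ^ n := by positivity
      omega
  have hsr : s⁻¹ * r * s = r⁻¹ := by
    have h3 : s⁻¹ * r * s = (s⁻¹ * a * s) ^ k := by
      rw [hr]
      have h4 := conj_pow (i := k) (a := s⁻¹) (b := a)
      rw [inv_inv] at h4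
      exact h4.symm
    rw [h3, hsa, inv_pow]
  have hsr' : s * r = r⁻¹ * s := by
    have h3 : r = s⁻¹ * r⁻¹ * s := by
      calc r = (r⁻¹)⁻¹ := (inv_inv r).symm
        _ = (s⁻¹ * r * s)⁻¹ := by rw [hsr]
        _ = s⁻¹ * r⁻¹ * s := by group
    nth_rewrite 1 [h3]
    group
  have hr1 : r ≠ 1 := by
    intro h
    rw [h, one_pow] at hrn
    have h3 := congrArg (fun x : S2 F => x.1 0 0) hrn
    have h4 : (1 : F) = -1 := h3
    apply h2
    linear_combination h4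
  -- `h = 1 - r⁻¹`
  obtain ⟨h, hh⟩ : ∃ h : Matrix (Fin 2) (Fin 2) F, h = 1 - (r⁻¹ : S2 F).1 := ⟨_, rfl⟩
  have hrK : (r⁻¹ : S2 F).1 ∈ K := (hT _).1 (Subgroup.inv_mem _ (Subgroup.pow_mem _ (Subgroup.mem_zpowers a) k))
  have hhK : h ∈ K := by
    rw [hh]
    exact K.sub_mem K.one_mem hrK
  have hh0 : h ≠ 0 := by
    intro h3
    rw [hh, sub_eq_zero] at h3
    apply hr1
    have h4 : (1 : S2 F) = r⁻¹ := Subtype.ext h3
    rw [← inv_eq_one, ← h4]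
  have hdet : h.det ≠ 0 := ((isUnit_iff_isUnit_det _).1 (hunit h hhK hh0)).ne_zero
  have hnorm : h * (1 - r.1) = h.det • (1 : Matrix (Fin 2) (Fin 2) F) := by
    rw [hh]
    exact norm_eq r
  have hrr : r.1 * (r⁻¹ : S2 F).1 = 1 := congrArg Subtype.val (mul_inv_cancel r)
  have hrr' : (r⁻¹ : S2 F).1 * r.1 = 1 := congrArg Subtype.val (inv_mul_cancel r)
  have hhr : h = -((r⁻¹ : S2 F).1 * (1 - r.1)) := by
    rw [hh, mul_sub, mul_one, hrr', neg_sub]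
  have hcr : h * (r⁻¹ : S2 F).1 = (r⁻¹ : S2 F).1 * h := hcomm _ hhK _ hrK
  have hcr' : h * r.1 = r.1 * h := by
    rw [hh, sub_mul, mul_sub, one_mul, mul_one, hrr, hrr']
  have hhh : h * h = -(h.det • (r⁻¹ : S2 F).1) := by
    calc h * h = h * -((r⁻¹ : S2 F).1 * (1 - r.1)) := by rw [← hhr]
      _ = -((r⁻¹ : S2 F).1 * (h * (1 - r.1))) := by rw [mul_neg, ← mul_assoc, hcr, mul_assoc]
      _ = -(h.det • (r⁻¹ : S2 F).1) := by rw [hnorm, mul_smul_comm, mul_one]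
  -- `det h` is not a square
  have hns : ∀ c : F, h.det ≠ c * c := by
    intro c hc
    have hc0 : c ≠ 0 := by
      rintro rfl
      rw [mul_zero] at hc
      exact hdet hc
    have hgd : (c⁻¹ • h).det = 1 := by
      rw [det_smul, Fintype.card_fin, hc]
      field_simp
    obtain ⟨g, hg⟩ : ∃ g : S2 F, g.1 = c⁻¹ • h := ⟨⟨_, hgd⟩, rfl⟩
    have hgz : g ∈ Subgroup.zpowers a := by
      rw [hT, hg]
      exact K.smul_mem hhK _
    have hgg : g * g = -r⁻¹ := by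
      apply Subtype.ext
      change g.1 * g.1 = -(r⁻¹ : S2 F).1
      rw [hg, smul_mul_smul_comm, hhh, smul_neg, smul_smul, hc]
      have h3 : c⁻¹ * c⁻¹ * (c * c) = 1 := by field_simp
      rw [h3, one_smul]
    obtain ⟨j, hj⟩ := hgz
    have hj : a ^ j = g := hj
    have h3 : a ^ (j + j) * a ^ (k : ℤ) = a ^ ((k * 2 ^ n : ℕ) : ℤ) := by
      rw [_root_.zpow_add, hj, hgg, zpow_natCast, zpow_natCast, pow_mul, ← hr, hrn, neg_mul, inv_mul_cancel]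
    rw [← _root_.zpow_add] at h3
    have h4 : a ^ (j + j + (k : ℤ) - ((k * 2 ^ n : ℕ) : ℤ)) = 1 := by
      rw [_root_.zpow_sub, h3, mul_inv_cancel]
    rw [← orderOf_dvd_iff_zpow_eq_one, ha, hmk] at h4
    have h5 : (2 : ℤ) ∣ j + j + (k : ℤ) - ((k * 2 ^ n : ℕ) : ℤ) := by
      refine dvd_trans ?_ h4
      refine ⟨2 ^ n * k, ?_⟩
      push_cast
      ring
    have h6 : (2 : ℤ) ∣ ((k * 2 ^ n : ℕ) : ℤ) := by
      obtain ⟨n', rfl⟩ : ∃ n', n = n' + 1 := ⟨n - 1, by omega⟩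
      refine ⟨k * 2 ^ n', ?_⟩
      push_cast
      ring
    obtain ⟨c', hc'⟩ := hk
    omega
  obtain ⟨c, hc⟩ : ∃ c : F, -h.det = c * c := by
    obtain ⟨c, hc | hc⟩ := F5L4Good.sq_or hF h.det
    · exact absurd hc (hns c)
    · exact ⟨c, by rw [hc, neg_neg]⟩
  have hc0 : c ≠ 0 := by
    rintro rfl
    rw [mul_zero, neg_eq_zero] at hc
    exact hdet hc
  have hrs : s.1 * r.1 = (r⁻¹ : S2 F).1 * s.1 := congrArg Subtype.val hsr'
  have hsr2 : s.1 * (r⁻¹ : S2 F).1 = r.1 * s.1 := by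
    calc s.1 * (r⁻¹ : S2 F).1 = (r.1 * (r⁻¹ : S2 F).1) * s.1 * (r⁻¹ : S2 F).1 := by rw [hrr, one_mul]
      _ = r.1 * ((r⁻¹ : S2 F).1 * s.1) * (r⁻¹ : S2 F).1 := by simp only [mul_assoc]
      _ = r.1 * (s.1 * r.1) * (r⁻¹ : S2 F).1 := by rw [hrs]
      _ = r.1 * s.1 * (r.1 * (r⁻¹ : S2 F).1) := by simp only [mul_assoc]
      _ = r.1 * s.1 := by rw [hrr, mul_one]
  have hss : s.1 * s.1 = -1 := congrArg Subtype.val hs
  have hsh : s.1 * h = (1 - r.1) * s.1 := by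
    rw [hh, mul_sub, sub_mul, mul_one, one_mul, hsr2]
  refine ⟨n, k, r, s, c⁻¹ • (h * s.1), by omega, hk, hmk, hrn, hs, ?_, ?_, ?_, ?_, ?_⟩
  · rw [hsr', mul_assoc, mul_inv_cancel, mul_one]
  · have h3 : h * s.1 * (h * s.1) = -(h.det • (1 : Matrix (Fin 2) (Fin 2) F)) := by
      calc h * s.1 * (h * s.1) = h * (s.1 * h) * s.1 := by simp only [mul_assoc]
        _ = h * (1 - r.1) * (s.1 * s.1) := by rw [hsh]; simp only [mul_assoc]
        _ = -(h.det • (1 : Matrix (Fin 2) (Fin 2) F)) := by rw [hnorm, hss, mul_neg, mul_one]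
    rw [smul_mul_smul_comm, h3, ← neg_smul, smul_smul, hc]
    have h4 : c⁻¹ * c⁻¹ * (c * c) = 1 := by field_simp
    rw [h4, one_smul]
  · rw [det_smul, Fintype.card_fin, det_mul, s.2, mul_one, ← neg_neg h.det, hc]
    field_simp
  · rw [smul_mul_assoc, mul_assoc, hrs, ← mul_assoc, hcr, mul_smul_comm, mul_assoc]
  · have h3 : (-(r⁻¹ * s) : S2 F).1 = -((r⁻¹ : S2 F).1 * s.1) := rfl
    rw [h3, smul_mul_assoc, mul_smul_comm, mul_assoc, hss, mul_neg, mul_one, neg_mul]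
    congr 1
    rw [neg_inj]
    symm
    calc (r⁻¹ : S2 F).1 * s.1 * (h * s.1) = (r⁻¹ : S2 F).1 * (s.1 * h) * s.1 := by simp only [mul_assoc]
      _ = (r⁻¹ : S2 F).1 * (1 - r.1) * (s.1 * s.1) := by rw [hsh]; simp only [mul_assoc]
      _ = h := by rw [hss, mul_neg, mul_one, ← hhr]

end Cfsg.Agent.GH.Cov.F5L4Torus
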