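import Mathlib
import Cfsg.Agent.GH.Cov.F5L4Out

/-!
# GH-COV, (F5b) for `PSL(4, F)`, `|F| ≡ 3 mod 4`: the types of outer involutions
-/

set_option autoImplicit false

open Matrix hiding J
open Module
open Cfsg.Agent.GH.Cov.F5Core Cfsg.Agent.GH.Cov.LieData Cfsg.Agent.GH.Cov.SLTwoFacts
open Cfsg.Agent.GH.Cov.LieL4 Cfsg.Agent.GH.Cov.LieL4Core Cfsg.Agent.GH.Cov.F5L4Out
open Cfsg.Agent.ClassicalGeometry.AutPSL.Root Cfsg.Agent.ClassicalGeometry.AutPSL.Auto
open Cfsg.Agent.ClassicalGeometry.AutPSL.Main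

namespace Cfsg.Agent.GH.Cov.F5L4Types

variable {F : Type*} [Field F]

/-- `2 × 2` matrices. -/
abbrev M2 (F : Type*) := Matrix (Fin 2) (Fin 2) F

/-- Block diagonal `4 × 4` matrix. -/
def bd (X Y : M2 F) : M4 F :=
  !![X 0 0, X 0 1, 0, 0; X 1 0, X 1 1, 0, 0; 0, 0, Y 0 0, Y 0 1; 0, 0, Y 1 0, Y 1 1]

theorem bd_eq (X Y : M2 F) : bd X Y = reindex (finSumFinEquiv (m := 2) (n := 2))
    (finSumFinEquiv (m := 2) (n := 2)) (fromBlocks X 0 0 Y) := by
  ext i j
  fin_cases i <;> fin_cases j <;> rfl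

theorem bd_mul (X Y X' Y' : M2 F) : bd X Y * bd X' Y' = bd (X * X') (Y * Y') := by
  ext i j
  fin_cases i <;> fin_cases j <;> simp [bd, Matrix.mul_apply, Fin.sum_univ_four, Fin.sum_univ_two]

theorem bd_one : bd (1 : M2 F) 1 = 1 := by
  ext i j
  fin_cases i <;> fin_cases j <;> simp [bd]

theorem bd_tr (X Y : M2 F) : (bd X Y)ᵀ = bd Xᵀ Yᵀ := by
  ext i j
  fin_cases i <;> fin_cases j <;> simp [bd]

theorem det_bd (X Y : M2 F) : (bd X Y).det = X.det * Y.det := by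
  rw [bd_eq, det_reindex_self, det_fromBlocks_zero₂₁]

theorem D1_eq : D1 F = bd 1 (diagonal ![1, -1]) := by
  ext i j
  fin_cases i <;> fin_cases j <;> simp [bd, D1]

/-- Block diagonal elements of `SL₄`. -/
def sd (a b : S2 F) : SF F := ⟨bd a.1 b.1, by rw [det_bd, a.2, b.2, one_mul]⟩

theorem coe_sd (a b : S2 F) : (sd a b).1 = bd a.1 b.1 := rfl

theorem proj_blk (a b : S2 F) : proj F (blk a b) = pr (sd a b) := by
  have h := proj_reindex (F := F) (sd a b)
  have h2 : slReindex (F := F) (finSumFinEquiv (m := 2) (n := 2)).symm (sd a b) = blk a b := by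
    apply Subtype.ext
    change reindex (finSumFinEquiv (m := 2) (n := 2)).symm (finSumFinEquiv (m := 2) (n := 2)).symm
      (bd a.1 b.1) = fromBlocks a.1 0 0 b.1
    rw [bd_eq]
    ext i j
    simp
  rw [h2] at h
  exact h

/-- An element of `GL₄`. -/
noncomputable def gl (A : M4 F) (h : A.det ≠ 0) : GL (Fin 4) F := GeneralLinearGroup.mkOfDetNeZero A h

theorem coe_gl (A : M4 F) (h : A.det ≠ 0) : (gl A h).1 = A := rfl

theorem cj_eq {A : GL (Fin 4) F} {x y : SF F} (h : A.1 * x.1 = y.1 * A.1) : cj A x = y := by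
  apply Subtype.ext
  rw [coe_cj, h, mul_assoc, ← Units.val_mul, mul_inv_cancel, Units.val_one, mul_one]

/-- `J x⁻ᵀ J⁻¹ = x` in `SL₂`. -/
theorem tr_eq (a : S2 F) : (a⁻¹ : S2 F).1ᵀ * (J : S2 F).1 = (J : S2 F).1 * a.1 := by
  have hJ : (J : S2 F).1 = !![0, -1; 1, 0] := rfl
  have hi : (a⁻¹ : S2 F).1 = !![a.1 1 1, -a.1 0 1; -a.1 1 0, a.1 0 0] := by
    rw [SpecialLinearGroup.SL2_inv_expl]
    rfl
  rw [hi, hJ]
  ext i j
  fin_cases i <;> fin_cases j <;> simp [Matrix.mul_apply, Fin.sum_univ_two]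

/-- `itr` on block diagonal elements. -/
theorem itr_sd (a b : S2 F) : itr (sd a b) = sd (J * a * J⁻¹) (J * b * J⁻¹) := by
  have key : ∀ a : S2 F, (a⁻¹ : S2 F).1ᵀ = (J * a * J⁻¹ : S2 F).1 := by
    intro a
    change _ = (J : S2 F).1 * a.1 * (J⁻¹ : S2 F).1
    rw [← tr_eq, mul_assoc]
    have h2 : (J : S2 F).1 * (J⁻¹ : S2 F).1 = 1 := congrArg Subtype.val (mul_inv_cancel (J : S2 F))
    rw [h2, mul_one]
  have h1 : (sd a b)⁻¹ = sd a⁻¹ b⁻¹ := by
    rw [inv_eq_iff_mul_eq_one]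
    apply Subtype.ext
    change bd a.1 b.1 * bd (a⁻¹ : S2 F).1 (b⁻¹ : S2 F).1 = 1
    rw [bd_mul]
    have e1 : a.1 * (a⁻¹ : S2 F).1 = 1 := congrArg Subtype.val (mul_inv_cancel a)
    have e2 : b.1 * (b⁻¹ : S2 F).1 = 1 := congrArg Subtype.val (mul_inv_cancel b)
    rw [e1, e2, bd_one]
  apply Subtype.ext
  rw [coe_itr, h1, coe_sd, bd_tr, key, key]
  rfl

/-- Conjugation of `SL₂` by an invertible matrix. -/
theorem exists_conj2 (X : M2 F) (hX : X.det ≠ 0) (a : S2 F) : ∃ b : S2 F, X * a.1 = b.1 * X := by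
  refine ⟨⟨X * a.1 * X⁻¹, ?_⟩, ?_⟩
  · rw [det_mul, det_mul, a.2, mul_one, ← det_mul, mul_nonsing_inv _ hX.isUnit, det_one]
  · change _ = X * a.1 * X⁻¹ * X
    rw [mul_assoc, nonsing_inv_mul _ hX.isUnit, mul_one]

/-- The graph automorphism with centralizer `PSp₄`. -/
noncomputable def bad0 : MulAut (PL F) :=
  lift (cj (SpecialLinearGroup.toGL (sd (J : S2 F) J)) * itr)

theorem bad0_sd (a b : S2 F) : bad0 (F := F) (pr (sd a b)) = pr (sd a b) := by
  rw [bad0, lift_pr, MulAut.mul_apply, itr_sd]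
  congr 1
  apply cj_eq
  change (sd J J).1 * (sd (J * a * J⁻¹) (J * b * J⁻¹)).1 = (sd a b).1 * (sd J J).1
  rw [coe_sd, coe_sd, coe_sd, bd_mul, bd_mul]
  have key : ∀ a : S2 F, (J : S2 F).1 * (J * a * J⁻¹ : S2 F).1 = a.1 * (J : S2 F).1 := by
    intro a
    have h1 : (J : S2 F) * (J * a * J⁻¹) = a * J := by
      have h2 : (J : S2 F) * J = -1 := J_sq
      have h3 : (J : S2 F)⁻¹ = -J := by
        rw [inv_eq_iff_mul_eq_one, mul_neg, h2, neg_neg]
      rw [h3, mul_neg, mul_neg, ← mul_assoc, ← mul_assoc, h2]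
      simp
    exact congrArg Subtype.val h1
  rw [key, key]

theorem bad0_sq [Fintype F] (hF : Fintype.card F % 4 = 3) : bad0 (F := F) * bad0 = 1 := by
  have h1 : (itr : MulAut (SF F)) * cj (SpecialLinearGroup.toGL (sd (J : S2 F) J)) =
      cj (SpecialLinearGroup.toGL (itr (sd (J : S2 F) J))) * itr := by
    apply MulEquiv.ext
    intro x
    rw [MulAut.mul_apply, MulAut.mul_apply]
    have h2 : ∀ (u x : SF F), cj (SpecialLinearGroup.toGL u) x = u * x * u⁻¹ := fun u x => rfl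
    rw [h2, h2, map_mul, map_mul, map_inv]
  have h3 : itr (sd (J : S2 F) J) = sd J J := by
    rw [itr_sd, mul_inv_cancel_right]
  rw [bad0, ← map_mul, mul_assoc, ← mul_assoc itr, h1, h3, mul_assoc, itr_mul_itr, mul_one, ← map_mul,
    ← map_mul]
  have h4 : sd (J : S2 F) J * sd J J = sd (-1) (-1) := by
    apply Subtype.ext
    change bd (J : S2 F).1 (J : S2 F).1 * bd (J : S2 F).1 (J : S2 F).1 = bd (-1 : S2 F).1 (-1 : S2 F).1
    rw [bd_mul]
    have h5 : (J : S2 F).1 * (J : S2 F).1 = (-1 : S2 F).1 := congrArg Subtype.val J_sq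
    rw [h5]
  rw [h4, lift_cj_toGL, ← proj_blk]
  have h5 : proj F (blk (-1) (-1)) = 1 := (quot_proj hF).ker _ |>.2 (Or.inr rfl)
  rw [h5, map_one]

/-- Elements of the graph coset are not inner. -/
theorem not_inner (A : GL (Fin 4) F) : lift (cj A * itr) ∉ Inn (PL F) := by
  rintro ⟨x, hx⟩
  obtain ⟨u, rfl⟩ := pr_surjective x
  rw [← lift_cj_toGL] at hx
  refine not_graph (ι := Fin 4) (F := F) (by simp) (C := (SpecialLinearGroup.toGL u)⁻¹ * A) (σ := 1) (τ := 1) ?_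
  rw [map_one, mul_one, map_one, map_mul cj, map_inv, mul_assoc, map_mul lift, ← hx, map_inv, inv_mul_cancel]

/-! ### type II -/

theorem det_D1 : (D1 F).det = -1 := by
  rw [D1, det_diagonal, Fin.prod_univ_four]
  simp

theorem det_D1_ne : (D1 F).det ≠ 0 := by
  rw [det_D1]
  exact neg_ne_zero.2 one_ne_zero

theorem D1_mul_D1 : D1 F * D1 F = 1 := by
  rw [D1, diagonal_mul_diagonal, ← diagonal_one]
  congr 1
  funext i
  fin_cases i <;> simp

/-- The graph automorphism of type `o⁻`. -/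
noncomputable def psi2 : MulAut (PL F) := lift (cj (gl (D1 F) det_D1_ne) * itr)

theorem itr_of_orth {x : SF F} (h : x.1 * x.1ᵀ = 1) : itr x = x := by
  apply Subtype.ext
  rw [coe_itr]
  have h1 : (x⁻¹ : SF F).1 = x.1ᵀ := by
    have h2 : (x⁻¹ : SF F).1 * x.1 = 1 := congrArg Subtype.val (inv_mul_cancel x)
    calc (x⁻¹ : SF F).1 = (x⁻¹ : SF F).1 * (x.1 * x.1ᵀ) := by rw [h, mul_one]
      _ = x.1ᵀ := by rw [← mul_assoc, h2, one_mul]
  rw [h1, transpose_transpose]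

theorem psi2_fix {x : SF F} (h : x.1 * x.1ᵀ = 1) (h' : D1 F * x.1 = x.1 * D1 F) : psi2 (pr x) = pr x := by
  rw [psi2, lift_pr, MulAut.mul_apply, itr_of_orth h]
  congr 1
  exact cj_eq h'

theorem psi2_sd (a b : S2 F) : ∃ b', psi2 (pr (sd a b)) = pr (sd (J * a * J⁻¹) b') := by
  have hd : (diagonal ![1, -1] : M2 F).det ≠ 0 := by
    rw [det_diagonal, Fin.prod_univ_two]
    simp
  obtain ⟨b', hb'⟩ := exists_conj2 _ hd (J * b * J⁻¹)
  refine ⟨b', ?_⟩
  rw [psi2, lift_pr, MulAut.mul_apply, itr_sd]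
  congr 1
  apply cj_eq
  change D1 F * (sd (J * a * J⁻¹) (J * b * J⁻¹)).1 = (sd (J * a * J⁻¹) b').1 * D1 F
  rw [coe_sd, coe_sd, D1_eq, bd_mul, bd_mul, hb', one_mul, mul_one]

theorem psi2_sd_one (a : S2 F) : psi2 (pr (sd a 1)) = pr (sd (J * a * J⁻¹) 1) := by
  rw [psi2, lift_pr, MulAut.mul_apply, itr_sd, mul_one, mul_inv_cancel]
  congr 1
  apply cj_eq
  change D1 F * (sd (J * a * J⁻¹) 1).1 = (sd (J * a * J⁻¹) 1).1 * D1 F
  have h1 : (1 : S2 F).1 = 1 := rfl
  rw [coe_sd, D1_eq, bd_mul, bd_mul, one_mul, mul_one, h1, one_mul, mul_one]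

/-- The involution `diag(1,-1,-1,1)`. -/
def bB : SF F := ⟨diagonal ![1, -1, -1, 1], by
  rw [det_diagonal, Fin.prod_univ_four]
  simp⟩

/-- A 3-cycle. -/
def dD : SF F := ⟨!![0, 0, 1, 0; 1, 0, 0, 0; 0, 1, 0, 0; 0, 0, 0, 1], by
  rw [Matrix.det_succ_row_zero]
  simp [Fin.sum_univ_succ, Matrix.det_fin_three, Matrix.submatrix, Fin.succAbove, Fin.succ, Fin.castSucc]⟩

theorem coe_bB : (bB : SF F).1 = diagonal ![1, -1, -1, 1] := rfl

theorem coe_dD : (dD : SF F).1 = !![0, 0, 1, 0; 1, 0, 0, 0; 0, 1, 0, 0; 0, 0, 0, 1] := rfl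

theorem coe_tt : (sd (-1) 1 : SF F).1 = diagonal ![-1, -1, 1, 1] := by
  have h1 : (1 : S2 F).1 = 1 := rfl
  have h2 : (-1 : S2 F).1 = -1 := rfl
  rw [coe_sd, h1, h2]
  ext i j
  fin_cases i <;> fin_cases j <;> simp [bd]

theorem four_aux : (sd (-1) 1 : SF F) * sd (-1) 1 = 1 ∧ (bB : SF F) * bB = 1 ∧
    (sd (-1) 1 : SF F) * bB = bB * sd (-1) 1 ∧ (dD : SF F) * dD * dD = 1 ∧
    (dD : SF F) * sd (-1) 1 = bB * dD ∧ (dD : SF F) * bB = sd (-1) 1 * bB * dD := by
  have e : ∀ x y : SF F, x.1 = y.1 → x = y := fun x y h => Subtype.ext h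
  refine ⟨e _ _ ?_, e _ _ ?_, e _ _ ?_, e _ _ ?_, e _ _ ?_, e _ _ ?_⟩
  · change (sd (-1) 1 : SF F).1 * (sd (-1) 1 : SF F).1 = 1
    rw [coe_tt, diagonal_mul_diagonal, ← diagonal_one]
    congr 1
    funext i
    fin_cases i <;> simp
  · change (bB : SF F).1 * (bB : SF F).1 = 1
    rw [coe_bB, diagonal_mul_diagonal, ← diagonal_one]
    congr 1
    funext i
    fin_cases i <;> simp
  · change (sd (-1) 1 : SF F).1 * (bB : SF F).1 = (bB : SF F).1 * (sd (-1) 1 : SF F).1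
    rw [coe_tt, coe_bB, diagonal_mul_diagonal, diagonal_mul_diagonal]
    congr 1
    funext i
    fin_cases i <;> simp
  · change (dD : SF F).1 * (dD : SF F).1 * (dD : SF F).1 = 1
    rw [coe_dD]
    ext i j
    fin_cases i <;> fin_cases j <;> simp [Matrix.mul_apply, Fin.sum_univ_four]
  · change (dD : SF F).1 * (sd (-1) 1 : SF F).1 = (bB : SF F).1 * (dD : SF F).1
    rw [coe_dD, coe_tt, coe_bB]
    ext i j
    rw [mul_diagonal, diagonal_mul]
    fin_cases i <;> fin_cases j <;> simp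
  · change (dD : SF F).1 * (bB : SF F).1 = (sd (-1) 1 : SF F).1 * (bB : SF F).1 * (dD : SF F).1
    rw [coe_dD, coe_tt, coe_bB, diagonal_mul_diagonal]
    ext i j
    rw [mul_diagonal, diagonal_mul]
    fin_cases i <;> fin_cases j <;> simp

section core

variable [Fintype F] (hF : Fintype.card F % 4 = 3) {i j w : S2 F} (h : SLFacts (-1) i j w)

/-- The core data of `PSL(4, F)`. -/
noncomputable def DD : Core (PL F) := core hF (proj F) (quot_proj hF) i j w h

theorem mem_A1 {x : PL F} : x ∈ (DD hF h).A₁ ↔ ∃ a, x = pr (sd a 1) := by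
  constructor
  · rintro ⟨a, rfl⟩
    exact ⟨a, proj_blk a 1⟩
  · rintro ⟨a, rfl⟩
    exact ⟨a, proj_blk a 1⟩

theorem mem_A2 {x : PL F} : x ∈ (DD hF h).A₂ ↔ ∃ a, x = pr (sd 1 a) := by
  constructor
  · rintro ⟨a, rfl⟩
    exact ⟨a, proj_blk 1 a⟩
  · rintro ⟨a, rfl⟩
    exact ⟨a, proj_blk 1 a⟩

theorem t_eq : (DD hF h).t = pr (sd (-1) 1) := proj_blk (-1) 1

theorem bad_bad0 : Bad (DD hF h) bad0 := by
  have key : ∀ a b : S2 F, bad0 (F := F) (proj F (blk a b)) = proj F (blk a b) := by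
    intro a b
    rw [proj_blk, bad0_sd]
  exact ⟨bad0_sq hF, not_inner _, 1, key i 1, key j 1, key w 1, key 1 i, key 1 j, key 1 w⟩

theorem out (H : Subgroup (MulAut (PL F))) (hH : Inn (PL F) ≤ H) (hbad : ∀ ψ ∈ H, ¬ Bad (DD hF h) ψ) :
    ¬ 4 ∣ (Inn (PL F)).relIndex H := by
  have : Finite (PL F) := finite_PL
  exact out_of_bad (bad_bad0 hF h) (index_inn hF) H hH hbad

theorem typeII_psi2 : TypeII (DD hF h) psi2 := by
  have h2 : (2 : F) ≠ 0 := F5L4Good.two_ne hF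
  refine ⟨1, psi2, by rw [one_mul, inv_one, mul_one], ?_, ?_, ?_, ?_, pr bB, pr dD, ?_, ?_, ?_, ?_⟩
  · intro x hx
    obtain ⟨a, rfl⟩ := (mem_A1 hF h).1 hx
    rw [psi2_sd_one]
    exact (mem_A1 hF h).2 ⟨_, rfl⟩
  · intro x hx
    obtain ⟨a, rfl⟩ := (mem_A2 hF h).1 hx
    obtain ⟨b', hb'⟩ := psi2_sd 1 a
    rw [hb', mul_one, mul_inv_cancel]
    exact (mem_A2 hF h).2 ⟨_, rfl⟩
  · obtain ⟨x, y, hxy⟩ := sum_sq (F := F) (by omega) (-1)
    obtain ⟨κ, hκ⟩ : ∃ κ : S2 F, κ.1 = !![x, y; y, -x] := ⟨⟨!![x, y; y, -x], by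
      rw [det_fin_two_of]
      linear_combination -hxy⟩, rfl⟩
    have hκ2 : κ * κ = -1 := by
      apply Subtype.ext
      change κ.1 * κ.1 = -1
      rw [hκ]
      ext i j
      fin_cases i <;> fin_cases j <;> simp [Matrix.mul_apply, Fin.sum_univ_two]
      · exact hxy
      · ring
      · ring
      · linear_combination hxy
    have hJκ : J * κ * J⁻¹ = κ⁻¹ := by
      rw [mul_inv_eq_iff_eq_mul, inv_eq_of_mul_eq_one_right (show κ * -κ = 1 by rw [mul_neg, hκ2, neg_neg])]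
      apply Subtype.ext
      change (J : S2 F).1 * κ.1 = -κ.1 * (J : S2 F).1
      have hJ : (J : S2 F).1 = !![0, -1; 1, 0] := rfl
      rw [hκ, hJ]
      ext i j
      fin_cases i <;> fin_cases j <;> simp [Matrix.mul_apply, Fin.sum_univ_two]
    have hsd1 : ∀ u v : S2 F, sd u 1 * sd v 1 = sd (u * v) 1 := by
      intro u v
      apply Subtype.ext
      change bd u.1 1 * bd v.1 1 = bd (u.1 * v.1) 1
      rw [bd_mul, mul_one]
    refine ⟨pr (sd κ 1), (mem_A1 hF h).2 ⟨κ, rfl⟩, ?_, ?_⟩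
    · rw [t_eq, ← map_mul, hsd1, hκ2]
    · rw [psi2_sd_one, hJκ, ← map_inv]
      congr 1
      rw [eq_comm, inv_eq_iff_mul_eq_one, hsd1, mul_inv_cancel]
      apply Subtype.ext
      exact bd_one
  · refine ⟨pr (sd 1 J), (mem_A2 hF h).2 ⟨J, rfl⟩, ?_, ?_⟩
    · rw [t_eq, ← map_mul]
      have e1 : (sd 1 J * sd 1 J : SF F) = sd 1 (-1) := by
        apply Subtype.ext
        change bd 1 (J : S2 F).1 * bd 1 (J : S2 F).1 = bd 1 (-1 : S2 F).1
        rw [bd_mul, mul_one]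
        have h5 : (J : S2 F).1 * (J : S2 F).1 = (-1 : S2 F).1 := congrArg Subtype.val J_sq
        rw [h5]
      rw [e1, ← proj_blk, ← proj_blk]
      exact map_b2_neg_one (quot_proj hF)
    · rw [psi2, lift_pr, MulAut.mul_apply, itr_sd, ← map_inv]
      have e2 : (sd 1 J : SF F)⁻¹ = sd 1 (-J) := by
        rw [inv_eq_iff_mul_eq_one]
        apply Subtype.ext
        change bd 1 (J : S2 F).1 * bd 1 (-J : S2 F).1 = 1
        have h5 : (J : S2 F).1 * (-J : S2 F).1 = 1 := by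
          have h6 : (J : S2 F) * -J = 1 := by rw [mul_neg, J_sq, neg_neg]
          exact congrArg Subtype.val h6
        rw [bd_mul, mul_one, h5, bd_one]
      rw [e2, mul_one, mul_inv_cancel, mul_inv_cancel_right]
      congr 1
      apply cj_eq
      change D1 F * (sd 1 J).1 = (sd 1 (-J)).1 * D1 F
      have h1 : (1 : S2 F).1 = 1 := rfl
      have hJ : (J : S2 F).1 = !![0, -1; 1, 0] := rfl
      have hJ' : (-J : S2 F).1 = !![0, 1; -1, 0] := by
        change -(J : S2 F).1 = _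
        rw [hJ]
        ext i j
        fin_cases i <;> fin_cases j <;> simp
      rw [coe_sd, coe_sd, D1_eq, bd_mul, bd_mul, h1, hJ, hJ', one_mul]
      congr 1
      ext i j
      fin_cases i <;> fin_cases j <;> simp [Matrix.mul_apply, Fin.sum_univ_two]
  · obtain ⟨e1, e2, e3, e4, e5, e6⟩ := four_aux (F := F)
    rw [t_eq]
    exact {
      aa := by rw [← map_mul, e1, map_one]
      ne := by
        have := (DD hF h).t_ne
        rw [t_eq] at this
        exact this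
      bb := by rw [← map_mul, e2, map_one]
      ab := by rw [← map_mul, e3, map_mul]
      d3 := by rw [← map_mul, ← map_mul, e4, map_one]
      da := by rw [mul_inv_eq_iff_eq_mul, ← map_mul, e5, map_mul]
      db := by rw [mul_inv_eq_iff_eq_mul, ← map_mul, e6, map_mul, map_mul] }
  · rw [t_eq]
    apply psi2_fix
    · rw [coe_tt, diagonal_transpose, diagonal_mul_diagonal, ← diagonal_one]
      congr 1
      funext i
      fin_cases i <;> simp
    · rw [coe_tt, D1, diagonal_mul_diagonal, diagonal_mul_diagonal]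
      congr 1
      funext i
      fin_cases i <;> simp
  · apply psi2_fix
    · rw [coe_bB, diagonal_transpose, diagonal_mul_diagonal, ← diagonal_one]
      congr 1
      funext i
      fin_cases i <;> simp
    · rw [coe_bB, D1, diagonal_mul_diagonal, diagonal_mul_diagonal]
      congr 1
      funext i
      fin_cases i <;> simp
  · apply psi2_fix
    · rw [coe_dD]
      ext i j
      fin_cases i <;> fin_cases j <;> simp [Matrix.mul_apply, Fin.sum_univ_four]
    · rw [coe_dD, D1]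
      ext i j
      rw [mul_diagonal, diagonal_mul]
      fin_cases i <;> fin_cases j <;> simp

end core

end Cfsg.Agent.GH.Cov.F5L4Types
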