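import Mathlib
import Cfsg.Agent.GH.Cov.F5L4Types
import Cfsg.Agent.GH.Cov.F5L4Torus

/-!
# GH-COV, (F5b) for `PSL(4, F)`, `|F| ≡ 3 mod 4`: `diag(-1,1,1,1)` is of type III
-/

set_option autoImplicit false

open Matrix hiding J
open Module
open Cfsg.Agent.GH.Cov.F5Core Cfsg.Agent.GH.Cov.LieData Cfsg.Agent.GH.Cov.SLTwoFacts
open Cfsg.Agent.GH.Cov.LieL4 Cfsg.Agent.GH.Cov.LieL4Core Cfsg.Agent.GH.Cov.F5L4Out
open Cfsg.Agent.GH.Cov.F5L4Types
open Cfsg.Agent.ClassicalGeometry.AutPSL.Root Cfsg.Agent.ClassicalGeometry.AutPSL.Auto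
open Cfsg.Agent.ClassicalGeometry.AutPSL.Main

namespace Cfsg.Agent.GH.Cov.F5L4Three

variable {F : Type*} [Field F]

/-- `2^(2n+6)` does not divide `|PSL₄(q)|` if `q + 1 = 2^(n+1) k`, `k` odd. -/
theorem not_dvd_card [Fintype F] (hF : Fintype.card F % 4 = 3) {n k : ℕ} (hk : Odd k)
    (hn : Fintype.card F + 1 = 2 ^ (n + 1) * k) : ¬ 2 ^ (2 * n + 6) ∣ Nat.card (PL F) := by
  have h1 := S0265.card_GL_eq_SL (F := F) (n := 4) (by norm_num)
  rw [card_GL_field, Fin.prod_univ_four, Nat.card_units, Nat.card_eq_fintype_card (α := F),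
    show Nat.card (SpecialLinearGroup (Fin 4) F) = _ from card_SF hF] at h1
  obtain ⟨u, hu⟩ : ∃ u, Fintype.card F = 4 * u + 3 := ⟨Fintype.card F / 4, by omega⟩
  have hodd : Odd (Fintype.card F) := ⟨2 * u + 1, by omega⟩
  generalize Fintype.card F = q at *
  generalize Nat.card (PL F) = N at *
  have e0 : q ^ 4 - q ^ ((0 : Fin 4) : ℕ) = (q - 1) * ((q + 1) * (q ^ 2 + 1)) := by
    obtain ⟨r, rfl⟩ : ∃ r, q = r + 1 := ⟨q - 1, by omega⟩
    change (r + 1) ^ 4 - (r + 1) ^ 0 = _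
    rw [Nat.add_sub_cancel]
    apply Nat.sub_eq_of_eq_add
    ring
  have e1 : q ^ 4 - q ^ ((1 : Fin 4) : ℕ) = q * ((q - 1) * (q ^ 2 + q + 1)) := by
    obtain ⟨r, rfl⟩ : ∃ r, q = r + 1 := ⟨q - 1, by omega⟩
    change (r + 1) ^ 4 - (r + 1) ^ 1 = _
    rw [Nat.add_sub_cancel]
    apply Nat.sub_eq_of_eq_add
    ring
  have e2 : q ^ 4 - q ^ ((2 : Fin 4) : ℕ) = q ^ 2 * ((q - 1) * (q + 1)) := by
    obtain ⟨r, rfl⟩ : ∃ r, q = r + 1 := ⟨q - 1, by omega⟩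
    change (r + 1) ^ 4 - (r + 1) ^ 2 = _
    rw [Nat.add_sub_cancel]
    apply Nat.sub_eq_of_eq_add
    ring
  have e3 : q ^ 4 - q ^ ((3 : Fin 4) : ℕ) = q ^ 3 * (q - 1) := by
    obtain ⟨r, rfl⟩ : ∃ r, q = r + 1 := ⟨q - 1, by omega⟩
    change (r + 1) ^ 4 - (r + 1) ^ 3 = _
    rw [Nat.add_sub_cancel]
    apply Nat.sub_eq_of_eq_add
    ring
  rw [e0, e1, e2, e3] at h1
  have hq1 : q - 1 = 2 * (2 * u + 1) := by omega
  have hq0 : 0 < q - 1 := by omega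
  obtain ⟨v, hv⟩ : ∃ v, q ^ 2 + 1 = 2 * (2 * v + 1) := by
    refine ⟨4 * u ^ 2 + 6 * u + 2, ?_⟩
    rw [hu]
    ring
  have hz : Odd (q ^ 2 + q + 1) := by
    rw [hu]
    exact ⟨8 * u ^ 2 + 14 * u + 6, by ring⟩
  -- cancel `q - 1`
  have h2 : 2 * N = 2 ^ (2 * n + 6) * (q ^ 6 * (2 * u + 1) ^ 3 * k ^ 2 * (2 * v + 1) * (q ^ 2 + q + 1)) := by
    apply Nat.eq_of_mul_eq_mul_left hq0
    rw [← h1, hn, hv]
    nth_rewrite 2 [hq1]
    nth_rewrite 2 [hq1]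
    nth_rewrite 2 [hq1]
    ring
  rintro ⟨m, rfl⟩
  have h3 : 2 * m = q ^ 6 * (2 * u + 1) ^ 3 * k ^ 2 * (2 * v + 1) * (q ^ 2 + q + 1) := by
    apply Nat.eq_of_mul_eq_mul_left (show 0 < 2 ^ (2 * n + 6) by positivity)
    rw [← h2]
    ring
  have h4 : Odd (q ^ 6 * (2 * u + 1) ^ 3 * k ^ 2 * (2 * v + 1) * (q ^ 2 + q + 1)) :=
    ((((hodd.pow).mul (Odd.pow ⟨u, rfl⟩)).mul hk.pow).mul ⟨v, rfl⟩).mul hz
  rw [← h3] at h4
  exact (Nat.not_odd_iff_even.2 (even_two_mul m)) h4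

/-- The involutions `diag(-1,-1,1,1)` of `SL₄` are conjugate. -/
theorem isConj_t (h2 : (2 : F) ≠ 0) {x : SF F} (hx : x.1 * x.1 = 1) (h1 : x.1 ≠ 1) (h1' : x.1 ≠ -1) :
    IsConj (pr (sd (-1 : S2 F) 1)) (pr x) := by
  obtain ⟨g, hg⟩ : ∃ g : S4 F, g = slReindex (F := F) (finSumFinEquiv (m := 2) (n := 2)).symm x := ⟨_, rfl⟩
  have hxx : x * x = 1 := Subtype.ext hx
  have hgg : g * g = 1 := by rw [hg, ← map_mul, hxx, map_one]
  have hg1 : g ≠ 1 := by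
    intro h
    rw [hg, EmbeddingLike.map_eq_one_iff] at h
    exact h1 (congrArg Subtype.val h)
  have hgm : g ≠ m1 := by
    intro h
    have h3 : reindex (finSumFinEquiv (m := 2) (n := 2)).symm (finSumFinEquiv (m := 2) (n := 2)).symm x.1 =
        -1 := by
      rw [← coe_m1, ← h, hg]
      rfl
    apply h1'
    ext i j
    have h4 := congrFun (congrFun h3 ((finSumFinEquiv (m := 2) (n := 2)).symm i))
      ((finSumFinEquiv (m := 2) (n := 2)).symm j)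
    rw [reindex_apply, submatrix_apply, Equiv.symm_symm, Equiv.apply_symm_apply, Equiv.apply_symm_apply] at h4
    rw [h4, neg_apply, neg_apply, one_apply, one_apply]
    simp
  obtain ⟨y, hy⟩ := conj_of_sq h2 hgg hg1 hgm
  have h3 : pr x = proj F g := by rw [hg, proj_reindex]
  have h4 : pr (sd (-1 : S2 F) 1) = proj F (blk (-1) 1) := (proj_blk (-1) 1).symm
  rw [h3, h4, ← hy, map_mul, map_mul, map_inv]
  exact (isConj_iff.2 ⟨proj F y, rfl⟩).symm

/-- The diagonal automorphism. -/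
noncomputable def psi3 (G : M2 F) (hG : (bd G 1).det ≠ 0) : MulAut (PL F) := lift (cj (gl (bd G 1) hG))

section psi3

variable {G : M2 F} (hG : (bd G 1).det ≠ 0)

theorem psi3_sd {a a' : S2 F} (b : S2 F) (h : G * a.1 = a'.1 * G) : psi3 G hG (pr (sd a b)) = pr (sd a' b) := by
  rw [psi3, lift_pr]
  congr 1
  apply cj_eq
  change bd G 1 * (sd a b).1 = (sd a' b).1 * bd G 1
  rw [coe_sd, coe_sd, bd_mul, bd_mul, h, one_mul, mul_one]

end psi3

theorem sd_mul (a b a' b' : S2 F) : sd a b * sd a' b' = sd (a * a') (b * b') := by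
  apply Subtype.ext
  change bd a.1 b.1 * bd a'.1 b'.1 = bd (a.1 * a'.1) (b.1 * b'.1)
  rw [bd_mul]

theorem sd_one : sd (1 : S2 F) 1 = 1 := Subtype.ext bd_one

theorem sd_inv (a b : S2 F) : (sd a b)⁻¹ = sd a⁻¹ b⁻¹ := by
  rw [inv_eq_iff_mul_eq_one, sd_mul, mul_inv_cancel, mul_inv_cancel, sd_one]

/-- Block swap. -/
def Sw : SF F := ⟨!![0, 0, 1, 0; 0, 0, 0, 1; 1, 0, 0, 0; 0, 1, 0, 0], by
  rw [Matrix.det_succ_row_zero]
  simp [Fin.sum_univ_succ, Matrix.det_fin_three, Matrix.submatrix, Fin.succAbove, Fin.succ, Fin.castSucc]⟩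

theorem coe_Sw : (Sw : SF F).1 = !![0, 0, 1, 0; 0, 0, 0, 1; 1, 0, 0, 0; 0, 1, 0, 0] := rfl

theorem Sw_mul_Sw : (Sw : SF F).1 * (Sw : SF F).1 = 1 := by
  rw [coe_Sw]
  ext i j
  fin_cases i <;> fin_cases j <;> simp [Matrix.mul_apply, Fin.sum_univ_four]

theorem Sw_bd (X Y : M2 F) : (Sw : SF F).1 * bd X Y = bd Y X * (Sw : SF F).1 := by
  rw [coe_Sw]
  ext i j
  fin_cases i <;> fin_cases j <;> simp [bd, Matrix.mul_apply, Fin.sum_univ_four]

section core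

variable [Fintype F] (hF : Fintype.card F % 4 = 3) {i j w : S2 F} (h : SLFacts (-1) i j w)

include hF

theorem typeIII_psi3 : ∃ (G : M2 F) (hG : (bd G 1).det ≠ 0), G * G = 1 ∧ G.det = -1 ∧
    TypeIII (DD hF h) (psi3 G hG) := by
  have h2 : (2 : F) ≠ 0 := F5L4Good.two_ne hF
  obtain ⟨n, k, r, s, G, hn, hk, hq, hr, hs, hsr, hGG, hGd, hGr, hGs⟩ := F5L4Torus.exists_semi hF
  have hG : (bd G 1).det ≠ 0 := by
    rw [det_bd, hGd, det_one, mul_one]
    exact neg_ne_zero.2 one_ne_zero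
  have hneg : (-1 : F) ≠ 1 := by
    intro h3
    apply h2
    linear_combination -h3
  have hG1 : G ≠ 1 := by
    rintro rfl
    rw [det_one] at hGd
    exact hneg hGd.symm
  have hGm : G ≠ -1 := by
    rintro rfl
    rw [det_neg, Fintype.card_fin, det_one] at hGd
    apply hneg
    linear_combination -hGd
  have hw1 : pr (Sw : SF F) * pr Sw = 1 := by
    rw [← map_mul, show (Sw : SF F) * Sw = 1 from Subtype.ext Sw_mul_Sw, map_one]
  have hwinv : (pr (Sw : SF F))⁻¹ = pr Sw := inv_eq_of_mul_eq_one_right hw1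
  have hwc : ∀ a b : S2 F, pr (Sw : SF F) * pr (sd a b) * (pr (Sw : SF F))⁻¹ = pr (sd b a) := by
    intro a b
    rw [mul_inv_eq_iff_eq_mul, ← map_mul, ← map_mul]
    congr 1
    apply Subtype.ext
    exact Sw_bd a.1 b.1
  obtain ⟨c, hc⟩ : ∃ c : SF F, c.1 = bd G G := ⟨⟨bd G G, by rw [det_bd, hGd]; ring⟩, rfl⟩
  have hpow : ∀ m : ℕ, (sd r 1 : SF F) ^ m = sd (r ^ m) 1 := by
    intro m
    induction m with
    | zero => rw [pow_zero, pow_zero, sd_one]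
    | succ m ih => rw [pow_succ, pow_succ, ih, sd_mul, mul_one]
  refine ⟨G, hG, hGG, hGd, 1, psi3 G hG, by rw [one_mul, inv_one, mul_one], ?_, ?_, n, pr (sd r 1), pr (sd s 1),
    pr Sw, pr c, hn, (mem_A1 hF h).2 ⟨r, rfl⟩, (mem_A1 hF h).2 ⟨s, rfl⟩, ?_, ?_, ?_, ?_, ?_, hw1, ?_, ?_, ?_,
    ?_, ?_, ?_, not_dvd_card hF hk hq⟩
  · intro x hx
    obtain ⟨a, rfl⟩ := (mem_A1 hF h).1 hx
    obtain ⟨a', ha'⟩ := exists_conj2 G (by rw [hGd]; exact neg_ne_zero.2 one_ne_zero) a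
    rw [psi3_sd hG 1 ha']
    exact (mem_A1 hF h).2 ⟨_, rfl⟩
  · intro x hx
    obtain ⟨a, rfl⟩ := (mem_A2 hF h).1 hx
    exact psi3_sd hG a (by
      have h1 : (1 : S2 F).1 = 1 := rfl
      rw [h1, one_mul, mul_one])
  · rw [t_eq, ← map_pow, hpow, hr]
  · rw [t_eq, ← map_mul, sd_mul, hs, mul_one]
  · rw [← map_inv, ← map_mul, ← map_mul, ← map_inv, sd_inv, sd_inv, sd_mul, sd_mul, hsr]
    simp
  · rw [psi3_sd hG 1 hGr, ← map_inv, sd_inv, inv_one]
  · rw [psi3_sd hG 1 hGs, t_eq, ← map_inv, ← map_mul, ← map_mul, sd_inv, sd_mul, sd_mul]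
    congr 2
    · rw [neg_one_mul, neg_mul]
    · simp
  · rw [t_eq]
    apply isConj_t h2 Sw_mul_Sw
    · intro h3
      have h4 := congrFun (congrFun h3 0) 0
      rw [coe_Sw] at h4
      simp at h4
    · intro h3
      have h4 := congrFun (congrFun h3 0) 0
      rw [coe_Sw] at h4
      simp at h4
  · intro x hx
    obtain ⟨a, rfl⟩ := (mem_A1 hF h).1 hx
    rw [hwc]
    exact (mem_A2 hF h).2 ⟨_, rfl⟩
  · intro x hx
    obtain ⟨a, rfl⟩ := (mem_A2 hF h).1 hx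
    rw [hwc]
    exact (mem_A1 hF h).2 ⟨_, rfl⟩
  · rw [← map_mul, show c * c = 1 from Subtype.ext (by
      change c.1 * c.1 = 1
      rw [hc, bd_mul, hGG, bd_one]), map_one]
  · rw [t_eq]
    apply isConj_t h2
    · rw [hc, bd_mul, hGG, bd_one]
    · intro h3
      apply hG1
      rw [hc, ← bd_one] at h3
      ext i j
      have e00 := congrFun (congrFun h3 0) 0
      have e01 := congrFun (congrFun h3 0) 1
      have e10 := congrFun (congrFun h3 1) 0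
      have e11 := congrFun (congrFun h3 1) 1
      simp [bd] at e00 e01 e10 e11
      fin_cases i <;> fin_cases j <;> simp [e00, e01, e10, e11]
    · intro h3
      apply hGm
      rw [hc] at h3
      ext i j
      have e00 := congrFun (congrFun h3 0) 0
      have e01 := congrFun (congrFun h3 0) 1
      have e10 := congrFun (congrFun h3 1) 0
      have e11 := congrFun (congrFun h3 1) 1
      simp [bd] at e00 e01 e10 e11
      fin_cases i <;> fin_cases j <;> simp [e00, e01, e10, e11]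
  · rw [← lift_cj_toGL, ← lift_cj_toGL, psi3, ← map_inv, ← map_inv, ← map_mul, ← map_mul, ← map_mul,
      ← map_mul, ← map_mul, ← map_mul]
    congr 2
    rw [← mul_assoc, mul_inv_eq_iff_eq_mul]
    apply Units.ext
    change bd G 1 * ((Sw : SF F).1 * bd G 1) = c.1 * (Sw : SF F).1
    rw [Sw_bd, ← mul_assoc, bd_mul, hc, one_mul, mul_one]

end core

end Cfsg.Agent.GH.Cov.F5L4Three
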