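import Mathlib
import Cfsg.Agent.GH.Cov.F5L4Three

/-!
# GH-COV, (F5) for `PSL(4, F)`, `|F| ≡ 3 mod 4`: `Nonempty (Data (PSL (Fin 4) F))`
-/

set_option autoImplicit false

open Matrix hiding J
open Module
open Cfsg.Agent.GH.Cov.F5Core Cfsg.Agent.GH.Cov.LieData Cfsg.Agent.GH.Cov.SLTwoFacts
open Cfsg.Agent.GH.Cov.LieL4 Cfsg.Agent.GH.Cov.LieL4Core Cfsg.Agent.GH.Cov.F5L4Out
open Cfsg.Agent.GH.Cov.F5L4Types Cfsg.Agent.GH.Cov.F5L4Three
open Cfsg.Agent.ClassicalGeometry.AutPSL.Root Cfsg.Agent.ClassicalGeometry.AutPSL.Auto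
open Cfsg.Agent.ClassicalGeometry.AutPSL.Main

namespace Cfsg.Agent.GH.Cov.F5L4Outer

variable {F : Type*} [Field F]

theorem typeII_conj {L : Type*} [Group L] {D : Core L} {φ : MulAut L} (h : TypeII D φ) (g : MulAut L) :
    TypeII D (g * φ * g⁻¹) := by
  obtain ⟨χ, ψ, h1, h2⟩ := h
  exact ⟨χ * g⁻¹, ψ, by rw [h1]; group, h2⟩

theorem typeIII_conj {L : Type*} [Group L] {D : Core L} {φ : MulAut L} (h : TypeIII D φ) (g : MulAut L) :
    TypeIII D (g * φ * g⁻¹) := by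
  obtain ⟨χ, ψ, h1, h2⟩ := h
  exact ⟨χ * g⁻¹, ψ, by rw [h1]; group, h2⟩

/-- Field automorphisms normalize the matrices. -/
theorem fld_cj (σ : F ≃+* F) (A : GL (Fin 4) F) :
    ∃ B : GL (Fin 4) F, (fld σ : MulAut (SF F)) * cj A = cj B * fld σ := by
  refine ⟨GeneralLinearGroup.map (σ : F →+* F) A, ?_⟩
  apply MulEquiv.ext
  intro x
  rw [MulAut.mul_apply, MulAut.mul_apply]
  symm
  apply cj_eq
  have h1 : (fld σ (cj A x)).1 = (σ : F →+* F).mapMatrix (cj A x).1 := rfl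
  have h2 : (fld σ x).1 = (σ : F →+* F).mapMatrix x.1 := rfl
  have h3 : (GeneralLinearGroup.map (σ : F →+* F) A).1 = (σ : F →+* F).mapMatrix A.1 := rfl
  rw [h1, h2, h3, ← map_mul, ← map_mul, coe_cj, mul_assoc, mul_assoc, ← Units.val_mul, inv_mul_cancel,
    Units.val_one, mul_one]

/-- Inverse transpose normalizes the matrices. -/
theorem itr_cj (A : GL (Fin 4) F) :
    ∃ B : GL (Fin 4) F, B.1 * A.1ᵀ = 1 ∧ (itr : MulAut (SF F)) * cj A = cj B * itr := by
  have hA : A.1ᵀ.det ≠ 0 := by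
    rw [det_transpose]
    have h1 : A.1.det * (A⁻¹).1.det = 1 := by
      rw [← det_mul, ← Units.val_mul, mul_inv_cancel, Units.val_one, det_one]
    exact left_ne_zero_of_mul_eq_one h1
  refine ⟨(gl A.1ᵀ hA)⁻¹, ?_, ?_⟩
  · change (gl A.1ᵀ hA)⁻¹.1 * (gl A.1ᵀ hA).1 = 1
    rw [← Units.val_mul, inv_mul_cancel, Units.val_one]
  · apply MulEquiv.ext
    intro x
    rw [MulAut.mul_apply, MulAut.mul_apply, eq_comm, map_inv, MulAut.inv_apply, MulEquiv.symm_apply_eq, eq_comm]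
    apply cj_eq
    change A.1ᵀ * ((cj A x)⁻¹ : SF F).1ᵀ = (x⁻¹ : SF F).1ᵀ * A.1ᵀ
    rw [← transpose_mul, ← transpose_mul, ← map_inv, coe_cj, mul_assoc, ← Units.val_mul, inv_mul_cancel,
      Units.val_one, mul_one]

theorem sigma_eq_one [Fintype F] (hF : Fintype.card F % 4 = 3) {σ : F ≃+* F} (h : σ * σ = 1) : σ = 1 := by
  have h1 : orderOf σ ∣ 2 := orderOf_dvd_of_pow_eq_one (by rw [pow_two]; exact h)
  have h2 : orderOf σ ∣ Nat.card (F ≃+* F) := orderOf_dvd_natCard σ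
  rcases (Nat.dvd_prime Nat.prime_two).1 h1 with h3 | h3
  · exact orderOf_eq_one_iff.1 h3
  · exfalso
    rw [h3] at h2
    obtain ⟨k, hk⟩ := odd_card_aut hF
    omega

/-- `lift (cj A)² = 1` implies that `A²` is scalar. -/
theorem exists_scalar {A : GL (Fin 4) F} (h : lift (cj A) = (1 : MulAut (PL F))) :
    ∃ l : F, A.1 = l • 1 := by
  have h1 : lift (cj A * fld (1 : F ≃+* F)) = lift (fld 1) := by
    rw [map_one, mul_one, h, map_one]
  obtain ⟨⟨l, hl⟩, -⟩ := injective_aux h1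
  refine ⟨l, ?_⟩
  rw [← hl]
  ext i j
  rw [scalar_apply, Matrix.smul_apply, diagonal_apply, one_apply]
  split_ifs <;> simp

/-- Scalars act trivially. -/
theorem cj_smul {A B : GL (Fin 4) F} {c : F} (h : A.1 = c • B.1) : cj A = cj B := by
  have h1 : A = (A * B⁻¹) * B := by rw [inv_mul_cancel_right]
  have h2 : scalar (Fin 4) c = (A * B⁻¹ : GL (Fin 4) F).1 := by
    rw [Units.val_mul, h, smul_mul_assoc, ← Units.val_mul, mul_inv_cancel, Units.val_one]
    ext i j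
    rw [scalar_apply, Matrix.smul_apply, diagonal_apply, one_apply]
    split_ifs <;> simp
  rw [h1, map_mul, cj_eq_one_of_scalar h2, one_mul]

theorem det_gl (A : GL (Fin 4) F) : A.1.det ≠ 0 := by
  have h1 : A.1.det * (A⁻¹).1.det = 1 := by
    rw [← det_mul, ← Units.val_mul, mul_inv_cancel, Units.val_one, det_one]
  exact left_ne_zero_of_mul_eq_one h1

/-- If `det A` is a square, `A` acts as an element of `SL`. -/
theorem exists_sl [Fintype F] (hF : Fintype.card F % 4 = 3) {A : GL (Fin 4) F} {s : F} (h : A.1.det = s * s) :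
    ∃ x : SF F, cj A = cj (SpecialLinearGroup.toGL x) := by
  obtain ⟨t, ht⟩ := F5L4Good.sq_or hF s
  have h4 : A.1.det = t ^ 4 := by
    rcases ht with ht | ht <;> rw [h, ht] <;> ring
  have ht0 : t ≠ 0 := by
    rintro rfl
    apply det_gl A
    rw [h4]
    ring
  refine ⟨⟨t⁻¹ • A.1, by
    rw [det_smul, Fintype.card_fin, h4]
    field_simp⟩, ?_⟩
  apply cj_smul (c := t)
  change A.1 = t • (t⁻¹ • A.1)
  rw [smul_smul, mul_inv_cancel₀ ht0, one_smul]

/-- Case A. -/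
theorem caseA [Fintype F] (hF : Fintype.card F % 4 = 3) {A : GL (Fin 4) F} {l : F} (hA : A.1 * A.1 = l • 1)
    (hd : ∀ s, s ≠ 0 → A.1.det ≠ s * s) :
    ∃ g : MulAut (PL F), lift (cj A) = g * lift (cj (gl (D1 F) det_D1_ne)) * g⁻¹ := by
  obtain ⟨a, c, -, ha, hc, hac⟩ := (F5L4Good.good hF).typeA (det_gl A) hA hd
  obtain ⟨x, hx⟩ : ∃ x : SF F, x.1 = a := ⟨⟨a, ha⟩, rfl⟩
  refine ⟨lift (cj (SpecialLinearGroup.toGL x)), ?_⟩
  rw [← map_inv, ← map_mul, ← map_mul, ← map_inv, ← map_mul, ← map_mul]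
  congr 1
  apply cj_smul (c := c)
  rw [hac]
  congr 1
  have h1 : (SpecialLinearGroup.toGL x)⁻¹.1 = a⁻¹ := by
    have h2 : (SpecialLinearGroup.toGL x)⁻¹.1 * a = 1 := by
      have h3 : (SpecialLinearGroup.toGL x)⁻¹.1 * (SpecialLinearGroup.toGL x).1 = 1 := by
        rw [← Units.val_mul, inv_mul_cancel, Units.val_one]
      rw [← hx]
      exact h3
    exact (inv_eq_left_inv h2).symm
  rw [Units.val_mul, Units.val_mul, h1, coe_gl]
  change _ = x.1 * D1 F * a⁻¹
  rw [hx]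

/-- Case B. -/
theorem caseB [Fintype F] (hF : Fintype.card F % 4 = 3) {A : GL (Fin 4) F} {l : F} (hA : A.1ᵀ = l • A.1)
    (hd : ∀ s, s ≠ 0 → A.1.det ≠ s * s) :
    ∃ g : MulAut (PL F), lift (cj A * itr) = g * psi2 * g⁻¹ := by
  obtain ⟨a, c, -, ha, hc, hac⟩ := (F5L4Good.good hF).typeB (det_gl A) hA hd
  obtain ⟨x, hx⟩ : ∃ x : SF F, x.1 = a := ⟨⟨a, ha⟩, rfl⟩
  refine ⟨lift (cj (SpecialLinearGroup.toGL x)), ?_⟩
  obtain ⟨B, hB, hBi⟩ := itr_cj (F := F) (SpecialLinearGroup.toGL x)⁻¹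
  rw [psi2, ← map_inv, ← map_mul, ← map_mul]
  congr 1
  rw [← map_inv, mul_assoc, mul_assoc, hBi, ← mul_assoc, ← mul_assoc, ← map_mul, ← map_mul]
  congr 1
  apply cj_smul (c := c)
  rw [hac]
  congr 1
  have h1 : B.1 = aᵀ := by
    have h3 : (SpecialLinearGroup.toGL x).1 * (SpecialLinearGroup.toGL x)⁻¹.1 = 1 := by
      rw [← Units.val_mul, mul_inv_cancel, Units.val_one]
    have h4 : (SpecialLinearGroup.toGL x)⁻¹.1ᵀ * aᵀ = 1 := by
      rw [← transpose_mul, ← hx]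
      have h5 : x.1 * (SpecialLinearGroup.toGL x)⁻¹.1 = 1 := h3
      rw [h5, transpose_one]
    calc B.1 = B.1 * ((SpecialLinearGroup.toGL x)⁻¹.1ᵀ * aᵀ) := by rw [h4, mul_one]
      _ = aᵀ := by rw [← mul_assoc, hB, one_mul]
  rw [Units.val_mul, Units.val_mul, h1, coe_gl]
  change _ = x.1 * D1 F * aᵀ
  rw [hx]

section core

variable [Fintype F] (hF : Fintype.card F % 4 = 3) {i j w : S2 F} (h : SLFacts (-1) i j w)

theorem outer (φ : MulAut (PL F)) (h2 : φ * φ = 1) (hφ : φ ∉ Inn (PL F))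
    (hbad : ∀ u : PL F, ¬ Bad (DD hF h) (φ * MulAut.conj u)) :
    TypeI (DD hF h) φ ∨ TypeII (DD hF h) φ ∨ TypeIII (DD hF h) φ := by
  obtain ⟨p, hp⟩ := CharP.exists F
  obtain ⟨m, hp', -⟩ := FiniteField.card F p
  have : Fact p.Prime := ⟨hp'⟩
  rcases surj_three p (by norm_num : 3 ≤ 4) φ with ⟨A, σ, rfl⟩ | ⟨A, σ, rfl⟩
  · right; right
    obtain ⟨B, hB⟩ := fld_cj σ A
    have h3 : (cj A * fld σ) * (cj A * fld σ) = cj (A * B) * fld (σ * σ) := by
      calc (cj A * fld σ) * (cj A * fld σ) = cj A * (fld σ * cj A) * fld σ := by simp only [mul_assoc]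
        _ = cj (A * B) * fld (σ * σ) := by rw [hB, map_mul, map_mul]; simp only [mul_assoc]
    have h4 : lift (cj (A * B) * fld (σ * σ)) = lift (fld (1 : F ≃+* F)) := by
      rw [← h3, map_mul, h2, map_one, map_one]
    obtain ⟨-, h5⟩ := injective_aux h4
    obtain rfl := sigma_eq_one hF h5
    rw [map_one, mul_one] at hφ h2 ⊢
    rw [← map_mul, ← map_mul] at h2
    obtain ⟨l, hl⟩ := exists_scalar h2
    rw [Units.val_mul] at hl
    have hd : ∀ s, s ≠ 0 → A.1.det ≠ s * s := by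
      intro s _ hs
      obtain ⟨x, hx⟩ := exists_sl hF hs
      apply hφ
      rw [hx, lift_cj_toGL]
      exact ⟨_, rfl⟩
    obtain ⟨g, hg⟩ := caseA hF hl hd
    obtain ⟨G, hG, hGG, hGd, hT⟩ := typeIII_psi3 hF h
    have hG2 : (gl (bd G 1) hG).1 * (gl (bd G 1) hG).1 = (1 : F) • 1 := by
      rw [coe_gl, bd_mul, hGG, mul_one, bd_one, one_smul]
    obtain ⟨g', hg'⟩ := caseA hF hG2 (by
      intro s _
      rw [coe_gl, det_bd, hGd, det_one, mul_one]
      exact (F5L4Good.sq_ne hF s).symm)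
    have h6 : lift (cj A) = (g * g'⁻¹) * psi3 G hG * (g * g'⁻¹)⁻¹ := by
      rw [hg, psi3, hg']
      group
    rw [h6]
    exact typeIII_conj hT _
  · right; left
    obtain ⟨B, hB1, hB⟩ := itr_cj A
    obtain ⟨B', hB'⟩ := fld_cj σ B
    have hfi : (itr : MulAut (SF F)) * fld σ = fld σ * itr := by
      apply MulEquiv.ext
      intro x
      rw [MulAut.mul_apply, MulAut.mul_apply]
      apply Subtype.ext
      rw [coe_itr, ← map_inv]
      rfl
    have h3 : (cj A * fld σ * itr) * (cj A * fld σ * itr) = cj (A * B') * fld (σ * σ) := by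
      calc (cj A * fld σ * itr) * (cj A * fld σ * itr) = cj A * fld σ * (itr * cj A) * fld σ * itr := by
            simp only [mul_assoc]
        _ = cj A * (fld σ * cj B) * (itr * fld σ) * itr := by rw [hB]; simp only [mul_assoc]
        _ = cj A * cj B' * fld σ * fld σ * (itr * itr) := by rw [hB', hfi]; simp only [mul_assoc]
        _ = cj (A * B') * fld (σ * σ) := by rw [itr_mul_itr, map_mul, map_mul]; simp only [mul_assoc, mul_one]
    have h4 : lift (cj (A * B') * fld (σ * σ)) = lift (fld (1 : F ≃+* F)) := by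
      rw [← h3, map_mul, h2, map_one, map_one]
    obtain ⟨-, h5⟩ := injective_aux h4
    obtain rfl := sigma_eq_one hF h5
    rw [map_one, mul_one] at hφ h2 hbad ⊢
    have h6 : lift (cj (A * B)) = (1 : MulAut (PL F)) := by
      rw [← h2, ← map_mul]
      congr 1
      calc cj (A * B) = cj A * cj B * (itr * itr) := by rw [itr_mul_itr, map_mul, mul_one]
        _ = cj A * (cj B * itr) * itr := by simp only [mul_assoc]
        _ = cj A * itr * (cj A * itr) := by rw [← hB]; simp only [mul_assoc]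
    obtain ⟨l, hl⟩ := exists_scalar h6
    rw [Units.val_mul] at hl
    -- `A = l Aᵀ`
    have hAl : A.1 = l • A.1ᵀ := by
      calc A.1 = A.1 * (B.1 * A.1ᵀ) := by rw [hB1, mul_one]
        _ = l • A.1ᵀ := by rw [← mul_assoc, hl, smul_mul_assoc, one_mul]
    have hAt : A.1ᵀ = l • A.1 := by
      conv_lhs => rw [hAl]
      rw [transpose_smul, transpose_transpose]
    by_cases hd : ∀ s, s ≠ 0 → A.1.det ≠ s * s
    · obtain ⟨g, hg⟩ := caseB hF hAt hd
      rw [hg]
      exact typeII_conj (typeII_psi2 hF h) g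
    · exfalso
      push Not at hd
      obtain ⟨s, -, hs⟩ := hd
      obtain ⟨x, hx⟩ := exists_sl hF hs
      obtain ⟨v, hv⟩ : ∃ v : PL F, v = pr (sd J J) * (pr x)⁻¹ := ⟨_, rfl⟩
      have h7 : bad0 (F := F) = MulAut.conj v * lift (cj A * itr) := by
        rw [bad0, map_mul lift, map_mul lift, hx, lift_cj_toGL, lift_cj_toGL, hv, map_mul, map_inv, ← mul_assoc,
          inv_mul_cancel_right]
      have h8 : ∀ (φ : MulAut (PL F)), MulAut.conj v * φ = φ * MulAut.conj (φ⁻¹ v) := by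
        intro φ
        apply MulEquiv.ext
        intro y
        rw [MulAut.mul_apply, MulAut.mul_apply, MulAut.conj_apply, MulAut.conj_apply, map_mul, map_mul, map_inv,
          MulAut.apply_inv_self]
      apply hbad ((lift (cj A * itr))⁻¹ v)
      rw [← h8, ← h7]
      exact bad_bad0 hF h

/-- (F1)-(F5) for `PSL(4, F)`, `|F| ≡ 3 mod 4`. -/
noncomputable def data : Data (PL F) :=
  { DD hF h with
    out := out hF h
    outer := outer hF h }

end core

/-- (F1)-(F5) for `PSL(4, F)`, `|F| ≡ 3 mod 4`. -/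
theorem exists_data [Fintype F] (hF : Fintype.card F % 4 = 3) :
    Nonempty (Data (ProjectiveSpecialLinearGroup (Fin 4) F)) := by
  obtain ⟨i, j, w, h⟩ := exists_facts (F := F) (Nat.odd_iff.2 (by omega))
  exact ⟨data hF h⟩

end Cfsg.Agent.GH.Cov.F5L4Outer
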