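import Mathlib

/-!
# GH-COV, (F5a): the abstract part

* `not_four` : `O` generated modulo `⟨δ⟩` by a copy of `Γ`, `δ² = 1` central, `c` the only involution of `Γ`: a
  subgroup of `O` of order divisible by 4 contains `c`.
* `relIndex_conj` : `|H : Inn|` is the order of the image of `H` in `Out`.
-/

set_option autoImplicit false

namespace Cfsg.Agent.GH.Cov.F5Out

theorem not_four {O Γ : Type*} [Group O] [Group Γ] (δ : O) (f : Γ →* O)
    (hf : Function.Injective f) (c : Γ) (hO : ∀ x : O, ∃ r, x = f r ∨ x = δ * f r) (hδ : δ * δ = 1)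
    (hcomm : ∀ r, δ * f r = f r * δ) (h2 : ∀ r : Γ, r * r = 1 → r = 1 ∨ r = c)
    (K : Subgroup O) [Finite K] (hK : f c ∉ K) : ¬ 4 ∣ Nat.card K := by
  intro h4
  have : Fact (Nat.Prime 2) := ⟨Nat.prime_two⟩
  obtain ⟨T, hT⟩ := Sylow.exists_subgroup_card_pow_prime (G := K) 2 (n := 2) (by norm_num; exact h4)
  have key : ∀ t : T, ((t : K) : O) ∈ ({1, δ, δ * f c} : Set O) := by
    intro t
    have ht4 : ((t : K) : O) * ((t : K) : O) * (((t : K) : O) * ((t : K) : O)) = 1 := by
      have h5 : t ^ 4 = 1 := by
        have h6 := pow_card_eq_one' (x := t)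
        rw [hT] at h6
        exact h6
      have h6 := congrArg (fun x : T => ((x : K) : O)) h5
      simp only [SubgroupClass.coe_pow, OneMemClass.coe_one] at h6
      rw [← h6]
      simp only [pow_succ, pow_zero, one_mul, mul_assoc]
    obtain ⟨r, hr⟩ := hO ((t : K) : O)
    have hsq : ((t : K) : O) * ((t : K) : O) = f (r * r) := by
      rcases hr with hr | hr
      · rw [hr, map_mul]
      · rw [hr, map_mul]
        calc δ * f r * (δ * f r) = (δ * f r) * (f r * δ) := by rw [hcomm r]
          _ = δ * (f r * f r) * δ := by group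
          _ = δ * (f (r * r) * δ) := by rw [map_mul]; group
          _ = δ * (δ * f (r * r)) := by rw [hcomm]
          _ = f r * f r := by rw [← mul_assoc, hδ, one_mul, map_mul]
    have h5 : r * r * (r * r) = 1 := by
      apply hf
      rw [map_mul, ← hsq, ht4, map_one]
    rcases h2 _ h5 with h6 | h6
    · rcases h2 _ h6 with h7 | h7
      · rcases hr with hr | hr
        · left; rw [hr, h7, map_one]
        · right; left; rw [hr, h7, map_one, mul_one]
      · rcases hr with hr | hr
        · exfalso
          apply hK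
          rw [← h7, ← hr]
          exact (t : K).2
        · right; right
          change ((t : K) : O) = _
          rw [hr, h7]
    · exfalso
      apply hK
      rw [← h6, ← hsq]
      exact K.mul_mem (t : K).2 (t : K).2
  have hle : Nat.card T ≤ Set.ncard ({1, δ, δ * f c} : Set O) := by
    rw [← Nat.card_coe_set_eq]
    have hfin : Finite ({1, δ, δ * f c} : Set O) := Set.Finite.to_subtype (by simp)
    refine Nat.card_le_card_of_injective (fun t : T => (⟨_, key t⟩ : ({1, δ, δ * f c} : Set O))) ?_
    intro a b hab
    have := congrArg Subtype.val hab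
    exact Subtype.ext (Subtype.ext this)
  have h3 : Set.ncard ({1, δ, δ * f c} : Set O) ≤ 3 := by
    refine (Set.ncard_insert_le _ _).trans ?_
    have := Set.ncard_insert_le δ ({δ * f c} : Set O)
    rw [Set.ncard_singleton] at this
    omega
  rw [hT] at hle
  omega

variable {L : Type*} [Group L]

instance conj_normal : (MulAut.conj : L →* MulAut L).range.Normal := by
  refine ⟨?_⟩
  rintro _ ⟨g, rfl⟩ φ
  refine ⟨φ g, ?_⟩
  ext x
  simp

theorem relIndex_conj (H : Subgroup (MulAut L)) :
    (MulAut.conj : L →* MulAut L).range.relIndex H =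
      Nat.card (H.map (QuotientGroup.mk' (MulAut.conj : L →* MulAut L).range)) := by
  conv_lhs => rw [← QuotientGroup.ker_mk' (MulAut.conj : L →* MulAut L).range]
  exact Subgroup.relIndex_ker H _

end Cfsg.Agent.GH.Cov.F5Out
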