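import Cfsg.Agent.GH.Cov.F5Uni
import Cfsg.Agent.GH.Cov.F5Out
import Cfsg.Agent.GH.Cov.LieData
import Cfsg.Agent.ClassicalGeometry.PSUAutMain

/-!
# GH-COV, (F5) for `PSU₄(q)`, `q ≡ 1 mod 4`

`au A ρ` : the automorphism `x ↦ A ρ(x) A⁻¹` of `PSU 4 F q`, `A` unitary, `ρ` a field automorphism.
-/

set_option autoImplicit false

namespace Cfsg.Agent.GH.Cov.F5PSU

open Cfsg Matrix
open Cfsg.Agent.LieClassical.HermBasic Cfsg.Agent.LieClassical.HermSiegel
open Cfsg.Agent.ClassicalGeometry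
open Cfsg.Agent.ClassicalGeometry.PSUAutBasic
open Cfsg.Agent.ClassicalGeometry.PSUAutCount (gm semiConj toAut herm_gm eq_of_toAut_eq
  gm_mul gm_one gm_inj gm_mul_inv gm_inv_mul)
open Cfsg.Agent.GH.Cov.F5Core Cfsg.Agent.GH.Cov.F5Uni Cfsg.Agent.GH.Cov.F5Out

variable {F : Type*} [Field F] [Fintype F] {q : ℕ} {hF : Fintype.card F = q ^ 2}

theorem un_gm (hF : Fintype.card F = q ^ 2) (A : GU 4 F q) : Un hF (gm A) :=
  GUBasic.transpose_mul_map (q_pos hF).ne' A.2

theorem un_mat (hF : Fintype.card F = q ^ 2) (g : SU 4 F q) : Un hF (mat g) :=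
  GUBasic.transpose_mul_map (q_pos hF).ne' g.2

/-- The element of `GU` with a given unitary matrix. -/
noncomputable def ofUn (A : M4 F) (h : Un hF A) : GU 4 F q :=
  ⟨⟨A, A⁻¹, mul_nonsing_inv _ h.isUnit, nonsing_inv_mul _ h.isUnit⟩, fun u v => h.herm u v⟩

theorem gm_ofUn (A : M4 F) (h : Un hF A) : gm (ofUn A h) = A := rfl

omit [Fintype F] in
theorem gm_inv (A : GU 4 F q) : gm A⁻¹ = (gm A)⁻¹ :=
  (inv_eq_right_inv (gm_mul_inv A)).symm

/-- The element of `SU` with a given unitary matrix of determinant one. -/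
def ofSU (A : M4 F) (h : Un hF A) (hd : A.det = 1) : SU 4 F q := mkSU A hd h.herm

theorem mat_ofSU (A : M4 F) (h : Un hF A) (hd : A.det = 1) : mat (ofSU A h hd) = A := rfl

omit [Fintype F] in
theorem mapr_mul (ρ : F ≃+* F) (A B : M4 F) : (A * B).map ρ = A.map ρ * B.map ρ :=
  Matrix.map_mul (f := (ρ : F →+* F))

omit [Fintype F] in
theorem mapr_one (ρ : F ≃+* F) : (1 : M4 F).map ρ = 1 :=
  Matrix.map_one _ (map_zero _) (map_one _)

theorem _root_.Cfsg.Agent.GH.Cov.F5Uni.Un.mapr {A : M4 F} (h : Un hF A) (ρ : F ≃+* F) :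
    Un hF (A.map ρ) := by
  have h1 : cn hF (A.map ρ) = (cn hF A).map ρ := by
    ext i j
    change conj hF (ρ (A i j)) = ρ (conj hF (A i j))
    rw [conj_apply, conj_apply, map_pow]
  unfold Un
  rw [h1, ← transpose_map, ← mapr_mul, h, mapr_one]

omit [Fintype F] in
theorem mat_semiConj (A : GU 4 F q) (ρ : F ≃+* F) (g : SU 4 F q) :
    mat (semiConj A ρ g) = gm A * (mat g).map ρ * gm A⁻¹ := rfl

variable (hF)

/-- `x ↦ A ρ(x) A⁻¹`. -/
noncomputable def au (A : M4 F) (h : Un hF A) (ρ : F ≃+* F) : MulAut (PSU 4 F q) := toAut (ofUn A h) ρ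

theorem au_pr (A : M4 F) (h : Un hF A) (ρ : F ≃+* F) {g g' : SU 4 F q}
    (hg : A * (mat g).map ρ * A⁻¹ = mat g') :
    au hF A h ρ (pr 4 F q g) = pr 4 F q g' := by
  rw [au, PSUAutMain.toAut_pr']
  congr 1
  apply mat_injective
  rw [mat_semiConj, gm_inv, gm_ofUn, hg]

theorem exists_au (φ : MulAut (PSU 4 F q)) : ∃ (A : M4 F) (h : Un hF A) (ρ : F ≃+* F),
    φ = au hF A h ρ := by
  obtain ⟨A, ρ, rfl⟩ := PSUAutMain.exists_toAut hF (by norm_num) (by norm_num) φ
  refine ⟨gm A, un_gm hF A, ρ, ?_⟩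
  rw [au]
  congr 1
  exact gm_inj rfl

theorem au_mul (A B : M4 F) (hA : Un hF A) (hB : Un hF B) (ρ σ : F ≃+* F) :
    au hF A hA ρ * au hF B hB σ = au hF (A * B.map ρ) (hA.mul (hB.mapr ρ)) (ρ * σ) := by
  ext x
  obtain ⟨g, rfl⟩ := pr_surjective x
  rw [MulAut.mul_apply, au, au, au, PSUAutMain.toAut_pr', PSUAutMain.toAut_pr', PSUAutMain.toAut_pr']
  congr 1
  apply mat_injective
  rw [mat_semiConj, mat_semiConj, mat_semiConj, gm_inv, gm_inv, gm_inv, gm_ofUn, gm_ofUn, gm_ofUn,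
    mapr_mul, mapr_mul, Matrix.mul_inv_rev]
  have h1 : (B⁻¹).map ρ = (B.map ρ)⁻¹ := by
    symm
    apply inv_eq_right_inv
    rw [← mapr_mul, mul_nonsing_inv _ hB.isUnit, mapr_one]
  have h2 : ((mat g).map σ).map ρ = (mat g).map (ρ * σ : F ≃+* F) := by
    rw [Matrix.map_map]; rfl
  rw [h1, h2]
  simp only [mul_assoc]

theorem au_congr {A B : M4 F} {hA : Un hF A} {hB : Un hF B} {ρ σ : F ≃+* F} (h : A = B) (h' : ρ = σ) :
    au hF A hA ρ = au hF B hB σ := by
  subst h h'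
  rfl

theorem au_one : au hF 1 un_one 1 = 1 := by
  ext x
  obtain ⟨g, rfl⟩ := pr_surjective x
  rw [au_pr hF _ _ _ (g' := g)]
  · rfl
  · rw [one_mul, inv_one, mul_one]
    ext i j
    rfl

theorem conj_pr (s : SU 4 F q) : MulAut.conj (pr 4 F q s) = au hF (mat s) (un_mat hF s) 1 := by
  ext x
  obtain ⟨g, rfl⟩ := pr_surjective x
  rw [au_pr hF _ _ _ (g' := s * g * s⁻¹), MulAut.conj_apply, map_mul, map_mul, map_inv]
  rw [mat_mul, mat_mul]
  have h1 : mat s⁻¹ = (mat s)⁻¹ := by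
    symm
    apply inv_eq_right_inv
    rw [← mat_mul, mul_inv_cancel, mat_one]
  rw [h1]
  congr 2

theorem au_smul (c : F) (hc : No F q c) (A : M4 F) (hA : Un hF A) (ρ : F ≃+* F)
    (hcA : Un hF (c • A)) : au hF (c • A) hcA ρ = au hF A hA ρ := by
  have h1 : (ofUn (c • A) hcA : GU 4 F q) = PSUAutCount.sc 4 ⟨c, hc⟩ * ofUn A hA := by
    apply gm_inj
    rw [PSUAutCount.gm_sc_mul]
    rfl
  rw [au, h1, PSUAutCount.toAut_sc_mul]
  rfl

theorem au_inj {A B : M4 F} {hA : Un hF A} {hB : Un hF B} {ρ σ : F ≃+* F}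
    (h : au hF A hA ρ = au hF B hB σ) : ρ = σ ∧ ∃ c, No F q c ∧ B = c • A := by
  obtain ⟨h1, c, hc, h2⟩ := eq_of_toAut_eq hF (by norm_num) h
  exact ⟨h1.symm, c, hc, h2⟩

/-! ### field automorphisms -/

omit hF in
theorem isCyclic_ringEquiv (F : Type*) [Field F] [Finite F] : IsCyclic (F ≃+* F) := by
  obtain ⟨p, hpc⟩ := CharP.exists F
  have : CharP F p := hpc
  have hp : Fact p.Prime := ⟨CharP.char_is_prime F p⟩
  let _ : Algebra (ZMod p) F := ZMod.algebra F p
  have hcomm : ∀ (ρ : F ≃+* F) (r : ZMod p), ρ (algebraMap (ZMod p) F r) = algebraMap (ZMod p) F r := by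
    intro ρ r
    obtain ⟨n, rfl⟩ := ZMod.natCast_zmod_surjective r
    rw [map_natCast, map_natCast]
  let e : (F ≃+* F) ≃* (F ≃ₐ[ZMod p] F) :=
    { toFun := fun ρ => AlgEquiv.ofRingEquiv (f := ρ) (hcomm ρ)
      invFun := fun ρ => ρ.toRingEquiv
      left_inv := fun ρ => by ext; rfl
      right_inv := fun ρ => by ext; rfl
      map_mul' := fun ρ σ => by ext; rfl }
  have h1 : IsCyclic (F ≃ₐ[ZMod p] F) := inferInstance
  exact isCyclic_of_surjective e.symm e.symm.surjective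

theorem ring_sq {ρ : F ≃+* F} (h : ρ * ρ = 1) : ρ = 1 ∨ ρ = conj hF := by
  classical
  have hc := isCyclic_ringEquiv F
  have hfin : Finite (F ≃+* F) :=
    Finite.of_injective (fun α : F ≃+* F => (α : F → F))
      (fun α β h => RingEquiv.ext fun x => congrFun h x)
  have : Fintype (F ≃+* F) := Fintype.ofFinite _
  by_contra hcon
  push Not at hcon
  have hconj : conj hF * conj hF = 1 := by
    ext x
    exact pow_q_pow_q hF x
  have hne : conj hF ≠ 1 := by
    intro h1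
    obtain ⟨x, hx⟩ := exists_not_fixed hF
    exact hx (DFunLike.congr_fun h1 x)
  have h3 := IsCyclic.card_pow_eq_one_le (α := F ≃+* F) (n := 2) (by norm_num)
  have h4 : ({1, ρ, conj hF} : Finset (F ≃+* F)) ⊆ Finset.univ.filter fun a : F ≃+* F => a ^ 2 = 1 := by
    intro a ha
    simp only [Finset.mem_insert, Finset.mem_singleton] at ha
    simp only [Finset.mem_filter, Finset.mem_univ, true_and]
    rcases ha with rfl | rfl | rfl
    · exact one_pow _
    · rw [pow_two, h]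
    · rw [pow_two, hconj]
  have h5 : ({1, ρ, conj hF} : Finset (F ≃+* F)).card = 3 := by
    rw [Finset.card_eq_three]
    exact ⟨1, ρ, conj hF, hcon.1.symm, hne.symm, hcon.2, rfl⟩
  have := Finset.card_le_card h4
  omega

theorem conj_ne_one : conj hF ≠ 1 := by
  intro h1
  obtain ⟨x, hx⟩ := exists_not_fixed hF
  exact hx (DFunLike.congr_fun h1 x)

theorem conj_conj : conj hF * conj hF = 1 := by
  ext x
  exact pow_q_pow_q hF x

/-! ### outer classes -/

/-- The outer automorphism group. -/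
abbrev Ou (F : Type*) [Field F] (q : ℕ) : Type _ :=
  MulAut (PSU 4 F q) ⧸ (MulAut.conj : PSU 4 F q →* MulAut (PSU 4 F q)).range

/-- The class of an automorphism. -/
def mk (F : Type*) [Field F] (q : ℕ) : MulAut (PSU 4 F q) →* Ou F q := QuotientGroup.mk' _

omit [Fintype F] in
theorem mk_eq_one {φ : MulAut (PSU 4 F q)} :
    mk F q φ = 1 ↔ φ ∈ (MulAut.conj : PSU 4 F q →* MulAut (PSU 4 F q)).range :=
  QuotientGroup.eq_one_iff _

theorem smul_un {c : F} (hc : No F q c) {A : M4 F} (hA : Un hF A) : Un hF (c • A) := by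
  unfold Un
  rw [transpose_smul, cn_smul, smul_mul_smul_comm, hA]
  unfold No at hc
  rw [hc, one_smul]

theorem inner_of_sq (hq : q % 4 = 1) {A : M4 F} (hA : Un hF A) {s : F} (hs : No F q s)
    (hd : A.det = s * s) : mk F q (au hF A hA 1) = 1 := by
  rw [mk_eq_one]
  obtain ⟨r, hr, h⟩ := hs.sq hq
  have h1 : A.det = r ^ 4 := by rcases h with h | h <;> rw [hd, h] <;> ring
  have hr0 := hr.ne
  have hU := smul_un hF hr.inv hA
  have hdet : (r⁻¹ • A).det = 1 := by
    rw [det_smul, Fintype.card_fin, h1]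
    field_simp
  refine ⟨pr 4 F q (ofSU (r⁻¹ • A) hU hdet), ?_⟩
  rw [conj_pr hF]
  exact au_smul hF _ hr.inv _ _ _ _

theorem of_inner {A : M4 F} {hA : Un hF A} {ρ : F ≃+* F} (h : mk F q (au hF A hA ρ) = 1) :
    ρ = 1 ∧ ∃ s, No F q s ∧ A.det = s * s := by
  rw [mk_eq_one] at h
  obtain ⟨x, hx⟩ := h
  obtain ⟨s, rfl⟩ := pr_surjective x
  rw [conj_pr hF] at hx
  obtain ⟨h1, c, hc, h2⟩ := au_inj hF hx
  refine ⟨h1.symm, c * c, hc.mul hc, ?_⟩
  rw [h2, det_smul, Fintype.card_fin, det_mat]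
  ring

omit [Fintype F] in
theorem mapr_D1 (ρ : F ≃+* F) : (D1 F).map ρ = D1 F := by
  unfold D1
  rw [diagonal_map (map_zero _)]
  congr 1
  funext i
  fin_cases i <;> simp

omit [Fintype F] in
theorem D1_mul_D1 : D1 F * D1 F = 1 := by
  unfold D1
  rw [diagonal_mul_diagonal, ← diagonal_one]
  congr 1
  funext i
  fin_cases i <;> simp

omit [Fintype F] in
theorem D1_det : (D1 F).det = -1 := by
  unfold D1
  rw [det_diagonal, Fin.prod_univ_four]
  simp

theorem D1_un : Un hF (D1 F) := by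
  have h : cn hF (D1 F) = D1 F := mapr_D1 (conj hF)
  unfold Un
  rw [h, D1, diagonal_transpose]
  exact D1_mul_D1

/-- Field automorphisms in `Out`. -/
noncomputable def fm : (F ≃+* F) →* Ou F q where
  toFun ρ := mk F q (au hF 1 un_one ρ)
  map_one' := by rw [au_one, map_one]
  map_mul' ρ σ := by
    rw [← map_mul, au_mul]
    congr 1
    exact au_congr hF (by rw [one_mul, mapr_one]) rfl

theorem fm_apply (ρ : F ≃+* F) : fm hF ρ = mk F q (au hF 1 un_one ρ) := rfl

theorem mk_au {A : M4 F} (hA : Un hF A) (ρ : F ≃+* F) :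
    mk F q (au hF A hA ρ) = mk F q (au hF A hA 1) * fm hF ρ := by
  rw [fm_apply, ← map_mul, au_mul]
  congr 1
  exact au_congr hF (by rw [mapr_one, mul_one]) (one_mul ρ).symm

theorem fm_injective : Function.Injective (fm hF : (F ≃+* F) →* Ou F q) := by
  rw [injective_iff_map_eq_one]
  intro ρ h
  exact (of_inner hF h).1

theorem mk_au_nonsq (hq : q % 4 = 1) {A : M4 F} (hA : Un hF A) {s : F} (hs : No F q s)
    (hd : A.det = -(s * s)) : mk F q (au hF A hA 1) = mk F q (au hF (D1 F) (D1_un hF) 1) := by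
  have h1 : au hF A hA 1 = au hF (A * D1 F) (hA.mul (D1_un hF)) 1 * au hF (D1 F) (D1_un hF) 1 := by
    rw [au_mul]
    exact au_congr hF (by rw [mapr_D1, mul_assoc, D1_mul_D1, mul_one]) (one_mul _).symm
  rw [h1, map_mul, inner_of_sq hF hq _ hs, one_mul]
  rw [det_mul, hd, D1_det]
  ring

theorem exists_class (hq : q % 4 = 1) (x : Ou F q) :
    ∃ r : F ≃+* F, x = fm hF r ∨ x = mk F q (au hF (D1 F) (D1_un hF) 1) * fm hF r := by
  obtain ⟨φ, rfl⟩ := QuotientGroup.mk'_surjective _ x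
  obtain ⟨A, hA, ρ, rfl⟩ := exists_au hF φ
  change ∃ r, mk F q (au hF A hA ρ) = _ ∨ mk F q (au hF A hA ρ) = _
  refine ⟨ρ, ?_⟩
  obtain ⟨s, hs, h⟩ := hA.det.sq hq
  rcases h with h | h
  · left
    rw [mk_au, inner_of_sq hF hq hA hs h, one_mul]
  · right
    rw [mk_au, mk_au_nonsq hF hq hA hs h]

theorem delta_sq : mk F q (au hF (D1 F) (D1_un hF) 1) * mk F q (au hF (D1 F) (D1_un hF) 1) = 1 := by
  rw [← map_mul, au_mul, ← map_one (mk F q), ← au_one hF]
  congr 1
  exact au_congr hF (by rw [mapr_D1, D1_mul_D1]) (one_mul _)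

theorem delta_comm (r : F ≃+* F) : mk F q (au hF (D1 F) (D1_un hF) 1) * fm hF r =
    fm hF r * mk F q (au hF (D1 F) (D1_un hF) 1) := by
  rw [fm_apply, ← map_mul, ← map_mul, au_mul, au_mul]
  congr 1
  exact au_congr hF (by rw [mapr_D1, mapr_one, one_mul, mul_one]) (by rw [one_mul, mul_one])

/-- **(F5a)**: if the class of `x ↦ x̄` is not in `H` then `4 ∤ |H : Inn|`. -/
theorem not_four_of (hq : q % 4 = 1) {H : Subgroup (MulAut (PSU 4 F q))}
    (h : fm hF (conj hF) ∉ H.map (mk F q)) :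
    ¬ 4 ∣ (MulAut.conj : PSU 4 F q →* MulAut (PSU 4 F q)).range.relIndex H := by
  rw [relIndex_conj]
  have hfinP : Finite (PSU 4 F q) := by
    have : Finite (SU 4 F q) := inferInstance
    exact Finite.of_surjective _ (pr_surjective (n := 4) (F := F) (q := q))
  have hfinM : Finite (MulAut (PSU 4 F q)) :=
    Finite.of_injective (fun α : MulAut (PSU 4 F q) => (α : PSU 4 F q → PSU 4 F q))
      (fun α β h => MulEquiv.ext fun x => congrFun h x)
  have hfinO : Finite (Ou F q) := Quotient.finite _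
  exact not_four _ (fm hF) (fm_injective hF) (conj hF) (exists_class hF hq) (delta_sq hF)
    (delta_comm hF) (fun r hr => ring_sq hF hr) (H.map (mk F q)) h

/-! ### the skew matrix -/

/-- The skew matrix `J`. -/
def Jm (F : Type*) [Field F] : M4 F := !![0, 1, 0, 0; -1, 0, 0, 0; 0, 0, 0, 1; 0, 0, -1, 0]

omit [Fintype F] in
theorem mapr_Jm (ρ : F ≃+* F) : (Jm F).map ρ = Jm F := by
  unfold Jm
  ext i j
  fin_cases i <;> fin_cases j <;> simp

omit [Fintype F] in
theorem Jm_tr : (Jm F)ᵀ * Jm F = 1 := by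
  unfold Jm
  ext i j
  fin_cases i <;> fin_cases j <;> simp [mul_apply, Fin.sum_univ_four]

omit [Fintype F] in
theorem Jm_sq : Jm F * Jm F = -1 := by
  unfold Jm
  ext i j
  fin_cases i <;> fin_cases j <;> simp [mul_apply, Fin.sum_univ_four]

omit [Fintype F] in
theorem Jm_det : (Jm F).det = 1 := by
  unfold Jm
  rw [Matrix.det_succ_row_zero]
  simp [Fin.sum_univ_succ, Matrix.det_fin_three, Matrix.submatrix, Fin.succAbove, Fin.succ,
    Fin.castSucc]

theorem Jm_un : Un hF (Jm F) := by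
  have h : cn hF (Jm F) = Jm F := mapr_Jm (conj hF)
  unfold Un
  rw [h]
  exact Jm_tr

/-- The class of `x ↦ J x̄ J⁻¹`. -/
theorem mk_bad (hq : q % 4 = 1) : mk F q (au hF (Jm F) (Jm_un hF) (conj hF)) = fm hF (conj hF) := by
  rw [mk_au, inner_of_sq hF hq (Jm_un hF) no_one (by rw [Jm_det, mul_one]), one_mul]

theorem bad_sq : au hF (Jm F) (Jm_un hF) (conj hF) * au hF (Jm F) (Jm_un hF) (conj hF) = 1 := by
  rw [au_mul]
  have h1 : Jm F * (Jm F).map (conj hF) = (-1 : F) • 1 := by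
    rw [mapr_Jm, Jm_sq, neg_smul, one_smul]
  have h2 := smul_un hF (no_neg hF) (un_one (hF := hF))
  rw [au_congr hF (hB := h2) h1 (conj_conj hF), au_smul hF _ (no_neg hF) 1 un_one, au_one]

theorem bad_outer : au hF (Jm F) (Jm_un hF) (conj hF) ∉
    (MulAut.conj : PSU 4 F q →* MulAut (PSU 4 F q)).range := by
  intro h
  rw [← mk_eq_one] at h
  exact conj_ne_one hF (of_inner hF h).1

/-- Elements with `g J gᵀ = J` are fixed by the bad automorphism. -/
theorem bad_fix {g : SU 4 F q} (h : mat g * Jm F * (mat g)ᵀ = Jm F) :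
    au hF (Jm F) (Jm_un hF) (conj hF) (pr 4 F q g) = pr 4 F q g := by
  apply au_pr
  have h1 : Jm F * cn hF (mat g) = mat g * Jm F := by
    calc Jm F * cn hF (mat g) = mat g * Jm F * (mat g)ᵀ * cn hF (mat g) := by rw [h]
      _ = mat g * Jm F := by rw [mul_assoc, un_mat hF g, mul_one]
  change Jm F * cn hF (mat g) * (Jm F)⁻¹ = mat g
  rw [h1, mul_assoc, mul_nonsing_inv _ (Jm_un hF).isUnit, mul_one]

/-! ### classification of the outer involutions -/

/-- **(F5b)**, normal form. -/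
theorem classify (hq : q % 4 = 1) {φ : MulAut (PSU 4 F q)} (h2 : φ * φ = 1)
    (ho : φ ∉ (MulAut.conj : PSU 4 F q →* MulAut (PSU 4 F q)).range)
    (hb : ∀ u : PSU 4 F q, φ * MulAut.conj u ≠ au hF (Jm F) (Jm_un hF) (conj hF)) :
    ∃ s : PSU 4 F q, φ = MulAut.conj s * au hF (D1 F) (D1_un hF) 1 * (MulAut.conj s)⁻¹ ∨
      φ = MulAut.conj s * au hF (D1 F) (D1_un hF) (conj hF) * (MulAut.conj s)⁻¹ := by
  obtain ⟨A, hA, ρ, rfl⟩ := exists_au hF φ
  have h3 : au hF 1 un_one 1 = au hF (A * A.map ρ) (hA.mul (hA.mapr ρ)) (ρ * ρ) := by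
    rw [← au_mul hF A A hA hA ρ ρ, h2, au_one]
  obtain ⟨hρ, c, hc, hcA⟩ := au_inj hF h3
  have hgood := good hF hq
  have hρ' := ring_sq hF hρ.symm
  have hmk : mk F q (au hF A hA ρ) ≠ 1 := fun h => ho (mk_eq_one.1 h)
  rcases hρ' with rfl | rfl
  · -- inner-diagonal
    have hd : ∀ s, No F q s → A.det ≠ s * s := fun s hs h => hmk (inner_of_sq hF hq hA hs h)
    have hAA : A * A = c • 1 := hcA
    obtain ⟨a, c', ha, hdet, hc', hA'⟩ := hgood.typeA hA hAA hd
    refine ⟨pr 4 F q (ofSU a ha hdet), Or.inl ?_⟩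
    rw [← map_inv, ← map_inv, conj_pr hF, conj_pr hF, au_mul, au_mul]
    have hU : Un hF (a * D1 F * a⁻¹) := (ha.mul (D1_un hF)).mul ha.inv
    have hinv : mat (ofSU a ha hdet)⁻¹ = a⁻¹ := by
      symm
      apply inv_eq_right_inv
      change mat (ofSU a ha hdet) * mat (ofSU a ha hdet)⁻¹ = 1
      rw [← mat_mul, mul_inv_cancel, mat_one]
    rw [au_congr hF (hB := smul_un hF hc' hU) hA' rfl, au_smul hF _ hc' _ hU]
    apply au_congr
    · rw [hinv]
      rfl
    · simp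
  · have hmk' : mk F q (au hF A hA (conj hF)) ≠ fm hF (conj hF) := by
      intro h
      rw [← mk_bad hF hq] at h
      have h5 := QuotientGroup.eq.1 h
      obtain ⟨u, hu⟩ := h5
      exact hb u (by rw [hu]; group)
    have hd : ∀ s, No F q s → A.det ≠ s * s := by
      intro s hs h
      apply hmk'
      rw [mk_au, inner_of_sq hF hq hA hs h, one_mul]
    -- `Aᵀ` is a multiple of `A`
    have hAc : A * cn hF A = c • 1 := hcA
    have hc0 := hc.ne
    have hcA' : A = c • Aᵀ := by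
      have h5 : (c⁻¹ • A) * cn hF A = 1 := by
        rw [smul_mul_assoc, hAc, smul_smul, inv_mul_cancel₀ hc0, one_smul]
      have h6 : (cn hF A)⁻¹ = c⁻¹ • A := inv_eq_left_inv h5
      rw [hA.cn_inv] at h6
      rw [h6, smul_smul, mul_inv_cancel₀ hc0, one_smul]
    have hT : Aᵀ = c⁻¹ • A := by
      conv_rhs => rw [hcA']
      rw [smul_smul, inv_mul_cancel₀ hc0, one_smul]
    obtain ⟨a, c', ha, hdet, hc', hA'⟩ := hgood.typeB hA hT hd
    refine ⟨pr 4 F q (ofSU a ha hdet), Or.inr ?_⟩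
    rw [← map_inv, ← map_inv, conj_pr hF, conj_pr hF, au_mul, au_mul]
    have hU : Un hF (a * D1 F * aᵀ) := (ha.mul (D1_un hF)).mul ha.tr
    have hinv : mat (ofSU a ha hdet)⁻¹ = a⁻¹ := by
      symm
      apply inv_eq_right_inv
      change mat (ofSU a ha hdet) * mat (ofSU a ha hdet)⁻¹ = 1
      rw [← mat_mul, mul_inv_cancel, mat_one]
    rw [au_congr hF (hB := smul_un hF hc' hU) hA' rfl, au_smul hF _ hc' _ hU]
    apply au_congr
    · rw [hinv]
      have h7 : (a⁻¹).map (conj hF) = aᵀ := by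
        change cn hF a⁻¹ = aᵀ
        rw [ha.inv_eq, cn_tr, cn_cn]
      change a * D1 F * aᵀ = a * (D1 F) * (a⁻¹).map ((1 : F ≃+* F) * conj hF)
      rw [one_mul, h7]
    · simp

end Cfsg.Agent.GH.Cov.F5PSU
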