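import Cfsg.Agent.GH.Cov.LieU4Grp
import Cfsg.Agent.GH.Cov.SLCore
import Cfsg.Agent.S0281

/-!
# `LieData.Core` for `PSU(4,q)`, `q ≡ 1 (mod 4)`
-/

set_option autoImplicit false
set_option linter.unusedSimpArgs false

namespace Cfsg.Agent.GH.Cov.LieU4

open Matrix Cfsg Subgroup
open Cfsg.Agent.LieClassical.HermBasic
open Cfsg.Agent.LieClassical
open Cfsg.Agent.Phan (mat mat_mul mat_one mat_inj mat_det mat_isom mat_mk emb emb_comm extM inc)
open Cfsg.Agent.GH.Cov.LieData Cfsg.Agent.GH.Cov.SLCore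

variable {F : Type*} [Field F] [Fintype F] {q : ℕ}

theorem two_ne (hF : Fintype.card F = q ^ 2) (hq : q % 4 = 1) : (2 : F) ≠ 0 := by
  apply SLTwoFacts.two_ne_zero_of_odd
  rw [hF, Nat.odd_pow_iff (by norm_num), Nat.odd_iff]
  omega

theorem exists_i (hF : Fintype.card F = q ^ 2) (hq : q % 4 = 1) :
    ∃ ι : F, ι * ι = -1 ∧ ι ^ q = ι := by
  have hcard4 : Fintype.card F % 4 = 1 := by
    rw [hF, Nat.pow_mod, hq]
  obtain ⟨ι, hι⟩ := FiniteField.isSquare_neg_one_iff.2 (by omega : Fintype.card F % 4 ≠ 3)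
  refine ⟨ι, hι.symm, ?_⟩
  obtain ⟨k, hk⟩ : ∃ k, q = 4 * k + 1 := ⟨q / 4, by omega⟩
  have h4 : ι ^ 4 = 1 := by
    have : ι ^ 4 = (ι * ι) * (ι * ι) := by ring
    rw [this, ← hι]; ring
  rw [hk, pow_succ, pow_mul, h4, one_pow, one_mul]

/-- the centre of `SU(4,q)` is `{1,-1}` -/
theorem mem_center (hF : Fintype.card F = q ^ 2) (hq : q % 4 = 1) (x : SU 4 F q) :
    x ∈ center (SU 4 F q) ↔ x = 1 ∨ x = neg4 hF := by
  have h2 := two_ne hF hq
  constructor
  · intro hx
    obtain ⟨c, hc4, hcq, rfl⟩ := (SUBasic.mem_center_SU_iff hF (by norm_num : 3 ≤ 4) x).1 hx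
    have hc2 : c ^ 2 = 1 := by
      obtain ⟨k, hk⟩ : ∃ k, q + 1 = 4 * k + 2 := ⟨q / 4, by omega⟩
      rw [hk, pow_add, pow_mul, hc4, one_pow, one_mul] at hcq
      exact hcq
    rcases (sq_eq_sq_iff_eq_or_eq_neg.1 (by rw [hc2, one_pow]) : c = 1 ∨ c = -1) with rfl | rfl
    · left
      apply mat_inj
      rw [mat_one]
      exact Matrix.diagonal_one
    · right
      apply mat_inj
      rw [mat_neg4]
      change Matrix.diagonal (fun _ => (-1 : F)) = -1
      rw [← Matrix.diagonal_one, Matrix.diagonal_neg]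
  · rintro (rfl | rfl)
    · exact one_mem _
    · rw [mem_center_iff]
      intro g
      apply mat_inj
      rw [mat_mul, mat_mul, mat_neg4, mul_neg_one, neg_one_mul]

variable (F q) in
/-- the projection -/
abbrev pr : SU 4 F q →* PSU 4 F q := QuotientGroup.mk' (center (SU 4 F q))

theorem pr_eq_one (hF : Fintype.card F = q ^ 2) (hq : q % 4 = 1) (x : SU 4 F q) :
    pr F q x = 1 ↔ x = 1 ∨ x = neg4 hF := by
  rw [← mem_center hF hq, ← MonoidHom.mem_ker, QuotientGroup.ker_mk']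

theorem pr_eq_iff (hF : Fintype.card F = q ^ 2) (hq : q % 4 = 1) (x y : SU 4 F q) :
    pr F q x = pr F q y ↔ x = y ∨ x = neg4 hF * y := by
  rw [← mul_inv_eq_one, ← map_inv, ← map_mul, pr_eq_one hF hq, mul_inv_eq_one,
    mul_inv_eq_iff_eq_mul]

omit [Fintype F] in
theorem pr_surj : Function.Surjective (pr F q) := QuotientGroup.mk'_surjective _

theorem pr_emb0_injective (hF : Fintype.card F = q ^ 2) (hq : q % 4 = 1) :
    Function.Injective ((pr F q).comp (emb hF 0 (by omega : 0 + 2 ≤ 4))) := by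
  rw [injective_iff_map_eq_one]
  intro g hg
  rw [MonoidHom.comp_apply, pr_eq_one hF hq] at hg
  rcases hg with hg | hg
  · exact Cfsg.Agent.Phan.emb_injective hF _ _ (by rw [hg, map_one])
  · exfalso
    have h1 := congrFun (congrFun (congrArg mat hg) 3) 3
    rw [mat_emb0, mat_neg4] at h1
    apply two_ne hF hq
    simp [blk] at h1
    linear_combination h1

theorem pr_emb2_injective (hF : Fintype.card F = q ^ 2) (hq : q % 4 = 1) :
    Function.Injective ((pr F q).comp (emb hF 2 (by omega : 2 + 2 ≤ 4))) := by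
  rw [injective_iff_map_eq_one]
  intro g hg
  rw [MonoidHom.comp_apply, pr_eq_one hF hq] at hg
  rcases hg with hg | hg
  · exact Cfsg.Agent.Phan.emb_injective hF _ _ (by rw [hg, map_one])
  · exfalso
    have h1 := congrFun (congrFun (congrArg mat hg) 0) 0
    rw [mat_emb2, mat_neg4] at h1
    apply two_ne hF hq
    simp [blk] at h1
    linear_combination h1

/-- the image of `t0` -/
abbrev t1 (hF : Fintype.card F = q ^ 2) : PSU 4 F q := pr F q (t0 hF)

theorem pr_emb2_neg (hF : Fintype.card F = q ^ 2) (hq : q % 4 = 1) :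
    pr F q (emb hF 2 (by omega : 2 + 2 ≤ 4) (neg2 hF)) = t1 hF := by
  rw [pr_eq_iff hF hq, emb2_neg2]
  exact Or.inr rfl

/-- the preimage of the centralizer of `t` -/
theorem comm_t1 (hF : Fintype.card F = q ^ 2) (hq : q % 4 = 1) {x : SU 4 F q} :
    pr F q x * t1 hF = t1 hF * pr F q x ↔ x ∈ D hF ∨ x * w0 F q ∈ D hF := by
  have hw : w0 F q * t0 hF = neg4 hF * (t0 hF * w0 F q) := by
    apply mat_inj
    rw [mat_mul, mat_mul, mat_mul, mat_t0, mat_neg4, tM_eq, w0_blk, ← Matrix.mul_assoc,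
      neg_one_mul, ← tM_eq, neg_tM_eq]
  have hn : neg4 hF * neg4 hF = 1 := by
    apply mat_inj
    rw [mat_mul, mat_neg4, mat_one]; simp
  have hc : ∀ g, g * neg4 hF = neg4 hF * g := fun g =>
    mem_center_iff.1 ((mem_center hF hq (neg4 hF)).2 (Or.inr rfl)) g
  rw [← map_mul, ← map_mul, pr_eq_iff hF hq, D, mem_centralizer_singleton_iff,
    mem_centralizer_singleton_iff]
  constructor
  · rintro (h | h)
    · exact Or.inl h
    · right
      rw [mul_assoc, hw, ← mul_assoc, hc, mul_assoc, ← mul_assoc x, h, ← mul_assoc,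
        ← mul_assoc (neg4 hF), hn, one_mul, mul_assoc]
  · rintro (h | h)
    · exact Or.inl h
    · right
      rw [mul_assoc, hw, ← mul_assoc, hc, mul_assoc] at h
      have h3 : x * t0 hF * w0 F q = neg4 hF * (t0 hF * x) * w0 F q := by
        calc x * t0 hF * w0 F q = neg4 hF * (neg4 hF * (x * (t0 hF * w0 F q))) := by
              rw [← mul_assoc (neg4 hF), hn, one_mul, mul_assoc]
          _ = neg4 hF * (t0 hF * x) * w0 F q := by rw [h]; simp only [mul_assoc]
      exact mul_right_cancel h3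

theorem w0_notMem_D (hF : Fintype.card F = q ^ 2) (hq : q % 4 = 1) : w0 F q ∉ D hF := by
  intro h
  rw [D, mem_centralizer_singleton_iff] at h
  have h1 := congrFun (congrFun (congrArg mat h) 0) 2
  rw [mat_mul, mat_mul, mat_w0, mat_t0] at h1
  apply two_ne hF hq
  simp [tM, Matrix.mul_apply, Fin.sum_univ_four] at h1
  linear_combination h1

/-- conjugation by `w0` preserves `E` -/
theorem w0_E (hF : Fintype.card F = q ^ 2) {x : SU 4 F q} (hx : x ∈ E hF) :
    w0 F q * x * (w0 F q)⁻¹ ∈ E hF := by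
  obtain ⟨A, B, hA, hB, h⟩ := (mem_E hF).1 hx
  refine (mem_E hF).2 ⟨B, A, hB, hA, ?_⟩
  have h1 : w0 F q * x * (w0 F q)⁻¹ * w0 F q = w0 F q * x := by group
  have h2 := congrArg mat h1
  rw [mat_mul, mat_mul (w0 F q), h, w0_blk] at h2
  have h3 := congrArg (· * mat (w0 F q)) h2
  simp only [Matrix.mul_assoc] at h3
  rwa [← mat_mul, w0_w0, mat_one, Matrix.mul_one, Matrix.mul_one] at h3

theorem D_E (hF : Fintype.card F = q ^ 2) (hq : q % 4 = 1) {g x : SU 4 F q} (hg : g ∈ D hF)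
    (hx : x ∈ E hF) : g * x * g⁻¹ ∈ E hF := by
  have h2 := two_ne hF hq
  have hxD := E_le_D hF hx
  have h3 : dl hF h2 (⟨g, hg⟩ * ⟨x, hxD⟩ * ⟨g, hg⟩⁻¹) = 1 := by
    have h4 : dl hF h2 ⟨g, hg⟩ * dl hF h2 (⟨g, hg⟩⁻¹) = 1 := by
      rw [← map_mul, mul_inv_cancel, map_one]
    rw [map_mul, map_mul, (dl_eq_one_iff hF h2 ⟨x, hxD⟩).2 hx, mul_one, h4]
  exact (dl_eq_one_iff hF h2 _).1 h3

theorem C_E (hF : Fintype.card F = q ^ 2) (hq : q % 4 = 1) {g x : SU 4 F q}
    (hg : pr F q g * t1 hF = t1 hF * pr F q g) (hx : x ∈ E hF) : g * x * g⁻¹ ∈ E hF := by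
  rcases (comm_t1 hF hq).1 hg with h | h
  · exact D_E hF hq h hx
  · have h1 := D_E hF hq h (w0_E hF hx)
    have h3 : w0 F q * (w0 F q * x * (w0 F q)⁻¹) * (w0 F q)⁻¹ = x := by
      calc _ = (w0 F q * w0 F q) * x * (w0 F q * w0 F q)⁻¹ := by group
        _ = x := by rw [w0_w0]; simp
    rw [_root_.mul_inv_rev] at h1
    have h4 : g * x * g⁻¹ = g * w0 F q * (w0 F q * x * (w0 F q)⁻¹) * ((w0 F q)⁻¹ * g⁻¹) := by
      calc g * x * g⁻¹ = g * (w0 F q * (w0 F q * x * (w0 F q)⁻¹) * (w0 F q)⁻¹) * g⁻¹ := by rw [h3]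
        _ = g * w0 F q * (w0 F q * x * (w0 F q)⁻¹) * ((w0 F q)⁻¹ * g⁻¹) := by group
    rw [h4]
    exact h1

/-- `|C : D| = 2` -/
theorem relIndex_D_C (hF : Fintype.card F = q ^ 2) (hq : q % 4 = 1) :
    (D hF).relIndex ((centralizer {t1 hF}).comap (pr F q)) = 2 := by
  have hmem : ∀ x, x ∈ (centralizer {t1 hF}).comap (pr F q) ↔ x ∈ D hF ∨ x * w0 F q ∈ D hF := by
    intro x
    rw [mem_comap, mem_centralizer_singleton_iff, comm_t1 hF hq]
  have hw : w0 F q ∈ (centralizer {t1 hF}).comap (pr F q) := by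
    rw [hmem, w0_w0]
    exact Or.inr (one_mem _)
  rw [relIndex, index_eq_two_iff]
  refine ⟨⟨w0 F q, hw⟩, fun b => ?_⟩
  rw [mem_subgroupOf, mem_subgroupOf, Subgroup.coe_mul]
  rcases (hmem _).1 b.2 with h | h
  · right
    refine ⟨h, fun h1 => w0_notMem_D hF hq ?_⟩
    exact (Subgroup.mul_mem_cancel_left _ h).1 h1
  · left
    refine ⟨h, fun h1 => w0_notMem_D hF hq ?_⟩
    exact (Subgroup.mul_mem_cancel_left _ h1).1 h

theorem E_le_C (hF : Fintype.card F = q ^ 2) :
    D hF ≤ (centralizer {t1 hF}).comap (pr F q) := by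
  intro x hx
  rw [mem_comap, mem_centralizer_singleton_iff, ← map_mul, ← map_mul]
  rw [D, mem_centralizer_singleton_iff] at hx
  rw [hx]

theorem not_dvd_relIndex (hF : Fintype.card F = q ^ 2) (hq : q % 4 = 1) :
    ¬ 8 ∣ (E hF).relIndex ((centralizer {t1 hF}).comap (pr F q)) := by
  rw [← relIndex_mul_relIndex _ _ _ (E_le_D hF) (E_le_C hF), relIndex_D_C hF hq]
  intro h
  have h1 : 4 ∣ (E hF).relIndex (D hF) := by omega
  have h3 := h1.trans (relIndex_E_D hF (two_ne hF hq))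
  omega

theorem index_E (hF : Fintype.card F = q ^ 2) (hq : q % 4 = 1) :
    ¬ 8 ∣ ((E hF).map (pr F q)).relIndex (centralizer {t1 hF}) := by
  have h1 := not_dvd_relIndex hF hq
  have h2 : ((E hF).map (pr F q)).comap (pr F q) = E hF := by
    rw [comap_map_eq, QuotientGroup.ker_mk']
    apply sup_eq_left.2
    intro x hx
    rcases (mem_center hF hq x).1 hx with rfl | rfl
    · exact one_mem _
    · refine (mem_E hF).2 ⟨-1, -1, by simp [Matrix.det_neg], by simp [Matrix.det_neg], ?_⟩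
      rw [mat_neg4]
      ext i j
      fin_cases i <;> fin_cases j <;> simp [blk]
  rw [← h2, relIndex_comap, map_comap_eq_self_of_surjective pr_surj] at h1
  exact h1

/-- the two classes of involutions -/
theorem invol (hF : Fintype.card F = q ^ 2) (hq : q % 4 = 1) {n : SU 4 F q}
    (hn : n * n = neg4 hF) (u : PSU 4 F q) (hu : u * u = 1) (hu1 : u ≠ 1) :
    IsConj (t1 hF) u ∨ IsConj (pr F q n) u := by
  obtain ⟨g, rfl⟩ := pr_surj u
  have h2 := two_ne hF hq
  rw [← map_mul, pr_eq_one hF hq] at hu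
  rcases hu with hu | hu
  · left
    have hgg : mat g * mat g = 1 := by rw [← mat_mul, hu, mat_one]
    rcases conj_t hF h2 (mat_isom g) hgg (mat_det g) with h | h | ⟨U, hU, hd, h⟩
    · exact absurd ((pr_eq_one hF hq g).2 (Or.inl (mat_inj h))) hu1
    · exact absurd ((pr_eq_one hF hq g).2 (Or.inr (mat_inj h))) hu1
    · have h3 : g * mkI U hd hU = mkI U hd hU * t0 hF := by
        apply mat_inj
        rw [mat_mul, mat_mul, mat_mkI, mat_t0, h]
      rw [isConj_iff]
      refine ⟨pr F q (mkI U hd hU), ?_⟩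
      rw [← map_mul, ← map_inv, ← map_mul, ← h3, mul_inv_cancel_right]
  · right
    obtain ⟨ι, hι, hιq⟩ := exists_i hF hq
    have hgg : mat g * mat g = -1 := by rw [← mat_mul, hu, mat_neg4]
    have hnn : mat n * mat n = -1 := by rw [← mat_mul, hn, mat_neg4]
    obtain ⟨U, hU, hd, h⟩ := conj_n hF h2 hι hιq (mat_isom g) hgg
    obtain ⟨V, hV, hd', h'⟩ := conj_n hF h2 hι hιq (mat_isom n) hnn
    have h3 : (mkI U hd hU)⁻¹ * g * mkI U hd hU = (mkI V hd' hV)⁻¹ * n * mkI V hd' hV := by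
      have e1 : mat ((mkI U hd hU)⁻¹ * g * mkI U hd hU) = nM F := by
        rw [mul_assoc, mat_mul, mat_mul, mat_mkI, h, ← Matrix.mul_assoc]
        have : mat (mkI U hd hU)⁻¹ * U = 1 := Cfsg.Agent.Phan.mat_inv_mul (mkI U hd hU)
        rw [this, Matrix.one_mul]
      have e2 : mat ((mkI V hd' hV)⁻¹ * n * mkI V hd' hV) = nM F := by
        rw [mul_assoc, mat_mul, mat_mul, mat_mkI, h', ← Matrix.mul_assoc]
        have : mat (mkI V hd' hV)⁻¹ * V = 1 := Cfsg.Agent.Phan.mat_inv_mul (mkI V hd' hV)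
        rw [this, Matrix.one_mul]
      apply mat_inj
      rw [e1, e2]
    apply (pr F q).map_isConj
    rw [isConj_iff]
    refine ⟨mkI U hd hU * (mkI V hd' hV)⁻¹, ?_⟩
    calc mkI U hd hU * (mkI V hd' hV)⁻¹ * n * (mkI U hd hU * (mkI V hd' hV)⁻¹)⁻¹
        = mkI U hd hU * ((mkI V hd' hV)⁻¹ * n * mkI V hd' hV) * (mkI U hd hU)⁻¹ := by group
      _ = g := by rw [← h3]; group

/-- the explicit form of the `Core` of `PSU(4,q)` -/
structure CoreSpec (hF : Fintype.card F = q ^ 2) (D : Core (PSU 4 F q)) (i j d : SU 2 F q) :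
    Prop where
  t : D.t = pr F q (t0 hF)
  i₁ : D.i₁ = pr F q (emb hF 0 (by omega : 0 + 2 ≤ 4) i)
  j₁ : D.j₁ = pr F q (emb hF 0 (by omega : 0 + 2 ≤ 4) j)
  d₁ : D.d₁ = pr F q (emb hF 0 (by omega : 0 + 2 ≤ 4) d)
  i₂ : D.i₂ = pr F q (emb hF 2 (by omega : 2 + 2 ≤ 4) i)
  j₂ : D.j₂ = pr F q (emb hF 2 (by omega : 2 + 2 ≤ 4) j)
  d₂ : D.d₂ = pr F q (emb hF 2 (by omega : 2 + 2 ≤ 4) d)
  A₁ : D.A₁ = (emb hF 0 (by omega : 0 + 2 ≤ 4) : SU 2 F q →* SU 4 F q).range.map (pr F q)
  A₂ : D.A₂ = (emb hF 2 (by omega : 2 + 2 ≤ 4) : SU 2 F q →* SU 4 F q).range.map (pr F q)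

/-- `Core` for `PSU(4,q)`, `q ≡ 1 (mod 4)` -/
theorem exists_core (hF : Fintype.card F = q ^ 2) (hq : q % 4 = 1) :
    ∃ (D : Core (PSU 4 F q)) (i j d : SU 2 F q), CoreSpec hF D i j d := by
  classical
  obtain ⟨p, k, hp, -, hqk, hk⟩ := exists_prime_pow hF
  have := Fact.mk hp
  let K := GaloisField p k
  let _ : Fintype K := Fintype.ofFinite K
  have hK : Fintype.card K = q := by
    rw [← Nat.card_eq_fintype_card, GaloisField.card p k hk.ne', hqk]
  have hKo : Odd (Fintype.card K) := by rw [hK, Nat.odd_iff]; omega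
  obtain ⟨e⟩ := Cfsg.Agent.S0281.result (K := K) hF hK
  obtain ⟨c, i, j, w, hS, hH⟩ := exists_half hKo
  have hc : e.symm c = neg2 hF := by
    have h1 : e (neg2 hF) * e (neg2 hF) = 1 := by
      rw [← map_mul]
      have : neg2 hF * neg2 hF = 1 := by
        apply mat_inj
        rw [mat_mul, mat_neg2, mat_one]; simp
      rw [this, map_one]
    rcases hS.uniq _ h1 with h | h
    · exfalso
      have h3 : neg2 hF = 1 := by
        apply e.injective
        rw [h, map_one]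
      have h4 := congrFun (congrFun (congrArg mat h3) 0) 0
      rw [mat_neg2, mat_one] at h4
      apply two_ne hF hq
      simp at h4
      linear_combination -h4
    · rw [← h, MulEquiv.symm_apply_apply]
  let f1 : SpecialLinearGroup (Fin 2) K →* PSU 4 F q :=
    ((pr F q).comp (emb hF 0 (by omega : 0 + 2 ≤ 4))).comp e.symm.toMonoidHom
  let f2 : SpecialLinearGroup (Fin 2) K →* PSU 4 F q :=
    ((pr F q).comp (emb hF 2 (by omega : 2 + 2 ≤ 4))).comp e.symm.toMonoidHom
  have hf1 : Function.Injective f1 := (pr_emb0_injective hF hq).comp e.symm.injective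
  have hf2 : Function.Injective f2 := (pr_emb2_injective hF hq).comp e.symm.injective
  have H1 := hH f1 hf1
  have H2 := hH f2 hf2
  have hc1 : f1 c = t1 hF := by
    change pr F q (emb hF 0 _ (e.symm c)) = _
    rw [hc]
    rfl
  have hc2 : f2 c = t1 hF := by
    change pr F q (emb hF 2 _ (e.symm c)) = _
    rw [hc, pr_emb2_neg hF hq]
  rw [hc1] at H1
  rw [hc2] at H2
  have hr1 : f1.range = (emb hF 0 (by omega : 0 + 2 ≤ 4) : SU 2 F q →* SU 4 F q).range.map (pr F q) := by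
    rw [← MonoidHom.range_comp]
    change (((pr F q).comp (emb hF 0 (by omega : 0 + 2 ≤ 4))).comp e.symm.toMonoidHom).range = _
    rw [MonoidHom.range_comp, MonoidHom.range_eq_top.2 e.symm.surjective, ← MonoidHom.range_eq_map]
  have hr2 : f2.range = (emb hF 2 (by omega : 2 + 2 ≤ 4) : SU 2 F q →* SU 4 F q).range.map (pr F q) := by
    rw [← MonoidHom.range_comp]
    change (((pr F q).comp (emb hF 2 (by omega : 2 + 2 ≤ 4))).comp e.symm.toMonoidHom).range = _
    rw [MonoidHom.range_comp, MonoidHom.range_eq_top.2 e.symm.surjective, ← MonoidHom.range_eq_map]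
  have hE : f1.range ⊔ f2.range = (E hF).map (pr F q) := by
    rw [E, Subgroup.map_sup, hr1, hr2]
  refine ⟨
    { t := t1 hF
      i₁ := f1 i
      j₁ := f1 j
      d₁ := f1 w
      i₂ := f2 i
      j₂ := f2 j
      d₂ := f2 w
      A₁ := f1.range
      A₂ := f2.range
      tt := H1.tt
      t_ne := H1.t_ne
      trip₁ := H1.trip
      trip₂ := H2.trip
      i₁_mem := H1.i_mem
      j₁_mem := H1.j_mem
      d₁_mem := H1.d_mem
      i₂_mem := H2.i_mem
      j₂_mem := H2.j_mem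
      d₂_mem := H2.d_mem
      comm := by
        rintro _ ⟨a, rfl⟩ _ ⟨b, rfl⟩
        change pr F q (emb hF 0 _ (e.symm a)) * pr F q (emb hF 2 _ (e.symm b)) =
          pr F q (emb hF 2 _ (e.symm b)) * pr F q (emb hF 0 _ (e.symm a))
        rw [← map_mul, ← map_mul, emb_comm hF _ _ (Or.inl (by omega))]
      inv₁ := H1.inv
      inv₂ := H2.inv
      gen₁ := H1.gen
      gen₂ := H2.gen
      cent₂ := H2.cent
      invol := by
        intro u hu hu1
        have h3 : emb hF 0 (by omega : 0 + 2 ≤ 4) (e.symm i) * emb hF 2 (by omega : 2 + 2 ≤ 4) (e.symm i) *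
            (emb hF 0 (by omega : 0 + 2 ≤ 4) (e.symm i) * emb hF 2 (by omega : 2 + 2 ≤ 4) (e.symm i)) =
            neg4 hF := by
          have hcm := emb_comm (q := q) hF (by omega : 0 + 2 ≤ 4) (by omega : 2 + 2 ≤ 4) (Or.inl (by omega))
            (e.symm i) (e.symm i)
          have hii : e.symm i * e.symm i = neg2 hF := by rw [← map_mul, hS.ii, hc]
          calc _ = emb hF 0 (by omega : 0 + 2 ≤ 4) (e.symm i) * (emb hF 2 (by omega : 2 + 2 ≤ 4) (e.symm i) *
              emb hF 0 (by omega : 0 + 2 ≤ 4) (e.symm i)) * emb hF 2 (by omega : 2 + 2 ≤ 4) (e.symm i) := by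
                simp only [mul_assoc]
            _ = (emb hF 0 (by omega : 0 + 2 ≤ 4) (e.symm i) * emb hF 0 (by omega : 0 + 2 ≤ 4) (e.symm i)) *
              (emb hF 2 (by omega : 2 + 2 ≤ 4) (e.symm i) * emb hF 2 (by omega : 2 + 2 ≤ 4) (e.symm i)) := by
                rw [← hcm]; simp only [mul_assoc]
            _ = neg4 hF := by
                have e0 : emb hF 0 (by omega : 0 + 2 ≤ 4) (e.symm i) *
                    emb hF 0 (by omega : 0 + 2 ≤ 4) (e.symm i) = t0 hF := by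
                  rw [← map_mul (emb hF 0 (by omega : 0 + 2 ≤ 4)), hii]; rfl
                have e2 : emb hF 2 (by omega : 2 + 2 ≤ 4) (e.symm i) *
                    emb hF 2 (by omega : 2 + 2 ≤ 4) (e.symm i) = neg4 hF * t0 hF := by
                  rw [← map_mul (emb hF 2 (by omega : 2 + 2 ≤ 4)), hii, emb2_neg2]
                rw [e0, e2]
                apply mat_inj
                rw [mat_mul, mat_mul, mat_neg4]
                rw [mat_t0, neg_one_mul, mul_neg, tM_eq, blk_mul]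
                simp [blk_one]
        have h4 := invol hF hq h3 u hu hu1
        rw [map_mul] at h4
        exact h4
      swap := by
        refine ⟨pr F q (w0 F q), ?_⟩
        change pr F q (w0 F q) * pr F q (emb hF 0 _ (e.symm i)) * (pr F q (w0 F q))⁻¹ =
          pr F q (emb hF 2 _ (e.symm i))
        rw [← map_mul, ← map_inv, ← map_mul, w0_emb0]
      norm := by
        intro g hg a ha
        rw [hE] at ha ⊢
        obtain ⟨g, rfl⟩ := pr_surj g
        obtain ⟨x, hx, rfl⟩ := ha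
        exact ⟨g * x * g⁻¹, C_E hF hq hg hx, by rw [map_mul, map_mul, map_inv]⟩
      index := by
        rw [hE]
        exact index_E hF hq }, e.symm i, e.symm j, e.symm w, ?_⟩
  exact ⟨rfl, rfl, rfl, rfl, rfl, rfl, rfl, hr1, hr2⟩

end Cfsg.Agent.GH.Cov.LieU4
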