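import Cfsg.Agent.S0280

/-!
# The 2-part of `|PSU(4,q)|`, `q ≡ 1 (mod 4)`
-/

set_option autoImplicit false

namespace Cfsg.Agent.GH.Cov.U4Card

open Cfsg

theorem dvd_of_sq {m n : ℕ} (hm : m ≠ 0) (h : 2 ^ (2 * n + 3) ∣ m ^ 2) : 2 ^ (n + 2) ∣ m := by
  obtain ⟨v, o, ho, rfl⟩ := Nat.exists_eq_two_pow_mul_odd hm
  rw [mul_pow, ← pow_mul] at h
  have h1 : Nat.Coprime (2 ^ (2 * n + 3)) (o ^ 2) :=
    Nat.Coprime.pow _ _ (Nat.coprime_two_left.2 ho)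
  have h2 := h1.dvd_of_dvd_mul_right h
  have h3 := (Nat.pow_dvd_pow_iff_le_right (by norm_num : 1 < 2)).1 h2
  exact Dvd.dvd.mul_right (pow_dvd_pow 2 (by omega)) o

/-- `¬ 2 ^ (2 n + 6) ∣ |PSU(4,q)|` if `¬ 2 ^ (n + 2) ∣ q - 1`, `q ≡ 1 (mod 4)` -/
theorem card_psu {F : Type*} [Field F] [Fintype F] {q n : ℕ} (hF : Fintype.card F = q ^ 2)
    (hq : q % 4 = 1) (h : ¬ 2 ^ (n + 2) ∣ q - 1) : ¬ 2 ^ (2 * n + 6) ∣ Nat.card (PSU 4 F q) := by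
  have hc := Cfsg.Agent.S0280.result hF 4 (by norm_num)
  obtain ⟨k, hk⟩ : ∃ k, q = 4 * k + 1 := ⟨q / 4, by omega⟩
  have hg : Nat.gcd 4 (q + 1) = 2 := by
    have : q + 1 = 2 + 4 * k := by omega
    rw [this, Nat.gcd_add_mul_left_right]
    rfl
  rw [hg] at hc
  simp only [Finset.prod_range_succ, Finset.prod_range_zero, one_mul] at hc
  have e1 : (if Even 1 then q ^ (1 + 1) + 1 else q ^ (1 + 1) - 1) = q ^ 2 - 1 := by
    rw [if_neg (by decide)]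
  have e0 : (if Even 0 then q ^ (0 + 1) + 1 else q ^ (0 + 1) - 1) = q + 1 := by
    rw [if_pos (by decide), zero_add, pow_one]
  have e2 : (if Even 2 then q ^ (2 + 1) + 1 else q ^ (2 + 1) - 1) = q ^ 3 + 1 := by
    rw [if_pos (by decide)]
  have e3 : (if Even 3 then q ^ (3 + 1) + 1 else q ^ (3 + 1) - 1) = q ^ 4 - 1 := by
    rw [if_neg (by decide)]
  rw [e0, e1, e2, e3] at hc
  have f1 : q ^ 2 - 1 = 4 * k * (2 * (2 * k + 1)) := by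
    rw [hk]
    apply Nat.sub_eq_of_eq_add
    ring
  have f2 : q ^ 3 + 1 = (2 * (2 * k + 1)) * (16 * k ^ 2 + 4 * k + 1) := by
    rw [hk]
    ring
  have f3 : q ^ 4 - 1 = 4 * k * (2 * (2 * k + 1)) * (2 * (8 * k ^ 2 + 4 * k + 1)) := by
    rw [hk]
    apply Nat.sub_eq_of_eq_add
    ring
  have hN : Nat.card (PSU 4 F q) = 8 * ((4 * k) ^ 2 *
      (q ^ 6 * (2 * k + 1) ^ 3 * (16 * k ^ 2 + 4 * k + 1) * (8 * k ^ 2 + 4 * k + 1))) := by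
    have h3 : (2 * (q + 1)) * Nat.card (PSU 4 F q) = (2 * (q + 1)) * (8 * ((4 * k) ^ 2 *
      (q ^ 6 * (2 * k + 1) ^ 3 * (16 * k ^ 2 + 4 * k + 1) * (8 * k ^ 2 + 4 * k + 1)))) := by
      rw [mul_assoc, hc, f1, f2, f3]
      norm_num
      ring
    exact Nat.eq_of_mul_eq_mul_left (by omega) h3
  intro hd
  have hk0 : k ≠ 0 := by
    rintro rfl
    apply h
    rw [hk]
    simp
  rw [hN] at hd
  have h8 : 2 ^ (2 * n + 6) = 8 * 2 ^ (2 * n + 3) := by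
    rw [show 2 * n + 6 = 3 + (2 * n + 3) by omega, pow_add]
    norm_num
  rw [h8] at hd
  have hd2 := Nat.dvd_of_mul_dvd_mul_left (by norm_num) hd
  have hodd : Odd (q ^ 6 * (2 * k + 1) ^ 3 * (16 * k ^ 2 + 4 * k + 1) * (8 * k ^ 2 + 4 * k + 1)) := by
    have o1 : Odd q := ⟨2 * k, by omega⟩
    have o2 : Odd (2 * k + 1) := ⟨k, rfl⟩
    have o3 : Odd (16 * k ^ 2 + 4 * k + 1) := ⟨8 * k ^ 2 + 2 * k, by ring⟩
    have o4 : Odd (8 * k ^ 2 + 4 * k + 1) := ⟨4 * k ^ 2 + 2 * k, by ring⟩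
    exact ((o1.pow.mul o2.pow).mul o3).mul o4
  have hcop := Nat.Coprime.pow_left (2 * n + 3) (Nat.coprime_two_left.2 hodd)
  have hd3 := hcop.dvd_of_dvd_mul_right hd2
  have hq1 : q - 1 = 4 * k := by omega
  apply h
  rw [hq1]
  exact dvd_of_sq (by omega) hd3

end Cfsg.Agent.GH.Cov.U4Card
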