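import Cfsg.Agent.GH.Cov.F5Uni

/-!
# A semidihedral group in `GU(2,q)`, `q ≡ 1 (mod 4)`, explicitly

`r`, `s` in the upper block `SU(2,q)` of `SU(4,q)`: `r ^ 2 ^ n = s * s = diag(-1,-1,1,1)`, `s r s⁻¹ = r⁻¹`,
`d r d = r⁻¹`, `d s d = diag(-1,-1,1,1) r⁻¹ s` for `d = diag(-1,1,1,1)`, and `2 ^ (n + 1)` is the 2-part of `q - 1`.
-/

set_option autoImplicit false

namespace Cfsg.Agent.GH.Cov.U4RS

open Cfsg Matrix
open Cfsg.Agent.LieClassical.HermBasic
open Cfsg.Agent.GH.Cov.F5Core Cfsg.Agent.GH.Cov.F5Uni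

variable {F : Type*} [Field F] {q : ℕ}

/-- upper block matrices -/
def up (a b c d : F) : M4 F := !![a, b, 0, 0; c, d, 0, 0; 0, 0, 1, 0; 0, 0, 0, 1]

theorem up_mul (a b c d a' b' c' d' : F) : up a b c d * up a' b' c' d' =
    up (a * a' + b * c') (a * b' + b * d') (c * a' + d * c') (c * b' + d * d') := by
  ext i j
  fin_cases i <;> fin_cases j <;> simp [up, mul_apply, Fin.sum_univ_four]

theorem up_one : up (1 : F) 0 0 1 = 1 := by
  ext i j
  fin_cases i <;> fin_cases j <;> simp [up]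

theorem up_tr (a b c d : F) : (up a b c d)ᵀ = up a c b d := by
  ext i j
  fin_cases i <;> fin_cases j <;> simp [up]

theorem up_det (a b c d : F) : (up a b c d).det = a * d - b * c := by
  rw [up, Matrix.det_succ_row_zero]
  simp [Fin.sum_univ_succ, Matrix.det_succ_row_zero, Fin.succAbove]
  ring

theorem up_diag : up (-1 : F) 0 0 (-1) = diagonal ![-1, -1, 1, 1] := by
  ext i j
  fin_cases i <;> fin_cases j <;> simp [up]

theorem up_diag' : up (-1 : F) 0 0 1 = diagonal ![-1, 1, 1, 1] := by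
  ext i j
  fin_cases i <;> fin_cases j <;> simp [up]

/-- the rotation -/
def Rm (k y : F) : M4 F := up ((y + y⁻¹) / 2) ((y - y⁻¹) * k / 2) ((y - y⁻¹) * k⁻¹ / 2) ((y + y⁻¹) / 2)

/-- the reflection times `d` -/
def Sm (k x : F) : M4 F :=
  up (-(x - x⁻¹) / 2) ((x + x⁻¹) * k / 2) (-(x + x⁻¹) * k⁻¹ / 2) ((x - x⁻¹) / 2)

theorem up_congr {a b c d a' b' c' d' : F} (h1 : a = a') (h2 : b = b') (h3 : c = c') (h4 : d = d') :
    up a b c d = up a' b' c' d' := by rw [h1, h2, h3, h4]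

section

variable {k x y z : F} (h2 : (2 : F) ≠ 0) (hk : k ≠ 0)

include h2 hk in
theorem Rm_mul (hy : y ≠ 0) (hz : z ≠ 0) : Rm k y * Rm k z = Rm k (y * z) := by
  rw [Rm, Rm, Rm, up_mul]
  apply up_congr <;> · field_simp; ring

include h2 in
theorem Rm_one : Rm k 1 = 1 := by
  rw [Rm, ← up_one]
  apply up_congr
  · rw [inv_one]; norm_num; exact h2
  · simp
  · simp
  · rw [inv_one]; norm_num; exact h2

include h2 in
theorem Rm_neg_one : Rm k (-1) = diagonal ![-1, -1, 1, 1] := by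
  rw [Rm, ← up_diag]
  have h : ((-1 : F) + (-1)⁻¹) / 2 = -1 := by
    field_simp
    ring
  apply up_congr
  · exact h
  · rw [show ((-1 : F) - (-1)⁻¹) = 0 by field_simp; ring]; simp
  · rw [show ((-1 : F) - (-1)⁻¹) = 0 by field_simp; ring]; simp
  · exact h

include h2 hk in
theorem Rm_pow (hy : y ≠ 0) (m : ℕ) : Rm k y ^ m = Rm k (y ^ m) := by
  induction m with
  | zero => rw [pow_zero, pow_zero, Rm_one h2]
  | succ m ih => rw [pow_succ, ih, Rm_mul h2 hk (pow_ne_zero _ hy) hy, pow_succ]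

include h2 hk in
theorem Sm_sq (hx : x ≠ 0) : Sm k x * Sm k x = diagonal ![-1, -1, 1, 1] := by
  rw [Sm, up_mul, ← up_diag]
  apply up_congr
  · field_simp; ring
  · field_simp; ring
  · field_simp; ring
  · field_simp; ring

include h2 hk in
theorem Sm_Rm (hx : x ≠ 0) (hy : y ≠ 0) : Sm k x * Rm k y = Rm k y⁻¹ * Sm k x := by
  rw [Sm, Rm, Rm, up_mul, up_mul]
  apply up_congr <;> · field_simp; ring

include h2 hk in
theorem d_Rm (hy : y ≠ 0) : diagonal ![-1, 1, 1, 1] * Rm k y * diagonal ![-1, 1, 1, 1] = Rm k y⁻¹ := by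
  rw [← up_diag', Rm, Rm, up_mul, up_mul]
  apply up_congr <;> · field_simp; ring

include h2 hk in
theorem d_Sm (hx : x ≠ 0) : diagonal ![-1, 1, 1, 1] * Sm k x * diagonal ![-1, 1, 1, 1] =
    diagonal ![-1, -1, 1, 1] * Rm k (x ^ 2)⁻¹ * Sm k x := by
  rw [← up_diag', ← up_diag, Rm, Sm, up_mul, up_mul, up_mul, up_mul]
  apply up_congr <;> · field_simp; ring

include h2 hk in
theorem Rm_det (hy : y ≠ 0) : (Rm k y).det = 1 := by
  rw [Rm, up_det]
  field_simp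
  ring

include h2 hk in
theorem Sm_det (hx : x ≠ 0) : (Sm k x).det = 1 := by
  rw [Sm, up_det]
  field_simp
  ring

end

variable [Fintype F]

theorem cn_up (hF : Fintype.card F = q ^ 2) (a b c d : F) :
    cn hF (up a b c d) = up (a ^ q) (b ^ q) (c ^ q) (d ^ q) := by
  have h0 : (0 : F) ^ q = 0 := zero_pow_q hF
  unfold cn
  ext i j
  fin_cases i <;> fin_cases j <;> simp [up, conj_apply, h0]

theorem two_pow (hF : Fintype.card F = q ^ 2) : (2 : F) ^ q = 2 := by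
  have : (2 : F) = 1 + 1 := by norm_num
  rw [this, add_pow_q hF, one_pow]

theorem Rm_un (hF : Fintype.card F = q ^ 2) (h2 : (2 : F) ≠ 0) {k y : F} (hk : k * k ^ q = -1)
    (hk0 : k ≠ 0) (hy0 : y ≠ 0) (hy : y ^ q = y) : Un hF (Rm k y) := by
  have hkq : k ^ q = -k⁻¹ := by
    field_simp
    linear_combination hk
  unfold Un
  rw [Rm, cn_up, up_tr, up_mul, ← up_one]
  simp only [div_pow, mul_pow, add_pow_q hF, sub_pow_q hF, inv_pow, hy, hkq, two_pow hF]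
  apply up_congr <;> · field_simp; ring

theorem Sm_un (hF : Fintype.card F = q ^ 2) (h2 : (2 : F) ≠ 0) {k x : F} (hk : k * k ^ q = -1)
    (hk0 : k ≠ 0) (hx0 : x ≠ 0) (hx : x ^ q = -x) : Un hF (Sm k x) := by
  have hkq : k ^ q = -k⁻¹ := by
    field_simp
    linear_combination hk
  unfold Un
  rw [Sm, cn_up, up_tr, up_mul, ← up_one]
  simp only [div_pow, mul_pow, add_pow_q hF, sub_pow_q hF, neg_pow_q hF, inv_pow, hx, hkq,
    two_pow hF]
  apply up_congr <;> · field_simp; ring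

/-- `x` of order `2 ^ (n + 2)` with `x ^ q = -x` -/
theorem exists_x (hF : Fintype.card F = q ^ 2) (hq : q % 4 = 1) :
    ∃ n : ℕ, 1 ≤ n ∧ ¬ 2 ^ (n + 2) ∣ q - 1 ∧ ∃ x : F, x ≠ 0 ∧ x ^ 2 ^ (n + 1) = -1 ∧ x ^ q = -x := by
  classical
  have hq2 := two_le hF
  obtain ⟨v, m, hm, hv⟩ := Nat.exists_eq_two_pow_mul_odd (n := q - 1) (by omega)
  have hv2 : 2 ≤ v := by
    by_contra hcon
    have h4 : 4 ∣ q - 1 := by omega
    rw [hv] at h4
    have hcop : Nat.Coprime 4 m := by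
      have : (4 : ℕ) = 2 ^ 2 := by norm_num
      rw [this]
      exact Nat.Coprime.pow_left 2 (Nat.coprime_two_left.2 hm)
    have h5 := hcop.dvd_of_dvd_mul_right h4
    have : v = 0 ∨ v = 1 := by omega
    rcases this with rfl | rfl <;> norm_num at h5
  obtain ⟨n, rfl⟩ : ∃ n, v = n + 1 := ⟨v - 1, by omega⟩
  refine ⟨n, by omega, ?_, ?_⟩
  · rw [hv, show n + 2 = (n + 1) + 1 by omega, pow_succ]
    intro h
    have h3 := Nat.dvd_of_mul_dvd_mul_left (by positivity) h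
    rw [Nat.odd_iff] at hm
    omega
  · obtain ⟨g, hg⟩ := IsCyclic.exists_ofOrder_eq_natCard (α := Fˣ)
    rw [card_units_eq hF] at hg
    obtain ⟨l, hl⟩ : ∃ l, q + 1 = 2 * l := ⟨(q + 1) / 2, by omega⟩
    have hcard : (q + 1) * (q - 1) = 2 ^ (n + 2) * (l * m) := by
      rw [hl, hv, show n + 2 = (n + 1) + 1 by omega, pow_succ]
      ring
    have hlm : l * m ≠ 0 := by
      intro h0
      rw [h0, mul_zero] at hcard
      have : (q + 1) * (q - 1) ≠ 0 := Nat.mul_ne_zero (by omega) (by omega)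
      exact this hcard
    have hord : orderOf (g ^ (l * m)) = 2 ^ (n + 2) := by
      rw [orderOf_pow_of_dvd hlm (by rw [hg, hcard]; exact Dvd.intro_left _ rfl), hg, hcard]
      exact Nat.mul_div_cancel _ (Nat.pos_of_ne_zero hlm)
    set x : F := ((g ^ (l * m) : Fˣ) : F) with hx
    have hx1 : (x ^ 2 ^ (n + 1)) ^ 2 = 1 := by
      rw [← pow_mul, ← pow_succ, hx, ← Units.val_pow_eq_pow_val, ← hord, pow_orderOf_eq_one,
        Units.val_one]
    have hx2 : x ^ 2 ^ (n + 1) ≠ 1 := by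
      intro h
      have h3 : (g ^ (l * m)) ^ 2 ^ (n + 1) = 1 := by
        ext
        rw [Units.val_pow_eq_pow_val, Units.val_one]
        exact h
      have h4 := orderOf_dvd_of_pow_eq_one h3
      rw [hord] at h4
      have h5 := (Nat.pow_dvd_pow_iff_le_right (by norm_num : 1 < 2)).1 h4
      omega
    have hx3 : x ^ 2 ^ (n + 1) = -1 := by
      rcases (sq_eq_sq_iff_eq_or_eq_neg.1 (by rw [hx1, one_pow]) : x ^ 2 ^ (n + 1) = 1 ∨ x ^ 2 ^ (n + 1) = -1) with h | h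
      · exact absurd h hx2
      · exact h
    refine ⟨x, Units.ne_zero _, hx3, ?_⟩
    have hq' : q = 2 ^ (n + 1) * m + 1 := by omega
    calc x ^ q = x ^ (2 ^ (n + 1) * m + 1) := by rw [← hq']
      _ = -x := by rw [pow_succ, pow_mul, hx3, Odd.neg_one_pow hm, neg_one_mul]

/-- the elements `r`, `s` of `LieData.TypeIII` for `PSU(4,q)`, as matrices -/
theorem exists_rs (hF : Fintype.card F = q ^ 2) (hq : q % 4 = 1) :
    ∃ n : ℕ, 1 ≤ n ∧ ¬ 2 ^ (n + 2) ∣ q - 1 ∧ ∃ r r' s : M4 F,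
      (∃ a b c d, r = !![a, b, 0, 0; c, d, 0, 0; 0, 0, 1, 0; 0, 0, 0, 1]) ∧
      (∃ a b c d, s = !![a, b, 0, 0; c, d, 0, 0; 0, 0, 1, 0; 0, 0, 0, 1]) ∧
      Un hF r ∧ Un hF s ∧ r.det = 1 ∧ s.det = 1 ∧ r * r' = 1 ∧ r' * r = 1 ∧
      r ^ 2 ^ n = diagonal ![-1, -1, 1, 1] ∧ s * s = diagonal ![-1, -1, 1, 1] ∧ s * r = r' * s ∧
      diagonal ![-1, 1, 1, 1] * r * diagonal ![-1, 1, 1, 1] = r' ∧
      diagonal ![-1, 1, 1, 1] * s * diagonal ![-1, 1, 1, 1] =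
        diagonal ![-1, -1, 1, 1] * r' * s := by
  have h2 := two_ne hF hq
  obtain ⟨n, hn, hdvd, x, hx0, hx1, hxq⟩ := exists_x hF hq
  obtain ⟨k, hk⟩ := exists_norm_eq hF (c := (-1 : F)) (by rw [neg_pow_q hF, one_pow])
  have hk0 : k ≠ 0 := by
    rintro rfl
    rw [zero_mul] at hk
    exact one_ne_zero (by linear_combination hk : (1 : F) = 0)
  have hy0 : x ^ 2 ≠ 0 := pow_ne_zero _ hx0
  have hyq : (x ^ 2) ^ q = x ^ 2 := by
    rw [← pow_mul, mul_comm, pow_mul, hxq]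
    ring
  refine ⟨n, hn, hdvd, Rm k (x ^ 2), Rm k (x ^ 2)⁻¹, Sm k x, ⟨_, _, _, _, rfl⟩, ⟨_, _, _, _, rfl⟩,
    Rm_un hF h2 hk hk0 hy0 hyq, Sm_un hF h2 hk hk0 hx0 hxq, Rm_det h2 hk0 hy0, Sm_det h2 hk0 hx0,
    ?_, ?_, ?_, Sm_sq h2 hk0 hx0, Sm_Rm h2 hk0 hx0 hy0, d_Rm h2 hk0 hy0, d_Sm h2 hk0 hx0⟩
  · rw [Rm_mul h2 hk0 hy0 (inv_ne_zero hy0), mul_inv_cancel₀ hy0, Rm_one h2]
  · rw [Rm_mul h2 hk0 (inv_ne_zero hy0) hy0, inv_mul_cancel₀ hy0, Rm_one h2]
  · rw [Rm_pow h2 hk0 hy0, ← pow_mul, ← pow_succ', hx1, Rm_neg_one h2]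

end Cfsg.Agent.GH.Cov.U4RS
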