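import Cfsg.Agent.GH.Cov.F5PSUTypes
import Cfsg.Agent.GH.Cov.LieU4
import Cfsg.Agent.GH.Cov.U4Card
import Cfsg.Agent.GH.Cov.U4RS

/-!
# GH-COV: the `Frame` of helper779's `Core (PSU 4 F q)`, and type III
-/

set_option autoImplicit false

namespace Cfsg.Agent.GH.Cov.F5PSU

open Cfsg Matrix
open Cfsg.Agent.LieClassical.HermBasic Cfsg.Agent.LieClassical.HermSiegel
open Cfsg.Agent.ClassicalGeometry.PSUAutBasic
open Cfsg.Agent.GH.Cov.F5Core Cfsg.Agent.GH.Cov.F5Uni Cfsg.Agent.GH.Cov.F5Out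
open Cfsg.Agent.GH.Cov.LieData
open Cfsg.Agent.GH.Cov.LieU4 (blk blk_mul blk_one blk_det CoreSpec tM mkI iso_blk t0 w0 mat_w0 w0_w0)
open Cfsg.Agent.Phan (emb)

variable {F : Type*} [Field F] [Fintype F] {q : ℕ} (hF : Fintype.card F = q ^ 2)

theorem frame {D : Core (PSU 4 F q)} {i j d : SU 2 F q} (S : CoreSpec hF D i j d) : Frame D where
  mem₁ a := by
    rw [S.A₁]
    constructor
    · rintro ⟨_, ⟨x, rfl⟩, rfl⟩
      refine ⟨emb hF 0 (by omega : 0 + 2 ≤ 4) x, ?_, rfl⟩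
      refine ⟨Phan.mat x 0 0, Phan.mat x 0 1, Phan.mat x 1 0, Phan.mat x 1 1, ?_⟩
      have h := LieU4.mat_emb0 hF x
      change Phan.mat (emb hF 0 _ x) = _
      rw [h]
      ext i j
      fin_cases i <;> fin_cases j <;> simp [blk]
    · rintro ⟨g, ⟨a, b, c, d, hg⟩, rfl⟩
      have h1 : mat g = blk !![a, b; c, d] 1 := by
        rw [hg]
        ext i j
        fin_cases i <;> fin_cases j <;> simp [blk]
      have hdet : (!![a, b; c, d] : Matrix (Fin 2) (Fin 2) F).det = 1 := by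
        have h2 := det_mat g
        rwa [h1, blk_det, det_one, mul_one] at h2
      have hiso := (iso_blk hF (A := !![a, b; c, d]) (B := 1) (by rw [← h1]; exact g.2)).1
      refine ⟨g, ⟨mkI _ hdet hiso, ?_⟩, rfl⟩
      apply mat_injective
      change Phan.mat (emb hF 0 _ _) = _
      rw [LieU4.mat_emb0, LieU4.mat_mkI, h1]
  mem₂ a := by
    rw [S.A₂]
    constructor
    · rintro ⟨_, ⟨x, rfl⟩, rfl⟩
      refine ⟨emb hF 2 (by omega : 2 + 2 ≤ 4) x, ?_, rfl⟩
      refine ⟨Phan.mat x 0 0, Phan.mat x 0 1, Phan.mat x 1 0, Phan.mat x 1 1, ?_⟩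
      have h := LieU4.mat_emb2 hF x
      change Phan.mat (emb hF 2 _ x) = _
      rw [h]
      ext i j
      fin_cases i <;> fin_cases j <;> simp [blk]
    · rintro ⟨g, ⟨a, b, c, d, hg⟩, rfl⟩
      have h1 : mat g = blk 1 !![a, b; c, d] := by
        rw [hg]
        ext i j
        fin_cases i <;> fin_cases j <;> simp [blk]
      have hdet : (!![a, b; c, d] : Matrix (Fin 2) (Fin 2) F).det = 1 := by
        have h2 := det_mat g
        rwa [h1, blk_det, det_one, one_mul] at h2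
      have hiso := (iso_blk hF (A := 1) (B := !![a, b; c, d]) (by rw [← h1]; exact g.2)).2
      refine ⟨g, ⟨mkI _ hdet hiso, ?_⟩, rfl⟩
      apply mat_injective
      change Phan.mat (emb hF 2 _ _) = _
      rw [LieU4.mat_emb2, LieU4.mat_mkI, h1]
  t := ⟨t0 hF, LieU4.mat_t0 hF, S.t.symm⟩

include hF in
/-- Involutions of `SU₄` other than `-1` are conjugate to `diag(-1,-1,1,1)`. -/
theorem conj_t' (h2 : (2 : F) ≠ 0) {D : Core (PSU 4 F q)} (fr : Frame D) {x : SU 4 F q}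
    (hx : mat x * mat x = 1) (h1 : mat x ≠ 1) (h1' : mat x ≠ -1) : IsConj D.t (pr 4 F q x) := by
  obtain ⟨gt, hgt, ht⟩ := fr.t
  rcases LieU4.conj_t hF h2 x.2 hx (det_mat x) with h | h | ⟨U, hU, hd, h⟩
  · exact absurd h h1
  · exact absurd h h1'
  · rw [← ht, isConj_iff]
    refine ⟨pr 4 F q (mkI U hd hU), ?_⟩
    rw [← map_mul, ← map_inv, ← map_mul]
    congr 1
    rw [mul_inv_eq_iff_eq_mul]
    apply mat_injective
    rw [mat_mul, mat_mul, hgt]
    exact h.symm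

/-- The matrix `diag(-1,1,1,1)`. -/
def D0 (F : Type*) [Field F] : M4 F := diagonal ![-1, 1, 1, 1]

/-- The matrix `diag(-1,1,-1,1)`. -/
def Dc (F : Type*) [Field F] : M4 F := diagonal ![-1, 1, -1, 1]

/-- The permutation matrix of `(0 3)(1 2)`. -/
def Wr (F : Type*) [Field F] : M4 F := !![0, 0, 0, 1; 0, 0, 1, 0; 0, 1, 0, 0; 1, 0, 0, 0]

theorem D0_un : Un hF (D0 F) := by
  unfold D0
  rw [un_diag]
  intro i
  fin_cases i
  · exact no_neg hF
  · exact no_one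
  · exact no_one
  · exact no_one

theorem Dc_un : Un hF (Dc F) := by
  unfold Dc
  rw [un_diag]
  intro i
  fin_cases i
  · exact no_neg hF
  · exact no_one
  · exact no_neg hF
  · exact no_one

omit [Fintype F] in
theorem Dc_det : (Dc F).det = 1 := by
  unfold Dc
  rw [det_diagonal, Fin.prod_univ_four]
  simp

omit [Fintype F] in
theorem D0_mul_D0 : D0 F * D0 F = 1 := by
  unfold D0
  rw [diagonal_mul_diagonal, ← diagonal_one]
  congr 1
  funext i
  fin_cases i <;> simp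

omit [Fintype F] in
theorem Wr_map (ρ : F ≃+* F) : (Wr F).map ρ = Wr F := by
  unfold Wr
  ext i j
  fin_cases i <;> fin_cases j <;> simp

omit [Fintype F] in
theorem Wr_mul : Wr F * Wr F = 1 := by
  unfold Wr
  ext i j
  fin_cases i <;> fin_cases j <;> simp [mul_apply, Fin.sum_univ_four]

theorem Wr_un : Un hF (Wr F) := by
  have h : cn hF (Wr F) = Wr F := Wr_map (conj hF)
  have h' : (Wr F)ᵀ = Wr F := by
    unfold Wr
    ext i j
    fin_cases i <;> fin_cases j <;> simp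
  unfold Un
  rw [h, h', Wr_mul]

omit [Fintype F] in
theorem Wr_det : (Wr F).det = 1 := by
  unfold Wr
  rw [Matrix.det_succ_row_zero]
  simp [Fin.sum_univ_succ, Matrix.det_fin_three, Matrix.submatrix, Fin.succAbove, Fin.succ,
    Fin.castSucc]
  try norm_num

omit [Fintype F] in
theorem mat_inv' (x : SU 4 F q) : mat x⁻¹ = (mat x)⁻¹ := by
  symm
  apply inv_eq_right_inv
  rw [← mat_mul, mul_inv_cancel, mat_one]

/-- `diag(1,1,1,-1)` and `diag(-1,1,1,1)` are conjugate. -/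
theorem conj_D0 : au hF (D1 F) (D1_un hF) 1 =
    MulAut.conj (pr 4 F q (ofSU (Wr F) (Wr_un hF) Wr_det)) * au hF (D0 F) (D0_un hF) 1 *
      (MulAut.conj (pr 4 F q (ofSU (Wr F) (Wr_un hF) Wr_det)))⁻¹ := by
  rw [← map_inv, ← map_inv, conj_pr hF, conj_pr hF, au_mul, au_mul]
  apply au_congr
  · rw [mat_inv', mat_ofSU, inv_eq_right_inv Wr_mul]
    change D1 F = Wr F * D0 F * Wr F
    unfold D1 D0 Wr
    ext i j
    rw [mul_apply, Fin.sum_univ_four]
    simp only [mul_diagonal]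
    fin_cases i <;> fin_cases j <;> simp
  · rfl

/-! ### type III -/

/-- The matrix `diag(-1,1)` of size two. -/
def d2 (F : Type*) [Field F] : Matrix (Fin 2) (Fin 2) F := diagonal ![-1, 1]

omit [Fintype F] in
theorem D0_blk (A B : Matrix (Fin 2) (Fin 2) F) : D0 F * blk A B * D0 F = blk (d2 F * A * d2 F) B := by
  unfold D0 d2
  ext i j
  rw [mul_diagonal, diagonal_mul]
  fin_cases i <;> fin_cases j <;> simp [blk, mul_diagonal, diagonal_mul]

/-- Values of the automorphism `x ↦ D₀ x D₀⁻¹`. -/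
theorem d0_apply {g g' : SU 4 F q} (h : D0 F * mat g * D0 F = mat g') :
    au hF (D0 F) (D0_un hF) 1 (pr 4 F q g) = pr 4 F q g' := by
  apply au_pr
  rw [inv_eq_right_inv D0_mul_D0]
  exact h

omit [Fintype F] in
theorem up_blk {g : M4 F} : IsUp g ↔ ∃ A, g = blk A 1 := by
  constructor
  · rintro ⟨a, b, c, d, rfl⟩
    refine ⟨!![a, b; c, d], ?_⟩
    ext i j
    fin_cases i <;> fin_cases j <;> simp [blk]
  · rintro ⟨A, rfl⟩
    refine ⟨A 0 0, A 0 1, A 1 0, A 1 1, ?_⟩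
    ext i j
    fin_cases i <;> fin_cases j <;> simp [blk]

omit [Fintype F] in
theorem lo_blk {g : M4 F} : IsLo g ↔ ∃ A, g = blk 1 A := by
  constructor
  · rintro ⟨a, b, c, d, rfl⟩
    refine ⟨!![a, b; c, d], ?_⟩
    ext i j
    fin_cases i <;> fin_cases j <;> simp [blk]
  · rintro ⟨A, rfl⟩
    refine ⟨A 0 0, A 0 1, A 1 0, A 1 1, ?_⟩
    ext i j
    fin_cases i <;> fin_cases j <;> simp [blk]

omit [Fintype F] in
theorem mat_pow' (g : SU 4 F q) (k : ℕ) : mat (g ^ k) = mat g ^ k := by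
  induction k with
  | zero => rw [pow_zero, pow_zero, mat_one]
  | succ k ih => rw [pow_succ, pow_succ, mat_mul, ih]

omit [Fintype F] in
theorem w0_conj {g : SU 4 F q} {A B : Matrix (Fin 2) (Fin 2) F} (h : mat g = blk A B) :
    mat (w0 F q * g * (w0 F q)⁻¹) = blk B A := by
  have h1 : mat (w0 F q) * blk A B = blk B A * mat (w0 F q) := LieU4.w0_blk A B
  rw [mat_mul, mat_mul, h, h1, mul_assoc, ← mat_mul, mul_inv_cancel, mat_one, mul_one]

omit [Fintype F] in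
theorem mat_w0' : mat (w0 F q) = !![0, 0, 1, 0; 0, 0, 0, 1; 1, 0, 0, 0; 0, 1, 0, 0] := mat_w0

/-- Type III for `x ↦ D₀ x D₀⁻¹`. -/
theorem typeIII (hq : q % 4 = 1) {D : Core (PSU 4 F q)} (fr : Frame D) (s₀ : PSU 4 F q) :
    TypeIII D (MulAut.conj s₀ * au hF (D0 F) (D0_un hF) 1 * (MulAut.conj s₀)⁻¹) := by
  have h2 := two_ne hF hq
  have h12 : (1 : F) ≠ -1 := by
    intro h1
    exact h2 (by linear_combination h1)
  obtain ⟨n, hn, hn', r, r', s, hru, hsu, hrU, hsU, hrd, hsd, hrr, hrr', hrn, hss, hsr, hcr, hcs⟩ :=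
    U4RS.exists_rs hF hq
  obtain ⟨gt, hgt, ht⟩ := fr.t
  obtain ⟨R, hR⟩ : ∃ R : SU 4 F q, mat R = r := ⟨ofSU r hrU hrd, rfl⟩
  obtain ⟨S, hS⟩ : ∃ S : SU 4 F q, mat S = s := ⟨ofSU s hsU hsd, rfl⟩
  have hR' : mat R⁻¹ = r' := by
    rw [mat_inv', hR]
    exact inv_eq_right_inv hrr
  have hw : (w0 F q : SU 4 F q)⁻¹ = w0 F q := inv_eq_of_mul_eq_one_right w0_w0
  obtain ⟨C, hC⟩ : ∃ C : SU 4 F q, mat C = Dc F := ⟨ofSU (Dc F) (Dc_un hF) Dc_det, rfl⟩
  have hCC : mat C * mat C = 1 := by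
    rw [hC]
    unfold Dc
    rw [diagonal_mul_diagonal, ← diagonal_one]
    congr 1
    funext i
    fin_cases i <;> simp
  refine ⟨(MulAut.conj s₀)⁻¹, au hF (D0 F) (D0_un hF) 1, by group, ?_, ?_, n, pr 4 F q R,
    pr 4 F q S, pr 4 F q (w0 F q), pr 4 F q C, hn, ?_, ?_, ?_, ?_, ?_, ?_, ?_, ?_, ?_, ?_, ?_,
    ?_, ?_, ?_, ?_⟩
  · intro a ha
    obtain ⟨g, hg, rfl⟩ := (fr.mem₁ a).1 ha
    obtain ⟨A, hA⟩ := up_blk.1 hg
    obtain ⟨g', h3, h4⟩ := au_apply hF (D0_un hF) 1 g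
    rw [h3]
    refine (fr.mem₁ _).2 ⟨g', up_blk.2 ⟨d2 F * A * d2 F, ?_⟩, rfl⟩
    rw [h4, inv_eq_right_inv D0_mul_D0]
    change D0 F * mat g * D0 F = _
    rw [hA, D0_blk]
  · intro a ha
    obtain ⟨g, hg, rfl⟩ := (fr.mem₂ a).1 ha
    obtain ⟨A, hA⟩ := lo_blk.1 hg
    apply d0_apply
    rw [hA, D0_blk]
    congr 1
    unfold d2
    ext i j
    fin_cases i <;> fin_cases j <;> simp
  · exact (fr.mem₁ _).2 ⟨R, by rw [hR]; exact hru, rfl⟩
  · exact (fr.mem₁ _).2 ⟨S, by rw [hS]; exact hsu, rfl⟩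
  · rw [← map_pow, ← ht]
    apply pr_congr
    rw [mat_pow', hR, hrn, hgt]
  · rw [← map_mul, ← ht]
    apply pr_congr
    rw [mat_mul, hS, hss, hgt]
  · rw [mul_inv_eq_iff_eq_mul, ← map_inv, ← map_mul, ← map_mul]
    apply pr_congr
    rw [mat_mul, mat_mul, hS, hR, hR', hsr]
  · rw [← map_inv]
    apply d0_apply
    rw [hR, hR', ← hcr]
    rfl
  · rw [← ht, ← map_inv, ← map_mul, ← map_mul]
    apply d0_apply
    rw [mat_mul, mat_mul, hS, hR', hgt, ← hcs]
    rfl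
  · rw [← map_mul, w0_w0, map_one]
  · apply conj_t' hF h2 fr
    · rw [← mat_mul, w0_w0, mat_one]
    · rw [mat_w0']
      intro h3
      have := congrFun (congrFun h3 0) 0
      simp at this
    · rw [mat_w0']
      intro h3
      have := congrFun (congrFun h3 0) 0
      simp at this
  · intro a ha
    obtain ⟨g, hg, rfl⟩ := (fr.mem₁ a).1 ha
    obtain ⟨A, hA⟩ := up_blk.1 hg
    rw [← map_inv, ← map_mul, ← map_mul]
    exact (fr.mem₂ _).2 ⟨_, lo_blk.2 ⟨A, w0_conj hA⟩, rfl⟩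
  · intro a ha
    obtain ⟨g, hg, rfl⟩ := (fr.mem₂ a).1 ha
    obtain ⟨A, hA⟩ := lo_blk.1 hg
    rw [← map_inv, ← map_mul, ← map_mul]
    exact (fr.mem₁ _).2 ⟨_, up_blk.2 ⟨A, w0_conj hA⟩, rfl⟩
  · rw [← map_mul, ← map_one (pr 4 F q)]
    apply pr_congr
    rw [mat_mul, hCC, mat_one]
  · apply conj_t' hF h2 fr hCC
    · rw [hC]
      intro h3
      have h4 := congrFun (congrFun h3 0) 0
      unfold Dc at h4
      rw [diagonal_apply_eq, one_apply_eq] at h4
      exact h12 h4.symm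
    · rw [hC]
      intro h3
      have h4 := congrFun (congrFun h3 1) 1
      unfold Dc at h4
      rw [diagonal_apply_eq, Matrix.neg_apply, one_apply_eq] at h4
      exact h12 h4
  · rw [← map_inv, ← map_inv, hw, conj_pr hF, conj_pr hF, au_mul, au_mul, au_mul]
    apply au_congr
    · rw [hC]
      change D0 F * (mat (w0 F q) * D0 F * mat (w0 F q)) = Dc F
      rw [mat_w0']
      unfold D0 Dc
      ext i j
      rw [diagonal_mul, mul_apply, Fin.sum_univ_four]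
      simp only [mul_diagonal]
      fin_cases i <;> fin_cases j <;> simp
    · rfl
  · exact U4Card.card_psu hF hq hn'

include hF in
/-- **`LieData.Data` for `PSU₄(q)`, `q ≡ 1 mod 4`.** -/
theorem exists_data (hq : q % 4 = 1) : Nonempty (LieData.Data (PSU 4 F q)) := by
  obtain ⟨D, i, j, d, S⟩ := LieU4.exists_core hF hq
  have fr := frame hF S
  refine ⟨{ toCore := D, out := fun H hH hb => out hF hq fr H hH hb, outer := ?_ }⟩
  intro φ h2 ho hb
  obtain h | ⟨s, h⟩ := outer hF hq fr h2 ho hb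
  · exact Or.inr (Or.inl h)
  · have h3 : φ = MulAut.conj (s * pr 4 F q (ofSU (Wr F) (Wr_un hF) Wr_det)) *
        au hF (D0 F) (D0_un hF) 1 *
          (MulAut.conj (s * pr 4 F q (ofSU (Wr F) (Wr_un hF) Wr_det)))⁻¹ := by
      rw [h, conj_D0 hF, map_mul]
      group
    rw [h3]
    exact Or.inr (Or.inr (typeIII hF hq fr _))

end Cfsg.Agent.GH.Cov.F5PSU
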