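import Cfsg.Agent.GH.Cov.F5PSU

/-!
# GH-COV, (F5) for `PSU₄(q)`, `q ≡ 1 mod 4`: `Bad`, type II, and the two fields of `LieData.Data`

`Frame D` : `A₁`, `A₂` are the images of the two block diagonal `SU₂`, `t` is the image of `diag(-1,-1,1,1)`.
-/

set_option autoImplicit false

namespace Cfsg.Agent.GH.Cov.F5PSU

open Cfsg Matrix
open Cfsg.Agent.LieClassical.HermBasic Cfsg.Agent.LieClassical.HermSiegel
open Cfsg.Agent.ClassicalGeometry.PSUAutBasic
open Cfsg.Agent.GH.Cov.F5Core Cfsg.Agent.GH.Cov.F5Uni Cfsg.Agent.GH.Cov.F5Out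
open Cfsg.Agent.GH.Cov.LieData

/-- Block matrices with identity lower block. -/
def IsUp {F : Type*} [Field F] (g : M4 F) : Prop :=
  ∃ a b c d : F, g = !![a, b, 0, 0; c, d, 0, 0; 0, 0, 1, 0; 0, 0, 0, 1]

/-- Block matrices with identity upper block. -/
def IsLo {F : Type*} [Field F] (g : M4 F) : Prop :=
  ∃ a b c d : F, g = !![1, 0, 0, 0; 0, 1, 0, 0; 0, 0, a, b; 0, 0, c, d]

variable {F : Type*} [Field F] {q : ℕ}

/-- `A₁`, `A₂` are the two block diagonal `SU₂`, `t = diag(-1,-1,1,1)`. -/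
structure Frame (D : Core (PSU 4 F q)) : Prop where
  mem₁ : ∀ a, a ∈ D.A₁ ↔ ∃ g : SU 4 F q, IsUp (mat g) ∧ pr 4 F q g = a
  mem₂ : ∀ a, a ∈ D.A₂ ↔ ∃ g : SU 4 F q, IsLo (mat g) ∧ pr 4 F q g = a
  t : ∃ g : SU 4 F q, mat g = diagonal ![-1, -1, 1, 1] ∧ pr 4 F q g = D.t

theorem up_J {g : M4 F} (h : IsUp g) (hd : g.det = 1) : g * Jm F * gᵀ = Jm F := by
  obtain ⟨a, b, c, d, rfl⟩ := h
  have h1 : a * d - b * c = 1 := by
    rw [← hd, Matrix.det_succ_row_zero]
    simp [Fin.sum_univ_succ, Matrix.det_fin_three, Matrix.submatrix, Fin.succAbove, Fin.succ,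
      Fin.castSucc]
    try ring
  unfold Jm
  ext i j
  fin_cases i <;> fin_cases j <;> simp [mul_apply, Fin.sum_univ_four] <;>
    first
      | ring1
      | linear_combination h1
      | linear_combination -h1

theorem lo_J {g : M4 F} (h : IsLo g) (hd : g.det = 1) : g * Jm F * gᵀ = Jm F := by
  obtain ⟨a, b, c, d, rfl⟩ := h
  have h1 : a * d - b * c = 1 := by
    rw [← hd, Matrix.det_succ_row_zero]
    simp [Fin.sum_univ_succ, Matrix.det_fin_three, Matrix.submatrix, Fin.succAbove, Fin.succ,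
      Fin.castSucc]
    try ring
  unfold Jm
  ext i j
  fin_cases i <;> fin_cases j <;> simp [mul_apply, Fin.sum_univ_four] <;>
    first
      | ring1
      | linear_combination h1
      | linear_combination -h1

/-- The matrix `diag(-1,-1,1,1)`. -/
def Tm (F : Type*) [Field F] : M4 F := diagonal ![-1, -1, 1, 1]

/-- The matrix `diag(1,-1,-1,1)`. -/
def Bm (F : Type*) [Field F] : M4 F := diagonal ![1, -1, -1, 1]

/-- The 3-cycle. -/
def Cm (F : Type*) [Field F] : M4 F := !![0, 0, 1, 0; 1, 0, 0, 0; 0, 1, 0, 0; 0, 0, 0, 1]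

/-- The lower block of `J`. -/
def Jl (F : Type*) [Field F] : M4 F := !![1, 0, 0, 0; 0, 1, 0, 0; 0, 0, 0, 1; 0, 0, -1, 0]

/-- An element of order 4 in the upper block. -/
def Ku {F : Type*} [Field F] (x y : F) : M4 F := !![x, y, 0, 0; y, -x, 0, 0; 0, 0, 1, 0; 0, 0, 0, 1]

variable [Fintype F] (hF : Fintype.card F = q ^ 2)

theorem Bm_un : Un hF (Bm F) := by
  unfold Bm
  rw [un_diag]
  intro i
  fin_cases i
  · exact no_one
  · exact no_neg hF
  · exact no_neg hF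
  · exact no_one

omit [Fintype F] in
theorem Bm_det : (Bm F).det = 1 := by
  unfold Bm
  rw [det_diagonal, Fin.prod_univ_four]
  simp

omit [Fintype F] in
theorem Cm_tr : (Cm F)ᵀ * Cm F = 1 := by
  unfold Cm
  ext i j
  fin_cases i <;> fin_cases j <;> simp [mul_apply, Fin.sum_univ_four]

omit [Fintype F] in
theorem Cm_map (ρ : F ≃+* F) : (Cm F).map ρ = Cm F := by
  unfold Cm
  ext i j
  fin_cases i <;> fin_cases j <;> simp

theorem Cm_un : Un hF (Cm F) := by
  have h : cn hF (Cm F) = Cm F := Cm_map (conj hF)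
  unfold Un
  rw [h, Cm_tr]

omit [Fintype F] in
theorem Cm_det : (Cm F).det = 1 := by
  unfold Cm
  rw [Matrix.det_succ_row_zero]
  simp [Fin.sum_univ_succ, Matrix.det_fin_three, Matrix.submatrix, Fin.succAbove, Fin.succ,
    Fin.castSucc]

omit [Fintype F] in
theorem Jl_tr : (Jl F)ᵀ * Jl F = 1 := by
  unfold Jl
  ext i j
  fin_cases i <;> fin_cases j <;> simp [mul_apply, Fin.sum_univ_four]

omit [Fintype F] in
theorem Jl_map (ρ : F ≃+* F) : (Jl F).map ρ = Jl F := by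
  unfold Jl
  ext i j
  fin_cases i <;> fin_cases j <;> simp

theorem Jl_un : Un hF (Jl F) := by
  have h : cn hF (Jl F) = Jl F := Jl_map (conj hF)
  unfold Un
  rw [h, Jl_tr]

omit [Fintype F] in
theorem Jl_det : (Jl F).det = 1 := by
  unfold Jl
  rw [Matrix.det_succ_row_zero]
  simp [Fin.sum_univ_succ, Matrix.det_fin_three, Matrix.submatrix, Fin.succAbove, Fin.succ,
    Fin.castSucc]

theorem Ku_un {x y : F} (h : x * x + y * y = -1) (hx : x ^ q = -x) (hy : y ^ q = -y) :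
    Un hF (Ku x y) := by
  have h1 : cn hF (Ku x y) = !![-x, -y, 0, 0; -y, x, 0, 0; 0, 0, 1, 0; 0, 0, 0, 1] := by
    have h0 : (0 : F) ^ q = 0 := zero_pow_q hF
    unfold Ku cn
    ext i j
    fin_cases i <;> fin_cases j <;>
      simp [conj_apply, hx, hy, h0, neg_pow_q hF]
  unfold Un
  rw [h1]
  unfold Ku
  ext i j
  fin_cases i <;> fin_cases j <;> simp [mul_apply, Fin.sum_univ_four] <;>
    first
      | ring1
      | linear_combination h
      | linear_combination -h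

omit [Fintype F] in
theorem Ku_det {x y : F} (h : x * x + y * y = -1) : (Ku x y).det = 1 := by
  unfold Ku
  rw [Matrix.det_succ_row_zero]
  simp [Fin.sum_univ_succ, Matrix.det_fin_three, Matrix.submatrix, Fin.succAbove, Fin.succ,
    Fin.castSucc]
  linear_combination -h

include hF in
/-- Solutions of `x² + y² = -1` with `x̄ = -x`, `ȳ = -y`. -/
theorem exists_xy (hq : q % 4 = 1) : ∃ x y : F, x * x + y * y = -1 ∧ x ^ q = -x ∧ y ^ q = -y := by
  have h2 := two_ne hF hq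
  -- a square root of `-1` fixed by conjugation
  have hsq : IsSquare (-1 : F) := by
    rw [FiniteField.isSquare_neg_one_iff, hF]
    obtain ⟨k, hk⟩ : ∃ k, q = 4 * k + 1 := ⟨q / 4, by omega⟩
    rw [hk]
    have : (4 * k + 1) ^ 2 = 4 * (4 * k * k + 2 * k) + 1 := by ring
    rw [this]
    omega
  obtain ⟨i, hi⟩ := hsq
  have hiq : i ^ q = i := by
    obtain ⟨k, hk⟩ : ∃ k, q = 4 * k + 1 := ⟨q / 4, by omega⟩
    rw [hk, pow_succ, show 4 * k = 2 * (2 * k) by ring, pow_mul, pow_two, ← hi, pow_mul]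
    simp
  obtain ⟨ξ, hξ, hξq⟩ := exists_trace_zero_ne hF
  have hξq' : ξ ^ q = -ξ := by linear_combination hξq
  have hi0 : i ≠ 0 := by
    rintro rfl
    rw [mul_zero] at hi
    exact one_ne_zero (by linear_combination -hi : (1 : F) = 0)
  obtain ⟨m, hm⟩ : ∃ m : F, m = -(ξ * ξ)⁻¹ := ⟨_, rfl⟩
  have hmq : m ^ q = m := by
    rw [hm, neg_pow_q hF, inv_pow, mul_pow, hξq']
    ring
  have h2q : (2 : F) ^ q = 2 := by
    have : ((2 : ℕ) : F) ^ q = ((2 : ℕ) : F) := by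
      rw [← conj_apply hF, map_natCast]
    simpa using this
  refine ⟨ξ * ((m + 1) * 2⁻¹), ξ * ((m - 1) * (2 * i)⁻¹), ?_, ?_, ?_⟩
  · have h3 : (m + 1) * 2⁻¹ * ((m + 1) * 2⁻¹) + (m - 1) * (2 * i)⁻¹ * ((m - 1) * (2 * i)⁻¹) = m := by
      field_simp
      rw [pow_two i, ← hi]
      ring
    calc _ = ξ * ξ * ((m + 1) * 2⁻¹ * ((m + 1) * 2⁻¹) +
          (m - 1) * (2 * i)⁻¹ * ((m - 1) * (2 * i)⁻¹)) := by ring
      _ = -1 := by
        rw [h3, hm]
        field_simp
  · rw [mul_pow, mul_pow, add_pow_q hF, inv_pow, hξq', hmq, h2q, one_pow]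
    ring
  · rw [mul_pow, mul_pow, sub_pow_q hF, inv_pow, mul_pow, hξq', hmq, h2q, hiq, one_pow]
    ring

theorem au_apply {A : M4 F} (hA : Un hF A) (ρ : F ≃+* F) (g : SU 4 F q) :
    ∃ g' : SU 4 F q, au hF A hA ρ (pr 4 F q g) = pr 4 F q g' ∧
      mat g' = A * (mat g).map ρ * A⁻¹ :=
  ⟨ClassicalGeometry.PSUAutCount.semiConj (ofUn A hA) ρ g, rfl, by
    rw [mat_semiConj, gm_inv, gm_ofUn]⟩

/-- The automorphism `x ↦ J x̄ J⁻¹` is bad. -/
theorem bad {D : Core (PSU 4 F q)} (fr : Frame D) :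
    Bad D (au hF (Jm F) (Jm_un hF) (conj hF)) := by
  have h1 : ∀ a ∈ D.A₁, au hF (Jm F) (Jm_un hF) (conj hF) a = a := by
    intro a ha
    obtain ⟨g, hg, rfl⟩ := (fr.mem₁ a).1 ha
    exact bad_fix hF (up_J hg (det_mat g))
  have h2 : ∀ a ∈ D.A₂, au hF (Jm F) (Jm_un hF) (conj hF) a = a := by
    intro a ha
    obtain ⟨g, hg, rfl⟩ := (fr.mem₂ a).1 ha
    exact bad_fix hF (lo_J hg (det_mat g))
  exact ⟨bad_sq hF, bad_outer hF, 1, h1 _ D.i₁_mem, h1 _ D.j₁_mem, h1 _ D.d₁_mem, h2 _ D.i₂_mem,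
    h2 _ D.j₂_mem, h2 _ D.d₂_mem⟩

include hF in
/-- **(F5a)** for `PSU₄(q)`. -/
theorem out (hq : q % 4 = 1) {D : Core (PSU 4 F q)} (fr : Frame D)
    (H : Subgroup (MulAut (PSU 4 F q)))
    (hH : (MulAut.conj : PSU 4 F q →* MulAut (PSU 4 F q)).range ≤ H) (hb : ∀ φ ∈ H, ¬ Bad D φ) :
    ¬ 4 ∣ (MulAut.conj : PSU 4 F q →* MulAut (PSU 4 F q)).range.relIndex H := by
  apply not_four_of hF hq
  rintro ⟨φ, hφ, h⟩
  rw [← mk_bad hF hq] at h
  have h1 := hH (QuotientGroup.eq.1 h)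
  have h2 := H.mul_mem hφ h1
  rw [mul_inv_cancel_left] at h2
  exact hb _ h2 (bad hF fr)

/-- Values of the automorphism `x ↦ D x̄ D⁻¹`. -/
theorem e_apply {g g' : SU 4 F q} (h : D1 F * cn hF (mat g) * D1 F = mat g') :
    au hF (D1 F) (D1_un hF) (conj hF) (pr 4 F q g) = pr 4 F q g' := by
  apply au_pr
  have : (D1 F)⁻¹ = D1 F := inv_eq_right_inv D1_mul_D1
  rw [this]
  exact h

omit [Fintype F] in
theorem pr_congr {g g' : SU 4 F q} (h : mat g = mat g') : pr 4 F q g = pr 4 F q g' := by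
  rw [mat_injective h]

omit [Fintype F] in
theorem pr_neg {g g' : SU 4 F q} (h : mat g = -mat g') : pr 4 F q g = pr 4 F q g' := by
  have h1 : g = g' * (g'⁻¹ * g) := by group
  have h2 : mat (g'⁻¹ * g) = -1 := by
    rw [mat_mul, h, Matrix.mul_neg, ← mat_mul, inv_mul_cancel, mat_one]
  rw [h1, map_mul]
  have h3 : pr 4 F q (g'⁻¹ * g) = 1 := by
    rw [pr_eq_one_iff]
    refine mem_center_of_act (c := -1) fun v => ?_
    rw [act_def, h2, neg_mulVec, one_mulVec, neg_one_smul]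
  rw [h3, mul_one]

set_option maxHeartbeats 2000000 in
/-- Type II for `x ↦ D x̄ D⁻¹`. -/
theorem typeII (hq : q % 4 = 1) {D : Core (PSU 4 F q)} (fr : Frame D) (s : PSU 4 F q) :
    TypeII D (MulAut.conj s * au hF (D1 F) (D1_un hF) (conj hF) * (MulAut.conj s)⁻¹) := by
  have h0 : (0 : F) ^ q = 0 := zero_pow_q hF
  have hn : (-1 : F) ^ q = -1 := by rw [neg_pow_q hF, one_pow]
  obtain ⟨x, y, hxy, hx, hy⟩ := exists_xy hF hq
  obtain ⟨gt, hgt, ht⟩ := fr.t
  refine ⟨(MulAut.conj s)⁻¹, au hF (D1 F) (D1_un hF) (conj hF), by group, ?_, ?_, ?_, ?_, ?_⟩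
  · intro a ha
    obtain ⟨g, ⟨a, b, c, d, hg⟩, rfl⟩ := (fr.mem₁ a).1 ha
    obtain ⟨g', h1, h2⟩ := au_apply hF (D1_un hF) (conj hF) g
    rw [h1]
    refine (fr.mem₁ _).2 ⟨g', ⟨a ^ q, b ^ q, c ^ q, d ^ q, ?_⟩, rfl⟩
    rw [h2, hg, inv_eq_right_inv D1_mul_D1]
    unfold D1
    ext i j
    fin_cases i <;> fin_cases j <;>
      simp [mul_apply, Fin.sum_univ_four, conj_apply, h0]
  · intro a ha
    obtain ⟨g, ⟨a, b, c, d, hg⟩, rfl⟩ := (fr.mem₂ a).1 ha
    obtain ⟨g', h1, h2⟩ := au_apply hF (D1_un hF) (conj hF) g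
    rw [h1]
    refine (fr.mem₂ _).2 ⟨g', ⟨a ^ q, -b ^ q, -c ^ q, d ^ q, ?_⟩, rfl⟩
    rw [h2, hg, inv_eq_right_inv D1_mul_D1]
    unfold D1
    ext i j
    fin_cases i <;> fin_cases j <;>
      simp [mul_apply, Fin.sum_univ_four, conj_apply, h0]
  · -- the element of `A₁`
    have hU := Ku_un hF hxy hx hy
    refine ⟨pr 4 F q (ofSU (Ku x y) hU (Ku_det hxy)), (fr.mem₁ _).2 ⟨_, ⟨x, y, y, -x, rfl⟩, rfl⟩,
      ?_, ?_⟩
    · rw [← map_mul, ← ht]
      apply pr_congr
      rw [mat_mul, mat_ofSU, hgt]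
      unfold Ku
      ext i j
      fin_cases i <;> fin_cases j <;> simp [mul_apply, Fin.sum_univ_four] <;>
        first
          | ring1
          | linear_combination hxy
          | linear_combination -hxy
    · rw [← map_inv]
      apply e_apply
      symm
      have h1 : mat (ofSU (Ku x y) hU (Ku_det hxy))⁻¹ = (Ku x y)⁻¹ := by
        symm
        apply inv_eq_right_inv
        change mat (ofSU (Ku x y) hU (Ku_det hxy)) * mat (ofSU (Ku x y) hU (Ku_det hxy))⁻¹ = 1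
        rw [← mat_mul, mul_inv_cancel, mat_one]
      rw [h1, mat_ofSU]
      apply inv_eq_right_inv
      unfold Ku D1 cn
      ext i j
      fin_cases i <;> fin_cases j <;>
        simp [mul_apply, Fin.sum_univ_four, conj_apply, h0, hx, hy, neg_pow_q hF] <;>
        first
          | ring1
          | linear_combination hxy
          | linear_combination -hxy
  · -- the element of `A₂`
    have hU := Jl_un hF
    refine ⟨pr 4 F q (ofSU (Jl F) hU Jl_det), (fr.mem₂ _).2 ⟨_, ⟨0, 1, -1, 0, rfl⟩, rfl⟩, ?_, ?_⟩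
    · rw [← map_mul, ← ht]
      apply pr_neg
      rw [mat_mul, mat_ofSU, hgt]
      unfold Jl
      ext i j
      fin_cases i <;> fin_cases j <;> simp [mul_apply, Fin.sum_univ_four]
    · rw [← map_inv]
      apply e_apply
      symm
      have h1 : mat (ofSU (Jl F) hU Jl_det)⁻¹ = (Jl F)⁻¹ := by
        symm
        apply inv_eq_right_inv
        change mat (ofSU (Jl F) hU Jl_det) * mat (ofSU (Jl F) hU Jl_det)⁻¹ = 1
        rw [← mat_mul, mul_inv_cancel, mat_one]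
      rw [h1, mat_ofSU]
      apply inv_eq_right_inv
      unfold Jl D1 cn
      ext i j
      fin_cases i <;> fin_cases j <;>
        simp [mul_apply, Fin.sum_univ_four, conj_apply, h0, hn]
  · -- the `A₄`
    refine ⟨pr 4 F q (ofSU (Bm F) (Bm_un hF) Bm_det), pr 4 F q (ofSU (Cm F) (Cm_un hF) Cm_det),
      ⟨D.tt, D.t_ne, ?_, ?_, ?_, ?_, ?_⟩, ?_, ?_, ?_⟩
    · rw [← map_mul, ← map_one (pr 4 F q)]
      apply pr_congr
      rw [mat_mul, mat_ofSU, mat_one]
      unfold Bm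
      ext i j
      fin_cases i <;> fin_cases j <;> simp [mul_apply, Fin.sum_univ_four]
    · rw [← ht, ← map_mul, ← map_mul]
      apply pr_congr
      rw [mat_mul, mat_mul, mat_ofSU, hgt]
      unfold Bm
      ext i j
      fin_cases i <;> fin_cases j <;> simp [mul_apply, Fin.sum_univ_four]
    · rw [← map_mul, ← map_mul, ← map_one (pr 4 F q)]
      apply pr_congr
      rw [mat_mul, mat_mul, mat_ofSU, mat_one]
      unfold Cm
      ext i j
      fin_cases i <;> fin_cases j <;> simp [mul_apply, Fin.sum_univ_four]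
    · rw [mul_inv_eq_iff_eq_mul, ← ht, ← map_mul, ← map_mul]
      apply pr_congr
      rw [mat_mul, mat_mul, mat_ofSU, mat_ofSU, hgt]
      unfold Cm Bm
      ext i j
      fin_cases i <;> fin_cases j <;> simp [mul_apply, Fin.sum_univ_four]
    · rw [mul_inv_eq_iff_eq_mul, ← ht, ← map_mul, ← map_mul, ← map_mul]
      apply pr_congr
      rw [mat_mul, mat_mul, mat_mul, mat_ofSU, mat_ofSU, hgt]
      unfold Cm Bm
      ext i j
      fin_cases i <;> fin_cases j <;> simp [mul_apply, Fin.sum_univ_four]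
    · rw [← ht]
      apply e_apply
      rw [hgt]
      unfold D1 cn
      ext i j
      fin_cases i <;> fin_cases j <;>
        simp [mul_apply, Fin.sum_univ_four, conj_apply, h0, hn]
    · apply e_apply
      rw [mat_ofSU]
      unfold D1 cn Bm
      ext i j
      fin_cases i <;> fin_cases j <;>
        simp [mul_apply, Fin.sum_univ_four, conj_apply, h0, hn]
    · apply e_apply
      rw [mat_ofSU]
      unfold D1 cn Cm
      ext i j
      fin_cases i <;> fin_cases j <;>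
        simp [mul_apply, Fin.sum_univ_four, conj_apply, h0, hn]

/-- **(F5b)** for `PSU₄(q)`: type II or conjugate to `x ↦ D x D⁻¹`, `D = diag(1,1,1,-1)`. -/
theorem outer (hq : q % 4 = 1) {D : Core (PSU 4 F q)} (fr : Frame D) {φ : MulAut (PSU 4 F q)}
    (h2 : φ * φ = 1) (ho : φ ∉ (MulAut.conj : PSU 4 F q →* MulAut (PSU 4 F q)).range)
    (hb : ∀ u : PSU 4 F q, ¬ Bad D (φ * MulAut.conj u)) :
    TypeII D φ ∨ ∃ s : PSU 4 F q,
      φ = MulAut.conj s * au hF (D1 F) (D1_un hF) 1 * (MulAut.conj s)⁻¹ := by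
  obtain ⟨s, h | h⟩ := classify hF hq h2 ho (fun u hu => hb u (hu ▸ bad hF fr))
  · exact Or.inr ⟨s, h⟩
  · left
    rw [h]
    exact typeII hF hq fr s

end Cfsg.Agent.GH.Cov.F5PSU
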