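import Mathlib
import Cfsg.Agent.ClassicalGeometry.SLTwoFour

/-!
# `SL(4,F)`, block matrices, involutions modulo the centre (GH-COV)

* `fb a b c d`, `blk a b`: block matrices.
* `exists_conj_one`: `T² = 1`, `T ≠ ±1`, `det T = 1` ⇒ `T` is conjugate in `SL(4,F)` to `blk 1 (-1)`.
* `exists_conj_neg`: `T² = -1`, `-1` not a square, `F` finite ⇒ all such `T` are conjugate in `SL(4,F)`.
-/

set_option autoImplicit false

open scoped Matrix

namespace Cfsg.Agent.GH.Cov.FourSL

variable {F : Type*} [Field F]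

/-- `Fin 4 ≃ Fin 2 ⊕ Fin 2`. -/
def e4 : Fin 4 ≃ Fin 2 ⊕ Fin 2 := (finSumFinEquiv (m := 2) (n := 2)).symm

/-- Block matrix. -/
def fb (a b c d : Matrix (Fin 2) (Fin 2) F) : Matrix (Fin 4) (Fin 4) F :=
  (Matrix.fromBlocks a b c d).submatrix e4 e4

/-- Block diagonal matrix. -/
def blk (a b : Matrix (Fin 2) (Fin 2) F) : Matrix (Fin 4) (Fin 4) F := fb a 0 0 b

theorem fb_mul (a b c d a' b' c' d' : Matrix (Fin 2) (Fin 2) F) :
    fb a b c d * fb a' b' c' d' =
      fb (a * a' + b * c') (a * b' + b * d') (c * a' + d * c') (c * b' + d * d') := by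
  unfold fb
  rw [Matrix.submatrix_mul_equiv, Matrix.fromBlocks_multiply]

omit [Field F] in
theorem fb_inj {a b c d a' b' c' d' : Matrix (Fin 2) (Fin 2) F} (h : fb a b c d = fb a' b' c' d') :
    a = a' ∧ b = b' ∧ c = c' ∧ d = d' := by
  unfold fb at h
  have h1 := (Matrix.reindex e4.symm e4.symm).injective h
  exact Matrix.fromBlocks_inj.1 h1

omit [Field F] in
theorem exists_fb (M : Matrix (Fin 4) (Fin 4) F) : ∃ a b c d, M = fb a b c d := by
  refine ⟨(M.submatrix e4.symm e4.symm).toBlocks₁₁, (M.submatrix e4.symm e4.symm).toBlocks₁₂,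
    (M.submatrix e4.symm e4.symm).toBlocks₂₁, (M.submatrix e4.symm e4.symm).toBlocks₂₂, ?_⟩
  unfold fb
  rw [Matrix.fromBlocks_toBlocks (M.submatrix e4.symm e4.symm), Matrix.submatrix_submatrix]
  simp

theorem fb_neg (a b c d : Matrix (Fin 2) (Fin 2) F) : -fb a b c d = fb (-a) (-b) (-c) (-d) := by
  unfold fb
  rw [← Matrix.fromBlocks_neg]
  rfl

theorem fb_smul (r : F) (a b c d : Matrix (Fin 2) (Fin 2) F) :
    r • fb a b c d = fb (r • a) (r • b) (r • c) (r • d) := by
  unfold fb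
  rw [← Matrix.fromBlocks_smul]
  rfl

theorem blk_mul (a b a' b' : Matrix (Fin 2) (Fin 2) F) :
    blk a b * blk a' b' = blk (a * a') (b * b') := by
  unfold blk
  rw [fb_mul]
  simp

theorem blk_one : blk (1 : Matrix (Fin 2) (Fin 2) F) 1 = 1 := by
  unfold blk fb
  rw [Matrix.fromBlocks_one]
  exact Matrix.submatrix_one_equiv e4

theorem blk_neg (a b : Matrix (Fin 2) (Fin 2) F) : -blk a b = blk (-a) (-b) := by
  unfold blk
  rw [fb_neg, neg_zero]

theorem blk_inj {a b a' b' : Matrix (Fin 2) (Fin 2) F} (h : blk a b = blk a' b') :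
    a = a' ∧ b = b' := by
  obtain ⟨h1, -, -, h2⟩ := fb_inj h
  exact ⟨h1, h2⟩

theorem blk_det (a b : Matrix (Fin 2) (Fin 2) F) : (blk a b).det = a.det * b.det := by
  unfold blk fb
  rw [Matrix.det_submatrix_equiv_self, Matrix.det_fromBlocks_zero₂₁]

/-- `diag(1,1,-1,-1)`. -/
def D (F : Type*) [Field F] : Matrix (Fin 4) (Fin 4) F := blk 1 (-1)

theorem D_sq : D F * D F = 1 := by
  unfold D
  rw [blk_mul, one_mul, neg_mul_neg, one_mul, blk_one]

theorem fb_D (a b c d : Matrix (Fin 2) (Fin 2) F) : fb a b c d * D F = fb a (-b) c (-d) := by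
  unfold D blk
  rw [fb_mul]
  simp

theorem D_fb (a b c d : Matrix (Fin 2) (Fin 2) F) : D F * fb a b c d = fb a b (-c) (-d) := by
  unfold D blk
  rw [fb_mul]
  simp

theorem eq_zero_of_neg {n : Type*} (h2 : (2 : F) ≠ 0) {a : Matrix n n F} (h : -a = a) : a = 0 := by
  ext i j
  have h1 := congrFun (congrFun h i) j
  rw [Matrix.neg_apply] at h1
  have h3 : (2 : F) * a i j = 0 := by linear_combination -h1
  exact (mul_eq_zero.1 h3).resolve_left h2

/-- Matrices commuting with `D`. -/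
theorem comm_D (h2 : (2 : F) ≠ 0) {M : Matrix (Fin 4) (Fin 4) F} (h : M * D F = D F * M) :
    ∃ a b, M = blk a b := by
  obtain ⟨a, b, c, d, rfl⟩ := exists_fb M
  rw [fb_D, D_fb] at h
  obtain ⟨-, h1, h3, -⟩ := fb_inj h
  rw [eq_zero_of_neg h2 h1, eq_zero_of_neg h2 h3.symm]
  exact ⟨a, d, rfl⟩

/-- Matrices anticommuting with `D`. -/
theorem anti_D (h2 : (2 : F) ≠ 0) {M : Matrix (Fin 4) (Fin 4) F} (h : M * D F = -(D F * M)) :
    ∃ b c, M = fb 0 b c 0 := by
  obtain ⟨a, b, c, d, rfl⟩ := exists_fb M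
  rw [fb_D, D_fb, fb_neg] at h
  obtain ⟨h1, -, -, h3⟩ := fb_inj h
  rw [neg_neg] at h3
  rw [eq_zero_of_neg h2 h1.symm, eq_zero_of_neg h2 h3]
  exact ⟨b, c, rfl⟩

/-! ### Involutions -/

/-- A matrix with square one is diagonalisable with eigenvalues `±1`. -/
theorem exists_basis {n : ℕ} (h2 : (2 : F) ≠ 0) {T : Matrix (Fin n) (Fin n) F} (hT : T * T = 1) :
    ∃ b : Module.Basis (Fin n) F (Fin n → F), ∀ i, T *ᵥ b i = b i ∨ T *ᵥ b i = - b i := by
  set S : Set (Fin n → F) := {v | T *ᵥ v = v ∨ T *ᵥ v = -v} with hS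
  have hspan : ⊤ ≤ Submodule.span F S := by
    intro v _
    have h1 : v + T *ᵥ v ∈ S := by
      left
      rw [Matrix.mulVec_add, Matrix.mulVec_mulVec, hT, Matrix.one_mulVec, add_comm]
    have h3 : v - T *ᵥ v ∈ S := by
      right
      rw [Matrix.mulVec_sub, Matrix.mulVec_mulVec, hT, Matrix.one_mulVec, neg_sub]
    have h4 : v = (2 : F)⁻¹ • ((v + T *ᵥ v) + (v - T *ᵥ v)) := by
      have : (v + T *ᵥ v) + (v - T *ᵥ v) = (2 : F) • v := by
        rw [two_smul]; abel
      rw [this, smul_smul, inv_mul_cancel₀ h2, one_smul]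
    rw [h4]
    exact Submodule.smul_mem _ _ (Submodule.add_mem _ (Submodule.subset_span h1)
      (Submodule.subset_span h3))
  let b₀ := Module.Basis.ofSpan hspan
  have hsub := Module.Basis.ofSpan_subset hspan
  have hfin : Finite ((linearIndepOn_empty F id).extend (Set.empty_subset S)) :=
    Module.Finite.finite_basis b₀
  have := Fintype.ofFinite ((linearIndepOn_empty F id).extend (Set.empty_subset S))
  have hcard : Fintype.card ((linearIndepOn_empty F id).extend (Set.empty_subset S)) = n := by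
    rw [← Module.finrank_eq_card_basis b₀, Module.finrank_fin_fun]
  let e := Fintype.equivFinOfCardEq hcard
  refine ⟨b₀.reindex e, fun i => ?_⟩
  rw [Module.Basis.reindex_apply]
  exact hsub (Set.mem_range_self _)

theorem D_eq_diagonal : D F = Matrix.diagonal ![1, 1, -1, -1] := by
  ext i j
  fin_cases i <;> fin_cases j <;> first | rfl | exact neg_zero

/-- Signs. -/
theorem signs : ∀ d : Fin 4 → Bool, (xor (d 0) (xor (d 1) (xor (d 2) (d 3)))) = false →
    d = (fun _ => false) ∨ d = (fun _ => true) ∨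
      ∃ σ : Equiv.Perm (Fin 4), d (σ 0) = false ∧ d (σ 1) = false ∧ d (σ 2) = true ∧ d (σ 3) = true := by
  decide +kernel

theorem exists_conj_one (h2 : (2 : F) ≠ 0) {T : Matrix (Fin 4) (Fin 4) F} (hT : T * T = 1)
    (hdet : T.det = 1) (hne : T ≠ 1) (hne' : T ≠ -1) :
    ∃ P : Matrix (Fin 4) (Fin 4) F, P.det = 1 ∧ T * P = P * D F := by
  classical
  have hone : (1 : F) ≠ -1 := by
    intro h
    apply h2
    linear_combination h
  obtain ⟨b, hb⟩ := exists_basis h2 hT
  let s : Bool → F := fun x => if x then -1 else 1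
  have h1 : ∀ i, ∃ d : Bool, T *ᵥ b i = s d • b i := by
    intro i
    rcases hb i with h | h
    · exact ⟨false, by simp [s, h]⟩
    · exact ⟨true, by simp [s, h]⟩
  choose d hdb using h1
  have hPdet : ∀ σ : Equiv.Perm (Fin 4), (Matrix.of (fun i j => b (σ j) i)).det ≠ 0 := by
    intro σ
    have hli : LinearIndependent F (Matrix.of (fun i j => b (σ j) i)).col :=
      b.linearIndependent.comp σ σ.injective
    rw [Matrix.linearIndependent_cols_iff_isUnit, Matrix.isUnit_iff_isUnit_det] at hli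
    exact hli.ne_zero
  have hTP : ∀ σ : Equiv.Perm (Fin 4), T * (Matrix.of (fun i j => b (σ j) i)) =
      (Matrix.of (fun i j => b (σ j) i)) * Matrix.diagonal (fun i => s (d (σ i))) := by
    intro σ
    ext i j
    rw [Matrix.mul_diagonal, Matrix.mul_apply]
    have := congrFun (hdb (σ j)) i
    rw [Matrix.mulVec, dotProduct, Pi.smul_apply, smul_eq_mul] at this
    rw [mul_comm, Matrix.of_apply, mul_comm, mul_comm (b (σ j) i), ← this]
    rfl
  have hprod : s (d 0) * s (d 1) * s (d 2) * s (d 3) = 1 := by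
    have h3 := congrArg Matrix.det (hTP 1)
    rw [Matrix.det_mul, Matrix.det_mul, hdet, one_mul, Matrix.det_diagonal, Fin.prod_univ_four]
      at h3
    have h4 := hPdet 1
    have h6 : s (d ((1 : Equiv.Perm (Fin 4)) 0)) * s (d ((1 : Equiv.Perm (Fin 4)) 1)) *
        s (d ((1 : Equiv.Perm (Fin 4)) 2)) * s (d ((1 : Equiv.Perm (Fin 4)) 3)) =
        s (d 0) * s (d 1) * s (d 2) * s (d 3) := rfl
    rw [h6] at h3
    exact (mul_right_eq_self₀.1 h3.symm).resolve_right h4
  have hx : xor (d 0) (xor (d 1) (xor (d 2) (d 3))) = false := by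
    revert hprod
    generalize d 0 = a0
    generalize d 1 = a1
    generalize d 2 = a2
    generalize d 3 = a3
    cases a0 <;> cases a1 <;> cases a2 <;> cases a3 <;> simp [s, hone.symm]
  have hconst : ∀ x : Bool, d = (fun _ => x) → T = s x • 1 := by
    intro x hd
    have h4 := hTP 1
    have h5 : Matrix.diagonal (fun i => s (d ((1 : Equiv.Perm (Fin 4)) i))) =
        s x • (1 : Matrix (Fin 4) (Fin 4) F) := by
      rw [hd, ← Matrix.diagonal_one, ← Matrix.diagonal_smul]
      congr 1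
      funext i
      simp
    rw [h5, mul_smul_comm, mul_one] at h4
    have h6 : IsUnit (Matrix.of (fun i j => b ((1 : Equiv.Perm (Fin 4)) j) i)) := by
      rw [Matrix.isUnit_iff_isUnit_det]
      exact (hPdet 1).isUnit
    have h7 : T * (Matrix.of (fun i j => b ((1 : Equiv.Perm (Fin 4)) j) i)) =
      (s x • 1) * (Matrix.of (fun i j => b ((1 : Equiv.Perm (Fin 4)) j) i)) := by
      rw [h4, smul_mul_assoc, one_mul]
    exact h6.mul_right_cancel h7
  obtain ⟨σ, h0, h1', h3, h4⟩ : ∃ σ : Equiv.Perm (Fin 4), d (σ 0) = false ∧ d (σ 1) = false ∧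
      d (σ 2) = true ∧ d (σ 3) = true := by
    rcases signs d hx with h | h | h
    · exact absurd (by simpa [s] using hconst false h) hne
    · exact absurd (by simpa [s] using hconst true h) hne'
    · exact h
  set P := Matrix.of (fun i j => b (σ j) i) with hP
  refine ⟨P * Matrix.diagonal ![(P.det)⁻¹, 1, 1, 1], ?_, ?_⟩
  · rw [Matrix.det_mul, Matrix.det_diagonal, Fin.prod_univ_four]
    simp only [Matrix.cons_val_zero, Matrix.cons_val_one, Matrix.cons_val, mul_one]
    exact mul_inv_cancel₀ (hPdet σ)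
  · have hD : Matrix.diagonal (fun i => s (d (σ i))) = D F := by
      rw [D_eq_diagonal]
      congr 1
      funext i
      fin_cases i
      · simp [s, h0]
      · simp [s, h1']
      · simp [s, h3]
      · simp [s, h4]
    rw [← mul_assoc, hTP σ, hD, mul_assoc, mul_assoc]
    congr 1
    rw [D_eq_diagonal, Matrix.diagonal_mul_diagonal, Matrix.diagonal_mul_diagonal]
    congr 1
    funext i
    rw [mul_comm]

/-! ### Matrices with square `-1` -/

/-- The matrix of a quarter turn. -/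
def R2 (F : Type*) [Field F] : Matrix (Fin 2) (Fin 2) F := !![0, -1; 1, 0]

theorem sum_sq_ne {a b : F} (hF : ∀ x : F, x * x ≠ -1) (h : a * a + b * b = 0) : a = 0 ∧ b = 0 := by
  by_cases hb : b = 0
  · subst hb
    refine ⟨?_, rfl⟩
    have : a * a = 0 := by linear_combination h
    exact mul_self_eq_zero.1 this
  · exfalso
    apply hF (a / b)
    field_simp
    linear_combination h

theorem exists_frame_neg (hF : ∀ x : F, x * x ≠ -1) {T : Matrix (Fin 4) (Fin 4) F}
    (hT : T * T = -1) : ∃ P : Matrix (Fin 4) (Fin 4) F, P.det ≠ 0 ∧ T * P = P * blk (R2 F) (R2 F) := by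
  classical
  have hTT : ∀ v : Fin 4 → F, T *ᵥ (T *ᵥ v) = -v := by
    intro v
    rw [Matrix.mulVec_mulVec, hT, Matrix.neg_mulVec, Matrix.one_mulVec]
  set v : Fin 4 → F := Pi.single 0 1 with hv
  have hv0 : v ≠ 0 := by
    intro h
    have h1 := congrFun h 0
    simp [hv] at h1
  obtain ⟨u, hu⟩ : ∃ u : Fin 4 → F, u ∉ Submodule.span F (({v, T *ᵥ v} : Finset (Fin 4 → F)) : Set _) := by
    by_contra hcon
    push Not at hcon
    have h1 : Submodule.span F (({v, T *ᵥ v} : Finset (Fin 4 → F)) : Set (Fin 4 → F)) = ⊤ :=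
      eq_top_iff.2 fun x _ => hcon x
    have h3 := finrank_span_finset_le_card (R := F) ({v, T *ᵥ v} : Finset (Fin 4 → F))
    rw [Set.finrank, h1, finrank_top, Module.finrank_fin_fun] at h3
    have h4 : ({v, T *ᵥ v} : Finset (Fin 4 → F)).card ≤ 2 := Finset.card_le_two
    omega
  have hmem : ∀ a b : F, a • v + b • (T *ᵥ v) ∈
      Submodule.span F (({v, T *ᵥ v} : Finset (Fin 4 → F)) : Set (Fin 4 → F)) := by
    intro a b
    refine Submodule.add_mem _ (Submodule.smul_mem _ _ (Submodule.subset_span ?_))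
      (Submodule.smul_mem _ _ (Submodule.subset_span ?_))
    · simp
    · simp
  have key : ∀ x0 x1 x2 x3 : F, x0 • v + x1 • (T *ᵥ v) + (x2 • u + x3 • (T *ᵥ u)) = 0 →
      x0 = 0 ∧ x1 = 0 ∧ x2 = 0 ∧ x3 = 0 := by
    intro x0 x1 x2 x3 h
    have hT1 : T *ᵥ (x0 • v + x1 • (T *ᵥ v) + (x2 • u + x3 • (T *ᵥ u))) = 0 := by
      rw [h, Matrix.mulVec_zero]
    simp only [Matrix.mulVec_add, Matrix.mulVec_smul, hTT] at hT1
    have h1 : (x2 * x2 + x3 * x3) • u = (-(x2 * x0 + x3 * x1)) • v + (-(x2 * x1 - x3 * x0)) • (T *ᵥ v) := by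
      have h5 : x2 • (x0 • v + x1 • (T *ᵥ v) + (x2 • u + x3 • (T *ᵥ u))) -
          x3 • (x0 • T *ᵥ v + x1 • -v + (x2 • T *ᵥ u + x3 • -u)) = 0 := by
        rw [h, hT1, smul_zero, smul_zero, sub_zero]
      rw [← sub_eq_zero, ← h5]
      module
    have h2 : x2 * x2 + x3 * x3 = 0 := by
      by_contra hne
      apply hu
      have h3 : u = (x2 * x2 + x3 * x3)⁻¹ • ((x2 * x2 + x3 * x3) • u) := by
        rw [smul_smul, inv_mul_cancel₀ hne, one_smul]
      rw [h3, h1]
      exact Submodule.smul_mem _ _ (hmem _ _)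
    obtain ⟨h3, h4⟩ := sum_sq_ne hF h2
    subst h3 h4
    simp only [zero_smul, add_zero, smul_neg, neg_zero] at h hT1
    have h5 : (x0 * x0 + x1 * x1) • v = 0 := by
      have h6 : x0 • (x0 • v + x1 • T *ᵥ v) - x1 • (x0 • T *ᵥ v + -(x1 • v)) = 0 := by
        rw [h, hT1, smul_zero, smul_zero, sub_zero]
      rw [← h6]
      module
    have h6 := (smul_eq_zero.1 h5).resolve_right hv0
    obtain ⟨h7, h8⟩ := sum_sq_ne hF h6
    exact ⟨h7, h8, rfl, rfl⟩
  refine ⟨Matrix.of (fun i j => (![v, T *ᵥ v, u, T *ᵥ u] j) i), ?_, ?_⟩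
  · intro h
    obtain ⟨x, hx, hx0⟩ := Matrix.exists_mulVec_eq_zero_iff.2 h
    apply hx
    have h1 : x 0 • v + x 1 • (T *ᵥ v) + (x 2 • u + x 3 • (T *ᵥ u)) = 0 := by
      rw [← hx0]
      funext i
      rw [Matrix.mulVec, dotProduct, Fin.sum_univ_four]
      simp only [Matrix.of_apply, Matrix.cons_val_zero, Matrix.cons_val_one, Matrix.cons_val,
        Pi.add_apply, Pi.smul_apply, smul_eq_mul]
      ring
    obtain ⟨h3, h4, h5, h6⟩ := key _ _ _ _ h1
    funext i
    fin_cases i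
    · exact h3
    · exact h4
    · exact h5
    · exact h6
  · have h1 : ∀ j : Fin 4, (T * Matrix.of (fun i j => (![v, T *ᵥ v, u, T *ᵥ u] j) i)).col j =
        T *ᵥ (![v, T *ᵥ v, u, T *ᵥ u] j) := by
      intro j
      funext i
      rw [Matrix.col_apply, Matrix.mul_apply, Matrix.mulVec, dotProduct]
      rfl
    have h3 : blk (R2 F) (R2 F) = !![0, -1, 0, 0; 1, 0, 0, 0; 0, 0, 0, -1; 0, 0, 1, 0] := by
      ext i j
      fin_cases i <;> fin_cases j <;> rfl
    ext i j
    have h4 := congrFun (h1 j) i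
    rw [Matrix.col_apply] at h4
    rw [h4, h3, Matrix.mul_apply, Fin.sum_univ_four]
    fin_cases j
    · simp
    · simp [hTT]
    · simp
    · simp [hTT]

theorem exists_conj_neg [Fintype F] (hodd : Odd (Fintype.card F)) (hF : ∀ x : F, x * x ≠ -1)
    {T : Matrix (Fin 4) (Fin 4) F} (hT : T * T = -1) :
    ∃ P : Matrix (Fin 4) (Fin 4) F, P.det = 1 ∧ T * P = P * blk (R2 F) (R2 F) := by
  obtain ⟨P, hP, hTP⟩ := exists_frame_neg hF hT
  obtain ⟨a, b, hab⟩ := Cfsg.Agent.ClassicalGeometry.SLTwoFour.exists_sq_add_sq hodd (P.det)⁻¹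
  refine ⟨P * blk !![a, -b; b, a] 1, ?_, ?_⟩
  · rw [Matrix.det_mul, blk_det, Matrix.det_one, Matrix.det_fin_two_of, mul_one,
      show a * a - -b * b = a ^ 2 + b ^ 2 by ring, hab]
    exact mul_inv_cancel₀ hP
  · rw [← mul_assoc, hTP, mul_assoc, mul_assoc, blk_mul, blk_mul, one_mul, mul_one]
    congr 2
    ext i j
    fin_cases i <;> fin_cases j <;> simp [R2, Matrix.mul_apply]

end Cfsg.Agent.GH.Cov.FourSL
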