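import Cfsg.Agent.GH.Comp

/-!
# GH-COV: two 2-components of `H`: `r(STop K) + r(STop M) ≤ r(H)`

Hence a 2-component `K` of `H` with `r(STop K) ≥ 3` in a group of sectional 2-rank at most 4 is normal.
-/

set_option autoImplicit false

open Cfsg Subgroup
open scoped commutatorElement
open Cfsg.Agent.Intrinsic.Basic Cfsg.Agent.GH.Defs Cfsg.Agent.GH.Rank Cfsg.Agent.GH.Comp
open Cfsg.Agent.SignalizersComponents.IntrinsicBasic
open Cfsg.Agent.SignalizersComponents.PLayerAut

namespace Cfsg.Agent.GH.Cov.TwoComps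

variable {G : Type*} [Group G] [Finite G]

/-- Distinct 2-components. -/
theorem srank_add_le {H K M : Subgroup G} (hK : IsComp H K) (hM : IsComp H M) (hne : K ≠ M) :
    srank 2 (STop K) + srank 2 (STop M) ≤ srank 2 H := by
  have h1 := srank_top_add_le (D := M) hK hM.le (fun d hd => hK.fixes_of_mem hM hne hd)
    (topMap M).ker (by
      rintro d ⟨k, hk, hkd⟩
      rw [mem_ker_topMap]
      have h1 : k ∈ cenMod H M :=
        (hM.fixes_iff (hK.le hk)).mp (hM.fixes_of_mem hK hne.symm hk)
      have h2 : k⁻¹ * (d : G) ∈ cenMod H M := relCore_le_cenMod H M hkd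
      have h3 : (d : G) ∈ cenMod H M := by
        have := (cenMod H M).mul_mem h1 h2
        rwa [mul_inv_cancel_left] at this
      exact ((hM.fixes_iff (hM.le d.2)).mpr h3).2)
  have h2 : srank 2 (M ⧸ (topMap M).ker) = srank 2 (STop M) :=
    srank_congr (by norm_num) (QuotientGroup.quotientKerEquivOfSurjective _ (topMap_surjective M))
  rwa [h2] at h1

omit [Finite G] in
theorem map_center {X Y : Type*} [Group X] [Group Y] (e : X ≃* Y) :
    (center X).map e.toMonoidHom = center Y := by
  apply le_antisymm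
  · rintro _ ⟨x, hx, rfl⟩
    rw [mem_center_iff]
    intro y
    obtain ⟨y, rfl⟩ := e.surjective y
    show e y * e x = e x * e y
    rw [← map_mul, ← map_mul, mem_center_iff.mp hx y]
  · intro y hy
    obtain ⟨x, rfl⟩ := e.surjective y
    refine ⟨x, mem_center_iff.mpr fun z => e.injective ?_, rfl⟩
    rw [map_mul, map_mul]
    exact mem_center_iff.mp hy (e z)

/-- The tops of conjugate subgroups. -/
noncomputable def cjTop (g : G) (K : Subgroup G) : STop K ≃* STop (cj g K) :=
  QuotientGroup.congr _ _ (cjQuot g K) (map_center _)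

omit [Finite G] in
theorem cj_self_of_mem {g : G} {H : Subgroup G} (hg : g ∈ H) : cj g H = H :=
  mem_normalizer_iff_cj.mp (le_normalizer hg)

/-- `K` is normalized by `H`. -/
theorem cj_eq {H K : Subgroup G} (hr : srank 2 H ≤ 4) (hK : IsComp H K)
    (h3 : 3 ≤ srank 2 (STop K)) {u : G} (hu : u ∈ H) : cj u K = K := by
  by_contra hne
  have hM : IsComp H (cj u K) := by
    have := hK.cj u
    rwa [cj_self_of_mem hu] at this
  have h1 := srank_add_le hK hM (Ne.symm hne)
  have h2 : srank 2 (STop K) = srank 2 (STop (cj u K)) := srank_congr (by norm_num) (cjTop u K)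
  omega

/-- `H` normalizes `K`. -/
theorem le_normalizer_comp {H K : Subgroup G} (hr : srank 2 H ≤ 4) (hK : IsComp H K)
    (h3 : 3 ≤ srank 2 (STop K)) : H ≤ normalizer (K : Set G) := fun _ hu =>
  mem_normalizer_iff_cj.mpr (cj_eq hr hK h3 hu)

/-- `K` is the only 2-component of `H` whose top has sectional 2-rank at least 2. -/
theorem eq_of_comp {H K M : Subgroup G} (hr : srank 2 H ≤ 4) (hK : IsComp H K) (hM : IsComp H M)
    (h3 : 3 ≤ srank 2 (STop K)) (h2 : 2 ≤ srank 2 (STop M)) : M = K := by
  by_contra hne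
  have h1 := srank_add_le hK hM (Ne.symm hne)
  omega

end Cfsg.Agent.GH.Cov.TwoComps
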