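import Cfsg.Agent.GH.Cov.I5
import Cfsg.Agent.GH.Cov.Alt
import Cfsg.Agent.GH.Cov.TwoComps
import Cfsg.Agent.GH.Cov.LieData
import Cfsg.Agent.GH.Extra

/-!
# GH-COV, P4 = (I.3): the Sylow 2-subgroup of `C(z)` is a Sylow 2-subgroup of `G`

* `odd_index`: `|G : C(z)|` is odd (from two commuting `Oct`'s, sectional 2-rank at most 4 and the fusion of the
  involutions `y`, `y z`);
* `eq_of_fixes`: the 2-elements of `C(x)` which centralize `K / O(K)` are `1` and `x`;
* `four_le_srank`: the groups `L` of `LieData.Core` have sectional 2-rank at least 4.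
-/

set_option autoImplicit false

open Cfsg Subgroup
open Cfsg.Agent.Intrinsic.Basic
open Cfsg.Agent.GH.Defs Cfsg.Agent.GH.Rank Cfsg.Agent.GH.Comp
open Cfsg.Agent.GH.Cov.I5
open scoped commutatorElement

namespace Cfsg.Agent.GH.Cov.FrameSyl

variable {G : Type*} [Group G]

theorem zpow_eq_one_of_two {g : G} {n : ℕ} (hn : g ^ 2 ^ n = 1) {k : ℤ} (hk : g ^ (2 * k - 1) = 1) :
    g = 1 := by
  have h1 : (orderOf g : ℤ) ∣ 2 * k - 1 := orderOf_dvd_iff_zpow_eq_one.mpr hk
  obtain ⟨m, -, hm⟩ := (Nat.dvd_prime_pow Nat.prime_two).1 (orderOf_dvd_of_pow_eq_one hn)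
  rcases m with _ | m
  · rw [pow_zero] at hm
    exact orderOf_eq_one_iff.mp hm
  · exfalso
    rw [hm] at h1
    have h2 : (2 : ℤ) ∣ 2 * k - 1 := by
      refine dvd_trans ?_ h1
      rw [Nat.cast_pow, pow_succ]
      exact ⟨2 ^ m, by push_cast; ring⟩
    omega

/-- The 2-groups of `Oct` are not cyclic. -/
theorem two_le_srank_of_oct [Finite G] {A : Subgroup G} {d w : G} (h : Oct A d w) (hw : w ≠ 1) :
    2 ≤ srank 2 A := by
  by_contra hlt
  have h1 : SectionalPRankLE 2 1 A := (srank_le_iff (by norm_num)).1 (by omega)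
  have hcyc := Tops.isCyclic_of_le_one h.pgrp h1
  obtain ⟨g, hg⟩ := hcyc.exists_generator
  -- `g = 1` is a contradiction
  have hone : (g : G) ≠ 1 := by
    intro h0
    have hg1 : g = 1 := Subtype.ext h0
    obtain ⟨k, hk⟩ := hg ⟨w, h.mem⟩
    rw [hg1] at hk
    apply hw
    have : (⟨w, h.mem⟩ : A) = 1 := by
      rw [← hk]
      simp
    exact congrArg Subtype.val this
  have hgen : ∀ a ∈ A, ∃ k : ℤ, (g : G) ^ k = a := by
    intro a ha
    obtain ⟨k, hk⟩ := hg ⟨a, ha⟩
    refine ⟨k, ?_⟩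
    have := congrArg Subtype.val hk
    simpa using this
  obtain ⟨n, hn⟩ := h.pgrp g
  have hn' : (g : G) ^ 2 ^ n = 1 := by
    have := congrArg Subtype.val hn
    simpa using this
  obtain ⟨m, -, hm⟩ := (Nat.dvd_prime_pow Nat.prime_two).1 (orderOf_dvd_of_pow_eq_one hn')
  obtain ⟨k, hk⟩ := hgen _ (h.norm g g.2)
  have hconj : ∀ i : ℤ, d * (g : G) ^ i * d⁻¹ = (g : G) ^ (k * i) := by
    intro i
    rw [← MulAut.conj_apply, map_zpow, MulAut.conj_apply, ← hk, ← zpow_mul]
  rcases m with _ | m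
  · exact hone (orderOf_eq_one_iff.mp (by simpa using hm))
  -- `k` is odd
  have hkodd : ∃ l : ℤ, k = 2 * l + 1 := by
    by_contra hno
    obtain ⟨l, hl⟩ : ∃ l : ℤ, k = 2 * l := by
      rcases Int.emod_two_eq_zero_or_one k with h0 | h0
      · exact ⟨k / 2, by omega⟩
      · exact absurd ⟨k / 2, by omega⟩ hno
    have h2 : (g : G) ^ (2 ^ m : ℤ) = 1 := by
      have h3 := hconj (2 ^ m : ℤ)
      have h4 : (g : G) ^ (k * 2 ^ m : ℤ) = 1 := by
        rw [hl, show (2 * l * 2 ^ m : ℤ) = ((2 ^ (m + 1) : ℕ) : ℤ) * l by push_cast; ring, zpow_mul,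
          zpow_natCast, ← hm, pow_orderOf_eq_one, one_zpow]
      rw [h4] at h3
      calc (g : G) ^ (2 ^ m : ℤ) = d⁻¹ * (d * (g : G) ^ (2 ^ m : ℤ) * d⁻¹) * d := by group
        _ = 1 := by rw [h3]; group
    have h3 : orderOf (g : G) ∣ 2 ^ m := by
      apply orderOf_dvd_of_pow_eq_one
      have h4 : (g : G) ^ (((2 ^ m : ℕ)) : ℤ) = 1 := by push_cast; exact h2
      rwa [zpow_natCast] at h4
    rw [hm] at h3
    have h4 := Nat.le_of_dvd (by positivity) h3
    have h5 : 2 ^ m < 2 ^ (m + 1) := Nat.pow_lt_pow_right (by norm_num) (by omega)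
    omega
  obtain ⟨l, hl⟩ := hkodd
  have h2 : A ≤ zpowers ((g : G) * g) := by
    apply h.gen
    intro a ha
    obtain ⟨i, rfl⟩ := hgen a ha
    rw [hconj, hl]
    refine ⟨-(l * i), ?_⟩
    show ((g : G) * g) ^ (-(l * i)) = _
    rw [← pow_two, ← zpow_natCast, ← zpow_mul, ← zpow_neg, ← zpow_add]
    congr 1
    push_cast
    ring
  obtain ⟨j, hj⟩ := h2 g.2
  have hj' : ((g : G) * g) ^ j = g := hj
  apply hone
  refine zpow_eq_one_of_two hn' (k := j) ?_
  rw [zpow_sub, zpow_one, zpow_mul, zpow_ofNat, pow_two, hj', mul_inv_cancel]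

/-- Commuting subgroups with trivial intersection. -/
theorem srank_sup [Finite G] {A B : Subgroup G} (hAB : ∀ a ∈ A, ∀ b ∈ B, a * b = b * a)
    (h : ∀ a ∈ A, a ∈ B → a = 1) : srank 2 A + srank 2 B ≤ srank 2 (A ⊔ B : Subgroup G) := by
  set R := A ⊔ B
  have h1 := srank_add_le_of_commute Nat.prime_two (A.subgroupOf R) (B.subgroupOf R)
    (by
      rintro ⟨a, ha⟩ ha' ⟨b, hb⟩ hb'
      exact Subtype.ext (hAB a ha' b hb'))
    (by
      have : A.subgroupOf R ⊓ B.subgroupOf R = ⊥ := by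
        rw [eq_bot_iff]
        rintro ⟨a, ha⟩ ⟨h1, h2⟩
        rw [mem_bot]
        exact Subtype.ext (h a h1 h2)
      rw [this]
      simp)
  rw [srank_congr (by norm_num) (subgroupOfEquivOfLe (le_sup_left : A ≤ R)),
    srank_congr (by norm_num) (subgroupOfEquivOfLe (le_sup_right : B ≤ R))] at h1
  exact h1

theorem exists_mul_of_mem_sup {A B : Subgroup G} (hAB : ∀ a ∈ A, ∀ b ∈ B, a * b = b * a) {c : G}
    (hc : c ∈ A ⊔ B) : ∃ a ∈ A, ∃ b ∈ B, c = a * b := by
  have hcm : ∀ (a : A) (b : B), Commute (A.subtype a) (B.subtype b) := fun a b => hAB a a.2 b b.2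
  have h1 : (MonoidHom.noncommCoprod A.subtype B.subtype hcm).range = A ⊔ B := by
    rw [MonoidHom.noncommCoprod_range, range_subtype, range_subtype]
  rw [← h1] at hc
  obtain ⟨⟨a, b⟩, hab⟩ := hc
  exact ⟨a, a.2, b, b.2, hab.symm⟩

theorem mem_zpowers_of_sq {a x : G} (ha : a * a = 1) (hx : x ∈ zpowers a) : x = 1 ∨ x = a := by
  obtain ⟨k, hk⟩ := hx
  have hk' : a ^ k = x := hk
  rcases Int.emod_two_eq_zero_or_one k with h0 | h0
  · left
    rw [← hk', show k = 2 * (k / 2) by omega, zpow_mul, zpow_ofNat, pow_two, ha, one_zpow]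
  · right
    rw [← hk', show k = 2 * (k / 2) + 1 by omega, zpow_add, zpow_mul, zpow_ofNat, pow_two, ha,
      one_zpow, one_mul, zpow_one]

/-- An involution of `A` commuting with `A`, if every nontrivial normal subgroup of `A` contains `w`. -/
theorem Oct.eq_of_central {A : Subgroup G} {d w c : G} (h : Oct A d w) (hw : w ≠ 1) (hc : c ∈ A)
    (hcc : c * c = 1) (hcomm : ∀ a ∈ A, a * c = c * a) : c = 1 ∨ c = w := by
  by_cases h1 : c = 1
  · exact Or.inl h1
  · right
    have h2 : w ∈ zpowers c := by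
      apply h.min
      · rw [zpowers_le]; exact hc
      · intro a ha n hn
        rcases mem_zpowers_of_sq hcc hn with rfl | rfl
        · rw [mul_one, mul_inv_cancel]; exact one_mem _
        · rw [hcomm a ha, mul_inv_cancel_right]; exact mem_zpowers _
      · intro h0
        apply h1
        rw [zpowers_eq_bot] at h0
        exact h0
    rcases mem_zpowers_of_sq hcc h2 with h3 | h3
    · exact absurd h3 hw
    · exact h3.symm

/-- The intersection of the two quaternion groups is trivial. -/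
theorem inter_trivial {Q₁ Q₂ : Subgroup G} {d₁ d₂ z y : G} (o1 : Oct Q₁ d₁ y) (o2 : Oct Q₂ d₂ (y * z))
    (hcomm : ∀ a ∈ Q₁, ∀ b ∈ Q₂, a * b = b * a) (hz : z ≠ 1) (hzz : z * z = 1) (hy : y ≠ 1)
    (hyz : y ≠ z) (hzc : ∀ a ∈ Q₁, a * z = z * a) : ∀ a ∈ Q₁, a ∈ Q₂ → a = 1 := by
  intro a ha ha'
  by_contra hne
  have hN : (Q₁ ⊓ Q₂ : Subgroup G) ≠ ⊥ := by
    intro h0
    apply hne
    have : a ∈ (Q₁ ⊓ Q₂ : Subgroup G) := ⟨ha, ha'⟩
    rw [h0, mem_bot] at this
    exact this
  have h1 : y ∈ Q₁ ⊓ Q₂ := by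
    apply o1.min _ inf_le_left _ hN
    intro b hb n hn
    rw [hcomm b hb n hn.2, mul_inv_cancel_right]
    exact hn
  have h2 : y * z ∈ Q₁ ⊓ Q₂ := by
    apply o2.min _ inf_le_right _ hN
    intro b hb n hn
    rw [← hcomm n hn.1 b hb, mul_inv_cancel_right]
    exact hn
  have h3 : z ∈ Q₁ := by
    have := Q₁.mul_mem (Q₁.inv_mem h1.1) h2.1
    rwa [inv_mul_cancel_left] at this
  rcases Oct.eq_of_central o1 hy h3 hzz hzc with h4 | h4
  · exact hz h4
  · exact hyz h4.symm

/-- An involution commuting with the two quaternion groups is one of `y`, `z`, `y z`. -/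
theorem eq_of_commute [Finite G] (h4 : SectionalPRankLE 2 4 G) {Q₁ Q₂ : Subgroup G} {d₁ d₂ z y : G}
    (o1 : Oct Q₁ d₁ y) (o2 : Oct Q₂ d₂ (y * z)) (hcomm : ∀ a ∈ Q₁, ∀ b ∈ Q₂, a * b = b * a)
    (hz : z ≠ 1) (hzz : z * z = 1) (hy : y ≠ 1) (hyz : y ≠ z) (hyz1 : y * z ≠ 1)
    (hzc : ∀ a ∈ Q₁, a * z = z * a) {c : G} (hcc : c * c = 1) (hc1 : ∀ a ∈ Q₁, a * c = c * a)
    (hc2 : ∀ a ∈ Q₂, a * c = c * a) : c = 1 ∨ c = y ∨ c = z ∨ c = y * z := by
  have hyy : y * y = 1 ∨ True := Or.inr trivial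
  have hint := inter_trivial o1 o2 hcomm hz hzz hy hyz hzc
  have hr : 4 ≤ srank 2 (Q₁ ⊔ Q₂ : Subgroup G) := by
    have h1 := srank_sup hcomm hint
    have h2 := two_le_srank_of_oct o1 hy
    have h3 := two_le_srank_of_oct o2 hyz1
    omega
  -- `c ∈ Q₁ Q₂`
  have hcR : c ∈ Q₁ ⊔ Q₂ := by
    by_contra hcR
    have hc0 : c ≠ 1 := by
      rintro rfl
      exact hcR (one_mem _)
    have hco : orderOf c = 2 := orderOf_eq_prime (by rw [pow_two]; exact hcc) hc0
    have hRc : ∀ a ∈ Q₁ ⊔ Q₂, ∀ b ∈ zpowers c, a * b = b * a := by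
      intro a ha b hb
      obtain ⟨a₁, ha₁, a₂, ha₂, rfl⟩ := exists_mul_of_mem_sup hcomm ha
      rcases mem_zpowers_of_sq hcc hb with rfl | rfl
      · rw [mul_one, one_mul]
      · rw [mul_assoc, hc2 a₂ ha₂, ← mul_assoc, hc1 a₁ ha₁, mul_assoc]
    have h1 := srank_sup hRc (by
      intro a ha hb
      rcases mem_zpowers_of_sq hcc hb with rfl | rfl
      · rfl
      · exact absurd ha hcR)
    rw [srank_zpowers hco] at h1
    have h2 : srank 2 (Q₁ ⊔ Q₂ ⊔ zpowers c : Subgroup G) ≤ 4 :=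
      (srank_subgroup_le (by norm_num) _).trans ((srank_le_iff (by norm_num)).2 h4)
    omega
  obtain ⟨a, ha, b, hb, rfl⟩ := exists_mul_of_mem_sup hcomm hcR
  have hab := hcomm a ha b hb
  have h1 : a * a * (b * b) = 1 := by
    calc a * a * (b * b) = a * (a * b) * b := by group
      _ = a * (b * a) * b := by rw [hab]
      _ = a * b * (a * b) := by group
      _ = 1 := hcc
  have h2 : a * a = 1 := by
    apply hint _ (Q₁.mul_mem ha ha)
    rw [eq_inv_of_mul_eq_one_left h1]
    exact Q₂.inv_mem (Q₂.mul_mem hb hb)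
  have h3 : b * b = 1 := by rwa [h2, one_mul] at h1
  have h5 : ∀ q ∈ Q₁, q * a = a * q := by
    intro q hq
    have := hc1 q hq
    have hqb := hcomm q hq b hb
    have e : q * a * b = a * q * b := by
      calc q * a * b = q * (a * b) := by group
        _ = a * b * q := this
        _ = a * (q * b) := by rw [hqb]; group
        _ = a * q * b := by group
    exact mul_right_cancel e
  have h6 : ∀ q ∈ Q₂, q * b = b * q := by
    intro q hq
    have := hc2 q hq
    have haq := hcomm a ha q hq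
    have e : a * (q * b) = a * (b * q) := by
      calc a * (q * b) = (a * q) * b := by group
        _ = q * (a * b) := by rw [haq]; group
        _ = a * (b * q) := by rw [this]; group
    exact mul_left_cancel e
  rcases Oct.eq_of_central o1 hy ha h2 h5 with rfl | rfl <;>
    rcases Oct.eq_of_central o2 hyz1 hb h3 h6 with rfl | rfl
  · left; simp
  · right; right; right; simp
  · right; left; simp
  · by_cases hyy : a * a = 1
    · right; right; left
      calc a * (a * z) = (a * a) * z := by group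
        _ = z := by rw [hyy, one_mul]
    · exact absurd h2 hyy

/-- A 2-subgroup `S` of `C(z)` which is Sylow in `C(z)`, in whose centre `z` is the only involution:
`|G : C(z)|` is odd. -/
theorem odd_index_of_center [Finite G] {z : G} (hz : z ≠ 1) (hzz : z * z = 1) {C : Subgroup G}
    (hC : C = centralizer ({z} : Set G)) (S : Sylow 2 C)
    (hS : ∀ c, c * z = z * c → c * c = 1 → c ≠ 1 → (∀ s : C, s ∈ (S : Subgroup C) →
      (s : G) * c = c * s) → c = z) :
    Odd C.index := by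
  classical
  have hp : Fact (Nat.Prime 2) := ⟨Nat.prime_two⟩
  let S' : Subgroup G := (S : Subgroup C).map C.subtype
  have hS'p : IsPGroup 2 S' := S.2.map _
  obtain ⟨T, hT⟩ := hS'p.exists_le_sylow
  have hzC : z ∈ C := by rw [hC]; exact mem_centralizer_singleton_iff.mpr rfl
  have hcC : ∀ c ∈ C, c * z = z * c := fun c hc => mem_centralizer_singleton_iff.mp (hC ▸ hc)
  -- `z ∈ S'`
  have hzS : (⟨z, hzC⟩ : C) ∈ (S : Subgroup C) := by
    have h1 : IsPGroup 2 (zpowers (⟨z, hzC⟩ : C)) := by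
      intro x
      obtain ⟨x, hx⟩ := x
      refine ⟨1, ?_⟩
      have h2 : (⟨z, hzC⟩ : C) * ⟨z, hzC⟩ = 1 := Subtype.ext hzz
      rcases mem_zpowers_of_sq h2 hx with rfl | rfl
      · apply Subtype.ext; simp
      · apply Subtype.ext
        show (⟨z, hzC⟩ : C) ^ 2 ^ 1 = 1
        rw [pow_one, pow_two]
        exact h2
    have h2 : IsPGroup 2 ((S : Subgroup C) ⊔ zpowers (⟨z, hzC⟩ : C) : Subgroup C) := by
      have h3 : (zpowers (⟨z, hzC⟩ : C)).Normal := by
        constructor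
        intro n hn g
        have h4 : (⟨z, hzC⟩ : C) * ⟨z, hzC⟩ = 1 := Subtype.ext hzz
        rcases mem_zpowers_of_sq h4 hn with rfl | rfl
        · rw [mul_one, mul_inv_cancel]; exact one_mem _
        · have h5 : g * (⟨z, hzC⟩ : C) * g⁻¹ = ⟨z, hzC⟩ := by
            apply Subtype.ext
            show (g : G) * z * (g : G)⁻¹ = z
            rw [hcC g g.2, mul_inv_cancel_right]
          rw [h5]
          exact mem_zpowers _
      exact S.2.to_sup_of_normal_right h1
    have h3 := S.3 h2 le_sup_left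
    rw [← h3]
    exact mem_sup_right (mem_zpowers _)
  -- the normalizer of `S'` in `T` is in `C`
  have hTS : (T : Subgroup G) ≤ S' := by
    by_contra hne
    have hnil : Group.IsNilpotent T := T.2.isNilpotent
    have hnc := Group.normalizerCondition_of_isNilpotent (G := T)
    have hlt : S'.subgroupOf (T : Subgroup G) < ⊤ := by
      rw [lt_top_iff_ne_top]
      intro h0
      rw [subgroupOf_eq_top] at h0
      exact hne h0
    have h1 := hnc _ hlt
    obtain ⟨n, hn, hnS⟩ := SetLike.exists_of_lt h1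
    apply hnS
    rw [mem_subgroupOf]
    -- `n` fixes `z`
    have hnz : (n : G) * z * (n : G)⁻¹ = z := by
      have hmem : ∀ s ∈ S', (n : G)⁻¹ * s * n ∈ S' := by
        intro s hs
        have hsT : s ∈ (T : Subgroup G) := hT hs
        have h2 := (mem_normalizer_iff.mp ((normalizer _).inv_mem hn) ⟨s, hsT⟩).mp
          (mem_subgroupOf.mpr hs)
        have h2' := mem_subgroupOf.mp h2
        simpa using h2'
      have hmem' : ∀ s ∈ S', (n : G) * s * (n : G)⁻¹ ∈ S' := by
        intro s hs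
        have hsT : s ∈ (T : Subgroup G) := hT hs
        have h2 := (mem_normalizer_iff.mp hn ⟨s, hsT⟩).mp
          (mem_subgroupOf.mpr hs)
        have h2' := mem_subgroupOf.mp h2
        simpa using h2'
      have hz1 : (n : G) * z * (n : G)⁻¹ ∈ S' := hmem' z ⟨⟨z, hzC⟩, hzS, rfl⟩
      apply hS
      · obtain ⟨s, -, hs⟩ := hz1
        have hs' : (s : G) = (n : G) * z * (n : G)⁻¹ := hs
        rw [← hs']
        exact hcC s s.2
      · calc (n : G) * z * (n : G)⁻¹ * ((n : G) * z * (n : G)⁻¹) = n * (z * z) * (n : G)⁻¹ := by group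
          _ = 1 := by rw [hzz]; group
      · intro h0
        apply hz
        calc z = (n : G)⁻¹ * ((n : G) * z * (n : G)⁻¹) * n := by group
          _ = 1 := by rw [h0]; group
      · intro s hs
        obtain ⟨s', hs', hs''⟩ := hmem s ⟨s, hs, rfl⟩
        have e1 : (s' : G) = (n : G)⁻¹ * s * n := hs''
        have e2 : (s' : G) * z = z * s' := hcC s' s'.2
        rw [e1] at e2
        calc (s : G) * (n * z * (n : G)⁻¹) = n * ((n : G)⁻¹ * s * n * z) * (n : G)⁻¹ := by group
          _ = n * (z * ((n : G)⁻¹ * s * n)) * (n : G)⁻¹ := by rw [e2]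
          _ = n * z * (n : G)⁻¹ * s := by group
    have hnC : (n : G) ∈ C := by
      rw [hC, mem_centralizer_singleton_iff]
      calc (n : G) * z = n * z * (n : G)⁻¹ * n := by group
        _ = z * n := by rw [hnz]
    -- `⟨S, n⟩` is a 2-subgroup of `C`
    have h3 : ((T : Subgroup G).subgroupOf C) ⊓ normalizer ((S : Subgroup C) : Set C) ≤ S := by
      have hq : IsPGroup 2 (((T : Subgroup G).subgroupOf C) ⊓ normalizer ((S : Subgroup C) : Set C) :
          Subgroup C) := (T.2.comap_of_injective C.subtype C.subtype_injective).to_le inf_le_left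
      have hle : (S : Subgroup C) ≤
          ((T : Subgroup G).subgroupOf C) ⊓ normalizer ((S : Subgroup C) : Set C) := by
        refine le_inf ?_ le_normalizer
        intro s hs
        rw [mem_subgroupOf]
        exact hT ⟨s, hs, rfl⟩
      exact (S.3 hq hle).le
    have h4 : (⟨n, hnC⟩ : C) ∈ (S : Subgroup C) := by
      apply h3
      refine ⟨?_, ?_⟩
      · exact mem_subgroupOf.mpr n.2
      · refine mem_normalizer_iff.mpr ?_
        intro s
        have h5 := mem_normalizer_iff.mp hn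
        have key : ∀ s : C, s ∈ (S : Subgroup C) ↔ (s : G) ∈ S' := by
          intro s
          constructor
          · intro hs; exact ⟨s, hs, rfl⟩
          · rintro ⟨s', hs', hss⟩
            have : s' = s := Subtype.ext hss
            rw [← this]; exact hs'
        refine Iff.trans (key s) (Iff.trans ?_ (key _).symm)
        constructor
        · intro hs
          have h6 := (h5 ⟨s, hT hs⟩).mp (mem_subgroupOf.mpr hs)
          exact mem_subgroupOf.mp h6
        · intro hs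
          have hsT : (s : G) ∈ (T : Subgroup G) := by
            have h6 : ((⟨n, hnC⟩ * s * (⟨n, hnC⟩ : C)⁻¹ : C) : G) ∈ (T : Subgroup G) := hT hs
            have h7 : (n : G) * s * (n : G)⁻¹ ∈ (T : Subgroup G) := h6
            have h8 := (T : Subgroup G).mul_mem ((T : Subgroup G).mul_mem
              ((T : Subgroup G).inv_mem n.2) h7) n.2
            have e : (n : G)⁻¹ * (n * s * (n : G)⁻¹) * n = s := by group
            rwa [e] at h8
          have h6 := (h5 ⟨s, hsT⟩).mpr (mem_subgroupOf.mpr hs)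
          exact mem_subgroupOf.mp h6
    exact ⟨⟨n, hnC⟩, h4, rfl⟩
  -- conclusion
  have hTS' : (T : Subgroup G) = S' := le_antisymm hTS hT
  have hTC : (T : Subgroup G) ≤ C := by
    rw [hTS']
    exact map_subtype_le _
  have h1 : ¬ 2 ∣ (T : Subgroup G).index := T.not_dvd_index
  have h2 : C.index ∣ (T : Subgroup G).index := index_dvd_of_le hTC
  rw [← Nat.not_even_iff_odd, even_iff_two_dvd]
  exact fun h3 => h1 (h3.trans h2)

/-- **P4, the index.**  `y`, `z`, `y z` involutions of `C(z)`, commuting `Oct`'s with `y` resp. `y z`, the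
involutions `y` and `y z` conjugate in `C(z)`: then `|G : C(z)|` is odd. -/
theorem odd_index [Finite G] (h4 : SectionalPRankLE 2 4 G) {z y : G} (hz : z ≠ 1) (hzz : z * z = 1)
    (hy : y ≠ 1) (hyy : y * y = 1) (hyz : y ≠ z) (hyzc : y * z = z * y)
    (hsw : ∃ k, k * z = z * k ∧ k * (y * z) * k⁻¹ = y)
    (quat : ∃ (Q₁ Q₂ : Subgroup G) (d₁ d₂ : G), Oct Q₁ d₁ y ∧ Oct Q₂ d₂ (y * z) ∧
      (∀ a ∈ Q₁, ∀ b ∈ Q₂, a * b = b * a) ∧
      (∀ a ∈ Q₁, a * z = z * a ∧ a * y = y * a) ∧ (∀ a ∈ Q₂, a * z = z * a ∧ a * y = y * a) ∧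
      (d₁ * z = z * d₁ ∧ d₁ * y = y * d₁) ∧ (d₂ * z = z * d₂ ∧ d₂ * y = y * d₂)) :
    Odd (centralizer ({z} : Set G)).index := by
  classical
  have hp : Fact (Nat.Prime 2) := ⟨Nat.prime_two⟩
  obtain ⟨Q₁, Q₂, d₁, d₂, o1, o2, hcomm, hc1, hc2, -, -⟩ := quat
  obtain ⟨C, hC⟩ : ∃ C, C = centralizer ({z} : Set G) := ⟨_, rfl⟩
  rw [← hC]
  have hmC : ∀ {c : G}, c ∈ C ↔ c * z = z * c := by
    intro c
    rw [hC, mem_centralizer_singleton_iff]
  have hyz1 : y * z ≠ 1 := by
    intro h0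
    apply hyz
    calc y = y * (z * z) := by rw [hzz, mul_one]
      _ = (y * z) * z := by group
      _ = z := by rw [h0, one_mul]
  have hQC : Q₁ ⊔ Q₂ ≤ C := by
    rw [hC]
    exact sup_le (fun a ha => mem_centralizer_singleton_iff.mpr (hc1 a ha).1)
      (fun a ha => mem_centralizer_singleton_iff.mpr (hc2 a ha).1)
  have hQp : IsPGroup 2 ((Q₁ ⊔ Q₂).subgroupOf C : Subgroup C) := by
    have h1 : IsPGroup 2 (Q₁ ⊔ Q₂ : Subgroup G) := by
      rintro ⟨x, hx⟩
      obtain ⟨a, ha, b, hb, rfl⟩ := exists_mul_of_mem_sup hcomm hx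
      obtain ⟨m, hm⟩ := o1.pgrp ⟨a, ha⟩
      obtain ⟨n, hn⟩ := o2.pgrp ⟨b, hb⟩
      have hm' : a ^ 2 ^ m = 1 := by
        have := congrArg Subtype.val hm
        simpa using this
      have hn' : b ^ 2 ^ n = 1 := by
        have := congrArg Subtype.val hn
        simpa using this
      refine ⟨m + n, Subtype.ext ?_⟩
      show (a * b) ^ 2 ^ (m + n) = 1
      have hab : Commute a b := hcomm a ha b hb
      rw [hab.mul_pow, pow_add, pow_mul, hm', one_pow, mul_comm, pow_mul, hn', one_pow, one_mul]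
    exact h1.comap_of_injective C.subtype C.subtype_injective
  obtain ⟨S, hS⟩ := hQp.exists_le_sylow
  have hQS : ∀ a (ha : a ∈ Q₁ ⊔ Q₂), (⟨a, hQC ha⟩ : C) ∈ (S : Subgroup C) := by
    intro a ha
    exact hS (mem_subgroupOf.mpr ha)
  -- `y` is not in the centre of `S`
  have hyS : ¬ ∀ s : C, s ∈ (S : Subgroup C) → (s : G) * y = y * s := by
    intro hcen
    obtain ⟨k, hkz, hk⟩ := hsw
    have hyC : y ∈ C := hmC.mpr hyzc
    have hkC : k ∈ C := hmC.mpr hkz
    have hcz : ∀ s : C, (s : G) * z = z * s := fun s => hmC.mp s.2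
    have h1 : (⟨y, hyC⟩ : C) ∈ centralizer (S : Set C) := by
      rw [mem_centralizer_iff]
      intro s hs
      exact Subtype.ext (hcen s hs)
    have hky : k⁻¹ * y * k = y * z := by
      calc k⁻¹ * y * k = k⁻¹ * (k * (y * z) * k⁻¹) * k := by rw [hk]
        _ = y * z := by group
    have h2 : (⟨k, hkC⟩ : C)⁻¹ * ⟨y, hyC⟩ * ⟨k, hkC⟩ ∈ centralizer (S : Set C) := by
      rw [mem_centralizer_iff]
      intro s hs
      apply Subtype.ext
      show (s : G) * (k⁻¹ * y * k) = k⁻¹ * y * k * s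
      rw [hky, ← mul_assoc, hcen s hs, mul_assoc, hcz s, ← mul_assoc]
    obtain ⟨n, hn, hn2⟩ := S.conj_eq_normalizer_conj_of_mem_centralizer _ _ h1 h2
    have hn3 : (n : G)⁻¹ * y * n = y * z := by
      have := congrArg Subtype.val hn2
      change k⁻¹ * y * k = (n : G)⁻¹ * y * n at this
      rw [← this, hky]
    -- powers of `n`
    have hnz := hcz n
    have e1 : y * (n : G) = n * (y * z) := by rw [← hn3]; group
    have hsq : y * ((n : G) * n) = (n : G) * n * y := by
      calc y * ((n : G) * n) = (y * n) * n := by group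
        _ = n * (y * z) * n := by rw [e1]
        _ = n * (y * (z * n)) := by group
        _ = n * (y * (n * z)) := by rw [← hnz]
        _ = n * ((y * n) * z) := by group
        _ = n * (n * (y * z) * z) := by rw [e1]
        _ = (n : G) * n * y * (z * z) := by group
        _ = (n : G) * n * y := by rw [hzz, mul_one]
    have hodd : ∀ m : ℕ, y * (n : G) ^ (2 * m + 1) = (n : G) ^ (2 * m + 1) * (y * z) := by
      intro m
      have hc : Commute y ((n : G) * n) := hsq
      have hc2 : y * ((n : G) * n) ^ m = ((n : G) * n) ^ m * y := (hc.pow_right m).eq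
      rw [pow_succ, pow_mul, pow_two, ← mul_assoc, hc2, mul_assoc, e1, ← mul_assoc]
    -- `n ^ odd ∈ S`
    obtain ⟨m, hm⟩ : ∃ m : ℕ, n ^ (2 * m + 1) ∈ (S : Subgroup C) := by
      have h3 : Odd ((S : Subgroup C).relIndex (normalizer (S : Set C))) := by
        rw [← Nat.not_even_iff_odd, even_iff_two_dvd]
        intro h4
        exact S.not_dvd_index (h4.trans (Dvd.intro _ (relIndex_mul_index le_normalizer)))
      obtain ⟨m, hm⟩ := h3
      refine ⟨m, ?_⟩
      have h5 : ((S : Subgroup C).subgroupOf (normalizer (S : Set C))).Normal := normal_in_normalizer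
      have h6 := pow_index_mem (H := (S : Subgroup C).subgroupOf (normalizer (S : Set C))) ⟨n, hn⟩
      have h7 := mem_subgroupOf.mp h6
      change n ^ (((S : Subgroup C).subgroupOf (normalizer (S : Set C))).index) ∈ (S : Subgroup C) at h7
      have h8 : ((S : Subgroup C).subgroupOf (normalizer (S : Set C))).index = 2 * m + 1 := hm
      rwa [h8] at h7
    have h9 := hcen _ hm
    have h10 := hodd m
    have h11 : ((n ^ (2 * m + 1) : C) : G) = (n : G) ^ (2 * m + 1) := by simp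
    rw [h11, h10] at h9
    have h12 : y = y * z := mul_left_cancel h9
    exact hz (left_eq_mul.mp h12)
  refine odd_index_of_center hz hzz hC S ?_
  intro c hcz hcc hc0 hcS
  have k1 : ∀ a ∈ Q₁, a * c = c * a := fun a ha =>
    hcS ⟨a, hQC (mem_sup_left ha)⟩ (hQS a (mem_sup_left ha))
  have k2 : ∀ a ∈ Q₂, a * c = c * a := fun a ha =>
    hcS ⟨a, hQC (mem_sup_right ha)⟩ (hQS a (mem_sup_right ha))
  rcases eq_of_commute h4 o1 o2 hcomm hz hzz hy hyz hyz1 (fun a ha => (hc1 a ha).1) hcc k1 k2 with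
    h | h | h | h
  · exact absurd h hc0
  · subst h
    exact absurd hcS hyS
  · exact h
  · exfalso
    apply hyS
    intro s hs
    have h1 := hcS s hs
    have h2 := hmC.mp s.2
    rw [h] at h1
    have h3 : (s : G) * y * z = y * s * z := by
      calc (s : G) * y * z = s * (y * z) := by group
        _ = y * z * s := h1
        _ = y * (z * s) := by group
        _ = y * (s * z) := by rw [h2]
        _ = y * s * z := by group
    exact mul_right_cancel h3

/-- **P4, the index**, from the frame of helper577 (`idx` is not used). -/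
theorem odd_index_of_inv [Finite G] (h4 : SectionalPRankLE 2 4 G) {K : Subgroup G} {z y : G}
    (z_ne : z ≠ 1) (z_sq : z * z = 1) (y_ne : y ≠ 1) (y_sq : y * y = 1) (y_ne_z : y ≠ z)
    (zK : z ∈ K) (yK : y ∈ K) (Kz : ∀ x ∈ K, x * z = z * x)
    (inv : ∀ x ∈ K, x * x = 1 → x ≠ 1 → x ≠ z → ∃ k ∈ K, k * x * k⁻¹ = y)
    (quat : ∃ (Q₁ Q₂ : Subgroup G) (d₁ d₂ : G), Oct Q₁ d₁ y ∧ Oct Q₂ d₂ (y * z) ∧
      (∀ a ∈ Q₁, ∀ b ∈ Q₂, a * b = b * a) ∧
      (∀ a ∈ Q₁, a * z = z * a ∧ a * y = y * a) ∧ (∀ a ∈ Q₂, a * z = z * a ∧ a * y = y * a) ∧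
      (d₁ * z = z * d₁ ∧ d₁ * y = y * d₁) ∧ (d₂ * z = z * d₂ ∧ d₂ * y = y * d₂)) :
    Odd (centralizer ({z} : Set G)).index := by
  have hyz := Kz y yK
  refine odd_index h4 z_ne z_sq y_ne y_sq y_ne_z hyz ?_ quat
  obtain ⟨k, hk, hk2⟩ := inv (y * z) (K.mul_mem yK zK)
    (by
      calc y * z * (y * z) = y * (z * y) * z := by group
        _ = (y * y) * (z * z) := by rw [← hyz]; group
        _ = 1 := by rw [y_sq, z_sq, one_mul])
    (by
      intro h0
      apply y_ne_z
      calc y = y * (z * z) := by rw [z_sq, mul_one]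
        _ = (y * z) * z := by group
        _ = z := by rw [h0, one_mul])
    (by
      intro h0
      exact y_ne (mul_eq_right.mp h0))
  exact ⟨k, Kz k hk, hk2⟩

theorem odd_index_of_frame [Finite G] (h4 : SectionalPRankLE 2 4 G) {K : Subgroup G} {z y : G}
    (h : CovFrame K z y) : Odd (centralizer ({z} : Set G)).index :=
  odd_index_of_inv h4 h.z_ne h.z_sq h.y_ne h.y_sq h.y_ne_z h.zK h.yK h.Kz h.inv h.quat

/-! ### the frame from a 2-component -/

/-- The image of a 2-element of `K` in `K / O(K)` determines it, if it commutes with the other. -/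
theorem eq_of_mk_eq [Finite G] {K : Subgroup G} {a b : G} (ha : a ∈ K) (hb : b ∈ K)
    (hab : a * b = b * a) {n : ℕ} (hna : a ^ 2 ^ n = 1) (hnb : b ^ 2 ^ n = 1)
    (h : QuotientGroup.mk' (oddCore ↥K) ⟨a, ha⟩ = QuotientGroup.mk' (oddCore ↥K) ⟨b, hb⟩) :
    a = b := by
  have h1 : (⟨a, ha⟩ : K)⁻¹ * ⟨b, hb⟩ ∈ oddCore ↥K := by
    rw [← QuotientGroup.eq_one_iff]
    change QuotientGroup.mk' (oddCore ↥K) _ = 1
    rw [map_mul, map_inv, h, inv_mul_cancel]
  have h2 : a⁻¹ * b ∈ core K := ⟨_, h1, rfl⟩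
  have hc : Commute a⁻¹ b := Commute.inv_left hab
  have h3 : (a⁻¹ * b) ^ 2 ^ n = 1 := by
    rw [hc.mul_pow, inv_pow, hna, hnb, inv_one, one_mul]
  exact inv_mul_eq_one.mp (eq_one_of_mem_core h2 h3)

/-- **P4, the centralizer of `K / O(K)`.** -/
theorem eq_of_fixes [Finite G] (h4 : SectionalPRankLE 2 4 G) {x : G} {K : Subgroup G}
    (c : Comp2 x K) (hr : 4 ≤ srank 2 (STop K)) {ub : Bar K}
    (hcen : ∀ u ∈ center (Bar K), u = 1 ∨ u = ub) :
    ∃ hx : x ∈ K, QuotientGroup.mk' (oddCore ↥K) ⟨x, hx⟩ = ub ∧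
      ∀ g, g * x = x * g → ∀ n : ℕ, g ^ 2 ^ n = 1 → Fixes g K → g = 1 ∨ g = x := by
  have hxK : x ∈ K := Alt.mem_self h4 c hr
  have hxx : x * x = 1 := by rw [← pow_two, ← c.inv, pow_orderOf_eq_one]
  have hx1 : x ≠ 1 := by
    rintro rfl
    have := c.inv
    simp at this
  have hX : srank 2 (centralizer ({x} : Set G)) ≤ 4 :=
    (srank_subgroup_le (by norm_num) _).trans ((srank_le_iff (by norm_num)).2 h4)
  have hmk1 : QuotientGroup.mk' (oddCore ↥K) ⟨1, K.one_mem⟩ = 1 := map_one _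
  have key : ∀ (g : G) (hgx : g * x = x * g) (n : ℕ), g ^ 2 ^ n = 1 → Fixes g K →
      ∃ hg : g ∈ K, QuotientGroup.mk' (oddCore ↥K) ⟨g, hg⟩ = 1 ∨
        QuotientGroup.mk' (oddCore ↥K) ⟨g, hg⟩ = ub := by
    intro g hgx n hn hfix
    have hg : g ∈ K := Alt.mem_of_fixes c.comp (hX.trans hr)
      (mem_centralizer_singleton_iff.mpr hgx) hfix hn
    exact ⟨hg, hcen _ (Tops.center_of_fixes hg hfix)⟩
  have hxu : QuotientGroup.mk' (oddCore ↥K) ⟨x, hxK⟩ = ub := by
    obtain ⟨hx, h1 | h1⟩ := key x rfl 1 (by rw [pow_one, pow_two]; exact hxx)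
      (fixes_self c.comp.le)
    · exfalso
      apply hx1
      refine eq_of_mk_eq hx K.one_mem (by rw [mul_one, one_mul]) (n := 1)
        (by rw [pow_one, pow_two]; exact hxx) (one_pow _) (h1.trans hmk1.symm)
    · exact h1
  refine ⟨hxK, hxu, ?_⟩
  intro g hgx n hn hfix
  obtain ⟨hg, h1 | h1⟩ := key g hgx n hn hfix
  · left
    exact eq_of_mk_eq hg K.one_mem (by rw [mul_one, one_mul]) (n := n) hn (one_pow _)
      (h1.trans hmk1.symm)
  · right
    refine eq_of_mk_eq hg hxK hgx (n := n + 1) ?_ ?_ (h1.trans hxu.symm)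
    · rw [pow_succ, pow_mul, hn, one_pow]
    · rw [pow_succ, mul_comm, pow_mul, pow_two, hxx, one_pow]

/-- `K` is normal in `C(x)`. -/
theorem le_normalizer_comp [Finite G] (h4 : SectionalPRankLE 2 4 G) {x : G} {K : Subgroup G}
    (c : Comp2 x K) (hr : 4 ≤ srank 2 (STop K)) :
    ∀ g, g * x = x * g → g ∈ normalizer (K : Set G) := by
  intro g hg
  have hX : srank 2 (centralizer ({x} : Set G)) ≤ 4 :=
    (srank_subgroup_le (by norm_num) _).trans ((srank_le_iff (by norm_num)).2 h4)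
  exact TwoComps.le_normalizer_comp hX c.comp (by omega) (mem_centralizer_singleton_iff.mpr hg)

/-- The groups of `LieData.Core` have sectional 2-rank at least 4. -/
theorem four_le_srank {L : Type*} [Group L] [Finite L] (D : LieData.Core L) : 4 ≤ srank 2 L := by
  by_contra hlt
  have hcard : Nat.card (Multiplicative (ZMod 2)) = 2 := by simp
  have h1 : srank 2 (Multiplicative (ZMod 2)) ≤ 1 := by
    rw [srank_le_iff (by norm_num)]
    exact TwoFusion.SectionalRank.sectionalPRankLE_of_card_le (by rw [hcard]; norm_num)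
  have h2 : SectionalPRankLE 2 4 (L × Multiplicative (ZMod 2)) := by
    rw [← srank_le_iff (by norm_num), srank_prod Nat.prime_two]
    omega
  obtain ⟨s, hs⟩ : ∃ s : Multiplicative (ZMod 2), s ≠ 1 := ⟨Multiplicative.ofAdd 1, by decide⟩
  have hss : s * s = 1 := by
    have h3 := pow_card_eq_one' (x := s)
    rw [hcard, pow_two] at h3
    exact h3
  have T1 := D.trip₁
  have T2 := D.trip₂
  have htt := D.tt
  have c12 := D.comm
  have ti1 : D.i₁ * D.t = D.t * D.i₁ := by rw [← T1.ii]; group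
  have tj1 : D.j₁ * D.t = D.t * D.j₁ := by rw [← T1.jj]; group
  have ti2 : D.i₂ * D.t = D.t * D.i₂ := by rw [← T2.ii]; group
  have tj2 : D.j₂ * D.t = D.t * D.j₂ := by rw [← T2.jj]; group
  refine Extra.five h2 (x := (D.j₁, 1)) (y := (D.i₁, 1)) (u := (D.j₂, 1)) (v := (D.i₂, 1))
    (z := (1, s)) (t := (D.t, 1)) ?_ ?_ ?_ ?_ ?_ ?_ ?_ (Or.inr ?_) (Or.inr ?_) (Or.inr ?_)
    (Or.inr ?_) (Or.inl ?_) ?_ ?_ ?_ ?_ ?_ ?_ ?_ ?_ ?_ ?_ ?_ ?_
  · exact Prod.ext htt (one_mul _)
  · intro h; exact D.t_ne (congrArg Prod.fst h)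
  · exact Prod.ext tj1 rfl
  · exact Prod.ext ti1 rfl
  · exact Prod.ext tj2 rfl
  · exact Prod.ext ti2 rfl
  · exact Prod.ext (by simp) (by simp)
  · exact Prod.ext T1.jj (one_mul _)
  · exact Prod.ext T1.ii (one_mul _)
  · exact Prod.ext T2.jj (one_mul _)
  · exact Prod.ext T2.ii (one_mul _)
  · exact Prod.ext (one_mul _) hss
  · refine Prod.ext ?_ (by simp)
    show D.j₁ * D.i₁ = D.i₁ * D.j₁ * D.t
    rw [T1.ji, mul_assoc, tj1, ← mul_assoc, ← mul_assoc, ti1]
  · refine Prod.ext ?_ (by simp)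
    show D.j₂ * D.i₂ = D.i₂ * D.j₂ * D.t
    rw [T2.ji, mul_assoc, tj2, ← mul_assoc, ← mul_assoc, ti2]
  · exact Prod.ext (c12 _ D.j₁_mem _ D.j₂_mem) rfl
  · exact Prod.ext (c12 _ D.j₁_mem _ D.i₂_mem) rfl
  · exact Prod.ext (c12 _ D.i₁_mem _ D.j₂_mem) rfl
  · exact Prod.ext (c12 _ D.i₁_mem _ D.i₂_mem) rfl
  · exact Prod.ext (by simp) (by simp)
  · exact Prod.ext (by simp) (by simp)
  · exact Prod.ext (by simp) (by simp)
  · exact Prod.ext (by simp) (by simp)
  · intro h; exact hs (congrArg Prod.snd h)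
  · intro h; exact hs (congrArg Prod.snd h)

end Cfsg.Agent.GH.Cov.FrameSyl
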