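import Cfsg.Agent.GH.Cov.FrontX

/-!
# GH-COV: the front of (I.5), (I.6), from `X = K / O(K)` to `G`

* `covFrame`: `XData` for `Bar K` gives `I5.CovFrame K z y`;
* `typeI`, `typeII`: `XTypeI`, `XTypeII` for the action of an involution `e` give `I5.TypeI`, `I5.TypeII`.
-/

set_option autoImplicit false
set_option linter.unusedSectionVars false

open Subgroup
open scoped commutatorElement

namespace Cfsg.Agent.GH.Cov.FrontG

open Cfsg Cfsg.Agent.GH.Defs Cfsg.Agent.GH.L2Frame Cfsg.Agent.Intrinsic.Basic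
open Cfsg.Agent.GH.Cov.I5 (Oct CovFrame)
open Cfsg.Agent.GH.Cov.I5.CovFrame (TypeI TypeII)
open Cfsg.Agent.GH.Cov.FrontX Cfsg.Agent.GH.Cov.Lift
open Cfsg.Agent.SylowL5.OddLift (injOn conj_of_eq conj_lift)

section octlift

variable {Γ X : Type*} [Group Γ] [Group X] {π : Γ →* X}

theorem oct_lift [Finite Γ] [Finite X] (hodd : Odd (Nat.card π.ker)) {Q : Subgroup Γ} (hQ : IsPGroup 2 Q)
    {Q' : Subgroup X} {d' w' : X} (hO : Oct Q' d' w') (hw' : w' ≠ 1) (hm : Q.map π = Q') {w : Γ} (hw : w ∈ Q)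
    (hww : π w = w') (hd' : d' ∈ (⊤ : Subgroup Γ).map π) : ∃ d : Γ, Oct Q d w ∧ π d = d' ∧ d * w = w * d := by
  obtain ⟨g, -, hg, hgQ⟩ := exists_normalizing hodd (H := ⊤) hQ le_top hd' (by
    intro q hq
    rw [hm]
    exact hO.norm _ (by rw [← hm]; exact ⟨q, hq, rfl⟩))
  obtain ⟨m, hm1, hm2⟩ := exists_pow_odd (π := π) hO.odd hg
  have hnorm : ∀ n : ℕ, ∀ q ∈ Q, g ^ n * q * (g ^ n)⁻¹ ∈ Q := by
    intro n
    induction n with
    | zero => intro q hq; simpa using hq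
    | succ n ih =>
      intro q hq
      have := hgQ _ (ih q hq)
      have e : g ^ (n + 1) * q * (g ^ (n + 1))⁻¹ = g * (g ^ n * q * (g ^ n)⁻¹) * g⁻¹ := by
        rw [pow_succ', mul_inv_rev]; group
      rwa [e]
  refine ⟨g ^ m, ⟨hQ, hm2, hnorm m, ?_, hw, ?_⟩, hm1, ?_⟩
  · intro B hB
    have h1 : Q' ≤ (B ⊓ Q).map π := by
      apply hO.gen
      intro a ha
      rw [← hm] at ha
      obtain ⟨a, ha, rfl⟩ := ha
      refine ⟨a * (g ^ m * a * (g ^ m)⁻¹)⁻¹, ⟨hB a ha, Q.mul_mem ha (Q.inv_mem (hnorm m a ha))⟩, ?_⟩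
      rw [map_mul, map_inv, map_mul, map_mul, map_inv, hm1]
    intro a ha
    obtain ⟨b, ⟨hbB, hbQ⟩, hb⟩ := h1 (by rw [← hm]; exact ⟨a, ha, rfl⟩)
    have : b = a := injOn hodd hQ hbQ ha hb
    rw [← this]; exact hbB
  · intro N hN hn hne
    have h1 : w' ∈ N.map π := by
      apply hO.min
      · rw [← hm]; exact map_mono hN
      · rintro a ha _ ⟨n, hn', rfl⟩
        rw [← hm] at ha
        obtain ⟨a, ha, rfl⟩ := ha
        exact ⟨a * n * a⁻¹, hn a ha n hn', by rw [map_mul, map_mul, map_inv]⟩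
      · intro h0
        apply hne
        rw [eq_bot_iff]
        intro n hn'
        have h2 : π n = π 1 := by
          have : π n ∈ N.map π := ⟨n, hn', rfl⟩
          rw [h0, mem_bot] at this
          rw [this, map_one]
        exact mem_bot.2 (injOn hodd hQ (hN hn') Q.one_mem h2)
    obtain ⟨n, hn', hnw⟩ := h1
    have : n = w := injOn hodd hQ (hN hn') hw (by rw [hnw, hww])
    rw [← this]; exact hn'
  · have h1 : g ^ m * w * (g ^ m)⁻¹ = w := by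
      apply injOn hodd hQ (hnorm m w hw) hw
      rw [map_mul, map_mul, map_inv, hm1, hww]
      exact (OctA.of_oct hO).fixed hw'
    rwa [mul_inv_eq_iff_eq_mul] at h1

theorem oct_subtype {G : Type*} [Group G] {K : Subgroup G} {Q : Subgroup K} {d w : K} (h : Oct Q d w) :
    Oct (Q.map K.subtype) (d : G) (w : G) where
  pgrp := h.pgrp.map _
  odd := by rw [Subgroup.orderOf_coe]; exact h.odd
  norm := by
    rintro _ ⟨a, ha, rfl⟩
    exact ⟨d * a * d⁻¹, h.norm a ha, rfl⟩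
  gen := by
    intro B hB
    have h1 : Q ≤ B.comap K.subtype := by
      apply h.gen
      intro a ha
      exact hB _ ⟨a, ha, rfl⟩
    rintro _ ⟨a, ha, rfl⟩
    exact h1 ha
  mem := ⟨w, h.mem, rfl⟩
  min := by
    intro N hN hn hne
    have h1 : w ∈ N.comap K.subtype := by
      apply h.min
      · intro n hn'
        obtain ⟨a, ha, e⟩ := hN hn'
        have : a = n := Subtype.ext e
        rw [← this]; exact ha
      · intro a ha n hn'
        exact hn _ ⟨a, ha, rfl⟩ _ hn'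
      · intro h0
        apply hne
        rw [eq_bot_iff]
        intro n hn'
        obtain ⟨a, ha, rfl⟩ := hN hn'
        have : a ∈ N.comap K.subtype := hn'
        rw [h0, mem_bot] at this
        rw [this, map_one]
        exact mem_bot.2 rfl
    exact h1

end octlift

variable {G : Type*} [Group G] [Finite G]

/-- The projection `K → K / O(K)`. -/
abbrev pr (K : Subgroup G) : K →* Bar K := QuotientGroup.mk' (oddCore ↥K)

omit [Finite G] in
theorem pr_surj (K : Subgroup G) : Function.Surjective (pr K) := QuotientGroup.mk'_surjective _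

theorem odd_ker (K : Subgroup G) : Odd (Nat.card (pr K).ker) := by
  rw [QuotientGroup.ker_mk']
  exact Nat.coprime_two_right.1 (Lib.Cores.pPrimeCore_coprime (G := ↥K) 2)

/-- Involutions lift. -/
theorem exists_inv_lift {K : Subgroup G} {y' : Bar K} (hy : y' * y' = 1) :
    ∃ y, ∃ hy : y ∈ K, y * y = 1 ∧ pr K ⟨y, hy⟩ = y' := by
  have h1 : IsPGroup 2 (zpowers y') := by
    rintro ⟨g, i, rfl⟩
    refine ⟨1, Subtype.ext ?_⟩
    show (y' ^ i) ^ 2 ^ 1 = 1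
    rw [pow_one, ← zpow_natCast, ← zpow_mul, mul_comm, zpow_mul, zpow_natCast, pow_two, hy, one_zpow]
  obtain ⟨Q, -, -, hQ, hQm⟩ := exists_lift (π := pr K) (H := ⊤) (P := zpowers y') (R := ⊥) h1
    (by rw [← MonoidHom.range_eq_map, MonoidHom.range_eq_top.2 (pr_surj K)]; exact le_top)
    IsPGroup.of_bot bot_le (by
      intro r hr
      rw [mem_bot.1 hr, map_one]
      exact one_mem _)
  have h2 : y' ∈ Q.map (pr K) := by rw [hQm]; exact mem_zpowers y'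
  obtain ⟨y, hyQ, hyy⟩ := h2
  have h3 : y * y = 1 := injOn (odd_ker K) hQ (Q.mul_mem hyQ hyQ) Q.one_mem (by
    rw [map_mul, hyy, hy, map_one])
  exact ⟨y, y.2, congrArg Subtype.val h3, hyy⟩

/-- The situation. -/
structure Front (K : Subgroup G) (z y : G) : Prop where
  zK : z ∈ K
  yK : y ∈ K
  z_sq : z * z = 1
  y_sq : y * y = 1
  Kz : ∀ x ∈ K, x * z = z * x
  nrm : ∀ c, c * z = z * c → c ∈ normalizer (K : Set G)
  idx : ¬ 4 ∣ K.relIndex (centralizer ({z} : Set G))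
  data : XData (pr K ⟨z, zK⟩) (pr K ⟨y, yK⟩)

namespace Front

variable {K : Subgroup G} {z y : G}

omit [Finite G] in
theorem two_zpowers {X : Type*} [Group X] {u : X} (hu : u * u = 1) : IsPGroup 2 (zpowers u) := by
  rintro ⟨g, i, rfl⟩
  refine ⟨1, Subtype.ext ?_⟩
  show (u ^ i) ^ 2 ^ 1 = 1
  rw [pow_one, ← zpow_natCast, ← zpow_mul, mul_comm, zpow_mul, zpow_natCast, pow_two, hu, one_zpow]

omit [Finite G] in
/-- The sup of two commuting 2-groups. -/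
theorem two_sup {X : Type*} [Group X] {A B : Subgroup X} (hA : IsPGroup 2 A) (hB : IsPGroup 2 B)
    (h : ∀ a ∈ A, ∀ b ∈ B, a * b = b * a) : IsPGroup 2 ↥(A ⊔ B) := by
  apply IsPGroup.to_sup_of_normal_right' hA hB
  intro a ha
  rw [mem_normalizer_iff]
  intro b
  constructor
  · intro hb
    rw [h a ha b hb, mul_inv_cancel_right]; exact hb
  · intro hb
    have := h a ha _ hb
    have e : b = a * b * a⁻¹ := by
      calc b = a⁻¹ * (a * b * a⁻¹) * a := by group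
        _ = a⁻¹ * ((a * b * a⁻¹) * a) := by group
        _ = a⁻¹ * (a * (a * b * a⁻¹)) := by rw [this]
        _ = a * b * a⁻¹ := by group
    rw [e]; exact hb

omit [Finite G] in
theorem comm_zpowers {X : Type*} [Group X] {u v : X} (h : u * v = v * u) :
    ∀ a ∈ zpowers u, ∀ b ∈ zpowers v, a * b = b * a := by
  rintro _ ⟨i, rfl⟩ _ ⟨j, rfl⟩
  exact ((show Commute u v from h).zpow_zpow i j).eq

theorem zy (h : Front K z y) : y * z = z * y := h.Kz y h.yK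

/-- `⟨y, z⟩` as a subgroup of `K`. -/
theorem two_R (h : Front K z y) : IsPGroup 2 ↥(zpowers (⟨y, h.yK⟩ : K) ⊔ zpowers (⟨z, h.zK⟩ : K)) := by
  apply two_sup (two_zpowers (Subtype.ext h.y_sq)) (two_zpowers (Subtype.ext h.z_sq))
  exact comm_zpowers (Subtype.ext h.zy)

theorem ptop (K : Subgroup G) (P : Subgroup (Bar K)) : P ≤ (⊤ : Subgroup K).map (pr K) := by
  rw [← MonoidHom.range_eq_map, MonoidHom.range_eq_top.2 (pr_surj K)]
  exact le_top

/-- A 2-subgroup of `Bar K` containing the images of `y` and `z` lifts to one containing `y` and `z`. -/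
theorem exists_big (h : Front K z y) {P : Subgroup (Bar K)} (hP : IsPGroup 2 P)
    (hy : pr K ⟨y, h.yK⟩ ∈ P) (hz : pr K ⟨z, h.zK⟩ ∈ P) :
    ∃ Q : Subgroup K, ⟨y, h.yK⟩ ∈ Q ∧ ⟨z, h.zK⟩ ∈ Q ∧ IsPGroup 2 Q ∧ Q.map (pr K) = P := by
  obtain ⟨Q, hRQ, -, hQ, hQm⟩ := exists_lift (π := pr K) (H := ⊤) hP (ptop K P) h.two_R le_top (by
    have h1 : zpowers (⟨y, h.yK⟩ : K) ⊔ zpowers (⟨z, h.zK⟩ : K) ≤ P.comap (pr K) := by
      rw [sup_le_iff, zpowers_le, zpowers_le]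
      exact ⟨hy, hz⟩
    exact fun r hr => h1 hr)
  exact ⟨Q, hRQ (mem_sup_left (mem_zpowers _)), hRQ (mem_sup_right (mem_zpowers _)), hQ, hQm⟩

theorem sqz (h : Front K z y) : ∃ c, c * y = y * c ∧ c * c = z := by
  obtain ⟨c', hc1, hc2⟩ := h.data.sqz
  have hc4 : IsPGroup 2 (zpowers c') := by
    rintro ⟨g, i, rfl⟩
    refine ⟨2, Subtype.ext ?_⟩
    show (c' ^ i) ^ 2 ^ 2 = 1
    rw [← zpow_natCast, ← zpow_mul, mul_comm, zpow_mul, zpow_natCast]
    have : c' ^ 2 ^ 2 = 1 := by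
      rw [show 2 ^ 2 = 2 * 2 from rfl, pow_mul, pow_two, pow_two, hc2, h.data.z_sq]
    rw [this, one_zpow]
  obtain ⟨Q, hyQ, hzQ, hQ, hQm⟩ := h.exists_big
    (two_sup hc4 (two_zpowers h.data.y_sq) (comm_zpowers hc1)) (mem_sup_right (mem_zpowers _))
    (mem_sup_left ⟨2, by rw [← hc2]; exact zpow_two c'⟩)
  have h1 : c' ∈ Q.map (pr K) := by rw [hQm]; exact mem_sup_left (mem_zpowers _)
  obtain ⟨c, hcQ, rfl⟩ := h1
  refine ⟨c, ?_, ?_⟩
  · have : c * ⟨y, h.yK⟩ = ⟨y, h.yK⟩ * c :=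
      injOn (odd_ker K) hQ (Q.mul_mem hcQ hyQ) (Q.mul_mem hyQ hcQ) (by rw [map_mul, map_mul, hc1])
    exact congrArg Subtype.val this
  · have : c * c = ⟨z, h.zK⟩ :=
      injOn (odd_ker K) hQ (Q.mul_mem hcQ hcQ) hzQ (by rw [map_mul, hc2])
    exact congrArg Subtype.val this

theorem z_ne (h : Front K z y) : z ≠ 1 := by
  intro h0
  apply h.data.z_ne
  have : (⟨z, h.zK⟩ : K) = 1 := Subtype.ext h0
  rw [this, map_one]

theorem y_ne (h : Front K z y) : y ≠ 1 := by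
  intro h0
  apply h.data.y_ne
  have : (⟨y, h.yK⟩ : K) = 1 := Subtype.ext h0
  rw [this, map_one]

theorem y_ne_z (h : Front K z y) : y ≠ z := by
  intro h0
  apply h.data.y_ne_z
  have : (⟨y, h.yK⟩ : K) = ⟨z, h.zK⟩ := Subtype.ext h0
  rw [this]

theorem pr_yz (h : Front K z y) : pr K ⟨y * z, K.mul_mem h.yK h.zK⟩ = pr K ⟨y, h.yK⟩ * pr K ⟨z, h.zK⟩ := by
  rw [← map_mul]
  rfl

theorem yz_ne' (h : Front K z y) : pr K ⟨y, h.yK⟩ * pr K ⟨z, h.zK⟩ ≠ 1 := by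
  intro h0
  apply h.data.y_ne_z
  calc pr K ⟨y, h.yK⟩ = pr K ⟨y, h.yK⟩ * pr K ⟨z, h.zK⟩ * pr K ⟨z, h.zK⟩ := by
        rw [mul_assoc, h.data.z_sq, mul_one]
    _ = pr K ⟨z, h.zK⟩ := by rw [h0, one_mul]

theorem inv (h : Front K z y) : ∀ x ∈ K, x * x = 1 → x ≠ 1 → x ≠ z → ∃ k ∈ K, k * x * k⁻¹ = y := by
  intro x hx hx2 hx1 hxz
  have hx2' : (⟨x, hx⟩ : K) * ⟨x, hx⟩ = 1 := Subtype.ext hx2
  have h1 : IsConj (pr K ⟨x, hx⟩) (pr K ⟨y, h.yK⟩) := by
    apply h.data.inv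
    · rw [← map_mul, hx2', map_one]
    · intro h0
      obtain ⟨k, -, hk⟩ := conj_of_eq (odd_ker K) hx2' (one_mul 1) (by rw [h0, map_one])
      apply hx1
      have : (⟨x, hx⟩ : K) = 1 := by
        calc (⟨x, hx⟩ : K) = k⁻¹ * (k * ⟨x, hx⟩ * k⁻¹) * k := by group
          _ = 1 := by rw [hk]; group
      exact congrArg Subtype.val this
    · intro h0
      obtain ⟨k, -, hk⟩ := conj_of_eq (odd_ker K) hx2' (show (⟨z, h.zK⟩ : K) * ⟨z, h.zK⟩ = 1 from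
        Subtype.ext h.z_sq) h0
      apply hxz
      have hk' : (k : G) * x * (k : G)⁻¹ = z := congrArg Subtype.val hk
      calc x = (k : G)⁻¹ * ((k : G) * x * (k : G)⁻¹) * k := by group
        _ = (k : G)⁻¹ * (z * k) := by rw [hk']; group
        _ = (k : G)⁻¹ * (k * z) := by rw [h.Kz k k.2]
        _ = z := by group
  obtain ⟨g, hg⟩ := isConj_iff.1 h1
  obtain ⟨k, -, hk⟩ := conj_lift (pr_surj K) (odd_ker K) hx2' (show (⟨y, h.yK⟩ : K) * ⟨y, h.yK⟩ = 1 from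
    Subtype.ext h.y_sq) hg
  exact ⟨k, k.2, congrArg Subtype.val hk⟩

theorem quat (h : Front K z y) : ∃ (Q₁ Q₂ : Subgroup G) (d₁ d₂ : G), Oct Q₁ d₁ y ∧ Oct Q₂ d₂ (y * z) ∧
    (∀ a ∈ Q₁, ∀ b ∈ Q₂, a * b = b * a) ∧
    (∀ a ∈ Q₁, a * z = z * a ∧ a * y = y * a) ∧ (∀ a ∈ Q₂, a * z = z * a ∧ a * y = y * a) ∧
    (d₁ * z = z * d₁ ∧ d₁ * y = y * d₁) ∧ (d₂ * z = z * d₂ ∧ d₂ * y = y * d₂) := by
  obtain ⟨P₁, P₂, d₁', d₂', o1, o2, hcomm⟩ := h.data.quat
  have m1 : pr K ⟨y, h.yK⟩ ∈ P₁ := o1.mem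
  have m2 : pr K ⟨y, h.yK⟩ * pr K ⟨z, h.zK⟩ ∈ P₂ := o2.mem
  obtain ⟨Q, hyQ, hzQ, hQ, hQm⟩ := h.exists_big (two_sup o1.pgrp o2.pgrp hcomm) (mem_sup_left m1) (by
    have e : pr K ⟨z, h.zK⟩ = pr K ⟨y, h.yK⟩ * (pr K ⟨y, h.yK⟩ * pr K ⟨z, h.zK⟩) := by
      rw [← mul_assoc, h.data.y_sq, one_mul]
    rw [e]
    exact Subgroup.mul_mem _ (mem_sup_left m1) (mem_sup_right m2))
  have hyc := (OctA.of_oct o1).central h.data.y_ne
  set Q₁ : Subgroup K := Q ⊓ P₁.comap (pr K) with hQ₁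
  set Q₂ : Subgroup K := Q ⊓ P₂.comap (pr K) with hQ₂
  have hm1 : Q₁.map (pr K) = P₁ := by
    apply le_antisymm
    · rintro _ ⟨a, ha, rfl⟩; exact ha.2
    · intro a ha
      have : a ∈ Q.map (pr K) := by rw [hQm]; exact mem_sup_left ha
      obtain ⟨b, hb, rfl⟩ := this
      exact ⟨b, ⟨hb, ha⟩, rfl⟩
  have hm2 : Q₂.map (pr K) = P₂ := by
    apply le_antisymm
    · rintro _ ⟨a, ha, rfl⟩; exact ha.2
    · intro a ha
      have : a ∈ Q.map (pr K) := by rw [hQm]; exact mem_sup_right ha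
      obtain ⟨b, hb, rfl⟩ := this
      exact ⟨b, ⟨hb, ha⟩, rfl⟩
  have p1 : IsPGroup 2 Q₁ := hQ.to_le inf_le_left
  have p2 : IsPGroup 2 Q₂ := hQ.to_le inf_le_left
  obtain ⟨d₁, r1, -, s1⟩ := oct_lift (odd_ker K) p1 o1 h.data.y_ne hm1 (w := ⟨y, h.yK⟩) ⟨hyQ, m1⟩ rfl
    (ptop K ⊤ (mem_top _))
  obtain ⟨d₂, r2, -, s2⟩ := oct_lift (odd_ker K) p2 o2 h.yz_ne' hm2 (w := ⟨y * z, K.mul_mem h.yK h.zK⟩)
    ⟨Q.mul_mem hyQ hzQ, by
      show pr K ⟨y * z, K.mul_mem h.yK h.zK⟩ ∈ P₂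
      rw [h.pr_yz]; exact m2⟩ h.pr_yz
    (ptop K ⊤ (mem_top _))
  have hcz : ∀ a : K, (a : G) * z = z * a := fun a => h.Kz a a.2
  refine ⟨Q₁.map K.subtype, Q₂.map K.subtype, d₁, d₂, oct_subtype r1, oct_subtype r2, ?_, ?_, ?_, ?_, ?_⟩
  · rintro _ ⟨a, ha, rfl⟩ _ ⟨b, hb, rfl⟩
    have : a * b = b * a := injOn (odd_ker K) hQ (Q.mul_mem ha.1 hb.1) (Q.mul_mem hb.1 ha.1) (by
      rw [map_mul, map_mul]; exact hcomm _ ha.2 _ hb.2)
    exact congrArg Subtype.val this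
  · rintro _ ⟨a, ha, rfl⟩
    refine ⟨hcz a, ?_⟩
    have : a * ⟨y, h.yK⟩ = ⟨y, h.yK⟩ * a :=
      injOn (odd_ker K) hQ (Q.mul_mem ha.1 hyQ) (Q.mul_mem hyQ ha.1) (by
        rw [map_mul, map_mul]; exact hyc _ ha.2)
    exact congrArg Subtype.val this
  · rintro _ ⟨a, ha, rfl⟩
    refine ⟨hcz a, ?_⟩
    have : a * ⟨y, h.yK⟩ = ⟨y, h.yK⟩ * a :=
      injOn (odd_ker K) hQ (Q.mul_mem ha.1 hyQ) (Q.mul_mem hyQ ha.1) (by
        rw [map_mul, map_mul]; exact (hcomm _ m1 _ ha.2).symm)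
    exact congrArg Subtype.val this
  · exact ⟨hcz d₁, congrArg Subtype.val s1⟩
  · refine ⟨hcz d₂, ?_⟩
    have s2' : (d₂ : G) * (y * z) = y * z * d₂ := congrArg Subtype.val s2
    have e : (d₂ : G) * y * z = y * d₂ * z := by
      calc (d₂ : G) * y * z = d₂ * (y * z) := by group
        _ = y * (z * d₂) := by rw [s2']; group
        _ = y * d₂ * z := by rw [← hcz d₂]; group
    exact mul_right_cancel e

/-- `Oct` in `G` for a subgroup of `K` gives `OctA` in `Bar K`. -/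
theorem octA_of_oct {A : Subgroup G} {a w : G} (ha : a ∈ normalizer (K : Set G)) (h : Oct A a w)
    (hAK : A ≤ K) : OctA ((A.subgroupOf K).map (pr K)) (actBar K ⟨a, ha⟩) (pr K ⟨w, hAK h.mem⟩) where
  pgrp := (h.pgrp.comap_of_injective K.subtype K.subtype_injective).map _
  norm := by
    rintro _ ⟨k, hk, rfl⟩
    exact ⟨⟨a * k * a⁻¹, conj_mem ha k.2⟩, h.norm _ hk, rfl⟩
  gen := by
    intro B hB
    have h1 : A ≤ (B.comap (pr K)).map K.subtype := by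
      apply h.gen
      intro k hk
      refine ⟨⟨k, hAK hk⟩ * ⟨a * k * a⁻¹, conj_mem ha (hAK hk)⟩⁻¹, ?_, rfl⟩
      show pr K (⟨k, hAK hk⟩ * ⟨a * k * a⁻¹, conj_mem ha (hAK hk)⟩⁻¹) ∈ B
      rw [map_mul, map_inv]
      exact hB _ ⟨⟨k, hAK hk⟩, hk, rfl⟩
    rintro _ ⟨k, hk, rfl⟩
    obtain ⟨k', hk', e⟩ := h1 hk
    have : k' = k := Subtype.ext e
    rw [← this]; exact hk'
  mem := ⟨⟨w, hAK h.mem⟩, h.mem, rfl⟩
  min := by
    intro N hN hn hne
    have h1 : w ∈ A ⊓ (N.comap (pr K)).map K.subtype := by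
      apply h.min
      · exact inf_le_left
      · rintro x hx n ⟨hnA, n', hn', rfl⟩
        refine ⟨A.mul_mem (A.mul_mem hx hnA) (A.inv_mem hx), ?_⟩
        refine ⟨⟨x, hAK hx⟩ * n' * ⟨x, hAK hx⟩⁻¹, ?_, rfl⟩
        show pr K (⟨x, hAK hx⟩ * n' * ⟨x, hAK hx⟩⁻¹) ∈ N
        rw [map_mul, map_mul, map_inv]
        exact hn _ ⟨⟨x, hAK hx⟩, hx, rfl⟩ _ hn'
      · intro h0
        apply hne
        rw [eq_bot_iff]
        intro n hn'
        obtain ⟨k, hk, rfl⟩ := hN hn'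
        have : (k : G) ∈ A ⊓ (N.comap (pr K)).map K.subtype := ⟨hk, k, hn', rfl⟩
        rw [h0, mem_bot] at this
        have : k = 1 := Subtype.ext this
        rw [this, map_one]
        exact mem_bot.2 rfl
    obtain ⟨-, k, hk, e⟩ := h1
    have : k = ⟨w, hAK h.mem⟩ := Subtype.ext e
    rw [← this]; exact hk

theorem noquat (h : Front K z y) : ∀ (A B : Subgroup G) (a b : G), Oct A a z → Oct B b (y * z) → A ≤ K → B ≤ K →
    (∀ u ∈ A, ∀ v ∈ B, u * v = v * u) → (∀ u ∈ A, u * y = y * u) → (∀ u ∈ B, u * y = y * u) →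
    (a * z = z * a ∧ a * y = y * a) → (b * z = z * b ∧ b * y = y * b) → False := by
  intro A B a b hA hB hAK hBK hAB hAy hBy ha hb
  obtain ⟨A₁, A₂, hc⟩ := h.data.comps
  have oA := octA_of_oct (h.nrm a ha.1) hA hAK
  have oB := octA_of_oct (h.nrm b hb.1) hB hBK
  have e : pr K ⟨y * z, hBK hB.mem⟩ = pr K ⟨y, h.yK⟩ * pr K ⟨z, h.zK⟩ := h.pr_yz
  rw [e] at oB
  have hfix : ∀ c (hc : c * z = z * c), c * y = y * c →
      actBar K ⟨c, h.nrm c hc⟩ (pr K ⟨y, h.yK⟩) = pr K ⟨y, h.yK⟩ := by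
    intro c hc hcy
    have e1 : actBar K ⟨c, h.nrm c hc⟩ (pr K ⟨y, h.yK⟩) =
        pr K ⟨c * y * c⁻¹, conj_mem (h.nrm c hc) h.yK⟩ := rfl
    rw [e1]
    congr 1
    apply Subtype.ext
    show c * y * c⁻¹ = y
    rw [hcy, mul_inv_cancel_right]
  refine hc.noquat h.data.z_ne h.yz_ne' oA oB ?_ ?_ ?_ (hfix a ha.1 ha.2) (hfix b hb.1 hb.2)
  · rintro _ ⟨u, hu, rfl⟩ _ ⟨v, hv, rfl⟩
    rw [← map_mul, ← map_mul]
    congr 1
    exact Subtype.ext (hAB u hu v hv)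
  · rintro _ ⟨u, hu, rfl⟩
    rw [← map_mul, ← map_mul]
    congr 1
    exact Subtype.ext (hAy u hu)
  · rintro _ ⟨u, hu, rfl⟩
    rw [← map_mul, ← map_mul]
    congr 1
    exact Subtype.ext (hBy u hu)

/-- **The frame of (I.5), (I.6).** -/
theorem covFrame (h : Front K z y) : CovFrame K z y where
  z_ne := h.z_ne
  z_sq := h.z_sq
  y_ne := h.y_ne
  y_sq := h.y_sq
  y_ne_z := h.y_ne_z
  zK := h.zK
  yK := h.yK
  Kz := h.Kz
  norm := fun c hc _ hx => conj_mem (h.nrm c hc) hx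
  idx := h.idx
  inv := h.inv
  sqz := h.sqz
  quat := h.quat
  noquat := h.noquat

end Front

section types

variable {K : Subgroup G}

/-- Fixed points of an involution lift. -/
theorem exists_fixed_lift {e : G} (he : e * e = 1) (heK : e ∈ normalizer (K : Set G)) {x : Bar K}
    (hx : actBar K ⟨e, heK⟩ x = x) : ∃ k : K, pr K k = x ∧ (k : G) * e = e * k := by
  obtain ⟨k, rfl⟩ := pr_surj K x
  have h1 : (⟨e * k * e⁻¹, conj_mem heK k.2⟩ : K) * k⁻¹ ∈ oddCore ↥K := by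
    have h2 : pr K (⟨e * k * e⁻¹, conj_mem heK k.2⟩ * k⁻¹) = 1 := by
      rw [map_mul, map_inv, mul_inv_eq_one]
      exact hx
    exact (QuotientGroup.eq_one_iff _).1 h2
  have hei : e⁻¹ = e := inv_eq_of_mul_eq_one_left he
  obtain ⟨o, ⟨o', ho', rfl⟩, ho⟩ := conj_of_mul_mem (N := core K) (odd_card_core K)
    (a := (k : G) * e * (k : G)⁻¹) (b := e)
    (by
      calc (k : G) * e * (k : G)⁻¹ * ((k : G) * e * (k : G)⁻¹) = k * (e * e) * (k : G)⁻¹ := by group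
        _ = 1 := by rw [he]; group) he
    ⟨_, h1, by
      show e * k * e⁻¹ * (k : G)⁻¹ = e * (k * e * (k : G)⁻¹)
      rw [hei]; group⟩
  refine ⟨o' * k, ?_, ?_⟩
  · rw [map_mul]
    have : pr K o' = 1 := (QuotientGroup.eq_one_iff _).2 ho'
    rw [this, one_mul]
  · show (o' : G) * k * e = e * (o' * k)
    have ho2 : (o' : G) * (k * e * (k : G)⁻¹) * (o' : G)⁻¹ = e := ho
    calc (o' : G) * k * e = (o' * (k * e * (k : G)⁻¹) * (o' : G)⁻¹) * (o' * k) := by group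
      _ = e * (o' * k) := by rw [ho2]

/-- `C_K(e)` covers the fixed points of `e` on `K / O(K)`. -/
theorem le_map_centralizer {e : G} (he : e * e = 1) (heK : e ∈ normalizer (K : Set G)) {P : Subgroup (Bar K)}
    (hP : ∀ x ∈ P, actBar K ⟨e, heK⟩ x = x) :
    P ≤ ((centralizer ({e} : Set G)).subgroupOf K).map (pr K) := by
  intro x hx
  obtain ⟨k, hk, hke⟩ := exists_fixed_lift he heK (hP x hx)
  exact ⟨k, mem_centralizer_singleton_iff.2 hke, hk⟩

theorem typeI {z e : G} (zK : z ∈ K) (hz : z * z = 1) (he : e * e = 1) (hez : e * z = z * e)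
    (heK : e ∈ normalizer (K : Set G)) (h : XTypeI (pr K ⟨z, zK⟩) (actBar K ⟨e, heK⟩)) : TypeI z e := by
  obtain ⟨w, hw, hww⟩ := h
  have hz' : (⟨z, zK⟩ : K) * ⟨z, zK⟩ = 1 := Subtype.ext hz
  have hw4 : IsPGroup 2 (zpowers w) := by
    rintro ⟨g, i, rfl⟩
    refine ⟨2, Subtype.ext ?_⟩
    show (w ^ i) ^ 2 ^ 2 = 1
    rw [← zpow_natCast, ← zpow_mul, mul_comm, zpow_mul, zpow_natCast]
    have : w ^ 2 ^ 2 = 1 := by
      rw [show 2 ^ 2 = 2 * 2 from rfl, pow_mul, pow_two, pow_two, hww, ← map_mul, hz', map_one]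
    rw [this, one_zpow]
  obtain ⟨Q, hRQ, hQH, hQ, hQm⟩ := exists_lift (π := pr K) hw4
    (le_map_centralizer he heK (by
      rintro _ ⟨i, rfl⟩
      rw [map_zpow, hw])) (Front.two_zpowers hz')
    (by
      rw [zpowers_le]
      exact mem_centralizer_singleton_iff.2 hez.symm)
    (by
      have h1 : zpowers (⟨z, zK⟩ : K) ≤ (zpowers w).comap (pr K) := by
        rw [zpowers_le]
        exact ⟨2, by rw [← hww]; exact zpow_two w⟩
      exact fun r hr => h1 hr)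
  have h1 : w ∈ Q.map (pr K) := by rw [hQm]; exact mem_zpowers w
  obtain ⟨c, hcQ, rfl⟩ := h1
  refine ⟨c, mem_centralizer_singleton_iff.1 (hQH hcQ), ?_⟩
  have : c * c = ⟨z, zK⟩ :=
    injOn (odd_ker K) hQ (Q.mul_mem hcQ hcQ) (hRQ (mem_zpowers _)) (by rw [map_mul, hww])
  exact congrArg Subtype.val this

theorem typeII {e : G} (he : e * e = 1) (heK : e ∈ normalizer (K : Set G))
    (h : XTypeII (actBar K ⟨e, heK⟩)) : TypeII K e := by
  obtain ⟨j, v, d, V, hj, hjj, hvV, hv1, hvv, hVp, hVe, hde, hdV, hgen⟩ := h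
  obtain ⟨Q, -, hQH, hQ, hQm⟩ := exists_lift (π := pr K) hVp (le_map_centralizer he heK hVe)
    (R := ⊥) IsPGroup.of_bot bot_le (by
      intro r hr
      rw [mem_bot.1 hr, map_one]
      exact one_mem _)
  obtain ⟨g, hgH, hg, hgQ⟩ := exists_normalizing (π := pr K) (odd_ker K) hQ hQH (x := d)
    (by
      obtain ⟨k, hk, hke⟩ := exists_fixed_lift he heK hde
      exact ⟨k, mem_centralizer_singleton_iff.2 hke, hk⟩)
    (by
      intro q hq
      rw [hQm]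
      exact hdV _ (by rw [← hQm]; exact ⟨q, hq, rfl⟩))
  have h1 : v ∈ Q.map (pr K) := by rw [hQm]; exact hvV
  obtain ⟨v', hv', rfl⟩ := h1
  have hv2 : v' * v' = 1 := injOn (odd_ker K) hQ (Q.mul_mem hv' hv') Q.one_mem (by
    rw [map_mul, hvv, map_one])
  have hv2' : (v' : G) * v' = 1 := congrArg Subtype.val hv2
  have hve : (v' : G) * e = e * v' := mem_centralizer_singleton_iff.1 (hQH hv')
  -- the element `j`
  obtain ⟨j', rfl⟩ := pr_surj K j
  have hei : e⁻¹ = e := inv_eq_of_mul_eq_one_left he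
  have h2 : v' * ⟨e * j' * e⁻¹, conj_mem heK j'.2⟩ * j'⁻¹ ∈ oddCore ↥K := by
    have h3 : pr K (v' * ⟨e * j' * e⁻¹, conj_mem heK j'.2⟩ * j'⁻¹) = 1 := by
      have h4 : pr K ⟨e * j' * e⁻¹, conj_mem heK j'.2⟩ = (pr K j')⁻¹ := hj
      rw [map_mul, map_mul, map_inv, h4, ← hjj]
      group
    exact (QuotientGroup.eq_one_iff _).1 h3
  obtain ⟨o, ⟨o', ho', rfl⟩, ho⟩ := conj_of_mul_mem (N := core K) (odd_card_core K)
    (a := (j' : G) * e * (j' : G)⁻¹) (b := e * v')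
    (by
      calc (j' : G) * e * (j' : G)⁻¹ * ((j' : G) * e * (j' : G)⁻¹) = j' * (e * e) * (j' : G)⁻¹ := by group
        _ = 1 := by rw [he]; group)
    (by
      calc e * (v' : G) * (e * v') = e * (v' * e) * v' := by group
        _ = (e * e) * (v' * v') := by rw [hve]; group
        _ = 1 := by rw [he, hv2', one_mul])
    ⟨_, h2, by
      show (v' : G) * (e * j' * e⁻¹) * (j' : G)⁻¹ = e * v' * (j' * e * (j' : G)⁻¹)
      rw [hei, ← hve]; group⟩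
  refine ⟨o' * j', v', g, Q.map K.subtype, ?_, ⟨v', hv', rfl⟩, v'.2, ?_, hv2', hQ.map _, ?_, ?_, ?_, ?_⟩
  · have ho2 : (o' : G) * (j' * e * (j' : G)⁻¹) * (o' : G)⁻¹ = e * v' := ho
    rw [← ho2]; group
  · intro h0
    apply hv1
    have : v' = 1 := Subtype.ext h0
    rw [this, map_one]
  · rintro _ ⟨a, ha, rfl⟩
    exact mem_centralizer_singleton_iff.1 (hQH ha)
  · exact mem_centralizer_singleton_iff.1 hgH
  · rintro _ ⟨a, ha, rfl⟩
    exact ⟨_, hgQ a ha, rfl⟩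
  · intro B hB
    have h3 : V ≤ (B.comap K.subtype ⊓ Q).map (pr K) := by
      apply hgen
      intro a ha
      rw [← hQm] at ha
      obtain ⟨a, ha, rfl⟩ := ha
      refine ⟨a * (g * a * g⁻¹)⁻¹, ⟨hB _ ⟨a, ha, rfl⟩, Q.mul_mem ha (Q.inv_mem (hgQ a ha))⟩, ?_⟩
      rw [map_mul, map_inv, map_mul, map_mul, map_inv, hg]
    rintro _ ⟨a, ha, rfl⟩
    obtain ⟨b, ⟨hbB, hbQ⟩, hb⟩ := h3 (by rw [← hQm]; exact ⟨a, ha, rfl⟩)
    have : b = a := injOn (odd_ker K) hQ hbQ ha hb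
    rw [← this]; exact hbB

/-- **(I.6)**: some conjugate of `z` in `C(z) - K` acts on `K / O(K)` as an automorphism of type III. -/
theorem exists_typeIII [IsSimpleGroup G] (hG : ¬ IsMulCommutative G) {z y : G} (h : Front K z y)
    {T3 : MulAut (Bar K) → Prop}
    (tri : ∀ (e : G) (he : e * z = z * e), e * e = 1 → e ∉ K →
      XTypeI (pr K ⟨z, h.zK⟩) (actBar K ⟨e, h.nrm e he⟩) ∨ XTypeII (actBar K ⟨e, h.nrm e he⟩) ∨
        T3 (actBar K ⟨e, h.nrm e he⟩)) :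
    ∃ (e : G) (he : e * z = z * e), e * e = 1 ∧ IsConj z e ∧ e ∉ K ∧ T3 (actBar K ⟨e, h.nrm e he⟩) := by
  obtain ⟨e, h1, h2, h3, h4, h5⟩ := h.covFrame.exists_typeIII hG
    (TypeIII := fun e => e * e = 1 ∧ ∃ he : e * z = z * e, T3 (actBar K ⟨e, h.nrm e he⟩)) (by
      intro e he hez heK
      rcases tri e hez he heK with h1 | h1 | h1
      · exact Or.inl (typeI h.zK h.z_sq he hez _ h1)
      · exact Or.inr (Or.inl (typeII he _ h1))
      · exact Or.inr (Or.inr ⟨he, hez, h1⟩))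
  obtain ⟨h6, h7⟩ := h5
  exact ⟨e, h6, h4, h1, h3, h7⟩

end types

end Cfsg.Agent.GH.Cov.FrontG
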