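import Cfsg.Agent.GH.Cov.I5
import Cfsg.Agent.GH.Cov.Lift
import Cfsg.Agent.GH.L2Frame

/-!
# GH-COV: the front of (I.5), level `X = K / O(K)`

* `OctA`: the automorphism version of `I5.Oct`;
* `Comps.noquat`: no two commuting `OctA` for `z` and `y z` in `C_X(y)`.
-/

set_option autoImplicit false

open Subgroup

namespace Cfsg.Agent.GH.Cov.FrontX

open Cfsg.Agent.GH.Cov.I5 (Oct)

section oct

variable {X : Type*} [Group X]

/-- `A` is a 2-group, `A = [A, α]`, every nontrivial normal subgroup of `A` contains `w`. -/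
structure OctA (A : Subgroup X) (α : MulAut X) (w : X) : Prop where
  pgrp : IsPGroup 2 A
  norm : ∀ a ∈ A, α a ∈ A
  gen : ∀ B : Subgroup X, (∀ a ∈ A, a * (α a)⁻¹ ∈ B) → A ≤ B
  mem : w ∈ A
  min : ∀ N : Subgroup X, N ≤ A → (∀ a ∈ A, ∀ n ∈ N, a * n * a⁻¹ ∈ N) → N ≠ ⊥ → w ∈ N

theorem OctA.of_oct {A : Subgroup X} {d w : X} (h : Oct A d w) : OctA A (MulAut.conj d) w where
  pgrp := h.pgrp
  norm := h.norm
  gen := h.gen
  mem := h.mem
  min := h.min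

namespace OctA

variable {A : Subgroup X} {α : MulAut X} {w : X}

/-- A nontrivial subgroup of `A` centralised by `A` contains `w`. -/
theorem mem_of_central (h : OctA A α w) {N : Subgroup X} (hN : N ≤ A)
    (hc : ∀ n ∈ N, ∀ a ∈ A, a * n = n * a) (hne : N ≠ ⊥) : w ∈ N := by
  apply h.min N hN _ hne
  intro a ha n hn
  rw [hc n hn a ha, mul_inv_cancel_right]
  exact hn

theorem central [Finite X] (h : OctA A α w) (hw : w ≠ 1) : ∀ a ∈ A, a * w = w * a := by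
  have : Fact (Nat.Prime 2) := ⟨Nat.prime_two⟩
  have : Nontrivial A := ⟨⟨w, h.mem⟩, 1, fun e => hw (congrArg Subtype.val e)⟩
  have hc := h.pgrp.center_nontrivial
  have h1 : w ∈ (center A).map A.subtype := by
    apply h.mem_of_central
    · rintro _ ⟨x, -, rfl⟩; exact x.2
    · rintro _ ⟨x, hx, rfl⟩ a ha
      have := mem_center_iff.1 hx ⟨a, ha⟩
      exact congrArg Subtype.val this
    · intro h0
      obtain ⟨x, hx⟩ := exists_ne (1 : center A)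
      apply hx
      have : (x : A).1 ∈ (center A).map A.subtype := ⟨x, x.2, rfl⟩
      rw [h0, mem_bot] at this
      exact Subtype.ext (Subtype.ext this)
  obtain ⟨x, hx, hxw⟩ := h1
  intro a ha
  have := mem_center_iff.1 hx ⟨a, ha⟩
  rw [← hxw]
  exact congrArg Subtype.val this

theorem eq_of_central [Finite X] (h : OctA A α w) (hw : w ≠ 1) {u : X} (hu : u ∈ A)
    (hc : ∀ a ∈ A, a * u = u * a) (hu2 : u * u = 1) (hu1 : u ≠ 1) : w = u := by
  have h1 : w ∈ zpowers u := by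
    apply h.mem_of_central
    · rw [zpowers_le]; exact hu
    · rintro _ ⟨i, rfl⟩ a ha
      exact ((show Commute a u from hc a ha).zpow_right i).eq
    · intro h0
      exact hu1 (by have := mem_zpowers u; rw [h0, mem_bot] at this; exact this)
  obtain ⟨i, hi⟩ := h1
  have hi : u ^ i = w := hi
  rcases Int.even_or_odd i with ⟨k, hk⟩ | ⟨k, hk⟩
  · exfalso
    apply hw
    rw [← hi, hk, ← two_mul, zpow_mul, zpow_two, hu2, one_zpow]
  · rw [← hi, hk, zpow_add, zpow_mul, zpow_two, hu2, one_zpow, one_mul, zpow_one]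

theorem sq [Finite X] (h : OctA A α w) (hw : w ≠ 1) : w * w = 1 := by
  obtain ⟨n, hn⟩ := h.pgrp ⟨w, h.mem⟩
  have hn : w ^ 2 ^ n = 1 := congrArg Subtype.val hn
  obtain ⟨k, hk⟩ := (Nat.dvd_prime_pow Nat.prime_two).1 (orderOf_dvd_of_pow_eq_one hn)
  obtain ⟨hk1, hk⟩ := hk
  have hk0 : k ≠ 0 := by
    rintro rfl
    exact hw (orderOf_eq_one_iff.1 hk)
  obtain ⟨m, rfl⟩ := Nat.exists_eq_succ_of_ne_zero hk0
  set u := w ^ 2 ^ m with hu
  have hu2 : u * u = 1 := by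
    rw [hu, ← pow_add, ← two_mul, ← pow_succ']
    exact orderOf_dvd_iff_pow_eq_one.1 (by rw [hk])
  have hu1 : u ≠ 1 := by
    intro h0
    have := orderOf_dvd_iff_pow_eq_one.2 (show w ^ 2 ^ m = 1 from h0)
    rw [hk] at this
    have h3 := Nat.le_of_dvd (by positivity) this
    rw [pow_succ] at h3
    have : 0 < 2 ^ m := by positivity
    omega
  have := h.eq_of_central hw (A.pow_mem h.mem _)
    (fun a ha => ((show Commute a w from h.central hw a ha).pow_right _).eq) hu2 hu1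
  rw [this]
  exact hu2

theorem inv_norm [Finite X] (h : OctA A α w) : ∀ a ∈ A, α⁻¹ a ∈ A := by
  intro a ha
  have h1 : A.map (α : X ≃* X).toMonoidHom = A := by
    apply eq_of_le_of_card_ge
    · rintro _ ⟨b, hb, rfl⟩
      exact h.norm b hb
    · rw [card_map_of_injective (α : X ≃* X).injective]
  rw [← h1] at ha
  obtain ⟨b, hb, rfl⟩ := ha
  have : α⁻¹ ((α : X ≃* X).toMonoidHom b) = b := MulAut.inv_apply_self X α b
  rw [this]
  exact hb

theorem fixed [Finite X] (h : OctA A α w) (hw : w ≠ 1) : α w = w := by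
  symm
  apply h.eq_of_central hw (h.norm w h.mem)
  · intro a ha
    have h1 := h.central hw _ (h.inv_norm a ha)
    have h2 := congrArg α h1
    rw [map_mul, map_mul, MulAut.apply_inv_self] at h2
    exact h2
  · rw [← map_mul, h.sq hw, map_one]
  · intro h0
    exact hw (by rw [← map_one α] at h0; exact α.injective h0)

/-- `A` is not commutative. -/
theorem not_comm [Finite X] (h : OctA A α w) (hw : w ≠ 1) : ¬ ∀ u ∈ A, ∀ v ∈ A, u * v = v * u := by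
  intro hc
  let f : A →* A :=
    { toFun := fun a => ⟨a * (α a)⁻¹, A.mul_mem a.2 (A.inv_mem (h.norm a a.2))⟩
      map_one' := by
        apply Subtype.ext
        show (1 : X) * (α (1 : X))⁻¹ = 1
        rw [map_one, inv_one, mul_one]
      map_mul' := by
        intro a b
        apply Subtype.ext
        show (a : X) * b * (α (a * b : X))⁻¹ = a * (α (a : X))⁻¹ * (b * (α (b : X))⁻¹)
        rw [map_mul, mul_inv_rev]
        have h1 := hc _ b.2 _ (A.inv_mem (h.norm a a.2))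
        have h2 := hc _ (A.inv_mem (h.norm a a.2)) _ (A.inv_mem (h.norm b b.2))
        calc (a : X) * b * ((α (b : X))⁻¹ * (α (a : X))⁻¹)
            = a * (b * ((α (b : X))⁻¹ * (α (a : X))⁻¹)) := by group
          _ = a * (b * ((α (a : X))⁻¹ * (α (b : X))⁻¹)) := by rw [h2]
          _ = a * ((b * (α (a : X))⁻¹) * (α (b : X))⁻¹) := by group
          _ = a * (((α (a : X))⁻¹ * b) * (α (b : X))⁻¹) := by rw [h1]
          _ = a * (α (a : X))⁻¹ * (b * (α (b : X))⁻¹) := by group }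
  have hsurj : Function.Surjective f := by
    have h1 : A ≤ f.range.map A.subtype := by
      apply h.gen
      intro a ha
      exact ⟨f ⟨a, ha⟩, ⟨⟨a, ha⟩, rfl⟩, rfl⟩
    rintro ⟨a, ha⟩
    obtain ⟨b, ⟨c, hc⟩, hb⟩ := h1 ha
    exact ⟨c, Subtype.ext (by rw [hc]; exact hb)⟩
  have hinj : Function.Injective f := Finite.injective_iff_surjective.2 hsurj
  have h2 : f ⟨w, h.mem⟩ = f 1 := by
    rw [map_one]
    apply Subtype.ext
    show w * (α w)⁻¹ = 1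
    rw [h.fixed hw, mul_inv_cancel]
  exact hw (congrArg Subtype.val (hinj h2))

end OctA

end oct

section comps

theorem eq_of_card_le_two {W : Type*} [Group W] [Finite W] {B : Subgroup W} (h5 : Nat.card B ≤ 2) :
    ∀ u ∈ B, ∀ v ∈ B, u ≠ 1 → v ≠ 1 → u = v := by
  intro u hu v hv hu1 hv1
  by_contra hne
  have : Finite B := inferInstance
  have h7 : Nat.card (Fin 3) ≤ Nat.card B := by
    apply Nat.card_le_card_of_injective (fun i : Fin 3 => (![⟨1, B.one_mem⟩, ⟨u, hu⟩, ⟨v, hv⟩] i : B))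
    intro i j hij
    fin_cases i <;> fin_cases j <;> simp_all
  rw [Nat.card_eq_fintype_card, Fintype.card_fin] at h7
  omega

/-- A group of order not divisible by 4: the subgroup generated by the elements of odd order has odd order. -/
theorem eq_one_of_mem_closure {W : Type*} [Group W] [Finite W] (h4 : ¬ 4 ∣ Nat.card W) {x : W}
    (hx : x ∈ closure {g : W | Odd (orderOf g)}) {n : ℕ} (hn : x ^ 2 ^ n = 1) : x = 1 := by
  classical
  have : Fact (Nat.Prime 2) := ⟨Nat.prime_two⟩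
  obtain ⟨P⟩ : Nonempty (Sylow 2 W) := inferInstance
  obtain ⟨k, hk⟩ := IsPGroup.iff_card.1 P.2
  have hk1 : k ≤ 1 := by
    by_contra hcon
    apply h4
    refine dvd_trans ?_ (P : Subgroup W).card_subgroup_dvd_card
    rw [hk]
    exact pow_dvd_pow 2 (by omega : 2 ≤ k)
  have hP : (normalizer ((P : Subgroup W) : Set W)) ≤ centralizer ((P : Subgroup W) : Set W) := by
    intro g hg p hp
    have hcard : Nat.card (P : Subgroup W) ≤ 2 := by
      rw [hk]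
      calc 2 ^ k ≤ 2 ^ 1 := Nat.pow_le_pow_right (by norm_num) hk1
        _ = 2 := by norm_num
    have h1 := (mem_normalizer_iff.1 hg p).1 hp
    by_cases hp1 : p = 1
    · rw [hp1]; group
    · have h2 : g * p * g⁻¹ = p := by
        by_contra hne
        have h7 : Nat.card (Fin 3) ≤ Nat.card (P : Subgroup W) := by
          have hgp : g * p * g⁻¹ ≠ 1 := fun h0 => hp1 (by
            calc p = g⁻¹ * (g * p * g⁻¹) * g := by group
              _ = 1 := by rw [h0]; group)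
          apply Nat.card_le_card_of_injective
            (fun i : Fin 3 => (![1, ⟨p, hp⟩, ⟨g * p * g⁻¹, h1⟩] i : (P : Subgroup W)))
          intro i j hij
          have hne' : ¬ p = g * p * g⁻¹ := fun e => hne e.symm
          have hp1' : ¬ 1 = p := fun e => hp1 e.symm
          have hgp' : ¬ 1 = g * p * g⁻¹ := fun e => hgp e.symm
          fin_cases i <;> fin_cases j <;> simp_all [Subtype.ext_iff]
        rw [Nat.card_eq_fintype_card, Fintype.card_fin] at h7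
        omega
      calc p * g = (g * p * g⁻¹) * g := by rw [h2]
        _ = g * p := by group
  let T : W →* (P : Subgroup W) := MonoidHom.transferSylow P hP
  have hT : ¬ 2 ∣ Nat.card T.ker := MonoidHom.not_dvd_card_ker_transferSylow P hP
  have h1 : closure {g : W | Odd (orderOf g)} ≤ T.ker := by
    rw [closure_le]
    intro g hg
    rw [SetLike.mem_coe, MonoidHom.mem_ker]
    have e1 : orderOf (T g) ∣ orderOf g := orderOf_map_dvd T g
    have e2 : orderOf (T g) ∣ 2 ^ k := by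
      rw [← hk]; exact orderOf_dvd_natCard _
    have e3 : Nat.Coprime (2 ^ k) (orderOf g) := Nat.Coprime.pow_left k (Nat.coprime_two_left.2 hg)
    exact orderOf_eq_one_iff.1 (Nat.eq_one_of_dvd_coprimes e3 e2 e1)
  have h2 := h1 hx
  have e1 : orderOf x ∣ Nat.card T.ker := by
    have := orderOf_dvd_natCard (⟨x, h2⟩ : T.ker)
    rwa [Subgroup.orderOf_mk] at this
  have e2 : orderOf x ∣ 2 ^ n := orderOf_dvd_of_pow_eq_one hn
  have e3 : Nat.Coprime (2 ^ n) (Nat.card T.ker) := by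
    apply Nat.Coprime.pow_left
    rwa [Nat.Prime.coprime_iff_not_dvd Nat.prime_two]
  exact orderOf_eq_one_iff.1 (Nat.eq_one_of_dvd_coprimes e3 e2 e1)

variable {X : Type*} [Group X]

/-- The facts about `A₁`, `A₂` (two commuting `SL₂(q)` in `C_X(y)`). -/
structure Comps (z y : X) (A₁ A₂ : Subgroup X) : Prop where
  comm : ∀ a ∈ A₁, ∀ b ∈ A₂, a * b = b * a
  disj : A₁ ⊓ A₂ = ⊥
  z_notin : z ∉ A₁
  yz_notin : y * z ∉ A₁
  le₁ : ∀ a ∈ A₁, a * y = y * a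
  le₂ : ∀ a ∈ A₂, a * y = y * a
  norm : ∀ c, c * y = y * c → ∀ a ∈ A₁ ⊔ A₂, c * a * c⁻¹ ∈ A₁ ⊔ A₂
  idx : ¬ 4 ∣ (A₁ ⊔ A₂).relIndex (centralizer ({y} : Set X))
  gen₁ : A₁ ≤ closure {x | x ∈ A₁ ∧ Odd (orderOf x)}
  gen₂ : A₂ ≤ closure {x | x ∈ A₂ ∧ Odd (orderOf x)}
  cent : ∀ u ∈ A₂, u * u ≠ 1 → ∀ a ∈ A₂, ∀ b ∈ A₂, a * u = u * a → b * u = u * b → a * b = b * a

namespace Comps

variable {z y : X} {A₁ A₂ : Subgroup X}

theorem decomp (h : Comps z y A₁ A₂) {x : X} (hx : x ∈ A₁ ⊔ A₂) : ∃ a ∈ A₁, ∃ b ∈ A₂, x = a * b := by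
  have h1 : A₁ ≤ normalizer (A₂ : Set X) := by
    intro a ha
    rw [mem_normalizer_iff]
    intro b
    constructor
    · intro hb
      rw [h.comm a ha b hb, mul_inv_cancel_right]; exact hb
    · intro hb
      have := h.comm a ha _ hb
      have e : b = a * b * a⁻¹ := by
        calc b = a⁻¹ * (a * b * a⁻¹) * a := by group
          _ = a⁻¹ * ((a * b * a⁻¹) * a) := by group
          _ = a⁻¹ * (a * (a * b * a⁻¹)) := by rw [this]
          _ = a * b * a⁻¹ := by group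
      rw [e]; exact hb
  have h2 : x ∈ ((A₁ ⊔ A₂ : Subgroup X) : Set X) := hx
  rw [Subgroup.coe_mul_of_left_le_normalizer_right A₁ A₂ h1] at h2
  obtain ⟨a, ha, b, hb, e⟩ := h2
  exact ⟨a, ha, b, hb, e.symm⟩

/-- `A = [A, α] ≤ C(y)` is contained in `A₁ A₂`. -/
theorem le_sup [Finite X] (h : Comps z y A₁ A₂) {A : Subgroup X} {α : MulAut X} (hA : IsPGroup 2 A)
    (hgen : ∀ B : Subgroup X, (∀ a ∈ A, a * (α a)⁻¹ ∈ B) → A ≤ B) (hAα : ∀ a ∈ A, α a ∈ A)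
    (hAy : ∀ a ∈ A, a * y = y * a) (hαy : α y = y) : A ≤ A₁ ⊔ A₂ := by
  classical
  set D : Subgroup X := centralizer ({y} : Set X) with hD
  have hDmem : ∀ x, x ∈ D ↔ x * y = y * x := fun x => mem_centralizer_singleton_iff
  set S : Set X := {x | x ∈ D ∧ Odd (orderOf x)} with hS
  set M : Subgroup X := closure S with hM
  have hA1 : A₁ ≤ M := h.gen₁.trans (closure_mono (fun x hx => ⟨(hDmem x).2 (h.le₁ x hx.1), hx.2⟩))
  have hA2 : A₂ ≤ M := h.gen₂.trans (closure_mono (fun x hx => ⟨(hDmem x).2 (h.le₂ x hx.1), hx.2⟩))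
  have hNM : A₁ ⊔ A₂ ≤ M := sup_le hA1 hA2
  have hMD : M ≤ D := by
    rw [hM, closure_le]
    exact fun x hx => hx.1
  have hMn : ∀ c ∈ D, ∀ x ∈ M, c * x * c⁻¹ ∈ M := by
    intro c hc x hx
    have h1 : M ≤ M.comap (MulAut.conj c).toMonoidHom := by
      rw [hM, closure_le]
      intro s hs
      apply Subgroup.subset_closure
      refine ⟨D.mul_mem (D.mul_mem hc hs.1) (D.inv_mem hc), ?_⟩
      have := orderOf_injective (MulAut.conj c).toMonoidHom (MulAut.conj c).injective s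
      show Odd (orderOf ((MulAut.conj c).toMonoidHom s))
      rw [this]; exact hs.2
    exact h1 hx
  have hMα : ∀ x ∈ M, α x ∈ M := by
    have h1 : M ≤ M.comap (α : X ≃* X).toMonoidHom := by
      rw [hM, closure_le]
      intro s hs
      apply Subgroup.subset_closure
      refine ⟨?_, ?_⟩
      · rw [hDmem]
        show α s * y = y * α s
        rw [← hαy, ← map_mul, ← map_mul, (hDmem s).1 hs.1]
      · have := orderOf_injective (α : X ≃* X).toMonoidHom (α : X ≃* X).injective s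
        rw [this]; exact hs.2
    exact fun x hx => h1 hx
  have hMα' : ∀ x, α x ∈ M → x ∈ M := by
    have h1 : M.map (α : X ≃* X).toMonoidHom = M := by
      apply eq_of_le_of_card_ge
      · rintro _ ⟨b, hb, rfl⟩
        exact hMα b hb
      · rw [card_map_of_injective (α : X ≃* X).injective]
    intro x hx
    rw [← h1] at hx
    obtain ⟨b, hb, hbx⟩ := hx
    have : b = x := α.injective hbx
    rw [← this]; exact hb
  have hAD : A ≤ D := fun a ha => (hDmem a).2 (hAy a ha)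
  -- `A ≤ M`
  have hAM : A ≤ M := by
    have hMN : (M.subgroupOf D).Normal := by
      constructor
      intro x hx g
      rw [mem_subgroupOf] at hx ⊢
      exact hMn _ g.2 _ hx
    apply hgen
    intro a ha
    set W := D ⧸ M.subgroupOf D
    have hcard : Nat.card W = M.relIndex D := rfl
    let π := QuotientGroup.mk' (M.subgroupOf D)
    have hπ : ∀ x : D, π x = 1 ↔ (x : X) ∈ M := fun x => by
      rw [← mem_subgroupOf]
      exact QuotientGroup.eq_one_iff _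
    set B : Subgroup W := (A.subgroupOf D).map π with hB
    have hBp : IsPGroup 2 B := by
      apply IsPGroup.map
      exact hA.comap_of_injective D.subtype D.subtype_injective
    obtain ⟨m, hm⟩ := IsPGroup.iff_card.1 hBp
    have h3 : Nat.card B ∣ Nat.card W := B.card_subgroup_dvd_card
    have h4 : m ≤ 1 := by
      by_contra hcon
      apply h.idx
      have e1 : M.relIndex D ∣ (A₁ ⊔ A₂).relIndex D := by
        rw [← relIndex_mul_relIndex (A₁ ⊔ A₂) M D hNM hMD]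
        exact dvd_mul_left _ _
      refine dvd_trans ?_ e1
      rw [← hcard]
      refine dvd_trans ?_ h3
      rw [hm]
      exact pow_dvd_pow 2 (by omega : 2 ≤ m)
    have h5 : Nat.card B ≤ 2 := by
      rw [hm]
      calc 2 ^ m ≤ 2 ^ 1 := Nat.pow_le_pow_right (by norm_num) h4
        _ = 2 := by norm_num
    have hmemB : ∀ x (hx : x ∈ A), π ⟨x, hAD hx⟩ ∈ B := by
      intro x hx
      exact ⟨⟨x, hAD hx⟩, hx, rfl⟩
    have h6 := eq_of_card_le_two h5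
    have h7 : π ⟨a, hAD ha⟩ = π ⟨α a, hAD (hAα a ha)⟩ := by
      by_cases ha1 : π ⟨a, hAD ha⟩ = 1
      · rw [ha1, eq_comm, hπ]
        exact hMα a ((hπ _).1 ha1)
      · apply h6 _ (hmemB a ha) _ (hmemB _ (hAα a ha)) ha1
        intro h0
        exact ha1 ((hπ _).2 (hMα' a ((hπ _).1 h0)))
    have h8 : π (⟨a, hAD ha⟩ * ⟨α a, hAD (hAα a ha)⟩⁻¹) = 1 := by
      rw [map_mul, map_inv, h7, mul_inv_cancel]
    exact (hπ _).1 h8
  -- `M / A₁A₂` has odd order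
  have hNn : ((A₁ ⊔ A₂).subgroupOf D).Normal := by
    constructor
    intro x hx g
    rw [mem_subgroupOf] at hx ⊢
    exact h.norm _ ((hDmem _).1 g.2) _ hx
  intro a ha
  let π := QuotientGroup.mk' ((A₁ ⊔ A₂).subgroupOf D)
  have hπ : ∀ x : D, π x = 1 ↔ (x : X) ∈ A₁ ⊔ A₂ := fun x => by
    rw [← mem_subgroupOf]
    exact QuotientGroup.eq_one_iff _
  obtain ⟨n, hn⟩ := hA ⟨a, ha⟩
  have hn : a ^ 2 ^ n = 1 := congrArg Subtype.val hn
  have key : π ⟨a, hAD ha⟩ = 1 := by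
    refine eq_one_of_mem_closure (W := D ⧸ (A₁ ⊔ A₂).subgroupOf D) h.idx (n := n) ?_ ?_
    · have h1 : M ≤ ((Subgroup.closure {g : D ⧸ (A₁ ⊔ A₂).subgroupOf D | Odd (orderOf g)}).comap π).map D.subtype := by
        rw [hM, closure_le]
        intro s hs
        refine ⟨⟨s, hs.1⟩, ?_, rfl⟩
        refine Subgroup.subset_closure ?_
        show Odd (orderOf _)
        refine hs.2.of_dvd_nat ?_
        refine (orderOf_map_dvd π _).trans ?_
        rw [Subgroup.orderOf_mk]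
      obtain ⟨s, hs, hsa⟩ := h1 (hAM ha)
      have : s = ⟨a, hAD ha⟩ := Subtype.ext hsa
      rw [← this]; exact hs
    · rw [← map_pow]
      have : (⟨a, hAD ha⟩ : D) ^ 2 ^ n = 1 := Subtype.ext hn
      rw [this, map_one]
  exact (hπ _).1 key

/-- Commuting elements of `A₁ A₂`. -/
theorem comm_parts (h : Comps z y A₁ A₂) {a₁ a₂ b₁ b₂ : X} (ha₁ : a₁ ∈ A₁) (ha₂ : a₂ ∈ A₂) (hb₁ : b₁ ∈ A₁)
    (hb₂ : b₂ ∈ A₂) (e : a₁ * a₂ * (b₁ * b₂) = b₁ * b₂ * (a₁ * a₂)) : a₂ * b₂ = b₂ * a₂ := by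
  have e1 : a₁ * b₁ * (a₂ * b₂) = b₁ * a₁ * (b₂ * a₂) := by
    calc a₁ * b₁ * (a₂ * b₂) = a₁ * (b₁ * a₂) * b₂ := by group
      _ = a₁ * (a₂ * b₁) * b₂ := by rw [h.comm b₁ hb₁ a₂ ha₂]
      _ = a₁ * a₂ * (b₁ * b₂) := by group
      _ = b₁ * b₂ * (a₁ * a₂) := e
      _ = b₁ * (b₂ * a₁) * a₂ := by group
      _ = b₁ * (a₁ * b₂) * a₂ := by rw [h.comm a₁ ha₁ b₂ hb₂]
      _ = b₁ * a₁ * (b₂ * a₂) := by group
  have e2 : (b₁ * a₁)⁻¹ * (a₁ * b₁) = b₂ * a₂ * (a₂ * b₂)⁻¹ := by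
    calc (b₁ * a₁)⁻¹ * (a₁ * b₁) = (b₁ * a₁)⁻¹ * (a₁ * b₁ * (a₂ * b₂)) * (a₂ * b₂)⁻¹ := by group
      _ = b₂ * a₂ * (a₂ * b₂)⁻¹ := by rw [e1]; group
  have e3 : b₂ * a₂ * (a₂ * b₂)⁻¹ ∈ A₁ ⊓ A₂ := by
    refine ⟨?_, A₂.mul_mem (A₂.mul_mem hb₂ ha₂) (A₂.inv_mem (A₂.mul_mem ha₂ hb₂))⟩
    rw [← e2]
    exact A₁.mul_mem (A₁.inv_mem (A₁.mul_mem hb₁ ha₁)) (A₁.mul_mem ha₁ hb₁)
  rw [h.disj, mem_bot, mul_inv_eq_one] at e3
  exact e3.symm

/-- If the second parts commute and `A` meets `A₁` trivially, then the elements commute. -/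
theorem comm_of_parts (h : Comps z y A₁ A₂) {A : Subgroup X} (hA : A ⊓ A₁ = ⊥) {a₁ a₂ b₁ b₂ : X} (ha₁ : a₁ ∈ A₁)
    (ha₂ : a₂ ∈ A₂) (hb₁ : b₁ ∈ A₁) (hb₂ : b₂ ∈ A₂) (ha : a₁ * a₂ ∈ A) (hb : b₁ * b₂ ∈ A)
    (e : a₂ * b₂ = b₂ * a₂) : a₁ * a₂ * (b₁ * b₂) = b₁ * b₂ * (a₁ * a₂) := by
  have e1 : a₁ * a₂ * (b₁ * b₂) = a₁ * b₁ * (a₂ * b₂) := by
    calc a₁ * a₂ * (b₁ * b₂) = a₁ * (a₂ * b₁) * b₂ := by group
      _ = a₁ * (b₁ * a₂) * b₂ := by rw [h.comm b₁ hb₁ a₂ ha₂]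
      _ = a₁ * b₁ * (a₂ * b₂) := by group
  have e2 : b₁ * b₂ * (a₁ * a₂) = b₁ * a₁ * (b₂ * a₂) := by
    calc b₁ * b₂ * (a₁ * a₂) = b₁ * (b₂ * a₁) * a₂ := by group
      _ = b₁ * (a₁ * b₂) * a₂ := by rw [h.comm a₁ ha₁ b₂ hb₂]
      _ = b₁ * a₁ * (b₂ * a₂) := by group
  have e3 : a₁ * a₂ * (b₁ * b₂) * (b₁ * b₂ * (a₁ * a₂))⁻¹ ∈ A ⊓ A₁ := by
    refine ⟨A.mul_mem (A.mul_mem ha hb) (A.inv_mem (A.mul_mem hb ha)), ?_⟩
    rw [e1, e2, e]
    have : a₁ * b₁ * (b₂ * a₂) * (b₁ * a₁ * (b₂ * a₂))⁻¹ = a₁ * b₁ * (b₁ * a₁)⁻¹ := by group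
    rw [this]
    exact A₁.mul_mem (A₁.mul_mem ha₁ hb₁) (A₁.inv_mem (A₁.mul_mem hb₁ ha₁))
  rw [hA, mem_bot, mul_inv_eq_one] at e3
  exact e3

theorem inf_eq_bot (h : Comps z y A₁ A₂) {A : Subgroup X} {α : MulAut X} {w : X} (hA : OctA A α w)
    (hAN : A ≤ A₁ ⊔ A₂) (hw : w ∉ A₁) : A ⊓ A₁ = ⊥ := by
  by_contra hne
  apply hw
  refine (hA.min (A ⊓ A₁) inf_le_left ?_ hne).2
  rintro a ha n ⟨hn, hn1⟩
  refine ⟨A.mul_mem (A.mul_mem ha hn) (A.inv_mem ha), ?_⟩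
  obtain ⟨a₁, ha₁, a₂, ha₂, rfl⟩ := h.decomp (hAN ha)
  have e : a₁ * a₂ * n * (a₁ * a₂)⁻¹ = a₁ * n * a₁⁻¹ := by
    calc a₁ * a₂ * n * (a₁ * a₂)⁻¹ = a₁ * (a₂ * n) * a₂⁻¹ * a₁⁻¹ := by group
      _ = a₁ * (n * a₂) * a₂⁻¹ * a₁⁻¹ := by rw [h.comm n hn1 a₂ ha₂]
      _ = a₁ * n * a₁⁻¹ := by group
  rw [e]
  exact A₁.mul_mem (A₁.mul_mem ha₁ hn1) (A₁.inv_mem ha₁)

/-- **noquat at the level of `X`.** -/
theorem noquat [Finite X] (h : Comps z y A₁ A₂) (hz : z ≠ 1) (hyz : y * z ≠ 1) {A B : Subgroup X}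
    {α β : MulAut X} (hA : OctA A α z) (hB : OctA B β (y * z)) (hAB : ∀ a ∈ A, ∀ b ∈ B, a * b = b * a)
    (hAy : ∀ a ∈ A, a * y = y * a) (hBy : ∀ b ∈ B, b * y = y * b) (hαy : α y = y) (hβy : β y = y) : False := by
  have hAN := h.le_sup hA.pgrp hA.gen hA.norm hAy hαy
  have hBN := h.le_sup hB.pgrp hB.gen hB.norm hBy hβy
  have hA1 := h.inf_eq_bot hA hAN h.z_notin
  have hB1 := h.inf_eq_bot hB hBN h.yz_notin
  by_cases hcase : ∃ b₁ ∈ A₁, ∃ b₂ ∈ A₂, b₁ * b₂ ∈ B ∧ b₂ * b₂ ≠ 1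
  · obtain ⟨b₁, hb₁, b₂, hb₂, hb, hc⟩ := hcase
    apply hA.not_comm hz
    intro u hu v hv
    obtain ⟨u₁, hu₁, u₂, hu₂, rfl⟩ := h.decomp (hAN hu)
    obtain ⟨v₁, hv₁, v₂, hv₂, rfl⟩ := h.decomp (hAN hv)
    apply h.comm_of_parts hA1 hu₁ hu₂ hv₁ hv₂ hu hv
    apply h.cent b₂ hb₂ hc u₂ hu₂ v₂ hv₂
    · exact h.comm_parts hu₁ hu₂ hb₁ hb₂ (hAB _ hu _ hb)
    · exact h.comm_parts hv₁ hv₂ hb₁ hb₂ (hAB _ hv _ hb)
  · apply hB.not_comm hyz
    intro u hu v hv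
    obtain ⟨u₁, hu₁, u₂, hu₂, rfl⟩ := h.decomp (hBN hu)
    obtain ⟨v₁, hv₁, v₂, hv₂, rfl⟩ := h.decomp (hBN hv)
    apply h.comm_of_parts hB1 hu₁ hu₂ hv₁ hv₂ hu hv
    have key : ∀ b₁ ∈ A₁, ∀ b₂ ∈ A₂, b₁ * b₂ ∈ B → b₂ * b₂ = 1 := by
      intro b₁ hb₁ b₂ hb₂ hb
      by_contra hne
      exact hcase ⟨b₁, hb₁, b₂, hb₂, hb, hne⟩
    have k1 := key u₁ hu₁ u₂ hu₂ hu
    have k2 := key v₁ hv₁ v₂ hv₂ hv
    have k3 := key (u₁ * v₁) (A₁.mul_mem hu₁ hv₁) (u₂ * v₂) (A₂.mul_mem hu₂ hv₂) (by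
      have e : u₁ * v₁ * (u₂ * v₂) = u₁ * u₂ * (v₁ * v₂) := by
        calc u₁ * v₁ * (u₂ * v₂) = u₁ * (v₁ * u₂) * v₂ := by group
          _ = u₁ * (u₂ * v₁) * v₂ := by rw [h.comm v₁ hv₁ u₂ hu₂]
          _ = u₁ * u₂ * (v₁ * v₂) := by group
      rw [e]; exact B.mul_mem hu hv)
    have i1 : u₂⁻¹ = u₂ := inv_eq_of_mul_eq_one_left k1
    have i2 : v₂⁻¹ = v₂ := inv_eq_of_mul_eq_one_left k2
    have i3 : (u₂ * v₂)⁻¹ = u₂ * v₂ := inv_eq_of_mul_eq_one_left k3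
    rw [mul_inv_rev, i1, i2] at i3
    exact i3.symm

end Comps

end comps

section xdata

variable {X : Type*} [Group X]

/-- The facts about `X = K / O(K)` (with `Z(X) = ⟨z⟩`). -/
structure XData (z y : X) : Prop where
  z_ne : z ≠ 1
  z_sq : z * z = 1
  y_ne : y ≠ 1
  y_sq : y * y = 1
  y_ne_z : y ≠ z
  central : ∀ x, x * z = z * x
  inv : ∀ x, x * x = 1 → x ≠ 1 → x ≠ z → IsConj x y
  sqz : ∃ c, c * y = y * c ∧ c * c = z
  quat : ∃ (Q₁ Q₂ : Subgroup X) (d₁ d₂ : X), Oct Q₁ d₁ y ∧ Oct Q₂ d₂ (y * z) ∧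
    ∀ a ∈ Q₁, ∀ b ∈ Q₂, a * b = b * a
  comps : ∃ A₁ A₂ : Subgroup X, Comps z y A₁ A₂

/-- `α` centralises an element with square `z`. -/
def XTypeI (z : X) (α : MulAut X) : Prop := ∃ w, α w = w ∧ w * w = z

/-- `α` centralises an `A₄ = V ⟨d⟩` and inverts an element with square in `V`. -/
def XTypeII (α : MulAut X) : Prop := ∃ (j v d : X) (V : Subgroup X), α j = j⁻¹ ∧ j * j = v ∧ v ∈ V ∧ v ≠ 1 ∧
  v * v = 1 ∧ IsPGroup 2 V ∧ (∀ a ∈ V, α a = a) ∧ α d = d ∧ (∀ a ∈ V, d * a * d⁻¹ ∈ V) ∧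
  ∀ B : Subgroup X, (∀ a ∈ V, a * (d * a * d⁻¹)⁻¹ ∈ B) → V ≤ B

end xdata

end Cfsg.Agent.GH.Cov.FrontX
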