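import Cfsg.Agent.ClassificationK.SymplBig

/-!
# GH-COV (I.5), (I.6): the group level (S0500, helper577)

`K` is the 2-component of `C(z)`, `z ∈ K`, `y` the other involution. `not_conj`: `y` is not conjugate to `z`.
`exists_typeIII`: some conjugate of `z` in `C(z) - K` is of type III.
-/

set_option autoImplicit false

namespace Cfsg.Agent.GH.Cov.I5

open Subgroup

variable {G : Type*} [Group G]

/-- `A` is a 2-group, `d` of odd order normalises it, `A = [A, d]`, and every nontrivial normal subgroup of `A`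
contains `w`. -/
structure Oct (A : Subgroup G) (d w : G) : Prop where
  pgrp : IsPGroup 2 A
  odd : Odd (orderOf d)
  norm : ∀ a ∈ A, d * a * d⁻¹ ∈ A
  gen : ∀ B : Subgroup G, (∀ a ∈ A, a * (d * a * d⁻¹)⁻¹ ∈ B) → A ≤ B
  mem : w ∈ A
  min : ∀ N : Subgroup G, N ≤ A → (∀ a ∈ A, ∀ n ∈ N, a * n * a⁻¹ ∈ N) → N ≠ ⊥ → w ∈ N

/-- the conjugate subgroup -/
abbrev cj (g : G) (A : Subgroup G) : Subgroup G := A.map (MulAut.conj g).toMonoidHom

theorem mem_cj {g x : G} {A : Subgroup G} : x ∈ cj g A ↔ g⁻¹ * x * g ∈ A := by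
  constructor
  · rintro ⟨y, hy, rfl⟩
    have : g⁻¹ * (MulAut.conj g).toMonoidHom y * g = y := by
      show g⁻¹ * (g * y * g⁻¹) * g = y
      group
    rw [this]; exact hy
  · intro h
    refine ⟨_, h, ?_⟩
    show g * (g⁻¹ * x * g) * g⁻¹ = x
    group

theorem conj_mem_cj {g x : G} {A : Subgroup G} (h : x ∈ A) : g * x * g⁻¹ ∈ cj g A := ⟨x, h, rfl⟩

theorem Oct.conj {A : Subgroup G} {d w : G} (h : Oct A d w) (g : G) : Oct (cj g A) (g * d * g⁻¹) (g * w * g⁻¹) where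
  pgrp := h.pgrp.map _
  odd := by
    have : orderOf (g * d * g⁻¹) = orderOf d := by
      have := orderOf_injective (MulAut.conj g).toMonoidHom (MulAut.conj g).injective d
      exact this
    rw [this]; exact h.odd
  norm := by
    intro a ha
    rw [mem_cj] at ha ⊢
    have := h.norm _ ha
    have e : g⁻¹ * (g * d * g⁻¹ * a * (g * d * g⁻¹)⁻¹) * g = d * (g⁻¹ * a * g) * d⁻¹ := by group
    rwa [e]
  gen := by
    intro B hB
    have h1 : A ≤ B.comap (MulAut.conj g).toMonoidHom := by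
      apply h.gen
      intro a ha
      rw [mem_comap]
      have := hB _ (conj_mem_cj (g := g) ha)
      have e : (MulAut.conj g).toMonoidHom (a * (d * a * d⁻¹)⁻¹) =
          g * a * g⁻¹ * (g * d * g⁻¹ * (g * a * g⁻¹) * (g * d * g⁻¹)⁻¹)⁻¹ := by
        show g * (a * (d * a * d⁻¹)⁻¹) * g⁻¹ = _
        group
      rwa [e]
    rintro _ ⟨a, ha, rfl⟩
    exact h1 ha
  mem := conj_mem_cj h.mem
  min := by
    intro N hN hn hne
    have h1 : w ∈ cj g⁻¹ N := by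
      apply h.min
      · rintro _ ⟨n, hn', rfl⟩
        have := mem_cj.1 (hN hn')
        show g⁻¹ * n * g⁻¹⁻¹ ∈ A
        rwa [inv_inv]
      · intro a ha n hn'
        rw [mem_cj] at hn' ⊢
        have := hn _ (conj_mem_cj (g := g) ha) _ hn'
        have e : g⁻¹⁻¹ * (a * n * a⁻¹) * g⁻¹ = g * a * g⁻¹ * (g⁻¹⁻¹ * n * g⁻¹) * (g * a * g⁻¹)⁻¹ := by group
        rwa [e]
      · intro h0
        apply hne
        rw [eq_bot_iff]
        intro n hn'
        have h2 : g⁻¹ * n * g⁻¹⁻¹ ∈ cj g⁻¹ N := conj_mem_cj hn'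
        rw [h0, mem_bot, inv_inv] at h2
        rw [mem_bot]
        calc n = g * (g⁻¹ * n * g) * g⁻¹ := by group
          _ = 1 := by rw [h2]; group
    rw [mem_cj, inv_inv] at h1
    exact h1

/-- A 2-element `w` normalising `K`, in a group `C` with `4 ∤ |C : K|`: `w² ∈ K`. -/
theorem sq_mem [Finite G] {K C : Subgroup G} (hKC : K ≤ C) (hn : ∀ c ∈ C, ∀ x ∈ K, c * x * c⁻¹ ∈ K)
    (hidx : ¬ 4 ∣ K.relIndex C) {w : G} (hw : w ∈ C) {n : ℕ} (hw2 : w ^ (2 ^ n) = 1) : w * w ∈ K := by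
  classical
  have hKn : (K.subgroupOf C).Normal := by
    constructor
    intro x hx g
    rw [mem_subgroupOf] at hx ⊢
    exact hn _ g.2 _ hx
  set W := C ⧸ K.subgroupOf C
  have hcard : Nat.card W = K.relIndex C := rfl
  set w' : W := QuotientGroup.mk' (K.subgroupOf C) ⟨w, hw⟩
  have h1 : w' ^ (2 ^ n) = 1 := by
    rw [← map_pow]
    have : (⟨w, hw⟩ : C) ^ (2 ^ n) = 1 := Subtype.ext hw2
    rw [this, map_one]
  have h2 : orderOf w' ∣ 2 ^ n := orderOf_dvd_of_pow_eq_one h1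
  have h3 : orderOf w' ∣ Nat.card W := orderOf_dvd_natCard w'
  obtain ⟨m, -, hm⟩ := (Nat.dvd_prime_pow Nat.prime_two).1 h2
  have h4 : m ≤ 1 := by
    by_contra hcon
    apply hidx
    rw [← hcard]
    refine dvd_trans ?_ h3
    rw [hm]
    exact pow_dvd_pow 2 (by omega : 2 ≤ m)
  have h5 : w' ^ 2 = 1 := by
    apply orderOf_dvd_iff_pow_eq_one.1
    rw [hm]
    exact pow_dvd_pow 2 h4 |>.trans (by norm_num)
  rw [← map_pow] at h5
  have h6 : (⟨w, hw⟩ : C) ^ 2 ∈ K.subgroupOf C := (QuotientGroup.eq_one_iff _).1 h5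
  rw [mem_subgroupOf] at h6
  rw [pow_two] at h6
  exact h6

/-- `A = [A, d]` is contained in `K` if `4 ∤ |C : K|`. -/
theorem le_of_gen [Finite G] {K C A : Subgroup G} (hKC : K ≤ C) (hn : ∀ c ∈ C, ∀ x ∈ K, c * x * c⁻¹ ∈ K)
    (hidx : ¬ 4 ∣ K.relIndex C) (hAC : A ≤ C) (hA : IsPGroup 2 A) {d : G} (hd : d ∈ C)
    (hdA : ∀ a ∈ A, d * a * d⁻¹ ∈ A)
    (hgen : ∀ B : Subgroup G, (∀ a ∈ A, a * (d * a * d⁻¹)⁻¹ ∈ B) → A ≤ B) : A ≤ K := by
  classical
  have : Fact (Nat.Prime 2) := ⟨Nat.prime_two⟩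
  have hKn : (K.subgroupOf C).Normal := by
    constructor
    intro x hx g
    rw [mem_subgroupOf] at hx ⊢
    exact hn _ g.2 _ hx
  apply hgen
  intro a ha
  set W := C ⧸ K.subgroupOf C
  have hcard : Nat.card W = K.relIndex C := rfl
  let π := QuotientGroup.mk' (K.subgroupOf C)
  set B : Subgroup W := (A.subgroupOf C).map π with hB
  have hBp : IsPGroup 2 B := by
    apply IsPGroup.map
    exact hA.comap_of_injective C.subtype C.subtype_injective
  obtain ⟨m, hm⟩ := IsPGroup.iff_card.1 hBp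
  have h3 : Nat.card B ∣ Nat.card W := B.card_subgroup_dvd_card
  have h4 : m ≤ 1 := by
    by_contra hcon
    apply hidx
    rw [← hcard]
    refine dvd_trans ?_ h3
    rw [hm]
    exact pow_dvd_pow 2 (by omega : 2 ≤ m)
  have h5 : Nat.card B ≤ 2 := by
    rw [hm]
    calc 2 ^ m ≤ 2 ^ 1 := Nat.pow_le_pow_right (by norm_num) h4
      _ = 2 := by norm_num
  have hmemB : ∀ x (hx : x ∈ A), π ⟨x, hAC hx⟩ ∈ B := by
    intro x hx
    exact ⟨⟨x, hAC hx⟩, hx, rfl⟩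
  -- two nontrivial elements of `B` are equal
  have h6 : ∀ u ∈ B, ∀ v ∈ B, u ≠ 1 → v ≠ 1 → u = v := by
    intro u hu v hv hu1 hv1
    by_contra hne
    have : Finite B := inferInstance
    have h7 : Nat.card (Fin 3) ≤ Nat.card B := by
      apply Nat.card_le_card_of_injective (fun i : Fin 3 => (![⟨1, B.one_mem⟩, ⟨u, hu⟩, ⟨v, hv⟩] i : B))
      intro i j hij
      fin_cases i <;> fin_cases j <;> simp_all
    rw [Nat.card_eq_fintype_card, Fintype.card_fin] at h7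
    omega
  set a' := π ⟨a, hAC ha⟩ with ha'
  set d' := π ⟨d, hd⟩ with hd'
  have h7 : d' * a' * d'⁻¹ = a' := by
    by_cases ha1 : a' = 1
    · rw [ha1]; group
    · apply h6
      · have := hmemB _ (hdA a ha)
        have e : (⟨d * a * d⁻¹, hAC (hdA a ha)⟩ : C) = ⟨d, hd⟩ * ⟨a, hAC ha⟩ * ⟨d, hd⟩⁻¹ := rfl
        rw [e, map_mul, map_mul, map_inv] at this
        exact this
      · exact hmemB a ha
      · intro h0
        apply ha1
        calc a' = d'⁻¹ * (d' * a' * d'⁻¹) * d' := by group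
          _ = 1 := by rw [h0]; group
      · exact ha1
  have h8 : π (⟨a, hAC ha⟩ * (⟨d, hd⟩ * ⟨a, hAC ha⟩ * ⟨d, hd⟩⁻¹)⁻¹) = 1 := by
    rw [map_mul, map_inv, map_mul, map_mul, map_inv, h7, mul_inv_cancel]
  have h9 := (QuotientGroup.eq_one_iff _).1 h8
  rw [mem_subgroupOf] at h9
  exact h9

/-- The group level data of (I.5). -/
structure CovFrame (K : Subgroup G) (z y : G) : Prop where
  z_ne : z ≠ 1
  z_sq : z * z = 1
  y_ne : y ≠ 1
  y_sq : y * y = 1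
  y_ne_z : y ≠ z
  zK : z ∈ K
  yK : y ∈ K
  Kz : ∀ x ∈ K, x * z = z * x
  norm : ∀ c, c * z = z * c → ∀ x ∈ K, c * x * c⁻¹ ∈ K
  idx : ¬ 4 ∣ K.relIndex (centralizer ({z} : Set G))
  inv : ∀ x ∈ K, x * x = 1 → x ≠ 1 → x ≠ z → ∃ k ∈ K, k * x * k⁻¹ = y
  sqz : ∃ c, c * y = y * c ∧ c * c = z
  quat : ∃ (Q₁ Q₂ : Subgroup G) (d₁ d₂ : G), Oct Q₁ d₁ y ∧ Oct Q₂ d₂ (y * z) ∧
    (∀ a ∈ Q₁, ∀ b ∈ Q₂, a * b = b * a) ∧
    (∀ a ∈ Q₁, a * z = z * a ∧ a * y = y * a) ∧ (∀ a ∈ Q₂, a * z = z * a ∧ a * y = y * a) ∧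
    (d₁ * z = z * d₁ ∧ d₁ * y = y * d₁) ∧ (d₂ * z = z * d₂ ∧ d₂ * y = y * d₂)
  noquat : ∀ (A B : Subgroup G) (a b : G), Oct A a z → Oct B b (y * z) → A ≤ K → B ≤ K →
    (∀ u ∈ A, ∀ v ∈ B, u * v = v * u) → (∀ u ∈ A, u * y = y * u) → (∀ u ∈ B, u * y = y * u) →
    (a * z = z * a ∧ a * y = y * a) → (b * z = z * b ∧ b * y = y * b) → False

namespace CovFrame

variable {K : Subgroup G} {z y : G}

theorem KC (h : CovFrame K z y) : K ≤ centralizer ({z} : Set G) := fun x hx =>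
  mem_centralizer_singleton_iff.2 (h.Kz x hx)

theorem normC (h : CovFrame K z y) : ∀ c ∈ centralizer ({z} : Set G), ∀ x ∈ K, c * x * c⁻¹ ∈ K := fun c hc =>
  h.norm c (mem_centralizer_singleton_iff.1 hc)

theorem sq_mem [Finite G] (h : CovFrame K z y) {w : G} (hw : w * z = z * w) {n : ℕ} (hw2 : w ^ (2 ^ n) = 1) :
    w * w ∈ K := I5.sq_mem h.KC h.normC h.idx (mem_centralizer_singleton_iff.2 hw) hw2

/-- **(I.5)** -/
theorem not_conj [Finite G] (h : CovFrame K z y) : ¬ IsConj y z := by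
  intro hc
  obtain ⟨g, hg⟩ := isConj_iff.1 hc
  obtain ⟨c, hcy, hcc⟩ := h.sqz
  -- `g z g⁻¹ ∈ K`
  have hw1 : (g * c * g⁻¹) * z = z * (g * c * g⁻¹) := by
    rw [← hg]
    calc g * c * g⁻¹ * (g * y * g⁻¹) = g * (c * y) * g⁻¹ := by group
      _ = g * y * g⁻¹ * (g * c * g⁻¹) := by rw [hcy]; group
  have hw2 : (g * c * g⁻¹) * (g * c * g⁻¹) = g * z * g⁻¹ := by rw [← hcc]; group
  have hw4 : (g * c * g⁻¹) ^ (2 ^ 2) = 1 := by
    calc (g * c * g⁻¹) ^ (2 ^ 2) = ((g * c * g⁻¹) * (g * c * g⁻¹)) * ((g * c * g⁻¹) * (g * c * g⁻¹)) := by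
          rw [show 2 ^ 2 = 4 from rfl, pow_succ, pow_succ, pow_two]; group
      _ = g * (z * z) * g⁻¹ := by rw [hw2]; group
      _ = 1 := by rw [h.z_sq]; group
  have h1 : g * z * g⁻¹ ∈ K := by rw [← hw2]; exact h.sq_mem hw1 hw4
  obtain ⟨k, hk, hk1⟩ := h.inv _ h1 (by
      calc g * z * g⁻¹ * (g * z * g⁻¹) = g * (z * z) * g⁻¹ := by group
        _ = 1 := by rw [h.z_sq]; group)
    (by
      intro h0
      apply h.z_ne
      calc z = g⁻¹ * (g * z * g⁻¹) * g := by group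
        _ = 1 := by rw [h0]; group)
    (by
      intro h0
      apply h.y_ne_z
      have : g * z * g⁻¹ = g * y * g⁻¹ := by rw [h0, hg]
      exact (mul_left_cancel (mul_right_cancel this)).symm)
  set t := k * g with ht
  have htz : t * z * t⁻¹ = y := by rw [← hk1, ht]; group
  have hty : t * y * t⁻¹ = z := by
    have hkz := h.Kz k hk
    calc t * y * t⁻¹ = k * (g * y * g⁻¹) * k⁻¹ := by rw [ht]; group
      _ = z := by rw [hg, hkz]; group
  have htyz : t * (y * z) * t⁻¹ = y * z := by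
    have hyz : y * z = z * y := h.Kz y h.yK
    calc t * (y * z) * t⁻¹ = (t * y * t⁻¹) * (t * z * t⁻¹) := by group
      _ = y * z := by rw [htz, hty, hyz]
  obtain ⟨Q₁, Q₂, d₁, d₂, o1, o2, hcomm, hc1, hc2, hd1, hd2⟩ := h.quat
  have o1' := o1.conj t
  have o2' := o2.conj t
  rw [hty] at o1'
  rw [htyz] at o2'
  -- commutation with `z` and `y` of conjugates
  have key : ∀ a, a * z = z * a ∧ a * y = y * a → (t * a * t⁻¹) * z = z * (t * a * t⁻¹) ∧
      (t * a * t⁻¹) * y = y * (t * a * t⁻¹) := by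
    rintro a ⟨ha1, ha2⟩
    constructor
    · rw [← hty]
      calc t * a * t⁻¹ * (t * y * t⁻¹) = t * (a * y) * t⁻¹ := by group
        _ = t * y * t⁻¹ * (t * a * t⁻¹) := by rw [ha2]; group
    · rw [← htz]
      calc t * a * t⁻¹ * (t * z * t⁻¹) = t * (a * z) * t⁻¹ := by group
        _ = t * z * t⁻¹ * (t * a * t⁻¹) := by rw [ha1]; group
  have c1 : ∀ u ∈ cj t Q₁, u * z = z * u ∧ u * y = y * u := by
    rintro _ ⟨a, ha, rfl⟩; exact key a (hc1 a ha)
  have c2 : ∀ u ∈ cj t Q₂, u * z = z * u ∧ u * y = y * u := by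
    rintro _ ⟨a, ha, rfl⟩; exact key a (hc2 a ha)
  have k1 := key d₁ hd1
  have k2 := key d₂ hd2
  have l1 : cj t Q₁ ≤ K := le_of_gen h.KC h.normC h.idx
    (fun u hu => mem_centralizer_singleton_iff.2 (c1 u hu).1) o1'.pgrp
    (mem_centralizer_singleton_iff.2 k1.1) o1'.norm o1'.gen
  have l2 : cj t Q₂ ≤ K := le_of_gen h.KC h.normC h.idx
    (fun u hu => mem_centralizer_singleton_iff.2 (c2 u hu).1) o2'.pgrp
    (mem_centralizer_singleton_iff.2 k2.1) o2'.norm o2'.gen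
  refine h.noquat _ _ _ _ o1' o2' l1 l2 ?_ (fun u hu => (c1 u hu).2) (fun u hu => (c2 u hu).2) k1 k2
  rintro _ ⟨a, ha, rfl⟩ _ ⟨b, hb, rfl⟩
  show t * a * t⁻¹ * (t * b * t⁻¹) = t * b * t⁻¹ * (t * a * t⁻¹)
  calc t * a * t⁻¹ * (t * b * t⁻¹) = t * (a * b) * t⁻¹ := by group
    _ = t * b * t⁻¹ * (t * a * t⁻¹) := by rw [hcomm a ha b hb]; group

/-- No conjugate of `z` other than `z` is in `K`. -/
theorem eq_of_conj_mem [Finite G] (h : CovFrame K z y) {e : G} (he : IsConj z e) (heK : e ∈ K) : e = z := by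
  by_contra hne
  obtain ⟨g, hg⟩ := isConj_iff.1 he
  have he2 : e * e = 1 := by
    rw [← hg]
    calc g * z * g⁻¹ * (g * z * g⁻¹) = g * (z * z) * g⁻¹ := by group
      _ = 1 := by rw [h.z_sq]; group
  have he1 : e ≠ 1 := by
    intro h0
    apply h.z_ne
    calc z = g⁻¹ * (g * z * g⁻¹) * g := by group
      _ = 1 := by rw [hg, h0]; group
  obtain ⟨k, -, hk⟩ := h.inv e heK he2 he1 hne
  exact h.not_conj ((he.trans (isConj_iff.2 ⟨k, hk⟩)).symm)

/-- type I -/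
def TypeI (z e : G) : Prop := ∃ w, w * e = e * w ∧ w * w = z

/-- type II -/
def TypeII (K : Subgroup G) (e : G) : Prop := ∃ (j v d : G) (V : Subgroup G), j * e * j⁻¹ = e * v ∧
  v ∈ V ∧ v ∈ K ∧ v ≠ 1 ∧ v * v = 1 ∧ IsPGroup 2 V ∧ (∀ a ∈ V, a * e = e * a) ∧ d * e = e * d ∧
  (∀ a ∈ V, d * a * d⁻¹ ∈ V) ∧ ∀ B : Subgroup G, (∀ a ∈ V, a * (d * a * d⁻¹)⁻¹ ∈ B) → V ≤ B

theorem not_typeI [Finite G] (h : CovFrame K z y) {e : G} (he : IsConj z e) (hez : e * z = z * e) (hne : e ≠ z) :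
    ¬ TypeI z e := by
  rintro ⟨w, hwe, hww⟩
  obtain ⟨g, hg⟩ := isConj_iff.1 he.symm
  -- `g e g⁻¹ = z`
  have h1 : (g * w * g⁻¹) * z = z * (g * w * g⁻¹) := by
    rw [← hg]
    calc g * w * g⁻¹ * (g * e * g⁻¹) = g * (w * e) * g⁻¹ := by group
      _ = g * e * g⁻¹ * (g * w * g⁻¹) := by rw [hwe]; group
  have h2 : (g * w * g⁻¹) * (g * w * g⁻¹) = g * z * g⁻¹ := by rw [← hww]; group
  have h4 : (g * w * g⁻¹) ^ (2 ^ 2) = 1 := by
    calc (g * w * g⁻¹) ^ (2 ^ 2) = ((g * w * g⁻¹) * (g * w * g⁻¹)) * ((g * w * g⁻¹) * (g * w * g⁻¹)) := by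
          rw [show 2 ^ 2 = 4 from rfl, pow_succ, pow_succ, pow_two]; group
      _ = g * (z * z) * g⁻¹ := by rw [h2]; group
      _ = 1 := by rw [h.z_sq]; group
  have h5 : g * z * g⁻¹ ∈ K := by rw [← h2]; exact h.sq_mem h1 h4
  have h6 := h.eq_of_conj_mem (isConj_iff.2 ⟨g, rfl⟩) h5
  apply hne
  have : g * z * g⁻¹ = g * e * g⁻¹ := by rw [h6, hg]
  exact (mul_left_cancel (mul_right_cancel this)).symm

theorem not_typeII [Finite G] (h : CovFrame K z y) {e : G} (he : IsConj z e) (hez : e * z = z * e) (heK : e ∉ K) :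
    ¬ TypeII K e := by
  rintro ⟨j, v, d, V, hj, hvV, hvK, hv1, hvv, hVp, hVe, hde, hdV, hgen⟩
  obtain ⟨g, hg⟩ := isConj_iff.1 he.symm
  have key : ∀ a, a * e = e * a → (g * a * g⁻¹) * z = z * (g * a * g⁻¹) := by
    intro a ha
    rw [← hg]
    calc g * a * g⁻¹ * (g * e * g⁻¹) = g * (a * e) * g⁻¹ := by group
      _ = g * e * g⁻¹ * (g * a * g⁻¹) := by rw [ha]; group
  have h1 : cj g V ≤ K := by
    refine le_of_gen (d := g * d * g⁻¹) h.KC h.normC h.idx ?_ (hVp.map _)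
      (mem_centralizer_singleton_iff.2 (key d hde)) ?_ ?_
    · rintro _ ⟨a, ha, rfl⟩
      exact mem_centralizer_singleton_iff.2 (key a (hVe a ha))
    · intro a ha
      rw [mem_cj] at ha ⊢
      have := hdV _ ha
      have e1 : g⁻¹ * (g * d * g⁻¹ * a * (g * d * g⁻¹)⁻¹) * g = d * (g⁻¹ * a * g) * d⁻¹ := by group
      rwa [e1]
    · intro B hB
      have h1 : V ≤ B.comap (MulAut.conj g).toMonoidHom := by
        apply hgen
        intro a ha
        rw [mem_comap]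
        have := hB _ (conj_mem_cj (g := g) ha)
        have e1 : (MulAut.conj g).toMonoidHom (a * (d * a * d⁻¹)⁻¹) =
            g * a * g⁻¹ * (g * d * g⁻¹ * (g * a * g⁻¹) * (g * d * g⁻¹)⁻¹)⁻¹ := by
          show g * (a * (d * a * d⁻¹)⁻¹) * g⁻¹ = _
          group
        rwa [e1]
      rintro _ ⟨a, ha, rfl⟩
      exact h1 ha
  have hv' : g * v * g⁻¹ ∈ K := h1 (conj_mem_cj hvV)
  have hve := hVe v hvV
  -- `z (g v g⁻¹)` is an involution of `K`, not `z`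
  have h2 : z * (g * v * g⁻¹) = g * (e * v) * g⁻¹ := by rw [← hg]; group
  have h3 : z * (g * v * g⁻¹) ∈ K := K.mul_mem h.zK hv'
  obtain ⟨k, -, hk⟩ := h.inv _ h3 (by
      rw [h2]
      have hee : e * e = 1 := by
        obtain ⟨g', hg'⟩ := isConj_iff.1 he
        rw [← hg']
        calc g' * z * g'⁻¹ * (g' * z * g'⁻¹) = g' * (z * z) * g'⁻¹ := by group
          _ = 1 := by rw [h.z_sq]; group
      calc g * (e * v) * g⁻¹ * (g * (e * v) * g⁻¹) = g * (e * (v * e) * v) * g⁻¹ := by group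
        _ = g * ((e * e) * (v * v)) * g⁻¹ := by rw [hve]; group
        _ = 1 := by rw [hee, hvv]; group)
    (by
      intro h0
      have h4 : e * v = 1 := by
        calc e * v = g⁻¹ * (g * (e * v) * g⁻¹) * g := by group
          _ = 1 := by rw [← h2, h0]; group
      apply heK
      have : e = v⁻¹ := eq_inv_of_mul_eq_one_left h4
      rw [this]
      exact K.inv_mem hvK)
    (by
      intro h0
      apply hv1
      have h4 : g * v * g⁻¹ = 1 := mul_eq_left.1 h0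
      calc v = g⁻¹ * (g * v * g⁻¹) * g := by group
        _ = 1 := by rw [h4]; group)
  apply h.not_conj
  have c1 : IsConj z (e * v) := he.trans (isConj_iff.2 ⟨j, hj⟩)
  have c2 : IsConj (e * v) (z * (g * v * g⁻¹)) := isConj_iff.2 ⟨g, h2.symm⟩
  exact ((c1.trans c2).trans (isConj_iff.2 ⟨k, hk⟩)).symm

/-- **(I.6)** Some conjugate of `z` in `C(z)` outside `K` is of type III. -/
theorem exists_typeIII [Finite G] [IsSimpleGroup G] (hG : ¬ IsMulCommutative G) (h : CovFrame K z y)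
    {TypeIII : G → Prop} (tri : ∀ e, e * e = 1 → e * z = z * e → e ∉ K → TypeI z e ∨ TypeII K e ∨ TypeIII e) :
    ∃ e, IsConj z e ∧ e * z = z * e ∧ e ∉ K ∧ TypeIII e := by
  have hzo : orderOf z = 2 := orderOf_eq_prime (by rw [pow_two]; exact h.z_sq) h.z_ne
  obtain ⟨g, hg1, hg2⟩ := ClassificationK.SymplFront.exists_commuting hG hzo
  have he : IsConj z (g * z * g⁻¹) := isConj_iff.2 ⟨g, rfl⟩
  have heK : g * z * g⁻¹ ∉ K := fun hK => hg1 (h.eq_of_conj_mem he hK)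
  refine ⟨g * z * g⁻¹, he, hg2, heK, ?_⟩
  rcases tri _ (by
      calc g * z * g⁻¹ * (g * z * g⁻¹) = g * (z * z) * g⁻¹ := by group
        _ = 1 := by rw [h.z_sq]; group) hg2 heK with h1 | h1 | h1
  · exact absurd h1 (h.not_typeI he hg2 hg1)
  · exact absurd h1 (h.not_typeII he hg2 heK)
  · exact h1

end CovFrame

end Cfsg.Agent.GH.Cov.I5
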