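import Mathlib
import Cfsg.Agent.GH.Extra
import Cfsg.Agent.GH.L2Frame
import Cfsg.Agent.GH.Cov.LieData

/-!
# GH-COV (P5): the automorphisms induced by `C(z)`

`K` a 2-component of `H ≤ N(K)` (`H = C(z)`), `e : STop K ≃* L`, `D : Core L`.

* `rho e : N(K) →* MulAut L`, the action on `L`;
* `five_of_aut`: the five elements `i₁ j₁ i₂ j₂ a`, `a` an outer involution of `L⟨a⟩` centralising two `Q₈`;
* `not_bad`: no automorphism induced by `H` is `Bad` (2-elements of `H` fixing `K` being in `K`);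
* `idx`: `Data.out` gives `¬ 4 ∣ K.relIndex H`.
-/

set_option autoImplicit false

open Cfsg Subgroup
open Cfsg.Agent.Intrinsic.Basic Cfsg.Agent.GH.Defs Cfsg.Agent.GH.Comp Cfsg.Agent.GH.L2Frame
open Cfsg.Agent.GH.Cov.LieData

namespace Cfsg.Agent.GH.Cov.IdxFive

section abs

variable {H L : Type*} [Group H] [Group L]

theorem Trip.comm_i {t i j d : L} (h : Trip t i j d) : i * t = t * i := by rw [← h.ii, mul_assoc]

theorem Trip.comm_j {t i j d : L} (h : Trip t i j d) : j * t = t * j := by rw [← h.jj, mul_assoc]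

/-- **The five elements.** -/
theorem five_of_aut [Finite H] (h4 : SectionalPRankLE 2 4 H) (D : Core L) (f : L →* H)
    (hf : Function.Injective f) {a : H} (haa : a * a = 1) (c1 : f D.i₁ * a = a * f D.i₁)
    (c2 : f D.j₁ * a = a * f D.j₁) (c3 : f D.i₂ * a = a * f D.i₂) (c4 : f D.j₂ * a = a * f D.j₂)
    (hne : a ∉ f.range) : False := by
  have ji : ∀ {i j d : L}, Trip D.t i j d → i * j = j * i * D.t := by
    intro i j d h
    rw [h.ji]
    have h1 := Trip.comm_i h
    have h2 := Trip.comm_j h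
    calc i * j = (D.t * D.t) * (i * j) := by rw [D.tt, one_mul]
      _ = D.t * (D.t * i * j) := by group
      _ = D.t * (i * (D.t * j)) := by rw [← h1]; group
      _ = D.t * (i * j) * D.t := by rw [← h2]; group
  have hta : f D.t * a = a * f D.t := by
    rw [← D.trip₁.ii, map_mul]
    calc f D.i₁ * f D.i₁ * a = f D.i₁ * (f D.i₁ * a) := mul_assoc _ _ _
      _ = (f D.i₁ * a) * f D.i₁ := by rw [c1, ← mul_assoc, c1]
      _ = a * (f D.i₁ * f D.i₁) := by rw [c1, mul_assoc]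
  refine Extra.five h4 (x := f D.i₁) (y := f D.j₁) (u := f D.i₂) (v := f D.j₂) (z := a) (t := f D.t)
    ?_ ?_ ?_ ?_ ?_ ?_ ?_ ?_ ?_ ?_ ?_ ?_ ?_ ?_ ?_ ?_ ?_ ?_ c1 c2 c3 c4 ?_ ?_
  · rw [← map_mul, D.tt, map_one]
  · intro h0; exact D.t_ne (hf (by rw [h0, map_one]))
  · rw [← map_mul, Trip.comm_i D.trip₁, map_mul]
  · rw [← map_mul, Trip.comm_j D.trip₁, map_mul]
  · rw [← map_mul, Trip.comm_i D.trip₂, map_mul]
  · rw [← map_mul, Trip.comm_j D.trip₂, map_mul]
  · exact hta.symm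
  · right; rw [← map_mul, D.trip₁.ii]
  · right; rw [← map_mul, D.trip₁.jj]
  · right; rw [← map_mul, D.trip₂.ii]
  · right; rw [← map_mul, D.trip₂.jj]
  · left; exact haa
  · rw [← map_mul, ji D.trip₁, map_mul, map_mul]
  · rw [← map_mul, ji D.trip₂, map_mul, map_mul]
  · rw [← map_mul, D.comm _ D.i₁_mem _ D.i₂_mem, map_mul]
  · rw [← map_mul, D.comm _ D.i₁_mem _ D.j₂_mem, map_mul]
  · rw [← map_mul, D.comm _ D.j₁_mem _ D.i₂_mem, map_mul]
  · rw [← map_mul, D.comm _ D.j₁_mem _ D.j₂_mem, map_mul]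
  · rintro rfl; exact hne (one_mem _)
  · rintro rfl; exact hne ⟨_, rfl⟩

end abs

section frame

variable {G L : Type*} [Group G] [Group L] {K : Subgroup G}

/-- The action of the normaliser of `K` on `L ≅ STop K`. -/
def rho (e : STop K ≃* L) : normalizer (K : Set G) →* MulAut L :=
  (MulAut.congr e).toMonoidHom.comp (act K)

theorem rho_apply (e : STop K ≃* L) (a : normalizer (K : Set G)) (x : L) :
    rho e a x = e (act K a (e.symm x)) := rfl

theorem rho_topMap (e : STop K ≃* L) {a : G} (ha : a ∈ normalizer (K : Set G)) (k : K) :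
    rho e ⟨a, ha⟩ (e (topMap K k)) = e (topMap K ⟨a * k * a⁻¹, L2Frame.conj_mem ha k.2⟩) := by
  rw [rho_apply, e.symm_apply_apply, act_apply]

/-- Elements of `K` act as inner automorphisms. -/
theorem rho_of_mem (e : STop K ≃* L) (k : K) : rho e ⟨k, le_normalizer k.2⟩ = MulAut.conj (e (topMap K k)) := by
  ext x
  rw [rho_apply, act_of_mem, MulAut.conj_apply, MulAut.conj_apply, map_mul, map_mul, map_inv,
    e.apply_symm_apply]

theorem rho_eq_one_iff [Finite G] {H : Subgroup G} (hK : IsComp H K) (e : STop K ≃* L) {a : G}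
    (ha : a ∈ normalizer (K : Set G)) : rho e ⟨a, ha⟩ = 1 ↔ Fixes a K := by
  rw [← act_eq_one_iff (quasisimple hK) ha]
  constructor
  · intro h
    apply (MulAut.congr e).injective
    rw [map_one]
    exact h
  · intro h
    show (MulAut.congr e) (act K ⟨a, ha⟩) = 1
    rw [h, map_one]

/-- The quotient of `N(K)` by the kernel of `K → STop K`. -/
def kerN (K : Subgroup G) : Subgroup (normalizer (K : Set G)) :=
  (topMap K).ker.map (inclusion (le_normalizer (H := K)))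

theorem mem_kerN {a : G} (ha : a ∈ normalizer (K : Set G)) :
    (⟨a, ha⟩ : normalizer (K : Set G)) ∈ kerN K ↔ ∃ h : a ∈ K, topMap K ⟨a, h⟩ = 1 := by
  constructor
  · rintro ⟨k, hk, hka⟩
    have e1 : (k : G) = a := congrArg Subtype.val hka
    subst e1
    exact ⟨k.2, hk⟩
  · rintro ⟨h1, h2⟩
    exact ⟨⟨a, h1⟩, h2, rfl⟩

instance : (kerN K).Normal := by
  constructor
  rintro ⟨n, hn⟩ hmem ⟨g, hg⟩
  obtain ⟨h1, h2⟩ := (mem_kerN hn).1 hmem
  refine (mem_kerN (mul_mem (mul_mem hg hn) (inv_mem hg))).2 ⟨L2Frame.conj_mem hg h1, ?_⟩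
  have := act_apply hg ⟨n, h1⟩
  rw [h2, map_one] at this
  exact this.symm

/-- `STop K` in `N(K) / ker`. -/
noncomputable def topN (K : Subgroup G) : STop K →* (normalizer (K : Set G)) ⧸ kerN K :=
  (topMap K).liftOfSurjective (topMap_surjective K)
    ⟨(QuotientGroup.mk' (kerN K)).comp (inclusion (le_normalizer (H := K))), by
      intro k hk
      rw [MonoidHom.mem_ker]
      exact (QuotientGroup.eq_one_iff _).2 ⟨k, hk, rfl⟩⟩

theorem topN_topMap (k : K) : topN K (topMap K k) = QuotientGroup.mk ⟨(k : G), le_normalizer k.2⟩ := by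
  unfold topN
  exact MonoidHom.liftOfRightInverse_comp_apply _ _ _ _ _

theorem topN_injective : Function.Injective (topN K) := by
  rw [← MonoidHom.ker_eq_bot_iff, eq_bot_iff]
  intro s hs
  obtain ⟨k, rfl⟩ := topMap_surjective K s
  rw [MonoidHom.mem_ker, topN_topMap, QuotientGroup.eq_one_iff, mem_kerN] at hs
  obtain ⟨_, h⟩ := hs
  exact mem_bot.2 h

theorem mk_mul_topN {a : G} (ha : a ∈ normalizer (K : Set G)) (s : STop K) :
    (QuotientGroup.mk ⟨a, ha⟩ : normalizer (K : Set G) ⧸ kerN K) * topN K s =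
      topN K (act K ⟨a, ha⟩ s) * QuotientGroup.mk ⟨a, ha⟩ := by
  obtain ⟨k, rfl⟩ := topMap_surjective K s
  rw [act_apply, topN_topMap, topN_topMap, ← QuotientGroup.mk_mul, ← QuotientGroup.mk_mul]
  congr 1
  apply Subtype.ext
  show a * (k : G) = a * k * a⁻¹ * a
  group

variable [Finite G]

/-- An element `g` of `N(K)` with `g² ∈ K` does not induce a bad automorphism. -/
theorem not_bad_of_sq (h4 : SectionalPRankLE 2 4 G) {H : Subgroup G} (hK : IsComp H K) (e : STop K ≃* L)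
    (D : Core L) {g : G} (hg : g ∈ normalizer (K : Set G)) (hgg : g * g ∈ K) : ¬ Bad D (rho e ⟨g, hg⟩) := by
  rintro ⟨h1, h2, χ, b1, b2, -, b3, b4, -⟩
  set f : L →* (normalizer (K : Set G)) ⧸ kerN K :=
    (topN K).comp ((e.symm : L ≃* STop K).toMonoidHom.comp χ.toMonoidHom) with hf
  have hfa : ∀ x, f x = topN K (e.symm (χ x)) := fun x => rfl
  have hfi : Function.Injective f := topN_injective.comp (e.symm.injective.comp χ.injective)
  set a : normalizer (K : Set G) ⧸ kerN K := QuotientGroup.mk ⟨g, hg⟩ with ha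
  have hc : ∀ x, rho e ⟨g, hg⟩ (χ x) = χ x → f x * a = a * f x := by
    intro x hx
    rw [hfa, ha, mk_mul_topN]
    have : act K ⟨g, hg⟩ (e.symm (χ x)) = e.symm (χ x) := by
      apply e.injective
      rw [← rho_apply, hx, e.apply_symm_apply]
    rw [this]
  have h4' : SectionalPRankLE 2 4 (normalizer (K : Set G) ⧸ kerN K) :=
    Rank.of_quotient (Rank.of_subgroup h4 _) _
  refine five_of_aut h4' D f hfi (a := a) ?_ (hc _ b1) (hc _ b2) (hc _ b3) (hc _ b4) ?_
  · rw [ha, ← QuotientGroup.mk_mul, QuotientGroup.eq_one_iff]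
    refine (mem_kerN (mul_mem hg hg)).2 ⟨hgg, ?_⟩
    have h5 : rho e ⟨g * g, le_normalizer hgg⟩ = 1 := by
      rw [← h1, ← map_mul]
      rfl
    have h6 := rho_of_mem e ⟨g * g, hgg⟩
    rw [h5] at h6
    have h7 : MulAut.conj (topMap K ⟨g * g, hgg⟩) = 1 := by
      ext x
      have := DFunLike.congr_fun h6 (e x)
      rw [MulAut.conj_apply, ← map_mul, ← map_inv, ← map_mul] at this
      exact (e.injective this).symm
    exact conj_injective hK (by rw [h7, map_one])
  · rintro ⟨x, hx⟩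
    obtain ⟨k, hk⟩ := topMap_surjective K (e.symm (χ x))
    rw [hfa, ← hk, topN_topMap, ha, QuotientGroup.eq] at hx
    obtain ⟨h5, -⟩ := (mem_kerN _).1 hx
    have h6 : g ∈ K := by
      have h7 : (k : G)⁻¹ * g ∈ K := h5
      have h8 := K.mul_mem k.2 h7
      rwa [mul_inv_cancel_left] at h8
    apply h2
    exact ⟨e (topMap K ⟨g, h6⟩), (rho_of_mem e ⟨g, h6⟩).symm⟩

theorem exists_odd_mul (g : G) : ∃ m n : ℕ, Odd m ∧ (g ^ m) ^ 2 ^ n = 1 := by
  obtain ⟨k, r, hr, hkr⟩ := Nat.exists_eq_two_pow_mul_odd (orderOf_pos g).ne'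
  refine ⟨r, k, hr, ?_⟩
  rw [← pow_mul, mul_comm, ← hkr, pow_orderOf_eq_one]

variable {H : Subgroup G}

/-- **(I.4)** No bad automorphism is induced by `H`. -/
theorem not_bad (h4 : SectionalPRankLE 2 4 G) (hK : IsComp H K) (hN : H ≤ normalizer (K : Set G))
    (hfix : ∀ g ∈ H, ∀ n : ℕ, g ^ 2 ^ n = 1 → Fixes g K → g ∈ K) (e : STop K ≃* L) (D : Core L) {g : G}
    (hg : g ∈ H) : ¬ Bad D (rho e ⟨g, hN hg⟩) := by
  intro hb
  obtain ⟨m, n, ⟨l, hl⟩, hmn⟩ := exists_odd_mul g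
  have hgm : g ^ m ∈ H := pow_mem hg m
  have h1 : rho e ⟨g ^ m, hN hgm⟩ = rho e ⟨g, hN hg⟩ := by
    have e1 : (⟨g ^ m, hN hgm⟩ : normalizer (K : Set G)) = ⟨g, hN hg⟩ ^ m := rfl
    have h2 : rho e ⟨g, hN hg⟩ * rho e ⟨g, hN hg⟩ = 1 := hb.1
    rw [e1, map_pow, hl, pow_succ, pow_mul, pow_two, h2, one_pow, one_mul]
  rw [← h1] at hb
  refine not_bad_of_sq h4 hK e D (hN hgm) ?_ hb
  refine hfix _ (mul_mem hgm hgm) n ?_ ?_
  · rw [← pow_two, ← pow_mul, mul_comm, pow_mul, hmn, one_pow]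
  · rw [← rho_eq_one_iff hK e (hN (mul_mem hgm hgm)), ← hb.1, ← map_mul]
    rfl

/-- **The index.** -/
theorem idx (h4 : SectionalPRankLE 2 4 G) (hK : IsComp H K) (hN : H ≤ normalizer (K : Set G))
    (hfix : ∀ g ∈ H, ∀ n : ℕ, g ^ 2 ^ n = 1 → Fixes g K → g ∈ K) (e : STop K ≃* L) (D : Data L) :
    ¬ 4 ∣ K.relIndex H := by
  classical
  set r : H →* MulAut L := (rho e).comp (inclusion hN) with hr
  have hrm : ∀ k (hk : k ∈ K), r ⟨k, hK.le hk⟩ = MulAut.conj (e (topMap K ⟨k, hk⟩)) := fun k hk =>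
    rho_of_mem e ⟨k, hk⟩
  have hInn : (MulAut.conj : L →* MulAut L).range ≤ r.range := by
    rintro _ ⟨l, rfl⟩
    obtain ⟨k, hk⟩ := topMap_surjective K (e.symm l)
    refine ⟨⟨k, hK.le k.2⟩, ?_⟩
    rw [hrm k k.2]
    have : e (topMap K ⟨(k : G), k.2⟩) = l := by
      rw [show (⟨(k : G), k.2⟩ : K) = k from rfl, hk, e.apply_symm_apply]
    rw [this]
  have hout := D.out r.range hInn (by
    rintro _ ⟨⟨g, hg⟩, rfl⟩
    exact not_bad h4 hK hN hfix e D.toCore hg)
  set W : Subgroup H := (MulAut.conj : L →* MulAut L).range.comap r with hW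
  have hWi : W.index = (MulAut.conj : L →* MulAut L).range.relIndex r.range := by
    rw [← relIndex_top_right, hW, relIndex_comap, ← MonoidHom.range_eq_map]
  set K' : Subgroup H := K.subgroupOf H with hK'
  have hK'n : K'.Normal := normal_subgroupOf_of_le_normalizer hN
  have hK'W : K' ≤ W := by
    rintro ⟨k, hk⟩ hkK
    exact ⟨_, (hrm k hkK).symm⟩
  have key : ∀ w ∈ W, ∃ m, Odd m ∧ w ^ m ∈ K' := by
    rintro w ⟨l, hl⟩
    obtain ⟨k, hk⟩ := topMap_surjective K (e.symm l)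
    set k' : H := ⟨k, hK.le k.2⟩ with hk'
    have hrk : r k' = r w := by
      rw [hk', hrm k k.2, ← hl]
      have : e (topMap K ⟨(k : G), k.2⟩) = l := by
        rw [show (⟨(k : G), k.2⟩ : K) = k from rfl, hk, e.apply_symm_apply]
      rw [this]
    set f : H := w * k'⁻¹ with hf
    have hrf : r f = 1 := by rw [hf, map_mul, map_inv, hrk, mul_inv_cancel]
    obtain ⟨m, n, hm, hmn⟩ := exists_odd_mul (f : G)
    refine ⟨m, hm, ?_⟩
    have h1 : (f : G) ^ m ∈ K := by
      refine hfix _ (pow_mem f.2 m) n hmn ?_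
      rw [← rho_eq_one_iff hK e (hN (pow_mem f.2 m))]
      have e1 : rho e ⟨(f : G) ^ m, hN (pow_mem f.2 m)⟩ = r (f ^ m) := rfl
      rw [e1, map_pow, hrf, one_pow]
    have h2 : (QuotientGroup.mk w : H ⧸ K') = QuotientGroup.mk f := by
      rw [QuotientGroup.eq]
      have e1 : w⁻¹ * f = k'⁻¹ := by rw [hf]; group
      rw [e1]
      exact inv_mem (show k' ∈ K' from k.2)
    rw [← QuotientGroup.eq_one_iff, QuotientGroup.mk_pow, h2, ← QuotientGroup.mk_pow,
      QuotientGroup.eq_one_iff]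
    exact h1
  have hodd : ¬ 2 ∣ K'.relIndex W := by
    intro h2
    have : Fact (Nat.Prime 2) := ⟨Nat.prime_two⟩
    have hn2 : (K'.subgroupOf W).Normal := inferInstance
    have h3 : 2 ∣ Nat.card (W ⧸ K'.subgroupOf W) := h2
    obtain ⟨x, hx⟩ := exists_prime_orderOf_dvd_card' 2 h3
    obtain ⟨w, rfl⟩ := QuotientGroup.mk_surjective x
    obtain ⟨m, hm, hwm⟩ := key w w.2
    have h4 : (QuotientGroup.mk w : W ⧸ K'.subgroupOf W) ^ m = 1 := by
      rw [← QuotientGroup.mk_pow, QuotientGroup.eq_one_iff, mem_subgroupOf]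
      exact hwm
    have h5 := orderOf_dvd_of_pow_eq_one h4
    rw [hx] at h5
    exact hm.not_two_dvd_nat h5
  intro h5
  apply hout
  rw [← hWi]
  have h6 : K.relIndex H = K'.relIndex W * W.index := (relIndex_mul_index hK'W).symm
  rw [h6] at h5
  refine Nat.Coprime.dvd_of_dvd_mul_left ?_ h5
  rw [show (4 : ℕ) = 2 ^ 2 by norm_num]
  apply Nat.Coprime.pow_left
  rwa [Nat.Prime.coprime_iff_not_dvd Nat.prime_two]

end frame

end Cfsg.Agent.GH.Cov.IdxFive
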