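import Mathlib
import Cfsg.Agent.GH.Extra
import Cfsg.Agent.GH.Rank
import Cfsg.Agent.GH.Cov.Lft
import Cfsg.Agent.GH.Cov.I5

/-!
# GH-COV: from the simple group `L` to the central extension `X` (step (I.1) of `blueprints/GH-COV.md`)

`D : Core L`, `π : X →* L` a central extension by a nontrivial 2-group, `X` of sectional 2-rank at most 4.
`XCore D π`: the lifts of the two `SL₂(3)`'s.  `ker_iff`: the kernel is `{1, z₁ z₂}`.
-/

set_option autoImplicit false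

open Subgroup Cfsg

namespace Cfsg.Agent.GH.Cov.XOfCore

open Cfsg.Agent.GH.Cov.LieData Cfsg.Agent.GH.Cov.Lft Cfsg.Agent.GH.Cov.I5

variable {X L : Type*} [Group X] [Group L]

/-- `π` is injective on the odd lifts of `A₁` and `A₂` (output of `QuatLift`). -/
structure Inj (D : Core L) (π : X →* L) : Prop where
  one : ∀ x ∈ Lft π D.A₁, π x = 1 → x = 1
  two : ∀ x ∈ Lft π D.A₂, π x = 1 → x = 1

section eq

variable {D : Core L} {π : X →* L}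

theorem Inj.eq₁ (h : Inj D π) {x y : X} (hx : x ∈ Lft π D.A₁) (hy : y ∈ Lft π D.A₁) (e : π x = π y) :
    x = y := by
  have := h.one (x * y⁻¹) (mul_mem hx (inv_mem hy)) (by rw [map_mul, map_inv, e, mul_inv_cancel])
  exact mul_inv_eq_one.mp this

theorem Inj.eq₂ (h : Inj D π) {x y : X} (hx : x ∈ Lft π D.A₂) (hy : y ∈ Lft π D.A₂) (e : π x = π y) :
    x = y := by
  have := h.two (x * y⁻¹) (mul_mem hx (inv_mem hy)) (by rw [map_mul, map_inv, e, mul_inv_cancel])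
  exact mul_inv_eq_one.mp this

end eq

theorem Trip.comm_i {t i j d : L} (h : Trip t i j d) : i * t = t * i := by
  rw [← h.ii, mul_assoc]

theorem Trip.comm_j {t i j d : L} (h : Trip t i j d) : j * t = t * j := by
  rw [← h.jj, mul_assoc]

theorem Trip.comm_d {t i j d : L} (h : Trip t i j d) : d * t = t * d := by
  have h1 : d * t * d⁻¹ = t := by
    calc d * t * d⁻¹ = (d * i * d⁻¹) * (d * i * d⁻¹) := by rw [← h.ii]; group
      _ = t := by rw [h.di, h.jj]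
  exact mul_inv_eq_iff_eq_mul.mp h1

/-- The lifts to `X` of the two `SL₂(3)`'s. -/
structure XCore (D : Core L) (π : X →* L) where
  (z₁ z₂ I₁ J₁ E₁ I₂ J₂ E₂ : X)
  trip₁ : Trip z₁ I₁ J₁ E₁
  trip₂ : Trip z₂ I₂ J₂ E₂
  π_z₁ : π z₁ = D.t
  π_z₂ : π z₂ = D.t
  π_I₁ : π I₁ = D.i₁
  π_J₁ : π J₁ = D.j₁
  π_E₁ : π E₁ = D.d₁
  π_I₂ : π I₂ = D.i₂
  π_J₂ : π J₂ = D.j₂
  π_E₂ : π E₂ = D.d₂
  z₁_mem : z₁ ∈ Lft π D.A₁
  I₁_mem : I₁ ∈ Lft π D.A₁
  J₁_mem : J₁ ∈ Lft π D.A₁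
  E₁_mem : E₁ ∈ Lft π D.A₁
  z₂_mem : z₂ ∈ Lft π D.A₂
  I₂_mem : I₂ ∈ Lft π D.A₂
  J₂_mem : J₂ ∈ Lft π D.A₂
  E₂_mem : E₂ ∈ Lft π D.A₂
  sq₁ : z₁ * z₁ = 1
  sq₂ : z₂ * z₂ = 1
  odd₁ : Odd (orderOf E₁)
  odd₂ : Odd (orderOf E₂)

variable {D : Core L} {π : X →* L}

theorem odd_of_cube {G : Type*} [Group G] {d : G} (h : d * d * d = 1) : Odd (orderOf d) := by
  have h1 : orderOf d ∣ 3 := orderOf_dvd_of_pow_eq_one (by rw [pow_succ, pow_two]; exact h)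
  rcases (Nat.dvd_prime Nat.prime_three).mp h1 with h2 | h2 <;> rw [h2] <;> decide

theorem exists_trip {B : Subgroup L} (h : CExt π) (hB : B ≤ closure {a : L | a ∈ B ∧ Odd (orderOf a)})
    (hi : ∀ x ∈ Lft π B, ∀ y ∈ Lft π B, π x = π y → x = y) {t i j d : L} (ht : Trip t i j d)
    (htt : t * t = 1) (hi' : i ∈ B) (hj : j ∈ B) (hd : d ∈ B) :
    ∃ z I J E : X, Trip z I J E ∧ π z = t ∧ π I = i ∧ π J = j ∧ π E = d ∧ z ∈ Lft π B ∧ I ∈ Lft π B ∧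
      J ∈ Lft π B ∧ E ∈ Lft π B ∧ z * z = 1 ∧ Odd (orderOf E) := by
  obtain ⟨I, hI, hIi⟩ := h.exists_mem hB hi'
  obtain ⟨J, hJ, hJj⟩ := h.exists_mem hB hj
  obtain ⟨E, hE, hEd⟩ := h.exists_mem hB hd
  have hII := mul_mem hI hI
  have hz : π (I * I) = t := by rw [map_mul, hIi, ht.ii]
  have ht3 : Trip (I * I) I J E := by
    refine ⟨rfl, ?_, ?_, ?_, ?_, ?_⟩
    · exact hi _ (mul_mem hJ hJ) _ hII (by rw [map_mul, hJj, ht.jj, hz])
    · exact hi _ (mul_mem hJ hI) _ (mul_mem hII (mul_mem hI hJ)) (by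
        rw [map_mul, map_mul, hz, map_mul, hJj, hIi, ht.ji])
    · exact hi _ (mul_mem (mul_mem hE hE) hE) _ (one_mem _) (by
        rw [map_mul, map_mul, hEd, ht.d3, map_one])
    · exact hi _ (mul_mem (mul_mem hE hI) (inv_mem hE)) _ hJ (by
        rw [map_mul, map_mul, map_inv, hEd, hIi, hJj, ht.di])
    · exact hi _ (mul_mem (mul_mem hE hJ) (inv_mem hE)) _ (mul_mem hI hJ) (by
        rw [map_mul, map_mul, map_inv, hEd, hJj, map_mul, hIi, hJj, ht.dj])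
  refine ⟨I * I, I, J, E, ht3, hz, hIi, hJj, hEd, hII, hI, hJ, hE, ?_, odd_of_cube ht3.d3⟩
  exact hi _ (mul_mem hII hII) _ (one_mem _) (by rw [map_mul, hz, htt, map_one])

theorem exists_xcore (h : CExt π) (hi : Inj D π) : Nonempty (XCore D π) := by
  obtain ⟨z₁, I₁, J₁, E₁, a1, a2, a3, a4, a5, a6, a7, a8, a9, a10, a11⟩ :=
    exists_trip h D.gen₁ (fun x hx y hy e => hi.eq₁ hx hy e) D.trip₁ D.tt D.i₁_mem D.j₁_mem D.d₁_mem
  obtain ⟨z₂, I₂, J₂, E₂, b1, b2, b3, b4, b5, b6, b7, b8, b9, b10, b11⟩ :=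
    exists_trip h D.gen₂ (fun x hx y hy e => hi.eq₂ hx hy e) D.trip₂ D.tt D.i₂_mem D.j₂_mem D.d₂_mem
  exact ⟨⟨z₁, z₂, I₁, J₁, E₁, I₂, J₂, E₂, a1, b1, a2, b2, a3, a4, a5, b3, b4, b5, a6, a7, a8, a9, b6, b7,
    b8, b9, a10, b10, a11, b11⟩⟩

namespace XCore

variable (c : XCore D π)

theorem comm (h : CExt π) {x y : X} (hx : x ∈ Lft π D.A₁) (hy : y ∈ Lft π D.A₂) : x * y = y * x :=
  h.comm D.comm x hx y hy

theorem z₁_ne : c.z₁ ≠ 1 := fun e => D.t_ne (by rw [← c.π_z₁, e, map_one])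

theorem z₂_ne : c.z₂ ≠ 1 := fun e => D.t_ne (by rw [← c.π_z₂, e, map_one])

theorem π_w : π (c.z₁ * c.z₂) = 1 := by rw [map_mul, c.π_z₁, c.π_z₂, D.tt]

theorem w_sq (h : CExt π) : (c.z₁ * c.z₂) * (c.z₁ * c.z₂) = 1 := by
  have h1 := comm h c.z₁_mem c.z₂_mem
  calc (c.z₁ * c.z₂) * (c.z₁ * c.z₂) = c.z₁ * (c.z₂ * c.z₁) * c.z₂ := by group
    _ = c.z₁ * (c.z₁ * c.z₂) * c.z₂ := by rw [h1]
    _ = (c.z₁ * c.z₁) * (c.z₂ * c.z₂) := by group
    _ = 1 := by rw [c.sq₁, c.sq₂, one_mul]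

/-- The kernel is contained in `{1, z₁ z₂}`. -/
theorem ker_sub [Finite X] (h : CExt π) (hr : SectionalPRankLE 2 4 X) {x : X} (hx : π x = 1) :
    x = 1 ∨ x = c.z₁ * c.z₂ := by
  by_contra hcon
  push Not at hcon
  set w := c.z₁ * c.z₂ with hw
  have hww : w * w = 1 := c.w_sq h
  have hwc : ∀ g, w * g = g * w := h.cen _ c.π_w
  -- an element `k` of the kernel outside `{1, w}` with `k² ∈ {1, w}`
  obtain ⟨k, hk1, hk2, hk3, hk4⟩ : ∃ k, π k = 1 ∧ k ≠ 1 ∧ k ≠ w ∧ (k * k = 1 ∨ k * k = w) := by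
    obtain ⟨n, hn⟩ := h.two x hx
    classical
    have hex : ∃ n : ℕ, x ^ 2 ^ n = 1 ∨ x ^ 2 ^ n = w := ⟨n, Or.inl hn⟩
    have h0 : Nat.find hex ≠ 0 := by
      intro e
      have := Nat.find_spec hex
      rw [e, pow_zero, pow_one] at this
      rcases this with h1 | h1
      · exact hcon.1 h1
      · exact hcon.2 h1
    obtain ⟨m, hm⟩ := Nat.exists_eq_succ_of_ne_zero h0
    have h2 := Nat.find_spec hex
    have h3 := Nat.find_min hex (m := m) (by omega)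
    push Not at h3
    rw [hm, Nat.succ_eq_add_one, pow_succ, pow_mul, pow_two] at h2
    exact ⟨x ^ 2 ^ m, by rw [map_pow, hx, one_pow], h3.1, h3.2, h2⟩
  -- the quotient by `⟨w⟩`
  have hnorm : (zpowers w).Normal := ⟨fun n hn g => by
    rw [mem_zpowers_iff] at hn ⊢
    obtain ⟨m, rfl⟩ := hn
    refine ⟨m, ?_⟩
    have : Commute w g := hwc g
    rw [← (this.zpow_left m).eq, mul_inv_cancel_right]⟩
  have hmem : ∀ g, g ∈ zpowers w → g = 1 ∨ g = w := by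
    intro g hg
    rw [mem_zpowers_iff] at hg
    obtain ⟨m, rfl⟩ := hg
    rcases Int.even_or_odd m with ⟨l, hl⟩ | ⟨l, hl⟩
    · left
      rw [hl, zpow_add, ← zpow_add, ← two_mul, zpow_mul, zpow_two, hww, one_zpow]
    · right
      rw [hl, zpow_add, zpow_one, show w ^ (2 * l) = 1 by
        rw [zpow_mul, zpow_two, hww, one_zpow], one_mul]
  let q : X →* X ⧸ zpowers w := QuotientGroup.mk' (zpowers w)
  have hq : ∀ g, q g = 1 → g = 1 ∨ g = w := fun g hg => hmem g ((QuotientGroup.eq_one_iff g).mp hg)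
  have hqw : q w = 1 := (QuotientGroup.eq_one_iff w).mpr (mem_zpowers w)
  have hqz : q c.z₂ = q c.z₁ := by
    have h1 : q c.z₁ * q c.z₂ = 1 := by rw [← map_mul]; exact hqw
    have h2 : q c.z₁ * q c.z₁ = 1 := by rw [← map_mul, c.sq₁, map_one]
    exact mul_left_cancel (h1.trans h2.symm)
  have hc1 : ∀ {a b : X}, a ∈ Lft π D.A₁ → b ∈ Lft π D.A₂ → q a * q b = q b * q a := by
    intro a b ha hb
    rw [← map_mul, comm h ha hb, map_mul]
  have hkc : ∀ g, q g * q k = q k * q g := by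
    intro g
    rw [← map_mul, ← h.cen k hk1 g, map_mul]
  refine Extra.five (Rank.of_quotient hr (zpowers w)) (x := q c.I₁) (y := q c.J₁) (u := q c.I₂)
    (v := q c.J₂) (z := q k) (t := q c.z₁) ?_ ?_ ?_ ?_ ?_ ?_ ?_ ?_ ?_ ?_ ?_ ?_ ?_ ?_ ?_ ?_ ?_ ?_ ?_ ?_ ?_ ?_ ?_ ?_
  · rw [← map_mul, c.sq₁, map_one]
  · intro e
    rcases hq _ e with h1 | h1
    · exact c.z₁_ne h1
    · apply c.z₂_ne
      have : c.z₁ * 1 = c.z₁ * c.z₂ := by rw [mul_one]; exact h1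
      exact (mul_left_cancel this).symm
  · rw [← map_mul, Trip.comm_i c.trip₁, map_mul]
  · rw [← map_mul, Trip.comm_j c.trip₁, map_mul]
  · rw [← hqz, ← map_mul, Trip.comm_i c.trip₂, map_mul]
  · rw [← hqz, ← map_mul, Trip.comm_j c.trip₂, map_mul]
  · exact (hkc _).symm
  · right; rw [← map_mul, c.trip₁.ii]
  · right; rw [← map_mul, c.trip₁.jj]
  · right; rw [← hqz, ← map_mul, c.trip₂.ii]
  · right; rw [← hqz, ← map_mul, c.trip₂.jj]
  · left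
    rw [← map_mul]
    rcases hk4 with h1 | h1
    · rw [h1, map_one]
    · rw [h1, hqw]
  · rw [← map_mul, ← map_mul, ← map_mul, c.trip₁.ji]
    congr 1
    calc c.I₁ * c.J₁ = (c.z₁ * c.z₁) * (c.I₁ * c.J₁) := by rw [c.sq₁, one_mul]
      _ = c.z₁ * (c.z₁ * c.I₁ * c.J₁) := by group
      _ = c.z₁ * (c.I₁ * (c.z₁ * c.J₁)) := by rw [← Trip.comm_i c.trip₁]; group
      _ = c.z₁ * (c.I₁ * c.J₁) * c.z₁ := by rw [← Trip.comm_j c.trip₁]; group
  · rw [← hqz, ← map_mul, ← map_mul, ← map_mul, c.trip₂.ji]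
    congr 1
    calc c.I₂ * c.J₂ = (c.z₂ * c.z₂) * (c.I₂ * c.J₂) := by rw [c.sq₂, one_mul]
      _ = c.z₂ * (c.z₂ * c.I₂ * c.J₂) := by group
      _ = c.z₂ * (c.I₂ * (c.z₂ * c.J₂)) := by rw [← Trip.comm_i c.trip₂]; group
      _ = c.z₂ * (c.I₂ * c.J₂) * c.z₂ := by rw [← Trip.comm_j c.trip₂]; group
  · exact hc1 c.I₁_mem c.I₂_mem
  · exact hc1 c.I₁_mem c.J₂_mem
  · exact hc1 c.J₁_mem c.I₂_mem
  · exact hc1 c.J₁_mem c.J₂_mem
  · exact hkc _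
  · exact hkc _
  · exact hkc _
  · exact hkc _
  · intro e
    rcases hq _ e with h1 | h1
    · exact hk2 h1
    · exact hk3 h1
  · intro e
    have h1 : q (k * c.z₁⁻¹) = 1 := by rw [map_mul, map_inv, e, mul_inv_cancel]
    have h2 : π (k * c.z₁⁻¹) = 1 := by
      rcases hq _ h1 with h2 | h2
      · rw [h2, map_one]
      · rw [h2, c.π_w]
    rw [map_mul, hk1, one_mul, map_inv, inv_eq_one, c.π_z₁] at h2
    exact D.t_ne h2

end XCore

end Cfsg.Agent.GH.Cov.XOfCore
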