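import Cfsg.Agent.GH.Cov.LieU4Conj
import Cfsg.Agent.LieClassical.SUBasic
import Cfsg.Agent.Phan.Ext

/-!
# Block diagonal matrices in `SU(4,q)`: the centralizer of `diag(-1,-1,1,1)`
-/

set_option autoImplicit false
set_option linter.unusedSimpArgs false

namespace Cfsg.Agent.GH.Cov.LieU4

open Matrix Cfsg Subgroup
open Cfsg.Agent.LieClassical.HermBasic
open Cfsg.Agent.LieClassical
open Cfsg.Agent.Phan (mat mat_mul mat_one mat_inj mat_det mat_isom mat_mk emb emb_comm extM inc)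

variable {F : Type*} [Field F] {q : ℕ}

/-- block diagonal matrices -/
def blk (A B : Matrix (Fin 2) (Fin 2) F) : Matrix (Fin 4) (Fin 4) F :=
  !![A 0 0, A 0 1, 0, 0; A 1 0, A 1 1, 0, 0; 0, 0, B 0 0, B 0 1; 0, 0, B 1 0, B 1 1]

/-- upper left block -/
def ul (M : Matrix (Fin 4) (Fin 4) F) : Matrix (Fin 2) (Fin 2) F := !![M 0 0, M 0 1; M 1 0, M 1 1]

/-- lower right block -/
def lr (M : Matrix (Fin 4) (Fin 4) F) : Matrix (Fin 2) (Fin 2) F := !![M 2 2, M 2 3; M 3 2, M 3 3]

theorem ul_blk (A B : Matrix (Fin 2) (Fin 2) F) : ul (blk A B) = A := by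
  ext i j
  fin_cases i <;> fin_cases j <;> simp [ul, blk]

theorem lr_blk (A B : Matrix (Fin 2) (Fin 2) F) : lr (blk A B) = B := by
  ext i j
  fin_cases i <;> fin_cases j <;> simp [lr, blk]

theorem blk_mul (A B C D : Matrix (Fin 2) (Fin 2) F) : blk A B * blk C D = blk (A * C) (B * D) := by
  ext i j
  fin_cases i <;> fin_cases j <;>
    simp [blk, Matrix.mul_apply, Fin.sum_univ_four, Fin.sum_univ_two]

theorem blk_one : blk (1 : Matrix (Fin 2) (Fin 2) F) 1 = 1 := by
  ext i j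
  fin_cases i <;> fin_cases j <;> simp [blk]

theorem blk_det (A B : Matrix (Fin 2) (Fin 2) F) : (blk A B).det = A.det * B.det := by
  rw [blk, Matrix.det_succ_row_zero, Matrix.det_fin_two, Matrix.det_fin_two]
  simp [Fin.sum_univ_succ, Matrix.det_succ_row_zero, Fin.succAbove]
  ring

theorem tM_eq : tM F = blk (-1) 1 := by
  ext i j
  fin_cases i <;> fin_cases j <;> simp [tM, blk]

theorem neg_tM_eq : -tM F = blk 1 (-1) := by
  ext i j
  fin_cases i <;> fin_cases j <;> simp [tM, blk]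

theorem blk_comm (A B : Matrix (Fin 2) (Fin 2) F) : blk A B * tM F = tM F * blk A B := by
  rw [tM_eq, blk_mul, blk_mul]
  simp

theorem blk_of_comm (h2 : (2 : F) ≠ 0) {M : Matrix (Fin 4) (Fin 4) F} (h : M * tM F = tM F * M) :
    M = blk (ul M) (lr M) := by
  have h0 : ∀ i j : Fin 4, M i j * ![-1, -1, 1, 1] j = ![-1, -1, 1, 1] i * M i j := by
    intro i j
    have := congrFun (congrFun h i) j
    rwa [tM, Matrix.mul_diagonal, Matrix.diagonal_mul] at this
  have key : ∀ x : F, x * 1 = -1 * x → x = 0 := by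
    intro x hx
    have : (2 : F) * x = 0 := by linear_combination hx
    exact (mul_eq_zero.1 this).resolve_left h2
  have key' : ∀ x : F, x * -1 = 1 * x → x = 0 := by
    intro x hx
    have : (2 : F) * x = 0 := by linear_combination -hx
    exact (mul_eq_zero.1 this).resolve_left h2
  have e02 := key _ (h0 0 2)
  have e03 := key _ (h0 0 3)
  have e12 := key _ (h0 1 2)
  have e13 := key _ (h0 1 3)
  have e20 := key' _ (h0 2 0)
  have e21 := key' _ (h0 2 1)
  have e30 := key' _ (h0 3 0)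
  have e31 := key' _ (h0 3 1)
  ext i j
  fin_cases i <;> fin_cases j <;> simp [blk, ul, lr, e02, e03, e12, e13, e20, e21, e30, e31]

variable [Fintype F]

theorem iso_blk (hF : Fintype.card F = q ^ 2) {A B : Matrix (Fin 2) (Fin 2) F}
    (h : Iso q (blk A B)) : Iso q A ∧ Iso q B := by
  have h1 := (Cfsg.Agent.LieClassical.GUOrder.mul_map_eq_one_iff hF _).1 h
  have h2 : (blk A B)ᵀ * (blk A B).map (Cfsg.Agent.LieClassical.GUOrder.frob hF) =
      blk (Aᵀ * A.map (Cfsg.Agent.LieClassical.GUOrder.frob hF))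
        (Bᵀ * B.map (Cfsg.Agent.LieClassical.GUOrder.frob hF)) := by
    ext i j
    fin_cases i <;> fin_cases j <;>
      simp [blk, Matrix.mul_apply, Fin.sum_univ_four, Fin.sum_univ_two]
  rw [h2] at h1
  constructor
  · apply (Cfsg.Agent.LieClassical.GUOrder.mul_map_eq_one_iff hF _).2
    rw [← ul_blk (Aᵀ * A.map _) (Bᵀ * B.map (Cfsg.Agent.LieClassical.GUOrder.frob hF)), h1,
      ← blk_one, ul_blk]
  · apply (Cfsg.Agent.LieClassical.GUOrder.mul_map_eq_one_iff hF _).2
    rw [← lr_blk (Aᵀ * A.map (Cfsg.Agent.LieClassical.GUOrder.frob hF)) (Bᵀ * B.map _), h1,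
      ← blk_one, lr_blk]

/-- upper left embedding -/
theorem mat_emb0 (hF : Fintype.card F = q ^ 2) (g : SU 2 F q) :
    mat (emb hF 0 (by omega : 0 + 2 ≤ 4) g) = blk (mat g) 1 := by
  change extM (Cfsg.Agent.Phan.sh 0 (by omega : 0 + 2 ≤ 4)) (mat g) = blk (mat g) 1
  generalize mat g = A
  ext i j
  fin_cases i <;> fin_cases j <;>
    simp [extM, inc, blk, Matrix.mul_apply, Fin.sum_univ_two, Cfsg.Agent.Phan.sh]

/-- lower right embedding -/
theorem mat_emb2 (hF : Fintype.card F = q ^ 2) (g : SU 2 F q) :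
    mat (emb hF 2 (by omega : 2 + 2 ≤ 4) g) = blk 1 (mat g) := by
  change extM (Cfsg.Agent.Phan.sh 2 (by omega : 2 + 2 ≤ 4)) (mat g) = blk 1 (mat g)
  generalize mat g = A
  ext i j
  fin_cases i <;> fin_cases j <;>
    simp [extM, inc, blk, Matrix.mul_apply, Fin.sum_univ_two, Cfsg.Agent.Phan.sh]

end Cfsg.Agent.GH.Cov.LieU4
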