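import Cfsg.Agent.GH.Cov.LieU4Diag
import Cfsg.Agent.ClassicalGeometry.HermParabolic

/-!
# Conjugacy of the elements of square `1` and `-1` in `SU(4,q)`, `q ≡ 1 (mod 4)`
-/

set_option autoImplicit false
set_option linter.unusedSimpArgs false

namespace Cfsg.Agent.GH.Cov.LieU4

open Matrix Cfsg
open Cfsg.Agent.LieClassical.HermBasic
open Cfsg.Agent.LieClassical

variable {F : Type*} [Field F] {q n : ℕ}

/-- `diag(-1,-1,1,1)` -/
def tM (F : Type*) [Field F] : Matrix (Fin 4) (Fin 4) F := Matrix.diagonal ![-1, -1, 1, 1]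

/-- two blocks `[0 -1; 1 0]` -/
def nM (F : Type*) [Field F] : Matrix (Fin 4) (Fin 4) F :=
  !![0, -1, 0, 0; 1, 0, 0, 0; 0, 0, 0, -1; 0, 0, 1, 0]

theorem four_cases (b : Fin 4 → Bool) (hb : (b 0 ^^ b 1 ^^ b 2 ^^ b 3) = false) :
    (∀ i, b i = false) ∨ (∀ i, b i = true) ∨
      ∃ σ : Equiv.Perm (Fin 4), ∀ i, b (σ i) = decide ((i : ℕ) < 2) := by
  revert b
  decide

theorem perm_diagonal (σ : Equiv.Perm (Fin n)) (s : Fin n → F) :
    Matrix.diagonal s * (σ⁻¹).permMatrix F = (σ⁻¹).permMatrix F * Matrix.diagonal (s ∘ σ) := by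
  ext i j
  rw [Matrix.diagonal_mul, Matrix.mul_diagonal, Equiv.Perm.permMatrix, PEquiv.toMatrix_apply]
  by_cases h : j = σ⁻¹ i
  · subst h
    simp
  · rw [if_neg, mul_zero, zero_mul]
    simpa using fun h' : σ⁻¹ i = j => h h'.symm

variable [Fintype F]

/-- isometric involutions of determinant one in dimension four -/
theorem conj_t (hF : Fintype.card F = q ^ 2) (h2 : (2 : F) ≠ 0) {M : Matrix (Fin 4) (Fin 4) F}
    (hM : Iso q M) (hMM : M * M = 1) (hd : M.det = 1) :
    M = 1 ∨ M = -1 ∨ ∃ U : Matrix (Fin 4) (Fin 4) F, Iso q U ∧ U.det = 1 ∧ M * U = U * tM F := by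
  classical
  obtain ⟨U, hU, s, hs, hMU⟩ := exists_diag hF h2 4 M hM hMM
  obtain ⟨U', -, hUU, hUU'⟩ := hU.exists_inv hF
  have hM' : M = U * Matrix.diagonal s * U' := by
    rw [← hMU, Matrix.mul_assoc, hUU, Matrix.mul_one]
  have hdet : ∏ i, s i = 1 := by
    have h1 := congrArg Matrix.det hM'
    have h3 : U.det * U'.det = 1 := by rw [← Matrix.det_mul, hUU, Matrix.det_one]
    rw [hd, Matrix.det_mul, Matrix.det_mul, Matrix.det_diagonal] at h1
    linear_combination -h1 + (∏ i, s i) * (-h3)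
  have hne : (1 : F) ≠ -1 := by
    intro h
    apply h2
    linear_combination h
  set b : Fin 4 → Bool := fun i => decide (s i = -1) with hb
  have hsb : ∀ i, s i = if b i then -1 else 1 := by
    intro i
    rcases hs i with h | h
    · have : b i = false := by simp [hb, h, hne]
      rw [this]; simpa using h
    · have : b i = true := by simp [hb, h]
      rw [this]; simpa using h
  have hxor : (b 0 ^^ b 1 ^^ b 2 ^^ b 3) = false := by
    rw [Fin.prod_univ_four, hsb 0, hsb 1, hsb 2, hsb 3] at hdet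
    revert hdet
    generalize b 0 = b0
    generalize b 1 = b1
    generalize b 2 = b2
    generalize b 3 = b3
    cases b0 <;> cases b1 <;> cases b2 <;> cases b3 <;>
      simp [hne, hne.symm]
  rcases four_cases b hxor with h | h | ⟨σ, hσ⟩
  · left
    have : Matrix.diagonal s = 1 := by
      rw [← Matrix.diagonal_one]
      congr 1
      funext i
      rw [hsb, h i]; simp
    rw [hM', this, Matrix.mul_one, hUU]
  · right; left
    have : Matrix.diagonal s = -1 := by
      rw [← Matrix.diagonal_one, Matrix.diagonal_neg]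
      congr 1
      funext i
      rw [hsb, h i]; simp
    rw [hM', this, Matrix.mul_neg, Matrix.mul_one, Matrix.neg_mul, hUU]
  · right; right
    set P : Matrix (Fin 4) (Fin 4) F := (σ⁻¹).permMatrix F with hP
    have hPi : Iso q P := Iso.perm _
    have hdiag : Matrix.diagonal (s ∘ σ) = tM F := by
      rw [tM]
      congr 1
      funext i
      rw [Function.comp_apply, hsb, hσ]
      fin_cases i <;> simp
    have h3 : M * (U * P) = (U * P) * tM F := by
      rw [← Matrix.mul_assoc, hMU, Matrix.mul_assoc, hP, perm_diagonal, hdiag, Matrix.mul_assoc]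
    have hUP : Iso q (U * P) := hU.mul hPi
    set d := (U * P).det with hddef
    have hd1 : d ^ (q + 1) = 1 := hUP.det_pow hF
    have hd0 : d ≠ 0 := by
      intro h
      rw [h, zero_pow (Nat.succ_ne_zero q)] at hd1
      exact zero_ne_one hd1
    refine ⟨U * P * Matrix.diagonal ![d⁻¹, 1, 1, 1], hUP.mul (Iso.diagonal ?_), ?_, ?_⟩
    · intro i
      fin_cases i
      · change (d⁻¹) ^ (q + 1) = 1
        rw [inv_pow, hd1, inv_one]
      · exact one_pow _
      · exact one_pow _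
      · exact one_pow _
    · rw [Matrix.det_mul, Matrix.det_diagonal, Fin.prod_univ_four, ← hddef]
      change d * (d⁻¹ * 1 * 1 * 1) = 1
      rw [mul_one, mul_one, mul_one, mul_inv_cancel₀ hd0]
    · have hcomm : tM F * Matrix.diagonal ![d⁻¹, 1, 1, 1] =
          Matrix.diagonal ![d⁻¹, 1, 1, 1] * tM F := by
        rw [tM, Matrix.diagonal_mul_diagonal, Matrix.diagonal_mul_diagonal]
        congr 1
        funext i
        exact mul_comm _ _
      rw [← Matrix.mul_assoc, h3, Matrix.mul_assoc, hcomm, ← Matrix.mul_assoc]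

/-- a matrix whose columns form an orthonormal basis -/
theorem iso_of_orthonormal (hF : Fintype.card F = q ^ 2) (u : Fin n → Fin n → F)
    (h : ∀ i j, hermForm n F q (u i) (u j) = if i = j then 1 else 0) :
    Iso q (Matrix.of u)ᵀ := by
  apply (Cfsg.Agent.LieClassical.GUOrder.mul_map_eq_one_iff hF _).2
  ext i j
  rw [Matrix.one_apply, ← h i j]
  simp only [Matrix.mul_apply, Matrix.transpose_transpose, Matrix.of_apply, Matrix.map_apply,
    Matrix.transpose_apply, herm_def, Cfsg.Agent.LieClassical.GUOrder.frob_apply]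

section anti

variable {ι : F} {M : Matrix (Fin n) (Fin n) F}

theorem herm_M (hF : Fintype.card F = q ^ 2) (hM : Iso q M) (hMM : M * M = -1)
    (u v : Fin n → F) :
    hermForm n F q (M *ᵥ u) v = -hermForm n F q u (M *ᵥ v) := by
  rw [← hM u (M *ᵥ v), Matrix.mulVec_mulVec, hMM, Matrix.neg_mulVec, Matrix.one_mulVec,
    herm_neg_right hF, neg_neg]

omit [Fintype F] in
theorem M_M (hMM : M * M = -1) (u : Fin n → F) : M *ᵥ (M *ᵥ u) = -u := by
  rw [Matrix.mulVec_mulVec, hMM, Matrix.neg_mulVec, Matrix.one_mulVec]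

/-- a vector `u` in `⟨w, M w⟩` of norm one, orthogonal to `M u` -/
theorem exists_unit (hF : Fintype.card F = q ^ 2) (h2 : (2 : F) ≠ 0) (hι : ι * ι = -1)
    (hιq : ι ^ q = ι) (hM : Iso q M) (hMM : M * M = -1) {w : Fin n → F}
    (hw : hermForm n F q w w ≠ 0) :
    ∃ x y : F, hermForm n F q (x • w + y • M *ᵥ w) (x • w + y • M *ᵥ w) = 1 ∧
      hermForm n F q (x • w + y • M *ᵥ w) (M *ᵥ (x • w + y • M *ᵥ w)) = 0 := by
  set c := hermForm n F q w w with hc
  set d := hermForm n F q w (M *ᵥ w) with hd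
  have hcq : c ^ q = c := herm_self_pow hF w
  have hdq : d ^ q = -d := by
    rw [hd, ← herm_swap hF, herm_M hF hM hMM]
  have h2q : (2 : F) ^ q = 2 := by
    have : (2 : F) = 1 + 1 := by norm_num
    rw [this, add_pow_q hF, one_pow]
  have hne : c + ι * d ≠ 0 := by
    intro h
    have h' : (c + ι * d) ^ q = 0 := by rw [h, zero_pow_q hF]
    rw [add_pow_q hF, mul_pow, hcq, hdq, hιq] at h'
    have h3 : 2 * c = 0 := by linear_combination h + h'
    rcases mul_eq_zero.1 h3 with h4 | h4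
    · exact h2 h4
    · exact hw h4
  set L := (c + ι * d)⁻¹ with hL
  have hL1 : L * (c + ι * d) = 1 := inv_mul_cancel₀ hne
  have hL2 : L ^ q * (c - ι * d) = 1 := by
    have := congrArg (· ^ q) hL1
    simp only [mul_pow, add_pow_q hF, hcq, hdq, hιq, one_pow] at this
    linear_combination this
  have hxq : ((L + 1) / 2) ^ q = (L ^ q + 1) / 2 := by
    rw [div_pow, add_pow_q hF, one_pow, h2q]
  have hyq : (ι * (1 - L) / 2) ^ q = ι * (1 - L ^ q) / 2 := by
    rw [div_pow, mul_pow, sub_pow_q hF, one_pow, h2q, hιq]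
  refine ⟨(L + 1) / 2, ι * (1 - L) / 2, ?_, ?_⟩
  · rw [herm_add_left, herm_add_right hF, herm_add_right hF]
    simp only [herm_smul_left, herm_smul_right, hM w w, herm_M hF hM hMM w w, ← hc, ← hd,
      hxq, hyq]
    generalize L ^ q = L' at *
    field_simp
    linear_combination 2 * hL1 + 2 * hL2 + (c * (1 - L) * (1 - L')) * hι
  · rw [Matrix.mulVec_add, Matrix.mulVec_smul, Matrix.mulVec_smul, M_M hMM, herm_add_left,
      herm_add_right hF, herm_add_right hF]
    simp only [herm_smul_left, herm_smul_right, herm_neg_right hF, hM w w,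
      herm_M hF hM hMM w w, ← hc, ← hd, hxq, hyq]
    generalize L ^ q = L' at *
    field_simp
    linear_combination (-2 * ι) * hL1 + (2 * ι) * hL2 + (d * (1 + L) * (1 + L')) * hι

/-- in dimension four two orthonormal vectors have a non-isotropic common orthogonal vector -/
theorem exists_perp (hF : Fintype.card F = q ^ 2) (h2 : (2 : F) ≠ 0) {u₀ u₁ : Fin 4 → F}
    (h00 : hermForm 4 F q u₀ u₀ = 1) (h11 : hermForm 4 F q u₁ u₁ = 1)
    (h01 : hermForm 4 F q u₀ u₁ = 0) :
    ∃ w : Fin 4 → F, hermForm 4 F q w u₀ = 0 ∧ hermForm 4 F q w u₁ = 0 ∧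
      hermForm 4 F q w w ≠ 0 := by
  by_contra hcon
  push Not at hcon
  have h10 : hermForm 4 F q u₁ u₀ = 0 := herm_eq_zero_swap hF h01
  have key : ∀ k : Fin 4, 1 - u₀ k * u₀ k ^ q - u₁ k * u₁ k ^ q = 0 := by
    intro k
    set e : Fin 4 → F := Pi.single k 1 with he
    have hee : hermForm 4 F q e e = 1 := by
      rw [he, herm_single_left, Pi.single_eq_same, one_pow, mul_one]
    have he0 : hermForm 4 F q e u₀ = u₀ k ^ q := by rw [he, herm_single_left, one_mul]
    have he1 : hermForm 4 F q e u₁ = u₁ k ^ q := by rw [he, herm_single_left, one_mul]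
    have h0e : hermForm 4 F q u₀ e = u₀ k := by rw [he, herm_single_right hF, one_pow, mul_one]
    have h1e : hermForm 4 F q u₁ e = u₁ k := by rw [he, herm_single_right hF, one_pow, mul_one]
    have h3 := hcon (e - u₀ k ^ q • u₀ - u₁ k ^ q • u₁)
      (by
        rw [herm_sub_left, herm_sub_left, herm_smul_left, herm_smul_left, he0, h00, h10]
        ring)
      (by
        rw [herm_sub_left, herm_sub_left, herm_smul_left, herm_smul_left, he1, h11, h01]
        ring)
    simp only [herm_sub_left, herm_sub_right hF, herm_smul_left, herm_smul_right, hee, he0, he1,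
      h0e, h1e, h00, h11, h01, h10, pow_q_pow_q hF] at h3
    linear_combination h3
  have h4 := Finset.sum_congr rfl (fun k (_ : k ∈ (Finset.univ : Finset (Fin 4))) => key k)
  rw [Finset.sum_sub_distrib, Finset.sum_sub_distrib, ← herm_def, ← herm_def, h00, h11] at h4
  simp only [Finset.sum_const, Finset.card_univ, Fintype.card_fin, nsmul_eq_mul,
    Finset.sum_const_zero] at h4
  apply h2
  push_cast at h4
  linear_combination h4

/-- a symplectic-type orthonormal frame -/
theorem exists_frame (hF : Fintype.card F = q ^ 2) (h2 : (2 : F) ≠ 0) (hι : ι * ι = -1)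
    (hιq : ι ^ q = ι) {M : Matrix (Fin 4) (Fin 4) F} (hM : Iso q M) (hMM : M * M = -1) :
    ∃ U : Matrix (Fin 4) (Fin 4) F, Iso q U ∧ M * U = U * nM F := by
  have he : hermForm 4 F q (Pi.single 0 1) (Pi.single 0 1) ≠ 0 := by
    rw [herm_single_left, Pi.single_eq_same, one_pow, mul_one]
    exact one_ne_zero
  obtain ⟨x, y, hxx, hxy⟩ := exists_unit hF h2 hι hιq hM hMM he
  set u₀ : Fin 4 → F := x • Pi.single 0 1 + y • M *ᵥ Pi.single 0 1 with hu₀
  have h11 : hermForm 4 F q (M *ᵥ u₀) (M *ᵥ u₀) = 1 := by rw [hM, hxx]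
  obtain ⟨w, hw0, hw1, hww⟩ := exists_perp hF h2 hxx h11 hxy
  obtain ⟨a, b, hab, hab'⟩ := exists_unit hF h2 hι hιq hM hMM hww
  have hMw0 : hermForm 4 F q (M *ᵥ w) u₀ = 0 := by
    rw [herm_M hF hM hMM, hw1, neg_zero]
  have hMw1 : hermForm 4 F q (M *ᵥ w) (M *ᵥ u₀) = 0 := by
    rw [hM, hw0]
  set u₂ : Fin 4 → F := a • w + b • M *ᵥ w with hu₂
  have h20 : hermForm 4 F q u₂ u₀ = 0 := by
    rw [hu₂, herm_add_left, herm_smul_left, herm_smul_left, hw0, hMw0]; ring
  have h21 : hermForm 4 F q u₂ (M *ᵥ u₀) = 0 := by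
    rw [hu₂, herm_add_left, herm_smul_left, herm_smul_left, hw1, hMw1]; ring
  have h30 : hermForm 4 F q (M *ᵥ u₂) u₀ = 0 := by rw [herm_M hF hM hMM, h21, neg_zero]
  have h31 : hermForm 4 F q (M *ᵥ u₂) (M *ᵥ u₀) = 0 := by rw [hM, h20]
  have h33 : hermForm 4 F q (M *ᵥ u₂) (M *ᵥ u₂) = 1 := by rw [hM, hab]
  have h10 := herm_eq_zero_swap hF hxy
  have h32 := herm_eq_zero_swap hF hab'
  have h02 := herm_eq_zero_swap hF h20
  have h12 := herm_eq_zero_swap hF h21
  have h03 := herm_eq_zero_swap hF h30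
  have h13 := herm_eq_zero_swap hF h31
  refine ⟨(Matrix.of ![u₀, M *ᵥ u₀, u₂, M *ᵥ u₂])ᵀ, iso_of_orthonormal hF _ ?_, ?_⟩
  · intro i j
    fin_cases i <;> fin_cases j <;>
      simp [hxx, hxy, h11, h10, h20, h21, h30, h31, h33, h32, h02, h12, h03, h13, hab, hab']
  · ext i j
    have hcol : ∀ v : Fin 4 → F, (M *ᵥ v) i = ∑ k, M i k * v k := fun v => rfl
    have hMM0 := congrFun (M_M hMM u₀) i
    have hMM2 := congrFun (M_M hMM u₂) i
    rw [hcol] at hMM0 hMM2
    fin_cases j
    · simp only [Matrix.mul_apply, nM]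
      simp [Fin.sum_univ_four, hcol]
    · simp only [Matrix.mul_apply, nM]
      simpa [Fin.sum_univ_four] using hMM0
    · simp only [Matrix.mul_apply, nM]
      simp [Fin.sum_univ_four, hcol]
    · simp only [Matrix.mul_apply, nM]
      simpa [Fin.sum_univ_four] using hMM2

end anti

/-- an element of the centraliser of `nM` -/
def xM (α β : F) : Matrix (Fin 4) (Fin 4) F :=
  !![α, -β, 0, 0; β, α, 0, 0; 0, 0, 1, 0; 0, 0, 0, 1]

omit [Fintype F] in
theorem xM_comm (α β : F) : xM α β * nM F = nM F * xM α β := by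
  ext i j
  fin_cases i <;> fin_cases j <;> simp [xM, nM, Matrix.mul_apply, Fin.sum_univ_four]

omit [Fintype F] in
theorem xM_det (α β : F) : (xM α β).det = α * α + β * β := by
  rw [xM, Matrix.det_succ_row_zero]
  simp [Fin.sum_univ_succ, Matrix.det_succ_row_zero, Fin.succAbove]

theorem xM_iso (hF : Fintype.card F = q ^ 2) {α β : F} (h1 : α * α ^ q + β * β ^ q = 1)
    (h2 : α * β ^ q = β * α ^ q) : Iso q (xM α β) := by
  apply (Cfsg.Agent.LieClassical.GUOrder.mul_map_eq_one_iff hF _).2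
  have h3 : β * β ^ q + α * α ^ q = 1 := by rw [add_comm, h1]
  have h0 : (0 : F) ^ q = 0 := zero_pow_q hF
  ext i j
  fin_cases i <;> fin_cases j <;>
    simp [xM, Matrix.mul_apply, Fin.sum_univ_four, Cfsg.Agent.LieClassical.GUOrder.frob_apply,
      h0, h1, h2, h3, neg_pow_q hF]

/-- the elements of square `-1` of `SU(4,q)`, `q ≡ 1 (mod 4)` -/
theorem conj_n (hF : Fintype.card F = q ^ 2) (h2 : (2 : F) ≠ 0) {ι : F} (hι : ι * ι = -1)
    (hιq : ι ^ q = ι) {M : Matrix (Fin 4) (Fin 4) F} (hM : Iso q M) (hMM : M * M = -1) :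
    ∃ U : Matrix (Fin 4) (Fin 4) F, Iso q U ∧ U.det = 1 ∧ M * U = U * nM F := by
  obtain ⟨U, hU, hMU⟩ := exists_frame hF h2 hι hιq hM hMM
  have hd1 := hU.det_pow hF
  have hd0 : U.det ≠ 0 := by
    intro h
    rw [h, zero_pow (Nat.succ_ne_zero q)] at hd1
    exact zero_ne_one hd1
  obtain ⟨b, hb⟩ := Cfsg.Agent.ClassicalGeometry.HermParabolic.hilbert90 hF
    (u := Units.mk0 U.det hd0) (by ext; simpa using hd1)
  have hq := two_le hF
  have hbq : (b : F) ^ q = U.det * b := by
    have h3 := congrArg (fun z : Fˣ => (z : F)) hb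
    simp only [Units.val_pow_eq_pow_val, Units.val_mk0] at h3
    rw [← h3, ← pow_succ, Nat.sub_add_cancel (by omega)]
  have hb0 : (b : F) ≠ 0 := b.ne_zero
  have hbq0 : (b : F) ^ q ≠ 0 := pow_ne_zero _ hb0
  clear hb
  generalize (b : F) = x at hbq hb0 hbq0
  obtain ⟨x', hx'⟩ : ∃ x' : F, x' = x ^ q := ⟨_, rfl⟩
  rw [← hx'] at hbq hbq0
  have hx'q : x' ^ q = x := by rw [hx', pow_q_pow_q hF x]
  have hι0 : ι ≠ 0 := by
    rintro rfl
    rw [mul_zero] at hι
    exact one_ne_zero (α := F) (by linear_combination hι)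
  have h2q : (2 : F) ^ q = 2 := by
    have : (2 : F) = 1 + 1 := by norm_num
    rw [this, add_pow_q hF, one_pow]
  have hαq : ((x + x'⁻¹) / 2) ^ q = (x' + x⁻¹) / 2 := by
    rw [div_pow, add_pow_q hF, inv_pow, hx'q, h2q, hx']
  have hβq : ((x - x'⁻¹) / (2 * ι)) ^ q = (x' - x⁻¹) / (2 * ι) := by
    rw [div_pow, sub_pow_q hF, inv_pow, hx'q, mul_pow, h2q, hιq, hx']
  refine ⟨U * xM ((x + x'⁻¹) / 2) ((x - x'⁻¹) / (2 * ι)), hU.mul (xM_iso hF ?_ ?_), ?_, ?_⟩
  · rw [hαq, hβq]
    field_simp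
    linear_combination ((x * x' + 1) ^ 2 - 4 * (x * x')) * hι
  · rw [hαq, hβq]
    field_simp
  · rw [Matrix.det_mul, xM_det]
    field_simp
    linear_combination (U.det * (x * x' + 1) ^ 2 - 4 * x' ^ 2) * hι + 4 * x' * hbq
  · rw [← Matrix.mul_assoc, hMU, Matrix.mul_assoc, ← xM_comm, ← Matrix.mul_assoc]

end Cfsg.Agent.GH.Cov.LieU4
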