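import Mathlib
import Cfsg.Prelude.Def_Classical
import Cfsg.Prelude.Def_LieClassical
import Cfsg.Agent.LieClassical.HermBasic
import Cfsg.Agent.LieClassical.GUOrder

/-!
# Isometries of the standard Hermitian form, `|F| = q ^ 2`, `q` odd: involutions are diagonalisable
-/

set_option autoImplicit false
set_option linter.unusedSimpArgs false

namespace Cfsg.Agent.GH.Cov.LieU4

open Matrix Cfsg
open Cfsg.Agent.LieClassical.HermBasic
open Cfsg.Agent.LieClassical (GUOrder.exists_gu_map GUOrder.ext1)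

variable {F : Type*} [Field F] {q n : ℕ}

/-- `M` preserves the standard Hermitian form -/
def Iso (q : ℕ) (M : Matrix (Fin n) (Fin n) F) : Prop :=
  ∀ u v : Fin n → F, hermForm n F q (M *ᵥ u) (M *ᵥ v) = hermForm n F q u v

theorem Iso.one : Iso q (1 : Matrix (Fin n) (Fin n) F) := fun u v => by
  rw [Matrix.one_mulVec, Matrix.one_mulVec]

theorem Iso.mul {M N : Matrix (Fin n) (Fin n) F} (hM : Iso q M) (hN : Iso q N) : Iso q (M * N) :=
  fun u v => by rw [← Matrix.mulVec_mulVec, ← Matrix.mulVec_mulVec, hM, hN]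

theorem Iso.smul {c : F} (hc : c * c ^ q = 1) {M : Matrix (Fin n) (Fin n) F} (hM : Iso q M) :
    Iso q (c • M) := fun u v => by
  rw [Matrix.smul_mulVec, Matrix.smul_mulVec, herm_smul_left, herm_smul_right, hM, ← mul_assoc, hc,
    one_mul]

theorem Iso.of_mul_eq_one {M N : Matrix (Fin n) (Fin n) F} (hM : Iso q M) (h : M * N = 1) :
    Iso q N := fun u v => by
  rw [← hM (N *ᵥ u), Matrix.mulVec_mulVec, Matrix.mulVec_mulVec, h, Matrix.one_mulVec,
    Matrix.one_mulVec]

theorem Iso.perm (σ : Equiv.Perm (Fin n)) : Iso q (σ.permMatrix F) := fun u v => by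
  simp only [herm_def, Matrix.permMatrix_mulVec]
  exact Equiv.sum_comp σ (fun i => u i * v i ^ q)

theorem Iso.diagonal {a : Fin n → F} (ha : ∀ i, a i ^ (q + 1) = 1) :
    Iso q (Matrix.diagonal a) := fun u v => by
  simp only [herm_def, Matrix.mulVec_diagonal]
  refine Finset.sum_congr rfl fun i _ => ?_
  have h := ha i
  rw [pow_succ'] at h
  calc a i * u i * (a i * v i) ^ q = (a i * a i ^ q) * (u i * v i ^ q) := by
        rw [mul_pow]; ring
    _ = u i * v i ^ q := by rw [h, one_mul]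

theorem ext1_mul (c d : F) (A B : Matrix (Fin n) (Fin n) F) :
    GUOrder.ext1 c A * GUOrder.ext1 d B = GUOrder.ext1 (c * d) (A * B) := by
  ext i j
  refine Fin.cases ?_ (fun i => ?_) i
  · refine Fin.cases ?_ (fun j => ?_) j
    · simp [GUOrder.ext1, Matrix.mul_apply, Fin.sum_univ_succ]
    · simp [GUOrder.ext1, Matrix.mul_apply, Fin.sum_univ_succ]
  · refine Fin.cases ?_ (fun j => ?_) j
    · simp [GUOrder.ext1, Matrix.mul_apply, Fin.sum_univ_succ]
    · simp [GUOrder.ext1, Matrix.mul_apply, Fin.sum_univ_succ]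

theorem ext1_one : GUOrder.ext1 (1 : F) (1 : Matrix (Fin n) (Fin n) F) = 1 := by
  ext i j
  refine Fin.cases ?_ (fun i => ?_) i
  · refine Fin.cases ?_ (fun j => ?_) j
    · simp [GUOrder.ext1]
    · simp [GUOrder.ext1, Matrix.one_apply, (Fin.succ_ne_zero j).symm]
  · refine Fin.cases ?_ (fun j => ?_) j
    · simp [GUOrder.ext1, Matrix.one_apply]
    · simp [GUOrder.ext1, Matrix.one_apply]

theorem ext1_inj {c d : F} {A B : Matrix (Fin n) (Fin n) F}
    (h : GUOrder.ext1 c A = GUOrder.ext1 d B) : A = B := by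
  ext i j
  have := congrFun (congrFun h i.succ) j.succ
  simpa [GUOrder.ext1] using this

theorem smul_ext1_diagonal (ε : F) (s : Fin n → F) :
    ε • GUOrder.ext1 1 (Matrix.diagonal s) = Matrix.diagonal (Fin.cons ε (ε • s) : Fin (n + 1) → F) := by
  ext i j
  refine Fin.cases ?_ (fun i => ?_) i
  · refine Fin.cases ?_ (fun j => ?_) j
    · simp [GUOrder.ext1]
    · simp [GUOrder.ext1, Matrix.diagonal_apply, (Fin.succ_ne_zero j).symm]
  · refine Fin.cases ?_ (fun j => ?_) j
    · simp [GUOrder.ext1, Matrix.diagonal_apply]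
    · simp only [GUOrder.ext1, Matrix.diagonal_apply, Matrix.smul_apply, Matrix.of_apply,
        Fin.cons_succ, Fin.succ_inj, Pi.smul_apply, smul_eq_mul]
      split_ifs <;> simp

variable [Fintype F]

theorem Iso.det_pow (hF : Fintype.card F = q ^ 2) {M : Matrix (Fin n) (Fin n) F} (hM : Iso q M) :
    M.det ^ (q + 1) = 1 := Cfsg.Agent.LieClassical.GUOrder.det_mul_frob_det hF M hM

theorem Iso.exists_inv (hF : Fintype.card F = q ^ 2) {M : Matrix (Fin n) (Fin n) F}
    (hM : Iso q M) : ∃ N : Matrix (Fin n) (Fin n) F, Iso q N ∧ M * N = 1 ∧ N * M = 1 := by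
  have h0 : M.det ≠ 0 := Cfsg.Agent.LieClassical.GUOrder.det_ne_zero_of_isom hF M hM
  have h1 : M * M⁻¹ = 1 := Matrix.mul_nonsing_inv M (isUnit_iff_ne_zero.2 h0)
  have h2 : M⁻¹ * M = 1 := Matrix.nonsing_inv_mul M (isUnit_iff_ne_zero.2 h0)
  exact ⟨M⁻¹, hM.of_mul_eq_one h1, h1, h2⟩

/-- a unit vector is the image of the first basis vector -/
theorem exists_iso_single (hF : Fintype.card F = q ^ 2) {v : Fin (n + 1) → F}
    (hv : hermForm (n + 1) F q v v = 1) :
    ∃ G : Matrix (Fin (n + 1)) (Fin (n + 1)) F, Iso q G ∧ G *ᵥ (Pi.single 0 1) = v := by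
  have he : hermForm (n + 1) F q (Pi.single 0 1) (Pi.single 0 1) = 1 := by
    rw [herm_single_left, Pi.single_eq_same, one_pow, mul_one]
  obtain ⟨g, hg⟩ := GUOrder.exists_gu_map hF he hv
  exact ⟨_, g.2, hg⟩

/-- an isometric involution has a non-isotropic eigenvector -/
theorem exists_eigen (hF : Fintype.card F = q ^ 2) (h2 : (2 : F) ≠ 0)
    {M : Matrix (Fin (n + 1)) (Fin (n + 1)) F} (hM : Iso q M) (hMM : M * M = 1) :
    ∃ (v : Fin (n + 1) → F) (ε : F), (ε = 1 ∨ ε = -1) ∧ M *ᵥ v = ε • v ∧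
      hermForm (n + 1) F q v v = 1 := by
  set e : Fin (n + 1) → F := Pi.single 0 1 with hedef
  have he : hermForm (n + 1) F q e e = 1 := by
    rw [hedef, herm_single_left, Pi.single_eq_same, one_pow, mul_one]
  have hMe : M *ᵥ (M *ᵥ e) = e := by rw [Matrix.mulVec_mulVec, hMM, Matrix.one_mulVec]
  have key : ∃ (v : Fin (n + 1) → F) (ε : F), (ε = 1 ∨ ε = -1) ∧ M *ᵥ v = ε • v ∧
      hermForm (n + 1) F q v v ≠ 0 := by
    by_contra hcon
    push Not at hcon
    have ha := hcon (e + M *ᵥ e) 1 (Or.inl rfl) (by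
      rw [Matrix.mulVec_add, hMe, one_smul, add_comm (M *ᵥ e) e])
    have hb := hcon (e - M *ᵥ e) (-1) (Or.inr rfl) (by
      rw [Matrix.mulVec_sub, hMe, neg_one_smul, neg_sub])
    rw [herm_add_left, herm_add_right hF, herm_add_right hF, hM, he] at ha
    rw [herm_sub_left, herm_sub_right hF, herm_sub_right hF, hM, he] at hb
    have h4 : (2 : F) * 2 = 0 := by linear_combination ha + hb
    exact h2 (mul_self_eq_zero.1 h4)
  obtain ⟨v, ε, hε, hv, hne⟩ := key
  obtain ⟨μ, hμ0, hμ⟩ := exists_norm_eq_ne hF (herm_self_pow hF v) hne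
  refine ⟨μ⁻¹ • v, ε, hε, ?_, ?_⟩
  · rw [Matrix.mulVec_smul, hv, smul_comm]
  · rw [herm_smul_left, herm_smul_right, ← hμ, inv_pow]
    have : μ ^ q ≠ 0 := pow_ne_zero _ hμ0
    field_simp

/-- isometric involutions are diagonalisable over an orthonormal basis -/
theorem exists_diag (hF : Fintype.card F = q ^ 2) (h2 : (2 : F) ≠ 0) :
    ∀ (n : ℕ) (M : Matrix (Fin n) (Fin n) F), Iso q M → M * M = 1 →
      ∃ U : Matrix (Fin n) (Fin n) F, Iso q U ∧ ∃ s : Fin n → F, (∀ i, s i = 1 ∨ s i = -1) ∧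
        M * U = U * Matrix.diagonal s := by
  intro n
  induction n with
  | zero =>
    intro M hM hMM
    exact ⟨1, Iso.one, 1, fun i => i.elim0, Subsingleton.elim _ _⟩
  | succ n ih =>
    intro M hM hMM
    obtain ⟨v, ε, hε, hv, hv1⟩ := exists_eigen hF h2 hM hMM
    have hεε : ε * ε = 1 := by rcases hε with rfl | rfl <;> ring
    have hεq : ε * ε ^ q = 1 := by
      rcases hε with rfl | rfl
      · rw [one_pow, one_mul]
      · rw [neg_pow_q hF, one_pow, neg_mul_neg, one_mul]
    obtain ⟨G, hG, hGe⟩ := exists_iso_single hF hv1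
    obtain ⟨G', hG', hGG, hGG'⟩ := hG.exists_inv hF
    set N : Matrix (Fin (n + 1)) (Fin (n + 1)) F := ε • (G' * M * G) with hN
    have hNiso : Iso q N := ((hG'.mul hM).mul hG).smul hεq
    have hNfix : N *ᵥ (Pi.single 0 1) = Pi.single 0 1 := by
      rw [hN, Matrix.smul_mulVec, ← Matrix.mulVec_mulVec, ← Matrix.mulVec_mulVec, hGe, hv,
        Matrix.mulVec_smul, ← hGe, Matrix.mulVec_mulVec, hGG', Matrix.one_mulVec, smul_smul, hεε,
        one_smul]
    have hNN : N * N = 1 := by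
      rw [hN, smul_mul_smul_comm, hεε, one_smul]
      calc G' * M * G * (G' * M * G) = G' * (M * (G * G') * M) * G := by
            simp only [Matrix.mul_assoc]
        _ = 1 := by rw [hGG, Matrix.mul_one, hMM, Matrix.mul_one, hGG']
    have hNext := Cfsg.Agent.LieClassical.GUOrder.eq_ext1_of_fix hF N hNiso hNfix
    set A := N.submatrix Fin.succ Fin.succ with hA
    have hAiso : Iso q A := by
      apply Cfsg.Agent.LieClassical.GUOrder.submatrix_isom hF
      rw [← hNext]
      exact hNiso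
    have hAA : A * A = 1 := by
      have h3 : GUOrder.ext1 (1 * 1 : F) (A * A) = GUOrder.ext1 1 1 := by
        rw [← ext1_mul, ← hNext, hNN, ext1_one]
      exact ext1_inj h3
    obtain ⟨U', hU', s, hs, hMU⟩ := ih A hAiso hAA
    have hU1 : Iso q (GUOrder.ext1 (1 : F) U') :=
      Cfsg.Agent.LieClassical.GUOrder.ext1_isom 1 (one_pow _) _ hU'
    refine ⟨G * GUOrder.ext1 1 U', hG.mul hU1, Fin.cons ε (ε • s), ?_, ?_⟩
    · intro i
      refine Fin.cases ?_ (fun i => ?_) i
      · rw [Fin.cons_zero]; exact hε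
      · rw [Fin.cons_succ, Pi.smul_apply, smul_eq_mul]
        rcases hε with rfl | rfl <;> rcases hs i with h | h <;> rw [h] <;> simp
    · have hMG : M * G = ε • (G * N) := by
        rw [hN, Matrix.mul_smul, smul_smul, hεε, one_smul, ← Matrix.mul_assoc, ← Matrix.mul_assoc,
          hGG, Matrix.one_mul]
      rw [← smul_ext1_diagonal, ← Matrix.mul_assoc, hMG, Matrix.smul_mul, Matrix.mul_assoc, hNext,
        ext1_mul, hMU, Matrix.mul_smul, Matrix.mul_assoc, ext1_mul]

end Cfsg.Agent.GH.Cov.LieU4
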