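import Cfsg.Agent.GH.Cov.LieU4Blk

/-!
# The subgroups `E₁ E₂ ≤ C(t) ≤ N(⟨t⟩)` of `SU(4,q)`, `q ≡ 1 (mod 4)`
-/

set_option autoImplicit false
set_option linter.unusedSimpArgs false

namespace Cfsg.Agent.GH.Cov.LieU4

open Matrix Cfsg Subgroup
open Cfsg.Agent.LieClassical.HermBasic
open Cfsg.Agent.LieClassical
open Cfsg.Agent.Phan (mat mat_mul mat_one mat_inj mat_det mat_isom mat_mk emb emb_comm extM inc)

variable {F : Type*} [Field F] [Fintype F] {q : ℕ}

theorem neg_iso {n : ℕ} (hF : Fintype.card F = q ^ 2) {M : Matrix (Fin n) (Fin n) F} (h : Iso q M) :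
    Iso q (-M) := fun u v => by
  rw [Matrix.neg_mulVec, Matrix.neg_mulVec, herm_neg_left, herm_neg_right hF, neg_neg, h]

omit [Fintype F] in
/-- an isometric matrix of determinant one as an element of `SU` -/
def mkI {n : ℕ} (A : Matrix (Fin n) (Fin n) F) (hd : A.det = 1) (hA : Iso q A) : SU n F q :=
  Cfsg.Agent.Phan.mk A hd hA

omit [Fintype F] in
theorem mat_mkI {n : ℕ} (A : Matrix (Fin n) (Fin n) F) (hd : A.det = 1) (hA : Iso q A) :
    mat (mkI A hd hA) = A := rfl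

/-- `-1` in `SU(2,q)` -/
def neg2 (hF : Fintype.card F = q ^ 2) : SU 2 F q :=
  mkI (-1) (by simp [Matrix.det_neg]) (neg_iso hF Iso.one)

/-- `-1` in `SU(4,q)` -/
def neg4 (hF : Fintype.card F = q ^ 2) : SU 4 F q :=
  mkI (-1) (by rw [Matrix.det_neg, Matrix.det_one, Fintype.card_fin]; norm_num) (neg_iso hF Iso.one)

theorem mat_neg2 (hF : Fintype.card F = q ^ 2) : mat (neg2 hF) = -1 := rfl

theorem mat_neg4 (hF : Fintype.card F = q ^ 2) : mat (neg4 hF) = -1 := rfl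

/-- `diag(-1,-1,1,1)` in `SU(4,q)` -/
def t0 (hF : Fintype.card F = q ^ 2) : SU 4 F q := emb hF 0 (by omega : 0 + 2 ≤ 4) (neg2 hF)

theorem mat_t0 (hF : Fintype.card F = q ^ 2) : mat (t0 hF) = tM F := by
  rw [t0, mat_emb0, mat_neg2, tM_eq]

theorem emb2_neg2 (hF : Fintype.card F = q ^ 2) :
    emb hF 2 (by omega : 2 + 2 ≤ 4) (neg2 hF) = neg4 hF * t0 hF := by
  apply mat_inj
  rw [mat_emb2, mat_neg2, mat_mul, mat_neg4, mat_t0, neg_one_mul, neg_tM_eq]

/-- the coordinate permutation `(02)(13)` -/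
def σ4 : Equiv.Perm (Fin 4) := Equiv.swap 0 2 * Equiv.swap 1 3

theorem sign_σ4 : Equiv.Perm.sign σ4 = 1 := by
  rw [σ4, Equiv.Perm.sign_mul, Equiv.Perm.sign_swap (by decide), Equiv.Perm.sign_swap (by decide)]
  rfl

/-- the element of `SU(4,q)` interchanging the two blocks -/
def w0 (F : Type*) [Field F] (q : ℕ) : SU 4 F q := SUBasic.suPerm q σ4 sign_σ4

omit [Fintype F] in
theorem mat_w0 : mat (w0 F q) = !![0, 0, 1, 0; 0, 0, 0, 1; 1, 0, 0, 0; 0, 1, 0, 0] := by
  change (σ4).permMatrix F = _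
  ext i j
  rw [Equiv.Perm.permMatrix, PEquiv.toMatrix_apply]
  fin_cases i <;> fin_cases j <;> simp [σ4] <;> decide

omit [Fintype F] in
theorem w0_blk (A B : Matrix (Fin 2) (Fin 2) F) : mat (w0 F q) * blk A B = blk B A * mat (w0 F q) := by
  rw [mat_w0]
  ext i j
  fin_cases i <;> fin_cases j <;> simp [blk, Matrix.mul_apply, Fin.sum_univ_four]

omit [Fintype F] in
theorem w0_w0 : w0 F q * w0 F q = 1 := by
  apply mat_inj
  rw [mat_mul, mat_w0, mat_one]
  ext i j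
  fin_cases i <;> fin_cases j <;> simp [Matrix.mul_apply, Fin.sum_univ_four]

theorem w0_emb0 (hF : Fintype.card F = q ^ 2) (g : SU 2 F q) :
    w0 F q * emb hF 0 (by omega : 0 + 2 ≤ 4) g * (w0 F q)⁻¹ = emb hF 2 (by omega : 2 + 2 ≤ 4) g := by
  rw [mul_inv_eq_iff_eq_mul]
  apply mat_inj
  rw [mat_mul, mat_mul, mat_emb0, mat_emb2, w0_blk]

theorem w0_emb2 (hF : Fintype.card F = q ^ 2) (g : SU 2 F q) :
    w0 F q * emb hF 2 (by omega : 2 + 2 ≤ 4) g * (w0 F q)⁻¹ = emb hF 0 (by omega : 0 + 2 ≤ 4) g := by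
  rw [mul_inv_eq_iff_eq_mul]
  apply mat_inj
  rw [mat_mul, mat_mul, mat_emb0, mat_emb2, w0_blk]

/-- the subgroup `SU(2) × SU(2)` -/
def E (hF : Fintype.card F = q ^ 2) : Subgroup (SU 4 F q) :=
  (emb hF 0 (by omega : 0 + 2 ≤ 4) : SU 2 F q →* SU 4 F q).range ⊔
    (emb hF 2 (by omega : 2 + 2 ≤ 4) : SU 2 F q →* SU 4 F q).range

theorem mem_E (hF : Fintype.card F = q ^ 2) {x : SU 4 F q} :
    x ∈ E hF ↔ ∃ A B : Matrix (Fin 2) (Fin 2) F, A.det = 1 ∧ B.det = 1 ∧ mat x = blk A B := by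
  constructor
  · intro hx
    let S : Subgroup (SU 4 F q) :=
      { carrier := {x | ∃ A B : Matrix (Fin 2) (Fin 2) F, A.det = 1 ∧ B.det = 1 ∧ mat x = blk A B}
        one_mem' := ⟨1, 1, Matrix.det_one, Matrix.det_one, by rw [mat_one, blk_one]⟩
        mul_mem' := by
          rintro x y ⟨A, B, hA, hB, hx⟩ ⟨C, D, hC, hD, hy⟩
          exact ⟨A * C, B * D, by rw [Matrix.det_mul, hA, hC, one_mul],
            by rw [Matrix.det_mul, hB, hD, one_mul], by rw [mat_mul, hx, hy, blk_mul]⟩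
        inv_mem' := by
          rintro x ⟨A, B, hA, hB, hx⟩
          have hA' : IsUnit A.det := by rw [hA]; exact isUnit_one
          have hB' : IsUnit B.det := by rw [hB]; exact isUnit_one
          refine ⟨A⁻¹, B⁻¹, by rw [Matrix.det_nonsing_inv, hA, Ring.inverse_one],
            by rw [Matrix.det_nonsing_inv, hB, Ring.inverse_one], ?_⟩
          have h1 : mat x⁻¹ * mat x = 1 := Cfsg.Agent.Phan.mat_inv_mul x
          have h2 : mat x * blk A⁻¹ B⁻¹ = 1 := by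
            rw [hx, blk_mul, Matrix.mul_nonsing_inv _ hA', Matrix.mul_nonsing_inv _ hB', blk_one]
          calc mat x⁻¹ = mat x⁻¹ * (mat x * blk A⁻¹ B⁻¹) := by rw [h2, Matrix.mul_one]
            _ = blk A⁻¹ B⁻¹ := by rw [← Matrix.mul_assoc, h1, Matrix.one_mul] }
    have hle : E hF ≤ S := by
      refine sup_le ?_ ?_
      · rintro _ ⟨g, rfl⟩
        exact ⟨mat g, 1, mat_det g, Matrix.det_one, mat_emb0 hF g⟩
      · rintro _ ⟨g, rfl⟩
        exact ⟨1, mat g, Matrix.det_one, mat_det g, mat_emb2 hF g⟩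
    exact hle hx
  · rintro ⟨A, B, hA, hB, hx⟩
    have hiso : Iso q (blk A B) := by rw [← hx]; exact mat_isom x
    obtain ⟨h1, h2⟩ := iso_blk hF hiso
    have h3 : x = emb hF 0 (by omega : 0 + 2 ≤ 4) (mkI A hA h1) *
        emb hF 2 (by omega : 2 + 2 ≤ 4) (mkI B hB h2) := by
      apply mat_inj
      rw [mat_mul, mat_emb0, mat_emb2, mat_mkI, mat_mkI, blk_mul, Matrix.mul_one, Matrix.one_mul, hx]
    rw [h3]
    exact mul_mem (mem_sup_left ⟨_, rfl⟩) (mem_sup_right ⟨_, rfl⟩)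

/-- the centralizer of `t0` -/
def D (hF : Fintype.card F = q ^ 2) : Subgroup (SU 4 F q) := centralizer {t0 hF}

theorem mem_D (hF : Fintype.card F = q ^ 2) (h2 : (2 : F) ≠ 0) {x : SU 4 F q} :
    x ∈ D hF ↔ mat x = blk (ul (mat x)) (lr (mat x)) := by
  rw [D, mem_centralizer_singleton_iff]
  constructor
  · intro h
    apply blk_of_comm h2
    have := congrArg mat h
    rwa [mat_mul, mat_mul, mat_t0] at this
  · intro h
    apply mat_inj
    rw [mat_mul, mat_mul, mat_t0, h, blk_comm]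

/-- determinant of the upper left block -/
noncomputable def dl (hF : Fintype.card F = q ^ 2) (h2 : (2 : F) ≠ 0) : D hF →* F where
  toFun x := (ul (mat (x : SU 4 F q))).det
  map_one' := by
    rw [Subgroup.coe_one, mat_one, ← blk_one, ul_blk, Matrix.det_one]
  map_mul' x y := by
    rw [Subgroup.coe_mul, mat_mul, (mem_D hF h2).1 x.2, (mem_D hF h2).1 y.2, blk_mul, ul_blk,
      ul_blk, ul_blk, Matrix.det_mul]

theorem dl_eq_one_iff (hF : Fintype.card F = q ^ 2) (h2 : (2 : F) ≠ 0) (x : D hF) :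
    dl hF h2 x = 1 ↔ (x : SU 4 F q) ∈ E hF := by
  rw [mem_E]
  have hx := (mem_D hF h2).1 x.2
  constructor
  · intro h
    refine ⟨ul (mat (x : SU 4 F q)), lr (mat (x : SU 4 F q)), h, ?_, hx⟩
    have h3 := mat_det (x : SU 4 F q)
    rw [hx, blk_det] at h3
    have h4 : (ul (mat (x : SU 4 F q))).det = 1 := h
    rwa [h4, one_mul] at h3
  · rintro ⟨A, B, hA, hB, h⟩
    change (ul (mat (x : SU 4 F q))).det = 1
    rw [h, ul_blk, hA]

theorem E_le_D (hF : Fintype.card F = q ^ 2) : E hF ≤ D hF := by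
  intro x hx
  obtain ⟨A, B, -, -, h⟩ := (mem_E hF).1 hx
  rw [D, mem_centralizer_singleton_iff]
  apply mat_inj
  rw [mat_mul, mat_mul, mat_t0, h, blk_comm]

theorem dl_pow (hF : Fintype.card F = q ^ 2) (h2 : (2 : F) ≠ 0) (x : D hF) :
    dl hF h2 x ^ (q + 1) = 1 := by
  have hx := (mem_D hF h2).1 x.2
  have hiso : Iso q (blk (ul (mat (x : SU 4 F q))) (lr (mat (x : SU 4 F q)))) := by
    rw [← hx]; exact mat_isom _
  exact (iso_blk hF hiso).1.det_pow hF

/-- the index of `E` in the centralizer of `t0` divides `q + 1` -/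
theorem relIndex_E_D (hF : Fintype.card F = q ^ 2) (h2 : (2 : F) ≠ 0) :
    (E hF).relIndex (D hF) ∣ q + 1 := by
  have h1 : (E hF).subgroupOf (D hF) = (dl hF h2).toHomUnits.ker := by
    ext x
    rw [mem_subgroupOf, ← dl_eq_one_iff hF h2, MonoidHom.mem_ker]
    constructor
    · intro h
      ext
      exact h
    · intro h
      exact congrArg Units.val h
  rw [relIndex, h1, index_ker, ← Cfsg.Agent.LieClassical.GUOrder.card_ker_pow hF]
  apply card_dvd_of_le
  rintro _ ⟨x, rfl⟩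
  rw [MonoidHom.mem_ker, powMonoidHom_apply]
  ext
  exact dl_pow hF h2 x

end Cfsg.Agent.GH.Cov.LieU4
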