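import Cfsg.Agent.GH.Cov.XOfCore

/-!
# GH-COV: the elementary facts on `X = K / O(K)`, a double cover of `L` (helper752)

`π : X →* L` onto with kernel `{1, z}`, `D : Core L`, and in `X` two commuting `SL₂(3)`'s `⟨I₁, J₁, E₁⟩`, `⟨I₂, J₂, E₂⟩`
with centres `⟨z₁⟩`, `⟨z₂⟩`, `z = z₁ z₂ ≠ 1`.
-/

set_option autoImplicit false

open Subgroup

namespace Cfsg.Agent.GH.Cov.XLevel

open Cfsg.Agent.GH.Cov.LieData Cfsg.Agent.GH.Cov.I5

section Oct

variable {X : Type*} [Group X] {w I J E : X}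

/-- the list of the elements of `⟨I, J⟩` -/
def Q8 (w I J : X) (x : X) : Prop :=
  x = 1 ∨ x = w ∨ x = I ∨ x = w * I ∨ x = J ∨ x = w * J ∨ x = I * J ∨ x = w * (I * J)

theorem wI (h : Trip w I J E) : I * w = w * I := by rw [← h.ii]; group

theorem wJ (h : Trip w I J E) : J * w = w * J := by rw [← h.jj]; group

theorem wE (h : Trip w I J E) : E * w = w * E := by
  have h1 : E * (I * I) * E⁻¹ = J * J := by
    calc E * (I * I) * E⁻¹ = (E * I * E⁻¹) * (E * I * E⁻¹) := by group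
      _ = J * J := by rw [h.di]
  rw [h.ii, h.jj] at h1
  calc E * w = (E * w * E⁻¹) * E := by group
    _ = w * E := by rw [h1]

theorem Q8.mul_I (h : Trip w I J E) (hw : w * w = 1) {x : X} (hx : Q8 w I J x) : Q8 w I J (x * I) := by
  have hI := wI h
  have hJ := wJ h
  have hJI : J * I = w * (I * J) := h.ji
  rcases hx with rfl | rfl | rfl | rfl | rfl | rfl | rfl | rfl
  · exact Or.inr (Or.inr (Or.inl (one_mul _)))
  · exact Or.inr (Or.inr (Or.inr (Or.inl rfl)))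
  · exact Or.inr (Or.inl h.ii)
  · left
    rw [mul_assoc, h.ii, hw]
  · exact Or.inr (Or.inr (Or.inr (Or.inr (Or.inr (Or.inr (Or.inr hJI))))))
  · refine Or.inr (Or.inr (Or.inr (Or.inr (Or.inr (Or.inr (Or.inl ?_))))))
    rw [mul_assoc, hJI, ← mul_assoc, hw, one_mul]
  · -- I * J * I = I * (w * (I * J)) = w * w * J = J
    refine Or.inr (Or.inr (Or.inr (Or.inr (Or.inl ?_))))
    calc I * J * I = I * (J * I) := mul_assoc _ _ _
      _ = (I * w) * I * J := by rw [hJI]; group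
      _ = w * (I * I) * J := by rw [hI]; group
      _ = J := by rw [h.ii, hw, one_mul]
  · refine Or.inr (Or.inr (Or.inr (Or.inr (Or.inr (Or.inl ?_)))))
    calc w * (I * J) * I = w * (I * (J * I)) := by group
      _ = w * ((I * w) * I * J) := by rw [hJI]; group
      _ = w * (w * (I * I) * J) := by rw [hI]; group
      _ = w * J := by rw [h.ii, hw, one_mul]

theorem Q8.mul_J (h : Trip w I J E) (hw : w * w = 1) {x : X} (hx : Q8 w I J x) : Q8 w I J (x * J) := by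
  have hI := wI h
  have hJ := wJ h
  rcases hx with rfl | rfl | rfl | rfl | rfl | rfl | rfl | rfl
  · exact Or.inr (Or.inr (Or.inr (Or.inr (Or.inl (one_mul _)))))
  · exact Or.inr (Or.inr (Or.inr (Or.inr (Or.inr (Or.inl rfl)))))
  · exact Or.inr (Or.inr (Or.inr (Or.inr (Or.inr (Or.inr (Or.inl rfl))))))
  · exact Or.inr (Or.inr (Or.inr (Or.inr (Or.inr (Or.inr (Or.inr (mul_assoc _ _ _)))))))
  · exact Or.inr (Or.inl h.jj)
  · left
    rw [mul_assoc, h.jj, hw]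
  · refine Or.inr (Or.inr (Or.inr (Or.inl ?_)))
    rw [mul_assoc, h.jj, hI]
  · refine Or.inr (Or.inr (Or.inl ?_))
    rw [mul_assoc, mul_assoc, h.jj, hI, ← mul_assoc, hw, one_mul]

theorem Q8.mul_w (h : Trip w I J E) (hw : w * w = 1) {x : X} (hx : Q8 w I J x) : Q8 w I J (x * w) := by
  have := (hx.mul_I h hw).mul_I h hw
  rwa [mul_assoc, h.ii] at this

/-- `⟨I, J⟩` consists of the eight listed elements. -/
theorem Q8.of_mem (h : Trip w I J E) (hw : w * w = 1) {x : X} (hx : x ∈ closure ({I, J} : Set X)) : Q8 w I J x := by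
  have hI3 : I⁻¹ = w * I := by
    rw [inv_eq_iff_mul_eq_one, ← mul_assoc, wI h, mul_assoc, h.ii, hw]
  have hJ3 : J⁻¹ = w * J := by
    rw [inv_eq_iff_mul_eq_one, ← mul_assoc, wJ h, mul_assoc, h.jj, hw]
  induction hx using closure_induction_right with
  | one => exact Or.inl rfl
  | mul_right x _ y hy hx =>
    rcases hy with rfl | hy
    · exact hx.mul_I h hw
    · rw [Set.mem_singleton_iff] at hy
      rw [hy]
      exact hx.mul_J h hw
  | mul_inv_cancel x _ y hy hx =>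
    rcases hy with rfl | hy
    · rw [hI3, ← mul_assoc]
      exact (hx.mul_w h hw).mul_I h hw
    · rw [Set.mem_singleton_iff] at hy
      rw [hy, hJ3, ← mul_assoc]
      exact (hx.mul_w h hw).mul_J h hw

/-- every element of `⟨I, J⟩` other than `1` is `w` or has square `w` -/
theorem sq_of_mem (h : Trip w I J E) (hw : w * w = 1) {x : X} (hx : x ∈ closure ({I, J} : Set X)) :
    x = 1 ∨ x = w ∨ x * x = w := by
  have hI := wI h
  have hJ := wJ h
  have hIJ : (I * J) * (I * J) = w := by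
    calc (I * J) * (I * J) = I * (J * I) * J := by group
      _ = (I * w) * I * (J * J) := by rw [h.ji]; group
      _ = w * (I * I) * (J * J) := by rw [hI]; group
      _ = w := by rw [h.ii, h.jj, hw, one_mul]
  have hc : ∀ a : X, a * w = w * a → (w * a) * (w * a) = a * a := by
    intro a ha
    calc (w * a) * (w * a) = w * (a * w) * a := by group
      _ = (w * w) * a * a := by rw [ha]; group
      _ = a * a := by rw [hw, one_mul]
  rcases Q8.of_mem h hw hx with rfl | rfl | rfl | rfl | rfl | rfl | rfl | rfl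
  · exact Or.inl rfl
  · exact Or.inr (Or.inl rfl)
  · exact Or.inr (Or.inr h.ii)
  · exact Or.inr (Or.inr ((hc _ hI).trans h.ii))
  · exact Or.inr (Or.inr h.jj)
  · exact Or.inr (Or.inr ((hc _ hJ).trans h.jj))
  · exact Or.inr (Or.inr hIJ)
  · refine Or.inr (Or.inr ((hc _ ?_).trans hIJ))
    rw [mul_assoc, hJ, ← mul_assoc, hI, mul_assoc]

theorem norm_mem (h : Trip w I J E) {x : X} (hx : x ∈ closure ({I, J} : Set X)) :
    E * x * E⁻¹ ∈ closure ({I, J} : Set X) := by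
  have hI : I ∈ closure ({I, J} : Set X) := subset_closure (by simp)
  have hJ : J ∈ closure ({I, J} : Set X) := subset_closure (by simp)
  have h1 : closure ({I, J} : Set X) ≤ (closure ({I, J} : Set X)).comap (MulAut.conj E).toMonoidHom := by
    rw [closure_le]
    intro y hy
    have hy' : E * y * E⁻¹ ∈ closure ({I, J} : Set X) := by
      rcases hy with hy | hy
      · rw [hy, h.di]; exact hJ
      · rw [Set.mem_singleton_iff] at hy
        rw [hy, h.dj]; exact mul_mem hI hJ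
    exact hy'
  exact h1 hx

/-- the quaternion group with its 3-element is an `Oct` -/
theorem oct (h : Trip w I J E) (hw : w * w = 1) : Oct (closure ({I, J} : Set X)) E w where
  pgrp := by
    intro x
    refine ⟨2, Subtype.ext ?_⟩
    show (x : X) ^ 2 ^ 2 = 1
    have h4 : (x : X) ^ 2 ^ 2 = ((x : X) * x) * ((x : X) * x) := by
      rw [pow_succ 2 1, pow_one, pow_mul, pow_two, pow_two]
    rw [h4]
    rcases sq_of_mem h hw x.2 with h1 | h1 | h1
    · rw [h1]; simp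
    · rw [h1, hw, one_mul]
    · rw [h1, hw]
  odd := by
    have h3 : E ^ 3 = 1 := by rw [pow_succ, pow_two]; exact h.d3
    exact Odd.of_dvd_nat (by decide : Odd 3) (orderOf_dvd_of_pow_eq_one h3)
  norm := fun a ha => norm_mem h ha
  gen := by
    intro B hB
    have hI : I ∈ closure ({I, J} : Set X) := subset_closure (by simp)
    have hJ : J ∈ closure ({I, J} : Set X) := subset_closure (by simp)
    have h1 := hB I hI
    have h2 := hB J hJ
    rw [h.di] at h1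
    rw [h.dj] at h2
    have h3 : I ∈ B := by
      have := inv_mem h2
      have e : (J * (I * J)⁻¹)⁻¹ = I := by group
      rwa [e] at this
    have h4 : J ∈ B := by
      have := mul_mem (inv_mem h1) h3
      have e : (I * J⁻¹)⁻¹ * I = J := by group
      rwa [e] at this
    rw [closure_le]
    rintro y (rfl | hy)
    · exact h3
    · rw [Set.mem_singleton_iff] at hy
      rw [hy]; exact h4
  mem := by
    rw [← h.ii]
    exact mul_mem (subset_closure (by simp)) (subset_closure (by simp))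
  min := by
    intro N hN _ hne
    obtain ⟨n, hn1'⟩ := (Subgroup.ne_bot_iff_exists_ne_one).1 hne
    have hn : (n : X) ∈ N := n.2
    have hn1 : (n : X) ≠ 1 := fun h0 => hn1' (Subtype.ext h0)
    rcases sq_of_mem h hw (hN hn) with h1 | h1 | h1
    · exact absurd h1 hn1
    · exact h1 ▸ hn
    · exact h1 ▸ mul_mem hn hn

theorem closure_comm {a b c d : X} (h1 : a * c = c * a) (h2 : a * d = d * a) (h3 : b * c = c * b)
    (h4 : b * d = d * b) : ∀ x ∈ closure ({a, b} : Set X), ∀ y ∈ closure ({c, d} : Set X), x * y = y * x := by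
  intro x hx y hy
  have h5 : closure ({c, d} : Set X) ≤ centralizer {a} := by
    rw [closure_le]
    rintro z (rfl | hz)
    · show z ∈ centralizer {a}
      rw [mem_centralizer_singleton_iff]
      exact h1.symm
    · rw [Set.mem_singleton_iff] at hz
      subst hz
      show z ∈ centralizer {a}
      rw [mem_centralizer_singleton_iff]
      exact h2.symm
  have h6 : closure ({c, d} : Set X) ≤ centralizer {b} := by
    rw [closure_le]
    rintro z (rfl | hz)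
    · show z ∈ centralizer {b}
      rw [mem_centralizer_singleton_iff]
      exact h3.symm
    · rw [Set.mem_singleton_iff] at hz
      subst hz
      show z ∈ centralizer {b}
      rw [mem_centralizer_singleton_iff]
      exact h4.symm
  have h7 : closure ({a, b} : Set X) ≤ centralizer {y} := by
    rw [closure_le]
    rintro z (rfl | hz)
    · show z ∈ centralizer {y}
      rw [mem_centralizer_singleton_iff]
      exact (mem_centralizer_singleton_iff.1 (h5 hy)).symm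
    · rw [Set.mem_singleton_iff] at hz
      subst hz
      show z ∈ centralizer {y}
      rw [mem_centralizer_singleton_iff]
      exact (mem_centralizer_singleton_iff.1 (h6 hy)).symm
  exact mem_centralizer_singleton_iff.1 (h7 hx)

end Oct

section Cover

variable {X L : Type*} [Group X] [Group L]

/-- The two commuting `SL₂(3)`'s of `X` over those of `L`, and the centre of `X`. -/
structure Lifts (π : X →* L) (D : Core L) (z z₁ z₂ I₁ J₁ E₁ I₂ J₂ E₂ : X) : Prop where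
  surj : Function.Surjective π
  ker : ∀ x, π x = 1 ↔ x = 1 ∨ x = z
  central : ∀ x, x * z = z * x
  zz : z = z₁ * z₂
  z_ne : z ≠ 1
  sq₁ : z₁ * z₁ = 1
  sq₂ : z₂ * z₂ = 1
  trip₁ : Trip z₁ I₁ J₁ E₁
  trip₂ : Trip z₂ I₂ J₂ E₂
  pi_I₁ : π I₁ = D.i₁
  pi_J₁ : π J₁ = D.j₁
  pi_E₁ : π E₁ = D.d₁
  pi_I₂ : π I₂ = D.i₂
  pi_J₂ : π J₂ = D.j₂
  pi_E₂ : π E₂ = D.d₂
  comm : ∀ a ∈ ({I₁, J₁, E₁} : Set X), ∀ b ∈ ({I₂, J₂, E₂} : Set X), a * b = b * a

variable {π : X →* L} {D : Core L} {z z₁ z₂ I₁ J₁ E₁ I₂ J₂ E₂ : X}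

namespace Lifts

theorem pi_z₁ (h : Lifts π D z z₁ z₂ I₁ J₁ E₁ I₂ J₂ E₂) : π z₁ = D.t := by
  rw [← h.trip₁.ii, map_mul, h.pi_I₁, D.trip₁.ii]

theorem pi_z₂ (h : Lifts π D z z₁ z₂ I₁ J₁ E₁ I₂ J₂ E₂) : π z₂ = D.t := by
  rw [← h.trip₂.ii, map_mul, h.pi_I₂, D.trip₂.ii]

theorem pi_z (h : Lifts π D z z₁ z₂ I₁ J₁ E₁ I₂ J₂ E₂) : π z = 1 := (h.ker z).2 (Or.inr rfl)

theorem cII (h : Lifts π D z z₁ z₂ I₁ J₁ E₁ I₂ J₂ E₂) : I₁ * I₂ = I₂ * I₁ := h.comm _ (by simp) _ (by simp)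

theorem z₁_ne (h : Lifts π D z z₁ z₂ I₁ J₁ E₁ I₂ J₂ E₂) : z₁ ≠ 1 := by
  intro h1
  apply D.t_ne
  rw [← h.pi_z₁, h1, map_one]

theorem z₂_ne (h : Lifts π D z z₁ z₂ I₁ J₁ E₁ I₂ J₂ E₂) : z₂ ≠ 1 := by
  intro h1
  apply D.t_ne
  rw [← h.pi_z₂, h1, map_one]

theorem comm₁₂ (h : Lifts π D z z₁ z₂ I₁ J₁ E₁ I₂ J₂ E₂) : z₁ * z₂ = z₂ * z₁ := by
  rw [← h.trip₁.ii, ← h.trip₂.ii]
  have hc : Commute I₁ I₂ := h.cII
  exact ((hc.mul_left hc).mul_right (hc.mul_left hc)).eq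

theorem z_sq (h : Lifts π D z z₁ z₂ I₁ J₁ E₁ I₂ J₂ E₂) : z * z = 1 := by
  rw [h.zz]
  calc z₁ * z₂ * (z₁ * z₂) = z₁ * (z₂ * z₁) * z₂ := by group
    _ = (z₁ * z₁) * (z₂ * z₂) := by rw [← h.comm₁₂]; group
    _ = 1 := by rw [h.sq₁, h.sq₂, one_mul]

theorem z₁_ne_z (h : Lifts π D z z₁ z₂ I₁ J₁ E₁ I₂ J₂ E₂) : z₁ ≠ z := by
  intro h1
  apply D.t_ne
  rw [← h.pi_z₁, h1, h.pi_z]

theorem z₁_mul_z (h : Lifts π D z z₁ z₂ I₁ J₁ E₁ I₂ J₂ E₂) : z₁ * z = z₂ := by
  rw [h.zz, ← mul_assoc, h.sq₁, one_mul]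

/-- two elements with the same image differ by `z` -/
theorem eq_or (h : Lifts π D z z₁ z₂ I₁ J₁ E₁ I₂ J₂ E₂) {a b : X} (hab : π a = π b) : a = b ∨ a = b * z := by
  have h1 : π (b⁻¹ * a) = 1 := by rw [map_mul, map_inv, hab, inv_mul_cancel]
  rcases (h.ker _).1 h1 with h2 | h2
  · left
    rw [inv_mul_eq_one] at h2
    exact h2.symm
  · right
    rw [← h2]; group

/-- `z₁` and `z₂` are conjugate in `X` -/
theorem conj₁₂ (h : Lifts π D z z₁ z₂ I₁ J₁ E₁ I₂ J₂ E₂) : IsConj z₁ z₂ := by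
  obtain ⟨w, hw⟩ := D.swap
  obtain ⟨W, rfl⟩ := h.surj w
  rw [isConj_iff]
  refine ⟨W, ?_⟩
  have h1 : π (W * I₁ * W⁻¹) = π I₂ := by rw [map_mul, map_mul, map_inv, h.pi_I₁, h.pi_I₂, hw]
  have h2 : W * z₁ * W⁻¹ = (W * I₁ * W⁻¹) * (W * I₁ * W⁻¹) := by
    rw [← h.trip₁.ii]; group
  rw [h2]
  rcases h.eq_or h1 with h3 | h3
  · rw [h3, h.trip₂.ii]
  · rw [h3]
    calc I₂ * z * (I₂ * z) = I₂ * (z * I₂) * z := by group
      _ = I₂ * I₂ * (z * z) := by rw [← h.central]; group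
      _ = z₂ := by rw [h.z_sq, mul_one, h.trip₂.ii]

theorem sq_II (h : Lifts π D z z₁ z₂ I₁ J₁ E₁ I₂ J₂ E₂) : (I₁ * I₂) * (I₁ * I₂) = z := by
  rw [h.zz, ← h.trip₁.ii, ← h.trip₂.ii]
  calc I₁ * I₂ * (I₁ * I₂) = I₁ * (I₂ * I₁) * I₂ := by group
    _ = I₁ * I₁ * (I₂ * I₂) := by rw [← h.cII]; group

/-- `inv`: every involution of `X` other than `z` is conjugate to `z₁` -/
theorem inv (h : Lifts π D z z₁ z₂ I₁ J₁ E₁ I₂ J₂ E₂) (x : X) (hx : x * x = 1) (hx1 : x ≠ 1) (hxz : x ≠ z) :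
    IsConj x z₁ := by
  have h1 : π x * π x = 1 := by rw [← map_mul, hx, map_one]
  have h2 : π x ≠ 1 := by
    intro h2
    rcases (h.ker x).1 h2 with h3 | h3
    · exact hx1 h3
    · exact hxz h3
  rcases D.invol (π x) h1 h2 with h3 | h3
  · obtain ⟨g, hg⟩ := isConj_iff.1 h3
    obtain ⟨g, rfl⟩ := h.surj g
    have h4 : π x = π (g * z₁ * g⁻¹) := by rw [map_mul, map_mul, map_inv, h.pi_z₁, hg]
    rcases h.eq_or h4 with h5 | h5
    · exact (isConj_iff.2 ⟨g, h5.symm⟩ : IsConj z₁ x).symm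
    · have h6 : x = g * z₂ * g⁻¹ := by
        rw [h5, ← h.z₁_mul_z]
        calc g * z₁ * g⁻¹ * z = g * z₁ * (g⁻¹ * z) := by group
          _ = g * (z₁ * z) * g⁻¹ := by rw [h.central g⁻¹]; group
      have h7 : IsConj z₂ x := isConj_iff.2 ⟨g, h6.symm⟩
      exact h7.symm.trans h.conj₁₂.symm
  · exfalso
    obtain ⟨g, hg⟩ := isConj_iff.1 h3
    obtain ⟨g, rfl⟩ := h.surj g
    have h4 : π x = π (g * (I₁ * I₂) * g⁻¹) := by
      rw [map_mul, map_mul, map_mul, map_inv, h.pi_I₁, h.pi_I₂, hg]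
    have h5 : (g * (I₁ * I₂) * g⁻¹) * (g * (I₁ * I₂) * g⁻¹) = z := by
      calc (g * (I₁ * I₂) * g⁻¹) * (g * (I₁ * I₂) * g⁻¹) = g * ((I₁ * I₂) * (I₁ * I₂)) * g⁻¹ := by group
        _ = z := by rw [h.sq_II, h.central g]; group
    rcases h.eq_or h4 with h6 | h6
    · apply h.z_ne
      rw [← h5, ← h6, hx]
    · apply h.z_ne
      rw [← hx, h6]
      calc z = (g * (I₁ * I₂) * g⁻¹) * (g * (I₁ * I₂) * g⁻¹) := h5.symm
        _ = (g * (I₁ * I₂) * g⁻¹) * (g * (I₁ * I₂) * g⁻¹) * (z * z) := by rw [h.z_sq, mul_one]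
        _ = (g * (I₁ * I₂) * g⁻¹) * ((g * (I₁ * I₂) * g⁻¹) * z) * z := by group
        _ = (g * (I₁ * I₂) * g⁻¹) * (z * (g * (I₁ * I₂) * g⁻¹)) * z := by
          rw [h.central (g * (I₁ * I₂) * g⁻¹)]
        _ = (g * (I₁ * I₂) * g⁻¹ * z) * (g * (I₁ * I₂) * g⁻¹ * z) := by group

theorem z₁_comm_I₁ (h : Lifts π D z z₁ z₂ I₁ J₁ E₁ I₂ J₂ E₂) : I₁ * z₁ = z₁ * I₁ := wI h.trip₁

theorem z₁_comm_I₂ (h : Lifts π D z z₁ z₂ I₁ J₁ E₁ I₂ J₂ E₂) : I₂ * z₁ = z₁ * I₂ := by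
  rw [← h.trip₁.ii, ← mul_assoc, ← h.cII, mul_assoc, ← h.cII, mul_assoc]

/-- `sqz` -/
theorem sqz (h : Lifts π D z z₁ z₂ I₁ J₁ E₁ I₂ J₂ E₂) : ∃ c, c * z₁ = z₁ * c ∧ c * c = z := by
  refine ⟨I₁ * I₂, ?_, h.sq_II⟩
  rw [mul_assoc, h.z₁_comm_I₂, ← mul_assoc, h.z₁_comm_I₁, mul_assoc]

/-- `quat` -/
theorem quat (h : Lifts π D z z₁ z₂ I₁ J₁ E₁ I₂ J₂ E₂) :
    Oct (closure ({I₁, J₁} : Set X)) E₁ z₁ ∧ Oct (closure ({I₂, J₂} : Set X)) E₂ (z₁ * z) ∧
      ∀ a ∈ closure ({I₁, J₁} : Set X), ∀ b ∈ closure ({I₂, J₂} : Set X), a * b = b * a := by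
  refine ⟨oct h.trip₁ h.sq₁, ?_, ?_⟩
  · rw [h.z₁_mul_z]
    exact oct h.trip₂ h.sq₂
  · exact closure_comm (h.comm _ (by simp) _ (by simp)) (h.comm _ (by simp) _ (by simp))
      (h.comm _ (by simp) _ (by simp)) (h.comm _ (by simp) _ (by simp))

end Lifts

open Cfsg.Agent.GH.Cov.Lft Cfsg.Agent.GH.Cov.XOfCore in
/-- The lifts given by `XCore`. -/
theorem lifts_of_xcore (c : XCore D π) (h : CExt π) (hk : ∃ x, π x = 1 ∧ x ≠ 1)
    (hker : ∀ x, π x = 1 → x = 1 ∨ x = c.z₁ * c.z₂) :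
    Lifts π D (c.z₁ * c.z₂) c.z₁ c.z₂ c.I₁ c.J₁ c.E₁ c.I₂ c.J₂ c.E₂ where
  surj := h.surj
  ker := by
    intro x
    refine ⟨hker x, ?_⟩
    rintro (rfl | rfl)
    · exact map_one _
    · exact c.π_w
  central := fun x => (h.cen _ c.π_w x).symm
  zz := rfl
  z_ne := by
    intro h1
    obtain ⟨x, hx, hx1⟩ := hk
    rcases hker x hx with h2 | h2
    · exact hx1 h2
    · exact hx1 (h2.trans h1)
  sq₁ := c.sq₁
  sq₂ := c.sq₂
  trip₁ := c.trip₁
  trip₂ := c.trip₂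
  pi_I₁ := c.π_I₁
  pi_J₁ := c.π_J₁
  pi_E₁ := c.π_E₁
  pi_I₂ := c.π_I₂
  pi_J₂ := c.π_J₂
  pi_E₂ := c.π_E₂
  comm := by
    rintro a ha b hb
    refine XCore.comm (D := D) h ?_ ?_
    · rcases ha with rfl | rfl | ha
      · exact c.I₁_mem
      · exact c.J₁_mem
      · rw [Set.mem_singleton_iff] at ha
        rw [ha]; exact c.E₁_mem
    · rcases hb with rfl | rfl | hb
      · exact c.I₂_mem
      · exact c.J₂_mem
      · rw [Set.mem_singleton_iff] at hb
        rw [hb]; exact c.E₂_mem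

end Cover

end Cfsg.Agent.GH.Cov.XLevel
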