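import Mathlib
import Cfsg.Agent.GH.Cov.XOfCore

/-!
# GH-COV: components of `C_X(z₁)` and the types of automorphisms, from `L` to `X`

`Ctx D π`: `X` finite of sectional 2-rank at most 4, `π : X →* L` central extension by a nontrivial 2-group,
`Inj` for all twists of `π` by automorphisms of `L`.
-/

set_option autoImplicit false

open Subgroup Cfsg

namespace Cfsg.Agent.GH.Cov.XTypes

open Cfsg.Agent.GH.Cov.LieData Cfsg.Agent.GH.Cov.Lft Cfsg.Agent.GH.Cov.I5 Cfsg.Agent.GH.Cov.XOfCore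

variable {X L : Type*} [Group X] [Group L] {D : Core L} {π : X →* L}

/-- Everything that is known about the central extension. -/
structure Ctx (D : Core L) (π : X →* L) (z : X) : Prop where
  cext : CExt π
  rank : SectionalPRankLE 2 4 X
  z_ne : z ≠ 1
  π_z : π z = 1
  inj : ∀ χ : MulAut L, Inj D (χ.toMonoidHom.comp π)

/-- twist of `π` by an automorphism of `L` -/
abbrev tw (χ : MulAut L) (π : X →* L) : X →* L := χ.toMonoidHom.comp π

theorem tw_one (π : X →* L) : tw 1 π = π := rfl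

theorem CExt.tw (h : CExt π) (χ : MulAut L) : CExt (tw χ π) where
  surj := χ.surjective.comp h.surj
  cen := fun c hc => h.cen c ((map_eq_one_iff χ χ.injective).mp hc)
  two := fun c hc => h.two c ((map_eq_one_iff χ χ.injective).mp hc)

variable {z : X}

theorem Ctx.tw (h : Ctx D π z) (χ : MulAut L) : Ctx D (tw χ π) z where
  cext := CExt.tw h.cext χ
  rank := h.rank
  z_ne := h.z_ne
  π_z := by
    show χ (π z) = 1
    rw [h.π_z, map_one]
  inj := fun χ' => by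
    have := h.inj (χ' * χ)
    exact this

theorem Ctx.inj' (h : Ctx D π z) : Inj D π := by
  have := h.inj 1
  exact this

theorem Ctx.exists_xcore (h : Ctx D π z) : Nonempty (XCore D π) := XOfCore.exists_xcore h.cext h.inj'

theorem Ctx.z_eq [Finite X] (h : Ctx D π z) (c : XCore D π) : c.z₁ * c.z₂ = z := by
  rcases c.ker_sub h.cext h.rank h.π_z with h1 | h1
  · exact absurd h1 h.z_ne
  · exact h1.symm

theorem Ctx.ker [Finite X] (h : Ctx D π z) {x : X} (hx : π x = 1) : x = 1 ∨ x = z := by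
  obtain ⟨c⟩ := h.exists_xcore
  rw [← h.z_eq c]
  exact c.ker_sub h.cext h.rank hx

theorem Ctx.zz [Finite X] (h : Ctx D π z) : z * z = 1 := by
  obtain ⟨c⟩ := h.exists_xcore
  rw [← h.z_eq c]
  exact c.w_sq h.cext

theorem Ctx.central (h : Ctx D π z) (x : X) : x * z = z * x := (h.cext.cen z h.π_z x).symm

/-- two elements with the same image differ by `1` or `z` -/
theorem Ctx.eq_or [Finite X] (h : Ctx D π z) {x y : X} (hxy : π x = π y) : x = y ∨ x = y * z := by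
  rcases h.ker (x := y⁻¹ * x) (by rw [map_mul, map_inv, hxy, inv_mul_cancel]) with h1 | h1
  · left; exact (inv_mul_eq_one.mp h1).symm
  · right; rw [← h1]; group

/-- elements with the same image have the same square -/
theorem Ctx.sq_eq [Finite X] (h : Ctx D π z) {x y : X} (hxy : π x = π y) : x * x = y * y := by
  rcases h.eq_or hxy with h1 | h1
  · rw [h1]
  · rw [h1]
    calc y * z * (y * z) = y * (z * y) * z := by group
      _ = y * (y * z) * z := by rw [h.central y]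
      _ = y * y * (z * z) := by group
      _ = y * y := by rw [h.zz, mul_one]

theorem Ctx.sq_conj [Finite X] (h : Ctx D π z) {x y g : X} (hxy : π x = π g * π y * (π g)⁻¹) :
    x * x = g * (y * y) * g⁻¹ := by
  have := h.sq_eq (x := x) (y := g * y * g⁻¹) (by rw [hxy, map_mul, map_mul, map_inv])
  rw [this]; group

theorem Ctx.z₁_ne_z₂ [Finite X] (h : Ctx D π z) (c : XCore D π) : c.z₁ ≠ c.z₂ := by
  intro e
  apply h.z_ne
  rw [← h.z_eq c, ← e, c.sq₁]

theorem Ctx.disj [Finite X] (h : Ctx D π z) : Lft π D.A₁ ⊓ Lft π D.A₂ = ⊥ := by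
  obtain ⟨c⟩ := h.exists_xcore
  rw [eq_bot_iff]
  rintro x ⟨hx1, hx2⟩
  rw [mem_bot]
  have a1 := map_mem hx1
  have a2 := map_mem hx2
  by_cases ha : π x * π x = 1
  · rcases D.inv₁ _ a1 ha with h1 | h1
    · exact h.inj'.one x hx1 h1
    · exfalso
      apply h.z₁_ne_z₂ c
      rw [← h.inj'.eq₁ hx1 c.z₁_mem (by rw [h1, c.π_z₁]), ← h.inj'.eq₂ hx2 c.z₂_mem (by rw [h1, c.π_z₂])]
  · exfalso
    have h1 := D.cent₂ _ a2 ha _ D.i₂_mem _ D.j₂_mem (D.comm _ a1 _ D.i₂_mem).symm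
      (D.comm _ a1 _ D.j₂_mem).symm
    have h2 := D.trip₂.ji
    rw [← h1] at h2
    exact D.t_ne (mul_eq_right.mp h2.symm)

theorem comm_z₁ (h : Ctx D π z) (c : XCore D π) {x : X} (hx : x ∈ Lft π D.A₁) : x * c.z₁ = c.z₁ * x := by
  have h1 : x * c.z₁ * x⁻¹ ∈ Lft π D.A₁ := mul_mem (mul_mem hx c.z₁_mem) (inv_mem hx)
  have ha := map_mem hx
  have h2 : π (x * c.z₁ * x⁻¹) = D.t := by
    have h3 : π (x * c.z₁ * x⁻¹) ∈ D.A₁ := map_mem h1
    have h4 : π (x * c.z₁ * x⁻¹) * π (x * c.z₁ * x⁻¹) = 1 := by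
      rw [← map_mul]
      have : x * c.z₁ * x⁻¹ * (x * c.z₁ * x⁻¹) = x * (c.z₁ * c.z₁) * x⁻¹ := by group
      rw [this, c.sq₁, mul_one, mul_inv_cancel, map_one]
    rcases D.inv₁ _ h3 h4 with h5 | h5
    · exfalso
      rw [map_mul, map_mul, map_inv, c.π_z₁, mul_inv_eq_one] at h5
      exact D.t_ne (mul_eq_left.mp h5)
    · exact h5
  have := h.inj'.eq₁ h1 c.z₁_mem (by rw [h2, c.π_z₁])
  exact mul_inv_eq_iff_eq_mul.mp this

/-- The preimage of `A₁A₂` is the product of the lifts. -/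
theorem comap_sup [Finite X] (h : Ctx D π z) : (D.A₁ ⊔ D.A₂).comap π = Lft π D.A₁ ⊔ Lft π D.A₂ := by
  obtain ⟨c⟩ := h.exists_xcore
  have hm1 : (Lft π D.A₁).map π = D.A₁ := by
    apply le_antisymm
    · rintro _ ⟨x, hx, rfl⟩; exact map_mem hx
    · intro b hb
      obtain ⟨x, hx, hxb⟩ := h.cext.exists_mem D.gen₁ hb
      exact ⟨x, hx, hxb⟩
  have hm2 : (Lft π D.A₂).map π = D.A₂ := by
    apply le_antisymm
    · rintro _ ⟨x, hx, rfl⟩; exact map_mem hx
    · intro b hb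
      obtain ⟨x, hx, hxb⟩ := h.cext.exists_mem D.gen₂ hb
      exact ⟨x, hx, hxb⟩
  apply le_antisymm
  · intro x hx
    have hx' : π x ∈ (Lft π D.A₁ ⊔ Lft π D.A₂).map π := by
      rw [Subgroup.map_sup, hm1, hm2]; exact hx
    obtain ⟨y, hy, hyx⟩ := hx'
    have hz : z ∈ Lft π D.A₁ ⊔ Lft π D.A₂ := by
      rw [← h.z_eq c]
      exact mul_mem (mem_sup_left c.z₁_mem) (mem_sup_right c.z₂_mem)
    rcases h.eq_or (x := x) (y := y) hyx.symm with h1 | h1
    · rw [h1]; exact hy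
    · rw [h1]; exact mul_mem hy hz
  · rw [sup_le_iff]
    exact ⟨fun x hx => mem_sup_left (map_mem hx), fun x hx => mem_sup_right (map_mem hx)⟩

theorem swap [Finite X] (h : Ctx D π z) (c : XCore D π) : ∃ w : X, w * c.z₁ * w⁻¹ = c.z₂ ∧
    w * c.z₂ * w⁻¹ = c.z₁ := by
  obtain ⟨w₀, hw₀⟩ := D.swap
  obtain ⟨w, rfl⟩ := h.cext.surj w₀
  have h1 : c.I₂ * c.I₂ = w * (c.I₁ * c.I₁) * w⁻¹ :=
    h.sq_conj (by rw [c.π_I₂, c.π_I₁, hw₀])
  rw [c.trip₁.ii, c.trip₂.ii] at h1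
  refine ⟨w, h1.symm, ?_⟩
  have hz := h.z_eq c
  have h2 : c.z₂ = c.z₁ * z := by rw [← hz, ← mul_assoc, c.sq₁, one_mul]
  rw [h2]
  calc w * (c.z₁ * z) * w⁻¹ = w * c.z₁ * (z * w⁻¹) := by group
    _ = w * c.z₁ * (w⁻¹ * z) := by rw [← h.central w⁻¹]
    _ = (w * c.z₁ * w⁻¹) * z := by group
    _ = c.z₁ * z * z := by rw [← h1, h2]
    _ = c.z₁ := by rw [mul_assoc, h.zz, mul_one]

theorem norm_sup [Finite X] (h : Ctx D π z) (c : XCore D π) {g : X} (hg : g * c.z₁ = c.z₁ * g) :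
    ∀ x ∈ Lft π D.A₁ ⊔ Lft π D.A₂, g * x * g⁻¹ ∈ Lft π D.A₁ ⊔ Lft π D.A₂ := by
  intro x hx
  rw [← comap_sup h] at hx ⊢
  rw [mem_comap] at hx ⊢
  rw [map_mul, map_mul, map_inv]
  apply D.norm _ _ _ hx
  rw [← c.π_z₁, ← map_mul, hg, map_mul]

theorem index_sup [Finite X] (h : Ctx D π z) (c : XCore D π) :
    ¬ 4 ∣ (Lft π D.A₁ ⊔ Lft π D.A₂).relIndex (centralizer {c.z₁}) := by
  intro h4
  apply D.index
  set N := (centralizer {D.t}).comap π with hN
  have hC : ∀ g, g ∈ centralizer {c.z₁} ↔ g * c.z₁ * g⁻¹ = c.z₁ := by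
    intro g
    rw [mem_centralizer_singleton_iff, mul_inv_eq_iff_eq_mul]
  have hNm : ∀ g, g ∈ N ↔ (g * c.z₁ * g⁻¹ = c.z₁ ∨ g * c.z₁ * g⁻¹ = c.z₂) := by
    intro g
    rw [hN, mem_comap, mem_centralizer_singleton_iff]
    constructor
    · intro hg
      have h1 : π (g * c.z₁ * g⁻¹) = π c.z₁ := by
        rw [map_mul, map_mul, map_inv, c.π_z₁, hg, mul_inv_cancel_right]
      rcases h.eq_or h1 with h2 | h2
      · exact Or.inl h2
      · right
        rw [h2, ← h.z_eq c, ← mul_assoc, c.sq₁, one_mul]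
    · intro hg
      have h1 : π (g * c.z₁ * g⁻¹) = D.t := by
        rcases hg with h2 | h2
        · rw [h2, c.π_z₁]
        · rw [h2, c.π_z₂]
      rw [map_mul, map_mul, map_inv, c.π_z₁, mul_inv_eq_iff_eq_mul] at h1
      exact h1
  have hCN : centralizer {c.z₁} ≤ N := fun g hg => (hNm g).mpr (Or.inl ((hC g).mp hg))
  have hSC : Lft π D.A₁ ⊔ Lft π D.A₂ ≤ centralizer {c.z₁} := by
    rw [sup_le_iff]
    refine ⟨fun x hx => ?_, fun x hx => ?_⟩
    · rw [mem_centralizer_singleton_iff]; exact comm_z₁ h c hx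
    · rw [mem_centralizer_singleton_iff]; exact (XCore.comm h.cext c.z₁_mem hx).symm
  obtain ⟨w, hw1, hw2⟩ := swap h c
  have h2 : (centralizer {c.z₁}).relIndex N = 2 := by
    rw [relIndex, index_eq_two_iff]
    refine ⟨⟨w, (hNm w).mpr (Or.inr hw1)⟩, ?_⟩
    rintro ⟨b, hb⟩
    rw [mem_subgroupOf, mem_subgroupOf, hC, hC]
    show Xor' (b * w * c.z₁ * (b * w)⁻¹ = c.z₁) (b * c.z₁ * b⁻¹ = c.z₁)
    have e : b * w * c.z₁ * (b * w)⁻¹ = b * c.z₂ * b⁻¹ := by rw [← hw1]; group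
    rw [e]
    have hb' : b * c.z₂ * b⁻¹ = (b * c.z₁ * b⁻¹) * z := by
      rw [show c.z₂ = c.z₁ * z by rw [← h.z_eq c, ← mul_assoc, c.sq₁, one_mul]]
      calc b * (c.z₁ * z) * b⁻¹ = b * c.z₁ * (z * b⁻¹) := by group
        _ = b * c.z₁ * (b⁻¹ * z) := by rw [← h.central b⁻¹]
        _ = b * c.z₁ * b⁻¹ * z := by group
    have hz2 : c.z₂ * z = c.z₁ := by
      rw [← h.z_eq c, XCore.comm h.cext c.z₁_mem c.z₂_mem, ← mul_assoc, c.sq₂, one_mul]
    rcases (hNm b).mp hb with h3 | h3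
    · right
      refine ⟨h3, ?_⟩
      rw [hb', h3]
      intro h5
      exact h.z_ne (mul_eq_left.mp h5)
    · left
      rw [hb', h3, hz2]
      exact ⟨rfl, (h.z₁_ne_z₂ c).symm⟩
  have h3 : (Lft π D.A₁ ⊔ Lft π D.A₂).relIndex N = (D.A₁ ⊔ D.A₂).relIndex (centralizer {D.t}) := by
    rw [← comap_sup h, relIndex_comap, hN, map_comap_eq_self_of_surjective h.cext.surj]
  rw [← h3, ← relIndex_mul_relIndex _ _ _ hSC hCN, h2]
  obtain ⟨k, hk⟩ := h4
  exact ⟨k, by rw [hk]; ring⟩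

/-- Lifts of elements conjugate to `i₁ i₂` have square `z`. -/
theorem sq_type [Finite X] (h : Ctx D π z) {x : X} (hx : IsConj (D.i₁ * D.i₂) (π x)) : x * x = z := by
  obtain ⟨c⟩ := h.exists_xcore
  obtain ⟨g₀, hg₀⟩ := isConj_iff.mp hx
  obtain ⟨g, rfl⟩ := h.cext.surj g₀
  have h1 : x * x = g * ((c.I₁ * c.I₂) * (c.I₁ * c.I₂)) * g⁻¹ :=
    h.sq_conj (by rw [map_mul, c.π_I₁, c.π_I₂, hg₀])
  have h2 : (c.I₁ * c.I₂) * (c.I₁ * c.I₂) = z := by
    calc (c.I₁ * c.I₂) * (c.I₁ * c.I₂) = c.I₁ * (c.I₂ * c.I₁) * c.I₂ := by group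
      _ = c.I₁ * (c.I₁ * c.I₂) * c.I₂ := by rw [← XCore.comm h.cext c.I₁_mem c.I₂_mem]
      _ = (c.I₁ * c.I₁) * (c.I₂ * c.I₂) := by group
      _ = z := by rw [c.trip₁.ii, c.trip₂.ii, h.z_eq c]
  rw [h1, h2, h.central g, mul_inv_cancel_right]

/-- Lifts of elements conjugate to `t` are involutions. -/
theorem sq_type' [Finite X] (h : Ctx D π z) {x : X} (hx : IsConj D.t (π x)) : x * x = 1 := by
  obtain ⟨c⟩ := h.exists_xcore
  obtain ⟨g₀, hg₀⟩ := isConj_iff.mp hx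
  obtain ⟨g, rfl⟩ := h.cext.surj g₀
  have h1 : x * x = g * (c.z₁ * c.z₁) * g⁻¹ := h.sq_conj (by rw [c.π_z₁, hg₀])
  rw [h1, c.sq₁, mul_one, mul_inv_cancel]

theorem sq_twist [Finite X] (h : Ctx D π z) {χ : MulAut L} {x : X} (hx : IsConj (χ (D.i₁ * D.i₂)) (π x)) :
    x * x = z := by
  refine sq_type (h.tw χ⁻¹) (x := x) ?_
  obtain ⟨g, hg⟩ := isConj_iff.mp hx
  refine isConj_iff.mpr ⟨χ⁻¹ g, ?_⟩
  show _ = χ⁻¹ (π x)
  rw [← hg, map_mul, map_mul, map_inv, MulAut.inv_apply_self]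

theorem sq_twist' [Finite X] (h : Ctx D π z) {χ : MulAut L} {x : X} (hx : IsConj (χ D.t) (π x)) :
    x * x = 1 := by
  refine sq_type' (h.tw χ⁻¹) (x := x) ?_
  obtain ⟨g, hg⟩ := isConj_iff.mp hx
  refine isConj_iff.mpr ⟨χ⁻¹ g, ?_⟩
  show _ = χ⁻¹ (π x)
  rw [← hg, map_mul, map_mul, map_inv, MulAut.inv_apply_self]

/-- An automorphism `α` of `X` over an automorphism of `L` fixes `z`. -/
theorem map_z [Finite X] (h : Ctx D π z) {α : MulAut X} {φ : MulAut L} (hα : ∀ x, π (α x) = φ (π x)) :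
    α z = z := by
  rcases h.ker (x := α z) (by rw [hα, h.π_z, map_one]) with h1 | h1
  · exact absurd ((map_eq_one_iff α α.injective).mp h1) h.z_ne
  · exact h1

theorem fix_odd (h : Ctx D π z) {α : MulAut X} {φ : MulAut L} (hα : ∀ x, π (α x) = φ (π x))
    {x : X} (hx : Odd (orderOf x)) (hf : φ (π x) = π x) : α x = x := by
  refine h.cext.unique ?_ hx (by rw [hα, hf])
  rw [show orderOf (α x) = orderOf x from orderOf_injective α.toMonoidHom α.injective x]
  exact hx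

/-- Type I on `L` gives type I on `X`: `z` is the square of a fixed element. -/
theorem xTypeI [Finite X] (h : Ctx D π z) {α : MulAut X} {φ : MulAut L} (hα : ∀ x, π (α x) = φ (π x))
    (hT : TypeI D φ) : ∃ w, α w = w ∧ w * w = z := by
  obtain ⟨a₀, b₀, d₀, hA, ha, hb, hd, χ, hχ⟩ := hT
  obtain ⟨d, hd1, hd2⟩ := h.cext.exists_lift (odd_of_cube hA.d3)
  obtain ⟨a, ha1⟩ := h.cext.surj a₀
  have hdo : Odd (orderOf d) := by rw [hd2]; exact odd_of_cube hA.d3
  have hαd : α d = d := fix_odd h hα hdo (by rw [hd1, hd])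
  have haz : a * a = z := sq_twist h (χ := χ) (by rw [ha1]; exact hχ)
  have hαz := map_z h hα
  set b := d * a * d⁻¹ with hbdef
  have hb1 : π b = b₀ := by rw [hbdef, map_mul, map_mul, map_inv, hd1, ha1, hA.da]
  have hbz : b * b = z := by
    rw [hbdef]
    calc d * a * d⁻¹ * (d * a * d⁻¹) = d * (a * a) * d⁻¹ := by group
      _ = z := by rw [haz, h.central d, mul_inv_cancel_right]
  have habz : (a * b) * (a * b) = z := by
    have h1 : π (a * b) = π d * π b * (π d)⁻¹ := by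
      rw [map_mul, ha1, hb1, hd1, hA.db]
    rw [h.sq_conj h1, hbz, h.central d, mul_inv_cancel_right]
  rcases h.eq_or (x := α a) (y := a) (by rw [hα, ha1, ha]) with h1 | h1
  · exact ⟨a, h1, haz⟩
  · have h2 : α b = b * z := by
      rw [hbdef, map_mul, map_mul, map_inv, hαd, h1]
      calc d * (a * z) * d⁻¹ = d * a * (z * d⁻¹) := by group
        _ = d * a * (d⁻¹ * z) := by rw [← h.central d⁻¹]
        _ = d * a * d⁻¹ * z := by group
    refine ⟨a * b, ?_, habz⟩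
    rw [map_mul, h1, h2]
    calc a * z * (b * z) = a * (z * b) * z := by group
      _ = a * (b * z) * z := by rw [← h.central b]
      _ = a * b * (z * z) := by group
      _ = a * b := by rw [h.zz, mul_one]

/-- The four-group part of type II. -/
theorem four_fixed [Finite X] (h : Ctx D π z) {α : MulAut X} {φ : MulAut L}
    (hα : ∀ x, π (α x) = φ (π x)) {b₀ d₀ : L} (hA : AFour D.t b₀ d₀) (ht : φ D.t = D.t) (hd : φ d₀ = d₀) :
    ∃ v d : X, π v = D.t ∧ π d = d₀ ∧ v * v = 1 ∧ v ≠ 1 ∧ α v = v ∧ α d = d ∧ Odd (orderOf d) ∧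
      v * (d * v * d⁻¹) * (d * (d * v * d⁻¹) * d⁻¹) = 1 ∧ v * (d * v * d⁻¹) = (d * v * d⁻¹) * v := by
  obtain ⟨d, hd1, hd2⟩ := h.cext.exists_lift (odd_of_cube hA.d3)
  obtain ⟨c⟩ := h.exists_xcore
  have hdo : Odd (orderOf d) := by rw [hd2]; exact odd_of_cube hA.d3
  have hαd : α d = d := fix_odd h hα hdo (by rw [hd1, hd])
  have hαz := map_z h hα
  have hzz := h.zz
  have hcz := h.central
  -- for each lift `u` of `t`, the product over the `d`-orbit is in the kernel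
  have key : ∀ u : X, π u = D.t → u * u = 1 ∧ u * (d * u * d⁻¹) = (d * u * d⁻¹) * u ∧
      π (u * (d * u * d⁻¹) * (d * (d * u * d⁻¹) * d⁻¹)) = 1 := by
    intro u hu
    have hb : π (d * u * d⁻¹) = b₀ := by rw [map_mul, map_mul, map_inv, hd1, hu, hA.da]
    have h1 : u * u = 1 := sq_type' h (by rw [hu])
    have h2 : (d * u * d⁻¹) * (d * u * d⁻¹) = 1 := by
      calc (d * u * d⁻¹) * (d * u * d⁻¹) = d * (u * u) * d⁻¹ := by group
        _ = 1 := by rw [h1, mul_one, mul_inv_cancel]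
    have h3 : (u * (d * u * d⁻¹)) * (u * (d * u * d⁻¹)) = 1 := by
      have h4 : π (u * (d * u * d⁻¹)) = π d * π (d * u * d⁻¹) * (π d)⁻¹ := by
        rw [map_mul, hb, hu, hd1, hA.db]
      rw [h.sq_conj h4, h2, mul_one, mul_inv_cancel]
    refine ⟨h1, ?_, ?_⟩
    · have h4 : (u * (d * u * d⁻¹))⁻¹ = u * (d * u * d⁻¹) := inv_eq_of_mul_eq_one_right h3
      rw [mul_inv_rev, inv_eq_of_mul_eq_one_right h1, inv_eq_of_mul_eq_one_right h2] at h4
      exact h4.symm
    · have e1 : π (d * (d * u * d⁻¹) * d⁻¹) = D.t * b₀ := by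
        rw [map_mul, map_mul, map_inv, hb, hd1, hA.db]
      rw [map_mul, map_mul, e1, hb, hu]
      calc D.t * b₀ * (D.t * b₀) = D.t * (b₀ * D.t) * b₀ := by group
        _ = D.t * (D.t * b₀) * b₀ := by rw [hA.ab]
        _ = (D.t * D.t) * (b₀ * b₀) := by group
        _ = 1 := by rw [D.tt, hA.bb, mul_one]
  have hconjz : ∀ u : X, d * (u * z) * d⁻¹ = d * u * d⁻¹ * z := by
    intro u
    calc d * (u * z) * d⁻¹ = d * u * (z * d⁻¹) := by group
      _ = d * u * (d⁻¹ * z) := by rw [← hcz d⁻¹]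
      _ = d * u * d⁻¹ * z := by group
  have hprod : ∀ u : X, (u * z) * (d * (u * z) * d⁻¹) * (d * (d * (u * z) * d⁻¹) * d⁻¹) =
      u * (d * u * d⁻¹) * (d * (d * u * d⁻¹) * d⁻¹) * z := by
    intro u
    rw [hconjz u, hconjz (d * u * d⁻¹)]
    generalize d * u * d⁻¹ = u'
    generalize d * u' * d⁻¹ = u''
    calc u * z * (u' * z) * (u'' * z) = u * (z * u') * (z * u'') * z := by group
      _ = u * (u' * z) * (u'' * z) * z := by rw [← hcz u', ← hcz u'']
      _ = u * u' * (z * u'') * (z * z) := by group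
      _ = u * u' * (u'' * z) * (z * z) := by rw [← hcz u'']
      _ = u * u' * u'' * z := by rw [hzz]; group
  -- the lift with product one
  obtain ⟨v, hv, hv1⟩ : ∃ v : X, π v = D.t ∧
      v * (d * v * d⁻¹) * (d * (d * v * d⁻¹) * d⁻¹) = 1 := by
    rcases h.ker (key c.z₁ c.π_z₁).2.2 with h1 | h1
    · exact ⟨c.z₁, c.π_z₁, h1⟩
    · refine ⟨c.z₁ * z, by rw [map_mul, h.π_z, mul_one, c.π_z₁], ?_⟩
      rw [hprod, h1, hzz]
  obtain ⟨k1, k2, _⟩ := key v hv
  have hvne : v ≠ 1 := fun e => D.t_ne (by rw [← hv, e, map_one])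
  refine ⟨v, d, hv, hd1, k1, hvne, ?_, hαd, hdo, hv1, k2⟩
  rcases h.eq_or (x := α v) (y := v) (by rw [hα, hv, ht]) with h1 | h1
  · exact h1
  · exfalso
    have h2 : α (v * (d * v * d⁻¹) * (d * (d * v * d⁻¹) * d⁻¹)) = 1 := by rw [hv1, map_one]
    rw [map_mul, map_mul, map_mul, map_mul, map_inv, map_mul, map_mul, map_mul, map_mul, map_inv,
      hαd, h1, hprod, hv1, one_mul] at h2
    exact h.z_ne h2

/-- Type II on `L` gives type II on `X`. -/
theorem xTypeII [Finite X] (h : Ctx D π z) {α : MulAut X} {φ : MulAut L} (hα : ∀ x, π (α x) = φ (π x))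
    (hT : TypeII D φ) : ∃ (j v d : X) (V : Subgroup X), α j = j⁻¹ ∧ j * j = v ∧ v ≠ 1 ∧ v * v = 1 ∧ v ∈ V ∧
      IsPGroup 2 V ∧ (∀ a ∈ V, α a = a) ∧ α d = d ∧ Odd (orderOf d) ∧ (∀ a ∈ V, d * a * d⁻¹ ∈ V) ∧
      (∀ B : Subgroup X, (∀ a ∈ V, a * (d * a * d⁻¹)⁻¹ ∈ B) → V ≤ B) := by
  obtain ⟨χ, ψ, hψ, hA₁, hA₂, ⟨k₁, hk₁, hk₁t, hk₁i⟩, ⟨k₂, hk₂, hk₂t, hk₂i⟩, b₀, d₀, hA, ht, hb, hd⟩ := hT
  -- twist by `χ`
  have h' : Ctx D (tw χ π) z := h.tw χ
  have hα' : ∀ x, tw χ π (α x) = ψ (tw χ π x) := by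
    intro x
    show χ (π (α x)) = ψ (χ (π x))
    rw [hα, hψ]
    simp [MulAut.mul_apply]
  clear hα
  generalize tw χ π = π' at h' hα'
  clear h
  obtain ⟨v, d, hv, hd1, hvv, hvne, hαv, hαd, hdo, hprod, hcomm⟩ := four_fixed h' hα' hA ht hd
  obtain ⟨c⟩ := h'.exists_xcore
  -- the element `j`
  obtain ⟨j, hj1, hj2⟩ : ∃ j, α j = j⁻¹ ∧ j * j = v := by
    rcases h'.eq_or (x := v) (y := c.z₁) (by rw [hv, c.π_z₁]) with h1 | h1
    · obtain ⟨j, hj, hjk⟩ := h'.cext.exists_mem D.gen₁ hk₁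
      refine ⟨j, ?_, ?_⟩
      · have h2 : α j ∈ Lft π' D.A₁ := map_Lft (π := π') (π' := π') α (fun a => ψ a) hα' hA₁ j hj
        exact h'.inj'.eq₁ h2 (inv_mem hj) (by rw [hα', map_inv, hjk, hk₁i])
      · rw [h1]
        exact h'.inj'.eq₁ (mul_mem hj hj) c.z₁_mem (by rw [map_mul, hjk, hk₁t, c.π_z₁])
    · have h1' : v = c.z₂ := by
        rw [h1, ← h'.z_eq c, ← mul_assoc, c.sq₁, one_mul]
      obtain ⟨j, hj, hjk⟩ := h'.cext.exists_mem D.gen₂ hk₂
      refine ⟨j, ?_, ?_⟩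
      · have h2 : α j ∈ Lft π' D.A₂ := map_Lft (π := π') (π' := π') α (fun a => ψ a) hα' hA₂ j hj
        exact h'.inj'.eq₂ h2 (inv_mem hj) (by rw [hα', map_inv, hjk, hk₂i])
      · rw [h1']
        exact h'.inj'.eq₂ (mul_mem hj hj) c.z₂_mem (by rw [map_mul, hjk, hk₂t, c.π_z₂])
  -- the four-group
  set u := d * v * d⁻¹ with hu
  have huu : u * u = 1 := by
    rw [hu]
    calc d * v * d⁻¹ * (d * v * d⁻¹) = d * (v * v) * d⁻¹ := by group
      _ = 1 := by rw [hvv, mul_one, mul_inv_cancel]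
  have hdu : d * u * d⁻¹ = v * u := by
    have h1 : v * u * (d * u * d⁻¹) = 1 := hprod
    have h2 : (v * u) * (v * u) = 1 := by
      calc v * u * (v * u) = v * (u * v) * u := by group
        _ = v * (v * u) * u := by rw [← hcomm]
        _ = (v * v) * (u * u) := by group
        _ = 1 := by rw [hvv, huu, one_mul]
    exact mul_left_cancel (h1.trans h2.symm)
  have hvinv : v⁻¹ = v := inv_eq_of_mul_eq_one_right hvv
  have huinv : u⁻¹ = u := inv_eq_of_mul_eq_one_right huu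
  let V : Subgroup X :=
    { carrier := {x | x = 1 ∨ x = v ∨ x = u ∨ x = v * u}
      one_mem' := Or.inl rfl
      mul_mem' := by
        rintro a b (rfl | rfl | rfl | rfl) (rfl | rfl | rfl | rfl)
        · left; exact one_mul 1
        · right; left; exact one_mul _
        · right; right; left; exact one_mul _
        · right; right; right; exact one_mul _
        · right; left; exact mul_one _
        · left; exact hvv
        · right; right; right; rfl
        · right; right; left; rw [← mul_assoc, hvv, one_mul]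
        · right; right; left; exact mul_one _
        · right; right; right; exact hcomm.symm
        · left; exact huu
        · right; left; rw [hcomm, ← mul_assoc, huu, one_mul]
        · right; right; right; exact mul_one _
        · right; right; left; rw [hcomm, mul_assoc, hvv, mul_one]
        · right; left; rw [mul_assoc, huu, mul_one]
        · left
          calc v * u * (v * u) = v * (u * v) * u := by group
            _ = v * (v * u) * u := by rw [← hcomm]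
            _ = (v * v) * (u * u) := by group
            _ = 1 := by rw [hvv, huu, one_mul]
      inv_mem' := by
        rintro a (rfl | rfl | rfl | rfl)
        · left; exact inv_one
        · right; left; exact hvinv
        · right; right; left; exact huinv
        · right; right; right; rw [mul_inv_rev, hvinv, huinv, hcomm] }
  have hVm : ∀ x, x ∈ V ↔ (x = 1 ∨ x = v ∨ x = u ∨ x = v * u) := fun x => Iff.rfl
  have hαu : α u = u := by rw [hu, map_mul, map_mul, map_inv, hαd, hαv]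
  refine ⟨j, v, d, V, hj1, hj2, hvne, hvv, Or.inr (Or.inl rfl), ?_, ?_, hαd, hdo, ?_, ?_⟩
  · intro x
    refine ⟨1, ?_⟩
    apply Subtype.ext
    rw [pow_one, pow_two]
    rcases x with ⟨x, rfl | rfl | rfl | rfl⟩
    · exact one_mul 1
    · exact hvv
    · exact huu
    · show v * u * (v * u) = 1
      calc v * u * (v * u) = v * (u * v) * u := by group
        _ = v * (v * u) * u := by rw [← hcomm]
        _ = (v * v) * (u * u) := by group
        _ = 1 := by rw [hvv, huu, one_mul]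
  · rintro a (rfl | rfl | rfl | rfl)
    · exact map_one α
    · exact hαv
    · exact hαu
    · rw [map_mul, hαv, hαu]
  · rintro a (rfl | rfl | rfl | rfl)
    · left; rw [mul_one, mul_inv_cancel]
    · right; right; left; rfl
    · right; right; right; exact hdu
    · right; left
      calc d * (v * u) * d⁻¹ = (d * v * d⁻¹) * (d * u * d⁻¹) := by group
        _ = u * (v * u) := by rw [hdu, hu]
        _ = v := by rw [hcomm, ← mul_assoc, huu, one_mul]
  · intro B hB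
    have h1 : v * u⁻¹ ∈ B := hB v (Or.inr (Or.inl rfl))
    have h2 : u * (d * u * d⁻¹)⁻¹ ∈ B := hB u (Or.inr (Or.inr (Or.inl rfl)))
    rw [huinv] at h1
    have h3 : v ∈ B := by
      have : u * (d * u * d⁻¹)⁻¹ = v := by
        rw [hdu, mul_inv_rev, huinv, hvinv, ← mul_assoc, huu, one_mul]
      rw [this] at h2
      exact h2
    have h4 : u ∈ B := by
      have := mul_mem (inv_mem h3) h1
      rwa [inv_mul_cancel_left] at this
    rintro a (rfl | rfl | rfl | rfl)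
    · exact one_mem _
    · exact h3
    · exact h4
    · exact mul_mem h3 h4

/-- An automorphism over a bad automorphism fixes the lifts of the two `SL₂(3)`'s of some pair. -/
theorem bad_fix [Finite X] (h : Ctx D π z) {α : MulAut X} {φ : MulAut L} (hα : ∀ x, π (α x) = φ (π x))
    (hb : Bad D φ) : ∃ (χ : MulAut L) (c : XCore D (tw χ π)), c.z₁ * c.z₂ = z ∧
      α c.I₁ = c.I₁ ∧ α c.J₁ = c.J₁ ∧ α c.E₁ = c.E₁ ∧ α c.I₂ = c.I₂ ∧ α c.J₂ = c.J₂ ∧ α c.E₂ = c.E₂ := by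
  obtain ⟨_, _, χ₀, h1, h2, h3, h4, h5, h6⟩ := hb
  have h' : Ctx D (tw χ₀⁻¹ π) z := h.tw χ₀⁻¹
  obtain ⟨c⟩ := h'.exists_xcore
  set ψ : MulAut L := χ₀⁻¹ * φ * χ₀ with hψ
  have hα' : ∀ x, tw χ₀⁻¹ π (α x) = ψ (tw χ₀⁻¹ π x) := by
    intro x
    show χ₀⁻¹ (π (α x)) = ψ (χ₀⁻¹ (π x))
    rw [hα, hψ]
    simp [MulAut.mul_apply]
  have hfix : ∀ {y : L}, φ (χ₀ y) = χ₀ y → ψ y = y := by
    intro y hy
    rw [hψ, MulAut.mul_apply, MulAut.mul_apply, hy, MulAut.inv_apply_self]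
  have trip : ∀ {i j d t : L} {Z I J E : X}, Trip Z I J E → Trip t i j d → ψ i = i → ψ d = d →
      tw χ₀⁻¹ π I = i → tw χ₀⁻¹ π E = d → α I = I ∧ α J = J ∧ α E = E := by
    intro i j d t Z I J E hT ht hi hd hI hE
    have hEo : Odd (orderOf E) := odd_of_cube hT.d3
    have hE' : α E = E := fix_odd h' hα' hEo (by rw [hE, hd])
    have hFo : Odd (orderOf (I * E * I⁻¹)) := by
      rw [show orderOf (I * E * I⁻¹) = orderOf E from
        orderOf_injective (MulAut.conj I).toMonoidHom (MulAut.conj I).injective E]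
      exact hEo
    have hF : α (I * E * I⁻¹) = I * E * I⁻¹ := fix_odd h' hα' hFo (by
      have e1 : tw χ₀⁻¹ π (I * E * I⁻¹) = i * d * i⁻¹ := by rw [map_mul, map_mul, map_inv, hI, hE]
      rw [e1, map_mul, map_mul, map_inv, hi, hd])
    have hP : α (I * J⁻¹) = I * J⁻¹ := by
      have e : I * J⁻¹ = I * E * I⁻¹ * E⁻¹ := by rw [← hT.di]; group
      rw [e, map_mul, hF, map_inv, hE']
    have hI' : α I⁻¹ = I⁻¹ := by
      have e : I⁻¹ = E * (I * J⁻¹) * E⁻¹ := by
        calc I⁻¹ = J * (I * J)⁻¹ := by group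
          _ = (E * I * E⁻¹) * (E * J * E⁻¹)⁻¹ := by rw [hT.di, hT.dj]
          _ = E * (I * J⁻¹) * E⁻¹ := by group
      rw [e, map_mul, map_mul, hP, map_inv, hE']
    have hI'' : α I = I := by rw [map_inv] at hI'; exact inv_injective hI'
    exact ⟨hI'', by rw [← hT.di, map_mul, map_mul, map_inv, hE', hI''], hE'⟩
  obtain ⟨a1, a2, a3⟩ := trip c.trip₁ D.trip₁ (hfix h1) (hfix h3) c.π_I₁ c.π_E₁
  obtain ⟨b1, b2, b3⟩ := trip c.trip₂ D.trip₂ (hfix h4) (hfix h6) c.π_I₂ c.π_E₂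
  exact ⟨χ₀⁻¹, c, h'.z_eq c, a1, a2, a3, b1, b2, b3⟩

end Cfsg.Agent.GH.Cov.XTypes
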