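import Mathlib
import Cfsg.Agent.GH.Cov.XTypes
import Cfsg.Agent.GH.Cov.XLevel
import Cfsg.Agent.GH.Cov.FrontX
import Cfsg.Agent.GH.L2Frame

/-!
# GH-COV: all facts about `X = K / O(K)`

`Ctx.xdata`: `XData z z₁`.  `ctx_of_comp`: a 2-component with even centre whose top is `L` gives `Ctx D π z`.
`ind`: the automorphism of `L` induced by an element normalizing `K`.
-/

set_option autoImplicit false

open Subgroup Cfsg

namespace Cfsg.Agent.GH.Cov.XAll

open Cfsg.Agent.Intrinsic.Basic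
open Cfsg.Agent.GH.Defs Cfsg.Agent.GH.Comp
open Cfsg.Agent.GH.Cov.LieData Cfsg.Agent.GH.Cov.Lft Cfsg.Agent.GH.Cov.I5 Cfsg.Agent.GH.Cov.XOfCore
open Cfsg.Agent.GH.Cov.XTypes Cfsg.Agent.GH.Cov.XLevel Cfsg.Agent.GH.Cov.FrontX

section xlevel

variable {X L : Type*} [Group X] [Group L] {D : Core L} {π : X →* L} {z : X}

theorem comps [Finite X] (h : Ctx D π z) (c : XCore D π) : Comps z c.z₁ (Lft π D.A₁) (Lft π D.A₂) where
  comm := fun a ha b hb => XCore.comm h.cext ha hb
  disj := h.disj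
  z_notin := fun hz => h.z_ne (h.inj'.one z hz h.π_z)
  yz_notin := by
    have e : c.z₁ * z = c.z₂ := by rw [← h.z_eq c, ← mul_assoc, c.sq₁, one_mul]
    rw [e]
    intro hz
    have : c.z₂ ∈ Lft π D.A₁ ⊓ Lft π D.A₂ := ⟨hz, c.z₂_mem⟩
    rw [h.disj, mem_bot] at this
    exact c.z₂_ne this
  le₁ := fun a ha => comm_z₁ h c ha
  le₂ := fun a ha => (XCore.comm h.cext c.z₁_mem ha).symm
  norm := fun g hg a ha => norm_sup h c hg a ha
  idx := index_sup h c
  gen₁ := Lft_gen _
  gen₂ := Lft_gen _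
  cent := by
    intro u hu huu a ha b hb hau hbu
    have h1 : π u * π u ≠ 1 := by
      intro e
      apply huu
      exact h.inj'.two _ (mul_mem hu hu) (by rw [map_mul, e])
    refine h.inj'.eq₂ (mul_mem ha hb) (mul_mem hb ha) ?_
    rw [map_mul, map_mul]
    exact D.cent₂ _ (map_mem hu) h1 _ (map_mem ha) _ (map_mem hb)
      (by rw [← map_mul, hau, map_mul]) (by rw [← map_mul, hbu, map_mul])

theorem xdata [Finite X] (h : Ctx D π z) (c : XCore D π) : XData z c.z₁ := by
  have hz := h.z_eq c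
  have hl : Lifts π D (c.z₁ * c.z₂) c.z₁ c.z₂ c.I₁ c.J₁ c.E₁ c.I₂ c.J₂ c.E₂ :=
    lifts_of_xcore c h.cext ⟨z, h.π_z, h.z_ne⟩ (fun x hx => by rw [hz]; exact h.ker hx)
  rw [hz] at hl
  exact
    { z_ne := h.z_ne
      z_sq := h.zz
      y_ne := c.z₁_ne
      y_sq := c.sq₁
      y_ne_z := hl.z₁_ne_z
      central := h.central
      inv := hl.inv
      sqz := hl.sqz
      quat := ⟨_, _, _, _, hl.quat⟩
      comps := ⟨_, _, comps h c⟩ }

theorem xTypeI' [Finite X] (h : Ctx D π z) {α : MulAut X} {φ : MulAut L} (hα : ∀ x, π (α x) = φ (π x))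
    (hT : TypeI D φ) : XTypeI z α := xTypeI h hα hT

theorem xTypeII' [Finite X] (h : Ctx D π z) {α : MulAut X} {φ : MulAut L} (hα : ∀ x, π (α x) = φ (π x))
    (hT : TypeII D φ) : XTypeII α := by
  obtain ⟨j, v, d, V, h1, h2, h3, h4, h5, h6, h7, h8, _, h10, h11⟩ := xTypeII h hα hT
  exact ⟨j, v, d, V, h1, h2, h5, h3, h4, h6, h7, h8, h10, h11⟩

end xlevel

/-! ### from the 2-component -/

section comp

universe u v

variable {G : Type u} [Group G] [Finite G] {L : Type v} [Group L]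

/-- `K / O(K) → L` -/
def proj (K : Subgroup G) (e : STop K ≃* L) : Bar K →* L :=
  e.toMonoidHom.comp (QuotientGroup.mk' (center (Bar K)))

theorem proj_surjective (K : Subgroup G) (e : STop K ≃* L) : Function.Surjective (proj K e) :=
  e.surjective.comp (QuotientGroup.mk'_surjective _)

theorem proj_eq_one {K : Subgroup G} {e : STop K ≃* L} {x : Bar K} : proj K e x = 1 ↔ x ∈ center (Bar K) := by
  rw [proj, MonoidHom.comp_apply]
  show e _ = 1 ↔ _
  rw [map_eq_one_iff e e.injective]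
  exact QuotientGroup.eq_one_iff x

/-- Central elements of `K / O(K)` are 2-elements. -/
theorem center_two {K : Subgroup G} {x : Bar K} (hx : x ∈ center (Bar K)) : ∃ n : ℕ, x ^ 2 ^ n = 1 := by
  obtain ⟨n, m, hm, hnm⟩ := Nat.exists_eq_two_pow_mul_odd (n := orderOf x) (orderOf_pos x).ne'
  refine ⟨n, ?_⟩
  -- `x ^ 2 ^ n` has odd order and is central, so it generates a normal subgroup of odd order
  set y := x ^ 2 ^ n with hy
  have hyc : y ∈ center (Bar K) := pow_mem hx _
  have hyo : y ^ m = 1 := by rw [hy, ← pow_mul, ← hnm, pow_orderOf_eq_one]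
  have hn : (zpowers y).Normal := ⟨fun a ha g => by
    obtain ⟨i, rfl⟩ := mem_zpowers_iff.mp ha
    have h1 : g * y ^ i * g⁻¹ = y ^ i := by
      rw [mul_inv_eq_iff_eq_mul]
      exact (mem_center_iff.mp (zpow_mem hyc i) g)
    rw [h1]; exact zpow_mem (mem_zpowers y) i⟩
  have hodd : Odd (Nat.card (zpowers y)) := by
    rw [Nat.card_zpowers]
    exact hm.of_dvd_nat (orderOf_dvd_of_pow_eq_one hyo)
  have h1 : zpowers y ≤ oddCore (Bar K) := le_sSup ⟨hn, Nat.coprime_two_right.mpr hodd⟩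
  have h2 : oddCore (Bar K) = ⊥ := Cfsg.Agent.Lib.Cores.pPrimeCore_quotient_pPrimeCore (G := K) 2
  rw [h2] at h1
  have := h1 (mem_zpowers y)
  exact mem_bot.mp this

theorem cext_proj (K : Subgroup G) (e : STop K ≃* L) : CExt (proj K e) where
  surj := proj_surjective K e
  cen := fun c hc x => (mem_center_iff.mp (proj_eq_one.mp hc) x).symm
  two := fun c hc => center_two (proj_eq_one.mp hc)

/-- The automorphism of `L` induced by an element of the normalizer of `K`. -/
def ind {K : Subgroup G} (e : STop K ≃* L) (a : normalizer (K : Set G)) : MulAut L :=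
  e.symm.trans ((L2Frame.act K a).trans e)

end comp

end Cfsg.Agent.GH.Cov.XAll
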