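import Cfsg.Agent.GH.Cov.Alt
import Cfsg.Agent.GH.Cov.Transfer
import Cfsg.Agent.GH.Cov.QuatLift
import Cfsg.Agent.GH.Cov.XAll
import Cfsg.Agent.GH.L2AutSyl
import Cfsg.Agent.GH.L2Quad
import Cfsg.Agent.GH.QADefs

/-!
# GH-COV: tops `PSL₂(q)` and `A₇`, even centre: only one involution

* `Dbl.unique`: a perfect double cover of a group with dihedral Sylow 2-subgroups and one class of involutions has
  exactly one involution.
* `qt_of_top`: a 2-component `K` with even centre and top `PSL₂(q)` or `A₇` satisfies `QT K`.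
-/

set_option autoImplicit false

open Cfsg Subgroup
open scoped commutatorElement
open Cfsg.Agent.Intrinsic.Basic
open Cfsg.Agent.GH.Defs Cfsg.Agent.GH.Comp Cfsg.Agent.GH.L2Aut
open Cfsg.Agent.GH.Cov.Transfer

namespace Cfsg.Agent.GH.Cov.QuatTop

/-- Dihedral Sylow 2-subgroups and one class of involutions. -/
structure DihTop (L : Type*) [Group L] : Prop where
  syl : ∃ (S : Sylow 2 L) (d r : L), Dih (S : Subgroup L) d r
  conj : ∀ s t : L, s * s = 1 → s ≠ 1 → t * t = 1 → t ≠ 1 → ∃ g : L, g * s * g⁻¹ = t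

section

variable {Y L : Type*} [Group Y] [Group L]

theorem unique [Finite Y] {f : Y →* L} {c : Y} (D : Dbl f c) (hperf : commutator Y = ⊤)
    (h : DihTop L) : ∀ y : Y, y * y = 1 → y = 1 ∨ y = c := by
  have hp : Fact (Nat.Prime 2) := ⟨Nat.prime_two⟩
  have hfin : Finite L := Finite.of_surjective f D.surj
  intro y0 hy0
  by_contra hne
  push Not at hne
  -- all involutions of `L` lift to involutions
  have hlift : ∀ y : Y, f y * f y = 1 → f y ≠ 1 → y * y = 1 := by
    intro y hy hy1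
    obtain ⟨g, hg⟩ := h.conj (f y0) (f y) (by rw [← map_mul, hy0, map_one])
      (fun h1 => by rcases (D.ker y0).1 h1 with h2 | h2; exacts [hne.1 h2, hne.2 h2]) hy hy1
    obtain ⟨g, rfl⟩ := D.surj g
    rw [← map_inv, ← map_mul, ← map_mul] at hg
    have h1 : g * y0 * g⁻¹ * (g * y0 * g⁻¹) = 1 := by
      rw [show g * y0 * g⁻¹ * (g * y0 * g⁻¹) = g * (y0 * y0) * g⁻¹ by group, hy0, mul_one, mul_inv_cancel]
    rcases D.eq_or hg with h2 | h2
    · rw [← h2]; exact h1
    · have h3 : y = g * y0 * g⁻¹ * c := by rw [h2, mul_assoc, D.cc, mul_one]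
      have h4 : ∀ u : Y, u * c * (u * c) = u * u := by
        intro u
        rw [mul_assoc, ← mul_assoc c, ← D.comm u, mul_assoc u c, D.cc, mul_one]
      rw [h3, h4]
      exact h1
  -- a Sylow 2-subgroup of `Y` and the dihedral structure of its image
  obtain ⟨P⟩ : Nonempty (Sylow 2 Y) := inferInstance
  obtain ⟨S, d₀, r₀, hD₀⟩ := h.syl
  have hPf : ∃ d r, Dih ((P : Subgroup Y).map f) d r := by
    obtain ⟨g, hg⟩ := MulAction.exists_smul_eq L S (P.mapSurjective D.surj)
    refine ⟨MulAut.conj g d₀, MulAut.conj g r₀, ?_⟩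
    have h1 : (P : Subgroup Y).map f = (S : Subgroup L).map (MulAut.conj g).toMonoidHom := by
      exact (congrArg (fun Q : Sylow 2 L => (Q : Subgroup L)) hg).symm
    rw [h1]
    exact hD₀.map _ (MulAut.conj g).injective
  obtain ⟨d, r, hD⟩ := hPf
  obtain ⟨δ, hδP, rfl⟩ := hD.d_mem
  obtain ⟨ρ, hρP, rfl⟩ := hD.r_mem
  have hρ : ρ * ρ = 1 := hlift ρ hD.rr hD.r1
  -- lifts of reflections
  have hrefl : ∀ k : ℤ, (δ ^ k * ρ) * (δ ^ k * ρ) = 1 := by
    intro k
    refine hlift _ ?_ ?_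
    · rw [map_mul, map_zpow]
      exact hD.pow_r_sq k
    · rw [map_mul, map_zpow]
      intro h1
      apply hD.r_not
      rw [eq_inv_of_mul_eq_one_right h1]
      exact inv_mem (zpow_mem (mem_zpowers _) k)
  -- the order of `δ`
  obtain ⟨n, hn1, hn2, hn3⟩ := hD.exists_z (P.isPGroup'.map f)
  have hδ : δ ^ 2 ^ (n + 1) = 1 := by
    rw [pow_succ, pow_mul, pow_two]
    apply hlift
    · rw [map_pow]; exact hn2
    · rw [map_pow]; exact hn3
  have hinj : ∀ k : ℤ, f (δ ^ k) = 1 → δ ^ k = 1 := by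
    intro k hk
    rw [map_zpow] at hk
    have h1 : ((2 ^ (n + 1) : ℕ) : ℤ) ∣ k := by
      rw [← hn1]
      exact orderOf_dvd_iff_zpow_eq_one.2 hk
    obtain ⟨j, rfl⟩ := h1
    rw [zpow_mul, zpow_natCast, hδ, one_zpow]
  have hρinv : ρ⁻¹ = ρ := inv_eq_of_mul_eq_one_left hρ
  have hρδ : ∀ k : ℤ, ρ * δ ^ k = δ ^ (-k) * ρ := by
    intro k
    have h1 := hrefl k
    have h2 : ρ * δ ^ k = (δ ^ k)⁻¹ * ρ⁻¹ := by
      rw [eq_inv_mul_iff_mul_eq, ← mul_assoc, eq_inv_iff_mul_eq_one, ← h1]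
      group
    rw [h2, hρinv, zpow_neg]
  -- the dihedral complement
  let W : Subgroup Y :=
    { carrier := {x | (∃ k : ℤ, x = δ ^ k) ∨ ∃ k : ℤ, x = δ ^ k * ρ}
      one_mem' := Or.inl ⟨0, (zpow_zero _).symm⟩
      mul_mem' := by
        rintro a b (⟨i, rfl⟩ | ⟨i, rfl⟩) (⟨j, rfl⟩ | ⟨j, rfl⟩)
        · exact Or.inl ⟨i + j, (zpow_add _ _ _).symm⟩
        · exact Or.inr ⟨i + j, by rw [← mul_assoc, zpow_add]⟩
        · refine Or.inr ⟨i + -j, ?_⟩
          rw [mul_assoc, hρδ, ← mul_assoc, zpow_add]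
        · refine Or.inl ⟨i + -j, ?_⟩
          rw [mul_assoc, ← mul_assoc ρ, hρδ, mul_assoc, hρ, mul_one, zpow_add]
      inv_mem' := by
        rintro a (⟨i, rfl⟩ | ⟨i, rfl⟩)
        · exact Or.inl ⟨-i, (zpow_neg _ _).symm⟩
        · refine Or.inr ⟨i, ?_⟩
          exact inv_eq_of_mul_eq_one_left (hrefl i) }
  have hcW : c ∉ W := by
    rintro (⟨k, hk⟩ | ⟨k, hk⟩)
    · apply D.ne
      rw [hk]
      exact hinj k (by rw [← hk]; exact D.map_c)
    · apply hD.r_not
      have h1 : f (δ ^ k * ρ) = 1 := by rw [← hk]; exact D.map_c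
      rw [map_mul, map_zpow] at h1
      rw [eq_inv_of_mul_eq_one_right h1]
      exact inv_mem (zpow_mem (mem_zpowers _) k)
  have hcov : ∀ p ∈ (P : Subgroup Y), ∃ w ∈ W, p = w ∨ p = w * c := by
    intro p hp
    have key : ∃ w ∈ W, f p = f w := by
      rcases hD.cov (f p) (mem_map_of_mem f hp) with h1 | ⟨k, hk⟩
      · obtain ⟨k, hk⟩ := mem_zpowers_iff.1 h1
        exact ⟨δ ^ k, Or.inl ⟨k, rfl⟩, by rw [map_zpow, hk]⟩
      · exact ⟨δ ^ k * ρ, Or.inr ⟨k, rfl⟩, by rw [map_mul, map_zpow, hk]⟩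
    obtain ⟨w, hw, hpw⟩ := key
    exact ⟨w, hw, D.eq_or hpw⟩
  apply hcW
  have hle : ⁅(P : Subgroup Y), (P : Subgroup Y)⁆ ≤ W := by
    rw [commutator_le]
    intro a ha b hb
    obtain ⟨u, hu, hau⟩ := hcov a ha
    obtain ⟨v, hv, hbv⟩ := hcov b hb
    have h1 : ⁅u, v⁆ ∈ W := mul_mem (mul_mem (mul_mem hu hv) (inv_mem hu)) (inv_mem hv)
    have hc : ∀ x y : Y, ⁅x * c, y⁆ = ⁅x, y⁆ := by
      intro x y
      rw [commutatorElement_def, commutatorElement_def, mul_inv_rev, mul_assoc x c y, ← D.comm y]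
      group
    have hc' : ∀ x y : Y, ⁅x, y * c⁆ = ⁅x, y⁆ := by
      intro x y
      rw [← commutatorElement_inv, hc, commutatorElement_inv]
    rcases hau with rfl | rfl <;> rcases hbv with rfl | rfl
    · exact h1
    · rw [hc']; exact h1
    · rw [hc]; exact h1
    · rw [hc, hc']; exact h1
  exact hle (D.mem_commutator hperf P)

/-- a perfect finite group is generated by its elements of odd order -/
theorem closure_odd [Finite Y] (hperf : commutator Y = ⊤) : closure {y : Y | Odd (orderOf y)} = ⊤ := by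
  have hp : Fact (Nat.Prime 2) := ⟨Nat.prime_two⟩
  set N : Subgroup Y := closure {y : Y | Odd (orderOf y)} with hN
  have hn : N.Normal := by
    refine ⟨fun a ha g => ?_⟩
    have h1 : N.map (MulAut.conj g).toMonoidHom ≤ N := by
      rw [hN, MonoidHom.map_closure, closure_le]
      rintro _ ⟨y, hy, rfl⟩
      apply Subgroup.subset_closure
      show Odd (orderOf ((MulAut.conj g).toMonoidHom y))
      rw [orderOf_injective _ (MulAut.conj g).injective]
      exact hy
    exact h1 ⟨a, ha, rfl⟩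
  have h2 : IsPGroup 2 (Y ⧸ N) := by
    intro x
    obtain ⟨y, rfl⟩ := QuotientGroup.mk_surjective x
    obtain ⟨n, m, hm, hnm⟩ := Nat.exists_eq_two_pow_mul_odd (n := orderOf y) (orderOf_pos y).ne'
    refine ⟨n, ?_⟩
    rw [← QuotientGroup.mk_pow, QuotientGroup.eq_one_iff]
    apply Subgroup.subset_closure
    show Odd (orderOf (y ^ 2 ^ n))
    refine hm.of_dvd_nat (orderOf_dvd_of_pow_eq_one ?_)
    rw [← pow_mul, ← hnm, pow_orderOf_eq_one]
  have h3 : commutator (Y ⧸ N) = ⊤ := by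
    have h1 : (commutator Y).map (QuotientGroup.mk' N) = commutator (Y ⧸ N) := by
      rw [_root_.commutator_def, _root_.commutator_def, Subgroup.map_commutator,
        ← MonoidHom.range_eq_map,
        MonoidHom.range_eq_top.mpr (QuotientGroup.mk'_surjective N)]
    rw [← h1, hperf, ← MonoidHom.range_eq_map,
      MonoidHom.range_eq_top.mpr (QuotientGroup.mk'_surjective N)]
  by_contra hne
  have hnt : Nontrivial (Y ⧸ N) := QuotientGroup.nontrivial_iff.2 hne
  have := h2.isNilpotent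
  have h4 : commutator (Y ⧸ N) < ⊤ := by
    exact Group.IsSolvable.commutator_lt_top_of_nontrivial (Y ⧸ N)
  exact h4.ne h3

end

section

variable {G : Type*} [Group G] [Finite G]

open Cfsg.Agent.GH.Cov.XAll in
theorem qt {H K : Subgroup G} (hK : IsComp H K) (he : EvenCenter K) (h : DihTop (STop K)) :
    QA.QT K := by
  have hp : Fact (Nat.Prime 2) := ⟨Nat.prime_two⟩
  have hq := quasisimple hK
  have hcomm : commutator (Bar K) = ⊤ := hq.1.commutator_eq_top
  -- a subgroup of index two of the centre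
  obtain ⟨W, hWc, hW2⟩ : ∃ W : Subgroup (Bar K), W ≤ center (Bar K) ∧
      Nat.card (center (Bar K)) = 2 * Nat.card W := by
    obtain ⟨M, hM⟩ := Alt.exists_index_two (C := center (Bar K))
      (fun a b => Subtype.ext (mem_center_iff.mp b.2 a)) (even_iff_two_dvd.mp he)
    refine ⟨M.map (center (Bar K)).subtype, map_subtype_le _, ?_⟩
    rw [card_map_of_injective (center (Bar K)).subtype_injective, ← M.card_mul_index, hM, mul_comm]
  have hWn : W.Normal := by
    constructor
    intro w hw g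
    have := mem_center_iff.mp (hWc hw) g
    rw [this, mul_inv_cancel_right]
    exact hw
  let f : (Bar K ⧸ W) →* STop K := QuotientGroup.map W (center (Bar K)) (MonoidHom.id _) hWc
  have hf : Function.Surjective f := by
    intro y
    obtain ⟨a, rfl⟩ := QuotientGroup.mk_surjective y
    exact ⟨QuotientGroup.mk a, rfl⟩
  have hperf : commutator (Bar K ⧸ W) = ⊤ := by
    have h1 : (commutator (Bar K)).map (QuotientGroup.mk' W) = commutator (Bar K ⧸ W) := by
      rw [_root_.commutator_def, _root_.commutator_def, Subgroup.map_commutator,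
        ← MonoidHom.range_eq_map,
        MonoidHom.range_eq_top.mpr (QuotientGroup.mk'_surjective W)]
    rw [← h1, hcomm, ← MonoidHom.range_eq_map,
      MonoidHom.range_eq_top.mpr (QuotientGroup.mk'_surjective W)]
  have hk : Nat.card f.ker = 2 := by
    have h1 : Nat.card (Bar K ⧸ W) = Nat.card (STop K) * Nat.card f.ker := by
      have h2 := card_eq_card_quotient_mul_card_subgroup f.ker
      rw [h2]
      congr 1
      exact Nat.card_congr (QuotientGroup.quotientKerEquivOfSurjective f hf).toEquiv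
    have h2 : Nat.card (Bar K) = Nat.card (STop K) * Nat.card (center (Bar K)) :=
      card_eq_card_quotient_mul_card_subgroup _
    have h3 : Nat.card (Bar K) = Nat.card (Bar K ⧸ W) * Nat.card W :=
      card_eq_card_quotient_mul_card_subgroup _
    have h5 : 0 < Nat.card W := Nat.card_pos
    have h6 : 0 < Nat.card (STop K) := Nat.card_pos
    have h7 : Nat.card (STop K) * Nat.card W * Nat.card f.ker =
        Nat.card (STop K) * Nat.card W * 2 := by
      rw [h1] at h3
      rw [h3, hW2] at h2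
      linarith
    exact Nat.eq_of_mul_eq_mul_left (Nat.mul_pos h6 h5) h7
  obtain ⟨c, D⟩ := exists_dbl f hf hk
  have hu := unique D hperf h
  -- `W = 1`
  have hinj : Function.Injective (QuotientGroup.mk' W) := by
    refine QuatLift.injective (closure_odd hcomm) (t := c) ?_ ?_ (fun y hy => hu _ hy)
    · rw [QuotientGroup.ker_mk']; exact hWc
    · rw [QuotientGroup.ker_mk']
      rintro ⟨w, hw⟩
      obtain ⟨n, hn⟩ := center_two (hWc hw)
      exact ⟨n, Subtype.ext hn⟩
  -- the only involution of `K / O(K)`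
  have huniq : ∀ a b : Bar K, a * a = 1 → b * b = 1 → a ≠ 1 → b ≠ 1 → a = b := by
    intro a b ha hb ha1 hb1
    apply hinj
    have key : ∀ a : Bar K, a * a = 1 → a ≠ 1 → QuotientGroup.mk' W a = c := by
      intro a ha ha1
      refine (hu _ (by rw [← map_mul, ha, map_one])).resolve_left fun h1 => ha1 (hinj ?_)
      rw [h1, map_one]
    rw [key a ha ha1, key b hb hb1]
  intro a ha b hb haa hbb ha1 hb1 hab
  have hodd : ∀ k : K, (QuotientGroup.mk' (oddCore ↥K)) k = 1 → k * k = 1 → k = 1 := by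
    intro k hk hkk
    have hk' : k ∈ oddCore ↥K := (QuotientGroup.eq_one_iff k).1 hk
    have h1 : Odd (Nat.card (oddCore ↥K)) := by
      exact Nat.coprime_two_right.1 (Cfsg.Agent.Lib.Cores.pPrimeCore_coprime (G := K) 2)
    have h2 : orderOf k ∣ Nat.card (oddCore ↥K) := by
      have h3 := orderOf_dvd_natCard (⟨k, hk'⟩ : oddCore ↥K)
      rwa [Subgroup.orderOf_mk] at h3
    have h3 : orderOf k ∣ 2 := orderOf_dvd_of_pow_eq_one (by rw [pow_two, hkk])
    have h4 : orderOf k ∣ 1 := by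
      rw [← Nat.coprime_two_right.2 (h1.of_dvd_nat h2)]
      exact Nat.dvd_gcd dvd_rfl h3
    exact orderOf_eq_one_iff.1 (Nat.dvd_one.1 h4)
  let a' : K := ⟨a, ha⟩
  let b' : K := ⟨b, hb⟩
  have haa' : a' * a' = 1 := Subtype.ext haa
  have hbb' : b' * b' = 1 := Subtype.ext hbb
  have hab' : a' * b' = b' * a' := Subtype.ext hab
  have h1 := huniq (QuotientGroup.mk' (oddCore ↥K) a') (QuotientGroup.mk' (oddCore ↥K) b')
    (by rw [← map_mul, haa', map_one]) (by rw [← map_mul, hbb', map_one])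
    (fun h2 => ha1 (congrArg Subtype.val (hodd a' h2 haa')))
    (fun h2 => hb1 (congrArg Subtype.val (hodd b' h2 hbb')))
  have h2 : a' * b'⁻¹ = 1 := by
    apply hodd
    · rw [map_mul, map_inv, h1, mul_inv_cancel]
    · rw [inv_eq_of_mul_eq_one_left hbb']
      calc a' * b' * (a' * b') = a' * (b' * a') * b' := by group
        _ = (a' * a') * (b' * b') := by rw [← hab']; group
        _ = 1 := by rw [haa', hbb', one_mul]
  exact congrArg Subtype.val (mul_inv_eq_one.1 h2)

end

/-! ### the tops -/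

theorem dihTop_of_isL2odd {L : Type*} [Group L] [Finite L] (h : IsL2odd L) : DihTop L := by
  obtain ⟨F, i, j, h1, -, ⟨e⟩⟩ := h
  have h2 : (2 : F) ≠ 0 := two_ne_zero_of_odd h1
  let R : L2Aut.Rep F L := L2Aut.Rep.ofEquiv h2 e
  obtain ⟨S⟩ : Nonempty (Sylow 2 L) := inferInstance
  obtain ⟨d, r, hD⟩ := R.exists_dih S
  exact ⟨⟨S, d, r, hD⟩, fun s t hs hs1 ht ht1 => R.inv_conj hs hs1 ht ht1⟩

theorem alt_conj (s t : ↥(alternatingGroup (Fin 7))) (hs : s * s = 1) (hs1 : s ≠ 1)
    (ht : t * t = 1) (ht1 : t ≠ 1) : ∃ g, g * s * g⁻¹ = t := by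
  have hp : Fact (Nat.Prime 2) := ⟨Nat.prime_two⟩
  have key : ∀ s : ↥(alternatingGroup (Fin 7)), s * s = 1 → s ≠ 1 →
      (s : Equiv.Perm (Fin 7)).cycleType = Multiset.replicate 2 2 := by
    intro s hs hs1
    have ho : orderOf (s : Equiv.Perm (Fin 7)) = 2 := by
      rw [Subgroup.orderOf_coe]
      exact orderOf_eq_prime (by rw [pow_two, hs]) hs1
    obtain ⟨n, hn⟩ := Equiv.Perm.cycleType_prime_order (by rw [ho]; exact Nat.prime_two)
    rw [ho] at hn
    have h1 := Equiv.Perm.sign_of_cycleType (s : Equiv.Perm (Fin 7))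
    rw [Equiv.Perm.mem_alternatingGroup.1 s.2, hn] at h1
    have h2 : (s : Equiv.Perm (Fin 7)).cycleType.sum ≤ 7 := by
      rw [Equiv.Perm.sum_cycleType]
      exact (Finset.card_le_univ _).trans (by simp)
    rw [hn] at h2
    simp only [Multiset.sum_replicate, Multiset.card_replicate, smul_eq_mul] at h1 h2
    have h3 : n ≤ 2 := by omega
    have h4 : n = 1 := by
      interval_cases n
      · exact absurd h1 (by decide)
      · rfl
      · exact absurd h1 (by decide)
    rw [hn, h4]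
  have h1 : IsConj (s : Equiv.Perm (Fin 7)) (t : Equiv.Perm (Fin 7)) := by
    rw [Equiv.Perm.isConj_iff_cycleType_eq, key s hs hs1, key t ht ht1]
  have h2 : (s : Equiv.Perm (Fin 7)).support.card + 2 ≤ Fintype.card (Fin 7) := by
    rw [← Equiv.Perm.sum_cycleType, key s hs hs1]
    simp
  exact isConj_iff.1 (alternatingGroup.isConj_of h1 h2)

theorem dihTop_alt : DihTop ↥(alternatingGroup (Fin 7)) := by
  refine ⟨?_, alt_conj⟩
  obtain ⟨P, ⟨e⟩⟩ := L2FourAlt.exists_sylow
  have hpow : ∀ k : ℤ, (e.symm (DihedralGroup.r 1)) ^ k = e.symm (DihedralGroup.r (k : ZMod 4)) := by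
    intro k
    rw [← map_zpow, DihedralGroup.r_zpow, one_mul]
  refine ⟨P, ((e.symm (DihedralGroup.r 1) : ↥(P : Subgroup ↥(alternatingGroup (Fin 7)))) :
    ↥(alternatingGroup (Fin 7))), ((e.symm (DihedralGroup.sr 0) :
    ↥(P : Subgroup ↥(alternatingGroup (Fin 7)))) : ↥(alternatingGroup (Fin 7))), ?_⟩
  refine ⟨(e.symm _).2, (e.symm _).2, ?_, ?_, ?_, ?_, ?_⟩
  · intro h
    have h1 : e.symm (DihedralGroup.r 1) = 1 := Subtype.ext h
    have h2 : (DihedralGroup.r 1 : DihedralGroup 4) = 1 := e.symm.injective (by rw [h1, map_one])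
    exact absurd h2 (by decide)
  · intro h
    obtain ⟨k, hk⟩ := mem_zpowers_iff.1 h
    rw [← Subgroup.coe_zpow, hpow] at hk
    have h2 := e.symm.injective (Subtype.ext hk)
    cases h2
  · rw [← Subgroup.coe_mul, ← map_mul]
    exact congrArg Subtype.val (map_one e.symm)
  · rw [← Subgroup.coe_mul, ← Subgroup.coe_inv, ← Subgroup.coe_mul, ← Subgroup.coe_inv, ← map_mul,
      ← map_inv, ← map_mul, ← map_inv]
    congr 2
  · intro x hx
    obtain ⟨y, hy⟩ : ∃ y : DihedralGroup 4, e.symm y = ⟨x, hx⟩ := ⟨e ⟨x, hx⟩, e.symm_apply_apply _⟩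
    have hy' : ((e.symm y : ↥(P : Subgroup ↥(alternatingGroup (Fin 7)))) :
      ↥(alternatingGroup (Fin 7))) = x := congrArg Subtype.val hy
    cases y with
    | r i =>
      left
      rw [← hy']
      refine mem_zpowers_iff.2 ⟨(i.val : ℤ), ?_⟩
      rw [← Subgroup.coe_zpow, hpow]
      simp
    | sr i =>
      right
      refine ⟨-(i.val : ℤ), ?_⟩
      rw [← hy', ← Subgroup.coe_zpow, hpow, ← Subgroup.coe_mul, ← map_mul, DihedralGroup.r_mul_sr]
      simp

theorem DihTop.congr {L M : Type*} [Group L] [Finite L] [Group M] (e : L ≃* M) (h : DihTop L) :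
    DihTop M := by
  have hp : Fact (Nat.Prime 2) := ⟨Nat.prime_two⟩
  refine ⟨?_, ?_⟩
  · obtain ⟨S, d, r, hD⟩ := h.syl
    exact ⟨S.mapSurjective (f := e.toMonoidHom) e.surjective, _, _, hD.map e.toMonoidHom e.injective⟩
  · intro s t hs hs1 ht ht1
    obtain ⟨g, hg⟩ := h.conj (e.symm s) (e.symm t) (by rw [← map_mul, hs, map_one])
      (fun h1 => hs1 (e.symm.injective (by rw [h1, map_one])))
      (by rw [← map_mul, ht, map_one]) (fun h1 => ht1 (e.symm.injective (by rw [h1, map_one])))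
    refine ⟨e g, ?_⟩
    have h1 := congrArg e hg
    rwa [map_mul, map_mul, map_inv, e.apply_symm_apply, e.apply_symm_apply] at h1

/-- **`QT` for the tops `PSL₂(q)`, `A₇`.** -/
theorem qt_of_top {G : Type*} [Group G] [Finite G] {H K : Subgroup G} (hK : IsComp H K)
    (he : EvenCenter K) (ht : IsL2odd (STop K) ∨ IsAlt 7 (STop K)) : QA.QT K := by
  refine qt hK he ?_
  rcases ht with h | ⟨⟨e⟩⟩
  · exact dihTop_of_isL2odd h
  · exact dihTop_alt.congr e.symm

end Cfsg.Agent.GH.Cov.QuatTop
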