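import Mathlib
import Cfsg.Agent.GH.Cov.Down

/-!
# Proper perfect normal subgroups of `A × A`, `A` quasisimple
-/

set_option autoImplicit false

open Subgroup
open Cfsg.Agent.TwoFusion.PerfCore
open Cfsg.Agent.GH.Cov.Iso Cfsg.Agent.GH.Cov.Down
open scoped commutatorElement

namespace Cfsg.Agent.GH.Cov.Prod

variable {A : Type*} [Group A]

/-- A noncentral normal subgroup of a quasisimple group is everything. -/
theorem eq_top_of_normal (hA : commutator A = ⊤) (hs : IsSimpleGroup (A ⧸ center A))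
    {N : Subgroup A} (hN : N.Normal) (hc : ¬ N ≤ center A) : N = ⊤ := by
  have h1 : (N.map (QuotientGroup.mk' (center A))).Normal :=
    hN.map _ (QuotientGroup.mk'_surjective _)
  have h2 : N.map (QuotientGroup.mk' (center A)) = ⊤ := by
    rcases h1.eq_bot_or_eq_top with h | h
    · exfalso
      apply hc
      rw [Subgroup.map_eq_bot_iff, QuotientGroup.ker_mk'] at h
      exact h
    · exact h
  have h3 : ∀ a : A, ∃ n ∈ N, ∃ z ∈ center A, a = n * z := by
    intro a
    have h4 : QuotientGroup.mk' (center A) a ∈ N.map (QuotientGroup.mk' (center A)) := by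
      rw [h2]; exact mem_top _
    obtain ⟨n, hn, hna⟩ := h4
    refine ⟨n, hn, n⁻¹ * a, ?_, by group⟩
    exact QuotientGroup.eq.1 hna
  rw [eq_top_iff, ← hA, _root_.commutator_def, commutator_le]
  intro a _ b _
  obtain ⟨n, hn, z, hz, rfl⟩ := h3 a
  obtain ⟨m, hm, w, hw, rfl⟩ := h3 b
  have h5 : ⁅n * z, m * w⁆ = ⁅n, m⁆ := by
    have hz' := fun x => mem_center_iff.1 hz x
    have hw' := fun x => mem_center_iff.1 hw x
    rw [commutatorElement_def, commutatorElement_def, mul_inv_rev, mul_inv_rev]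
    have e1 : n * z * (m * w) * (z⁻¹ * n⁻¹) * (w⁻¹ * m⁻¹) =
        n * (z * (m * w)) * z⁻¹ * n⁻¹ * w⁻¹ * m⁻¹ := by group
    rw [e1, ← hz']
    have e2 : n * (m * w * z) * z⁻¹ * n⁻¹ * w⁻¹ * m⁻¹ = n * m * (w * n⁻¹) * w⁻¹ * m⁻¹ := by group
    rw [e2, ← hw']
    group
  rw [h5, commutatorElement_def]
  exact N.mul_mem (N.mul_mem (N.mul_mem hn hm) (N.inv_mem hn)) (N.inv_mem hm)

theorem perfect_prod (hA : commutator A = ⊤) :
    ⁅(⊤ : Subgroup (A × A)), (⊤ : Subgroup (A × A))⁆ = ⊤ := by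
  have h1 : ∀ a : A, ((a, 1) : A × A) ∈ ⁅(⊤ : Subgroup (A × A)), (⊤ : Subgroup (A × A))⁆ := by
    have h2 : commutator A ≤ (⁅(⊤ : Subgroup (A × A)), (⊤ : Subgroup (A × A))⁆).comap
        (MonoidHom.inl A A) := by
      rw [_root_.commutator_def, commutator_le]
      intro a _ b _
      rw [mem_comap, map_commutatorElement]
      exact commutator_mem_commutator (mem_top _) (mem_top _)
    intro a
    exact h2 (by rw [hA]; exact mem_top a)
  have h1' : ∀ a : A, ((1, a) : A × A) ∈ ⁅(⊤ : Subgroup (A × A)), (⊤ : Subgroup (A × A))⁆ := by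
    have h2 : commutator A ≤ (⁅(⊤ : Subgroup (A × A)), (⊤ : Subgroup (A × A))⁆).comap
        (MonoidHom.inr A A) := by
      rw [_root_.commutator_def, commutator_le]
      intro a _ b _
      rw [mem_comap, map_commutatorElement]
      exact commutator_mem_commutator (mem_top _) (mem_top _)
    intro a
    exact h2 (by rw [hA]; exact mem_top a)
  rw [eq_top_iff]
  rintro ⟨a, b⟩ _
  have : ((a, b) : A × A) = (a, 1) * (1, b) := by simp
  rw [this]
  exact mul_mem (h1 a) (h1' b)

theorem pn_right (hA : commutator A = ⊤) {c : A} (hc1 : c ≠ 1) :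
    PN (⊤ : Subgroup (A × A)) (1, c) := by
  refine ⟨(⊤ : Subgroup A).map (MonoidHom.inr A A), le_top, ?_, ?_, ⟨c, mem_top _, rfl⟩, ?_⟩
  · have : ((⊤ : Subgroup A).map (MonoidHom.inr A A)).Normal := by
      refine ⟨?_⟩
      rintro _ ⟨a, -, rfl⟩ ⟨x, y⟩
      refine ⟨y * a * y⁻¹, mem_top _, ?_⟩
      simp
    rw [normalizer_eq_top]
  · apply map_perfect
    rw [← _root_.commutator_def, hA]
  · intro h
    have h1 : ((c, 1) : A × A) ∈ (⊤ : Subgroup A).map (MonoidHom.inr A A) := by
      rw [h]; exact mem_top _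
    obtain ⟨a, -, ha⟩ := h1
    exact hc1 (congrArg Prod.fst ha).symm

theorem pn_left (hA : commutator A = ⊤) {c : A} (hc1 : c ≠ 1) :
    PN (⊤ : Subgroup (A × A)) (c, 1) := by
  have h := (pn_right hA hc1).map (f := (MulEquiv.prodComm : A × A ≃* A × A).toMonoidHom)
    (MulEquiv.injective _)
  have h1 : (⊤ : Subgroup (A × A)).map (MulEquiv.prodComm : A × A ≃* A × A).toMonoidHom = ⊤ :=
    Subgroup.map_top_of_surjective _ (MulEquiv.surjective _)
  rw [h1] at h
  exact h

theorem not_pn (hA : commutator A = ⊤) (hs : IsSimpleGroup (A ⧸ center A)) {c d : A}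
    (hc : c ≠ 1) (hd : d ≠ 1) : ¬ PN (⊤ : Subgroup (A × A)) (c, d) := by
  rintro ⟨N, -, h2, h3, h4, h5⟩
  have hNn : N.Normal := by
    rw [← normalizer_eq_top_iff]
    exact top_le_iff.1 h2
  -- a perfect central subgroup is trivial
  have key : ∀ M : Subgroup A, M.Normal → ⁅M, M⁆ = M → M ≠ ⊥ → M = ⊤ := by
    intro M hM hMp hM1
    apply eq_top_of_normal hA hs hM
    intro hle
    apply hM1
    rw [← hMp, eq_bot_iff, commutator_le]
    intro a ha b hb
    rw [mem_bot, commutatorElement_eq_one_iff_mul_comm]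
    exact (mem_center_iff.1 (hle ha) b).symm
  have hM1 : N.map (MonoidHom.fst A A) = ⊤ := by
    apply key _ (hNn.map _ Prod.fst_surjective) (map_perfect h3 _)
    intro h
    have : c ∈ N.map (MonoidHom.fst A A) := ⟨_, h4, rfl⟩
    rw [h] at this
    exact hc (mem_bot.1 this)
  have hM2 : N.map (MonoidHom.snd A A) = ⊤ := by
    apply key _ (hNn.map _ Prod.snd_surjective) (map_perfect h3 _)
    intro h
    have : d ∈ N.map (MonoidHom.snd A A) := ⟨_, h4, rfl⟩
    rw [h] at this
    exact hd (mem_bot.1 this)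
  have k1 : commutator A ≤ N.comap (MonoidHom.inl A A) := by
    rw [_root_.commutator_def, commutator_le]
    intro a _ b _
    have : a ∈ N.map (MonoidHom.fst A A) := by rw [hM1]; exact mem_top _
    obtain ⟨⟨a', x⟩, hn, rfl⟩ := this
    rw [mem_comap]
    have e1 : (MonoidHom.inl A A) ⁅(MonoidHom.fst A A) (a', x), b⁆ = ⁅(a', x), (b, 1)⁆ := by
      simp [commutatorElement_def]
    rw [e1, commutatorElement_def, mul_assoc, mul_assoc, ← mul_assoc (b, 1) _ _]
    exact N.mul_mem hn (hNn.conj_mem _ (N.inv_mem hn) _)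
  have k2 : commutator A ≤ N.comap (MonoidHom.inr A A) := by
    rw [_root_.commutator_def, commutator_le]
    intro a _ b _
    have : a ∈ N.map (MonoidHom.snd A A) := by rw [hM2]; exact mem_top _
    obtain ⟨⟨x, a'⟩, hn, rfl⟩ := this
    rw [mem_comap]
    have e1 : (MonoidHom.inr A A) ⁅(MonoidHom.snd A A) (x, a'), b⁆ = ⁅(x, a'), (1, b)⁆ := by
      simp [commutatorElement_def]
    rw [e1, commutatorElement_def, mul_assoc, mul_assoc, ← mul_assoc (1, b) _ _]
    exact N.mul_mem hn (hNn.conj_mem _ (N.inv_mem hn) _)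
  rw [hA] at k1 k2
  apply h5
  rw [eq_top_iff]
  rintro ⟨a, b⟩ _
  have : ((a, b) : A × A) = (a, 1) * (1, b) := by simp
  rw [this]
  exact N.mul_mem (k1 (mem_top a)) (k2 (mem_top b))

/-- `Good` for a centralizer isomorphic to `A × A`. -/
theorem good_of_prod {L : Type*} [Group L] (hA : commutator A = ⊤)
    (hs : IsSimpleGroup (A ⧸ center A)) {c : A} (hc : c ≠ 1) (j : A × A →* L)
    (hj : Function.Injective j) {z y : L} (hr : j.range = cen y) (hz : j (c, c) = z)
    (hy : y = j (1, c) ∨ y = j (c, 1)) : Good z y := by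
  have h1 : perf (cen y) = (⊤ : Subgroup (A × A)).map j := by
    rw [← hr, MonoidHom.range_eq_map]
    exact perf_eq_self (map_perfect (perfect_prod hA) j)
  refine ⟨?_, ?_, ?_⟩
  · rw [h1, ← hz]
    exact mem_map_of_mem _ (mem_top _)
  · rw [h1]
    rcases hy with rfl | rfl
    · exact (pn_right hA hc).map hj
    · exact (pn_left hA hc).map hj
  · rw [h1, ← hz]
    intro h
    exact not_pn hA hs hc hc (PN.of_map hj h)

end Cfsg.Agent.GH.Cov.Prod
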