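import Mathlib
import Cfsg.Agent.ClassicalGeometry.SympAutExists
import Cfsg.Agent.ClassicalGeometry.SympAutRecog
import Cfsg.Agent.LieClassical.SympPerfect
import Cfsg.Agent.ThreePrime.AutQuot

/-!
Automorphisms of `Sp_2m(q)`, `q` odd, `m ≥ 2`, are conjugations by semisimilitudes of the symplectic space;
the square of an involutory one is a scalar.
-/

set_option autoImplicit false
open Cfsg
open scoped Matrix

namespace Cfsg.Agent.GH.Cov.SpSemi

open Cfsg.Agent.ClassicalGeometry.SympBasic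
open Cfsg.Agent.ClassicalGeometry.SympAutSemi
open Cfsg.Agent.ClassicalGeometry.SympAutExists

variable {F : Type*} [Field F] {m : ℕ}

local notation "V" => (Fin m ⊕ Fin m → F)
local notation "f" => sympForm m F

theorem semi_zero {g : Equiv.Perm V} {φ : F ≃+* F} {l : F} (hs : IsSemi g φ l) : g 0 = 0 := by
  have h := hs.1 0 0
  rw [add_zero] at h
  exact left_eq_add.1 h

/-- `Sp_2m(q)` is perfect for `m ≥ 2`, `q` odd. -/
theorem perfect [Finite F] (hm : 2 ≤ m) (h2 : (2 : F) ≠ 0) :
    Group.IsPerfect (Matrix.symplecticGroup (Fin m) F) := by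
  have : Fintype F := Fintype.ofFinite F
  refine ⟨Cfsg.Agent.LieClassical.SympPerfect.commutator_eq_top ?_⟩
  rcases Nat.lt_or_ge 2 m with h | h
  · exact Or.inl h
  · refine Or.inr (Or.inl ⟨le_antisymm h hm, ?_⟩)
    classical
    have h3 : ({0, 1, 2} : Finset F).card = 3 := by
      rw [Finset.card_eq_three]
      refine ⟨0, 1, 2, zero_ne_one, h2.symm, ?_, rfl⟩
      intro h
      apply one_ne_zero (α := F)
      linear_combination -h
    rw [← h3]
    exact Finset.card_le_univ _

/-- Automorphisms of `Sp_2m(q)` come from semisimilitudes. -/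
theorem exists_conjHom_eq [Finite F] (hm : 2 ≤ m) (h2 : (2 : F) ≠ 0)
    (α : MulAut (Matrix.symplecticGroup (Fin m) F)) : ∃ g : semiSim m F, conjHom m F g = α := by
  obtain ⟨g, hg⟩ := exists_semi hm (quotAut α)
    (Cfsg.Agent.ClassicalGeometry.SympAutRecog.recog_odd hm h2 _)
  refine ⟨g, ?_⟩
  have h1 : quotAut (α⁻¹ * conjHom m F g) = 1 := by
    rw [map_mul, map_inv, inv_mul_eq_one]
    exact hg.symm
  have h3 := Cfsg.Agent.ThreePrime.AutQuot.eq_one_of_autQuot_eq_one (perfect hm h2)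
    (φ := α⁻¹ * conjHom m F g) (by
      ext x
      obtain ⟨y, rfl⟩ := QuotientGroup.mk_surjective x
      rw [Cfsg.Agent.ThreePrime.AutQuot.autQuot_mk, ← quotAut_mk, h1])
  exact (inv_mul_eq_one.1 h3).symm

/-- If a semilinear bijection fixes all lines then it is a scalar. -/
theorem smul_of_forall {g : Equiv.Perm V} (hm : 1 ≤ m) (hadd : ∀ u v, g (u + v) = g u + g v)
    (h : ∀ v : V, ∃ a : F, g v = a • v) : ∃ a : F, ∀ v : V, g v = a • v := by
  choose a ha using h
  have h1 : ∀ v w, f v w ≠ 0 → a v = a (v + w) := by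
    intro v w hvw
    have h2 := hadd v w
    rw [ha (v + w), ha v, ha w] at h2
    have h3 := congrArg (fun x => f x w) h2
    simp only [sympForm_smul_left, sympForm_add_left, sympForm_self, add_zero, mul_zero] at h3
    exact (mul_right_cancel₀ hvw h3).symm
  have h1' : ∀ v w, f v w ≠ 0 → a v = a w := by
    intro v w hvw
    have h4 : f w v ≠ 0 := by rw [sympForm_swap]; exact neg_ne_zero.2 hvw
    rw [h1 v w hvw, add_comm, ← h1 w v h4]
  have h5 : ∀ v w : V, v ≠ 0 → w ≠ 0 → a v = a w := by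
    intro v w hv hw
    obtain ⟨z, hz1, hz2⟩ := exists_both_ne_zero hv hw
    rw [h1' v z hz1, h1' w z hz2]
  obtain ⟨e, e', hee⟩ := exists_hyperbolic (F := F) hm
  have he : e ≠ 0 := ne_zero_of_form_left (by rw [hee]; exact one_ne_zero)
  refine ⟨a e, fun v => ?_⟩
  by_cases hv : v = 0
  · subst hv
    rw [ha 0, smul_zero, smul_zero]
  · rw [ha v, h5 v e hv he]

/-- A semisimilitude inducing the identity is a scalar. -/
theorem smul_of_conjHom_eq_one (hm : 1 ≤ m) {g : semiSim m F} (h : conjHom m F g = 1) :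
    ∃ a : F, ∀ v : V, g.1 v = a • v := by
  obtain ⟨φ, l, hl, hg⟩ := g.2
  refine smul_of_forall hm hg.1 fun v => ?_
  by_cases hv : v = 0
  · subst hv
    exact ⟨0, by rw [semi_zero hg, smul_zero]⟩
  · have h1 := conjHom_transv g hl hg v 1
    rw [h, MulAut.one_apply] at h1
    exact transv_eq_transv hv one_ne_zero h1

/-- An involutory automorphism comes from a non-scalar semisimilitude whose square is a scalar. -/
theorem exists_of_involutory [Finite F] (hm : 2 ≤ m) (h2 : (2 : F) ≠ 0)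
    (α : MulAut (Matrix.symplecticGroup (Fin m) F)) (h : α * α = 1) (hne : α ≠ 1) :
    ∃ (g : semiSim m F) (φ : F ≃+* F) (μ l : F), conjHom m F g = α ∧ IsSemi g.1 φ μ ∧ μ ≠ 0 ∧
      l ≠ 0 ∧ (∀ v, g.1 (g.1 v) = l • v) ∧ ∃ v : V, ∀ a : F, g.1 v ≠ a • v := by
  obtain ⟨g, hg⟩ := exists_conjHom_eq hm h2 α
  obtain ⟨φ, μ, hμ, hs⟩ := g.2
  have hm1 : 1 ≤ m := by omega
  obtain ⟨l, hl⟩ := smul_of_conjHom_eq_one (m := m) (F := F) hm1 (g := g * g) (by
    rw [map_mul, hg, h])
  obtain ⟨e, e', hee⟩ := exists_hyperbolic (F := F) hm1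
  have he : e ≠ 0 := ne_zero_of_form_left (by rw [hee]; exact one_ne_zero)
  have hg0 : g.1 0 = 0 := semi_zero hs
  refine ⟨g, φ, μ, l, hg, hs, hμ, ?_, fun v => hl v, ?_⟩
  · rintro rfl
    have h3 := hl e
    rw [zero_smul] at h3
    apply he
    apply (g * g).1.injective
    rw [h3]
    change _ = g.1 (g.1 0)
    rw [hg0, hg0]
  · by_contra hcon
    push Not at hcon
    apply hne
    obtain ⟨a, ha⟩ := smul_of_forall hm1 hs.1 hcon
    have ha0 : a ≠ 0 := by
      rintro rfl
      apply he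
      apply g.1.injective
      rw [ha, hg0, zero_smul]
    have hφ : ∀ c : F, φ c = c := by
      intro c
      have h3 := hs.2.1 c e
      rw [ha, ha, smul_smul, smul_smul, mul_comm] at h3
      exact (mul_right_cancel₀ ha0 (smul_right_cancel_vec he h3)).symm
    rw [← hg]
    ext1 A
    apply rho_injective
    rw [rho_conjHom, MulAut.one_apply]
    ext1 v
    rw [Equiv.Perm.mul_apply, Equiv.Perm.mul_apply]
    obtain ⟨w, rfl⟩ := g.1.surjective v
    rw [perm_inv_apply_self, ha, ha, rho_apply, rho_apply, Matrix.mulVec_smul]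

end Cfsg.Agent.GH.Cov.SpSemi
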