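import Mathlib
import Cfsg.Agent.GH.Cov.SpSemi
import Cfsg.Agent.ClassicalGeometry.InvolutiveNorm
import Cfsg.Agent.ClassicalGeometry.SympInvolutions

/-!
A semisimilitude `g` of the symplectic space `V` of dimension 4 over a finite field of odd order, not a
scalar, whose square is a scalar: there are `x, y` with `V = ⟨x, y⟩ ⊥ ⟨gx, gy⟩`, `f(x, y) = 1`.
-/

set_option autoImplicit false
open Cfsg
open scoped Matrix

namespace Cfsg.Agent.GH.Cov.SpDecomp

open Cfsg.Agent.ClassicalGeometry.SympBasic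
open Cfsg.Agent.ClassicalGeometry.SympAutSemi
open Cfsg.Agent.ClassicalGeometry.SympAutExists
open Cfsg.Agent.GH.Cov.SpSemi

variable {F : Type*} [Field F] {m : ℕ}

local notation "V" => (Fin m ⊕ Fin m → F)
local notation "f" => sympForm m F

/-- A semisimilitude whose square is a scalar. -/
structure SqSemi (g : Equiv.Perm V) (φ : F ≃+* F) (μ l : F) : Prop where
  semi : IsSemi g φ μ
  hμ : μ ≠ 0
  hl : l ≠ 0
  sq : ∀ v, g (g v) = l • v


variable {g : Equiv.Perm (Fin m ⊕ Fin m → F)} {φ : F ≃+* F} {μ l : F}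

theorem SqSemi.add (h : SqSemi g φ μ l) (u v : V) : g (u + v) = g u + g v := h.semi.1 u v

theorem SqSemi.smul (h : SqSemi g φ μ l) (a : F) (v : V) : g (a • v) = φ a • g v := h.semi.2.1 a v

theorem SqSemi.form (h : SqSemi g φ μ l) (u v : V) : f (g u) (g v) = μ * φ (f u v) := h.semi.2.2 u v

theorem SqSemi.form_left (h : SqSemi g φ μ l) (u v : V) : l * f (g u) v = μ * φ (f u (g v)) := by
  rw [← h.form, h.sq, sympForm_smul_right]

theorem SqSemi.map_ne_zero (h : SqSemi g φ μ l) {v : V} (hv : v ≠ 0) : g v ≠ 0 := by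
  intro h0
  apply hv
  apply g.injective
  rw [h0, semi_zero h.semi]

theorem SqSemi.phi_phi (h : SqSemi g φ μ l) (hm : 1 ≤ m) (c : F) : φ (φ c) = c := by
  obtain ⟨e, e', hee⟩ := exists_hyperbolic (F := F) hm
  have he : e ≠ 0 := ne_zero_of_form_left (by rw [hee]; exact one_ne_zero)
  have h1 := h.sq (c • e)
  rw [h.smul, h.smul, h.sq, smul_smul, smul_smul, mul_comm] at h1
  exact mul_left_cancel₀ h.hl (smul_right_cancel_vec he h1)

theorem SqSemi.mu_mu (h : SqSemi g φ μ l) (hm : 1 ≤ m) : μ * φ μ = l * l := by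
  obtain ⟨e, e', hee⟩ := exists_hyperbolic (F := F) hm
  have h1 := h.form (g e) (g e')
  rw [h.form e e', h.sq, h.sq, sympForm_smul_left, sympForm_smul_right, hee, map_mul, map_one,
    map_one, mul_one, mul_one] at h1
  exact h1.symm

theorem SqSemi.phi_l (h : SqSemi g φ μ l) (hm : 1 ≤ m) : φ l = l := by
  obtain ⟨e, e', hee⟩ := exists_hyperbolic (F := F) hm
  have he : e ≠ 0 := ne_zero_of_form_left (by rw [hee]; exact one_ne_zero)
  have h1 := h.smul l e
  rw [← h.sq e, h.sq] at h1
  exact (smul_right_cancel_vec (h.map_ne_zero he) h1).symm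

/-- The relation for `s(u) = f(u, gu)`. -/
theorem SqSemi.skew (h : SqSemi g φ μ l) (u : V) : l * f u (g u) = -(μ * φ (f u (g u))) := by
  rw [← h.form_left, sympForm_swap]
  ring

theorem SqSemi.form_smul_self (h : SqSemi g φ μ l) (c : F) (u : V) :
    f (c • u) (g (c • u)) = c * φ c * f u (g u) := by
  rw [h.smul, sympForm_smul_left, sympForm_smul_right]
  ring


section two

local notation "V2" => (Fin 2 ⊕ Fin 2 → F)
local notation "f2" => sympForm 2 F

/-- The orthogonal complement of a hyperbolic plane contains a hyperbolic pair. -/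
theorem exists_perp_pair {u v : V2} (h : f2 u v ≠ 0) :
    ∃ w w' : V2, f2 w w' = 1 ∧ f2 u w = 0 ∧ f2 v w = 0 ∧ f2 u w' = 0 ∧ f2 v w' = 0 := by
  -- projection to the complement
  set c := f2 u v with hc
  let P : V2 → V2 := fun t => t - (c⁻¹ * f2 u t) • v + (c⁻¹ * f2 v t) • u
  have hPu : ∀ t, f2 u (P t) = 0 := by
    intro t
    simp only [P, sympForm_add_right, sympForm_sub_right, sympForm_smul_right, sympForm_self,
      ← hc]
    field_simp
    ring
  have hPv : ∀ t, f2 v (P t) = 0 := by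
    intro t
    simp only [P, sympForm_add_right, sympForm_sub_right, sympForm_smul_right, sympForm_self]
    rw [sympForm_swap v u, ← hc]
    field_simp
    ring
  have hne : ∃ t, P t ≠ 0 := by
    by_contra hcon
    push Not at hcon
    have hspan : ∀ t : V2, t ∈ Submodule.span F {u, v} := by
      intro t
      have h1 := hcon t
      have h2 : t = (-(c⁻¹ * f2 v t)) • u + (c⁻¹ * f2 u t) • v := by
        simp only [P] at h1
        rw [← sub_eq_zero, ← h1]
        module
      rw [h2]
      exact Submodule.mem_span_pair.2 ⟨_, _, rfl⟩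
    have h3 : Submodule.span F {u, v} = (⊤ : Submodule F V2) := eq_top_iff.2 fun t _ => hspan t
    classical
    have h4 := finrank_span_finset_le_card (R := F) ({u, v} : Finset V2)
    rw [Set.finrank, Finset.coe_insert, Finset.coe_singleton, h3, finrank_top,
      Module.finrank_fintype_fun_eq_card] at h4
    have h5 : ({u, v} : Finset V2).card ≤ 2 := Finset.card_le_two
    have h6 : Fintype.card (Fin 2 ⊕ Fin 2) = 4 := rfl
    omega
  obtain ⟨t, ht⟩ := hne
  obtain ⟨r, hr⟩ := Cfsg.Agent.ClassicalGeometry.SympSiegel.exists_form_eq_one ht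
  refine ⟨P t, P r, ?_, hPu t, hPv t, hPu r, hPv r⟩
  have : f2 (P t) (P r) = f2 (P t) r := by
    conv_lhs => 
      rw [show P r = r - (c⁻¹ * f2 u r) • v + (c⁻¹ * f2 v r) • u from rfl]
    rw [sympForm_add_right, sympForm_sub_right, sympForm_smul_right, sympForm_smul_right,
      sympForm_swap (P t) v, sympForm_swap (P t) u, hPu, hPv]
    ring
  rw [this, hr]

/-- `a² - l b²` is universal over a finite field of odd order. -/
theorem exists_sq_sub [Finite F] (h2 : (2 : F) ≠ 0) {l : F} (hl : l ≠ 0) (r : F) :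
    ∃ a b : F, a * a - l * (b * b) = r := by
  have : Fintype F := Fintype.ofFinite F
  have hodd : Fintype.card F % 2 = 1 := by
    apply FiniteField.odd_card_of_char_ne_two
    intro h3
    apply h2
    have h4 := ringChar.Nat.cast_ringChar (R := F)
    rw [h3] at h4
    exact_mod_cast h4
  have hg : (Polynomial.C (-l) * Polynomial.X ^ 2 + Polynomial.C 0 * Polynomial.X +
      Polynomial.C (-r) : Polynomial F).degree = 2 :=
    Polynomial.degree_quadratic (neg_ne_zero.2 hl)
  have hf : (Polynomial.X ^ 2 : Polynomial F).degree = 2 := Polynomial.degree_X_pow 2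
  obtain ⟨a, b, hab⟩ := FiniteField.exists_root_sum_quadratic hf hg hodd
  refine ⟨a, b, ?_⟩
  simp only [Polynomial.eval_add, Polynomial.eval_mul, Polynomial.eval_pow, Polynomial.eval_X,
    Polynomial.eval_C] at hab
  linear_combination hab

theorem exists_norm [Finite F] (h2 : (2 : F) ≠ 0) {φ : F ≃+* F} (hφ : ∀ c, φ (φ c) = c) {l : F}
    (hl : l ≠ 0) {r : F} (hr : φ r = r) :
    ∃ a b : F, a * φ a - l * (b * φ b) = r := by
  by_cases h : (φ : F →+* F) = RingHom.id F
  · have h' : ∀ c, φ c = c := fun c => RingHom.congr_fun h c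
    obtain ⟨a, b, hab⟩ := exists_sq_sub h2 hl r
    exact ⟨a, b, by rw [h', h', hab]⟩
  · obtain ⟨a, ha⟩ := Cfsg.Agent.ClassicalGeometry.InvolutiveNorm.exists_mul_sigma_eq h
      (fun c => hφ c) (a := r) hr
    refine ⟨a, 0, ?_⟩
    rw [zero_mul, mul_zero, sub_zero]
    exact ha

variable {g : Equiv.Perm (Fin 2 ⊕ Fin 2 → F)} {φ : F ≃+* F} {μ l : F}

/-- A vector orthogonal to the `g`-plane of `v` which is not an eigenvector. -/
theorem exists_w (h2 : (2 : F) ≠ 0) (h : SqSemi g φ μ l) {v : V2} (hs : f2 v (g v) ≠ 0) :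
    ∃ w : V2, f2 v w = 0 ∧ f2 (g v) w = 0 ∧ ∀ a : F, g w ≠ a • w := by
  obtain ⟨w, w', h1, hw1, hw2, hw3, hw4⟩ := exists_perp_pair hs
  by_contra hcon
  push Not at hcon
  obtain ⟨a, ha⟩ := hcon w hw1 hw2
  obtain ⟨b, hb⟩ := hcon w' hw3 hw4
  have h1' : f2 w' w = -1 := by rw [sympForm_swap, h1]
  have key : ∀ c : F, φ c * b = a * c := by
    intro c
    obtain ⟨d, hd⟩ := hcon (w + c • w') (by rw [sympForm_add_right, sympForm_smul_right, hw1, hw3]; ring)
      (by rw [sympForm_add_right, sympForm_smul_right, hw2, hw4]; ring)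
    rw [h.add, h.smul, ha, hb] at hd
    have e1 := congrArg (fun x => f2 x w') hd
    have e2 := congrArg (fun x => f2 x w) hd
    simp only [sympForm_add_left, sympForm_smul_left, sympForm_self, h1, h1'] at e1 e2
    have e3 : a = d := by linear_combination e1
    rw [← e3] at e2
    linear_combination -e2
  have hab : b = a := by
    have := key 1
    rwa [map_one, one_mul, mul_one] at this
  have hw0 : w ≠ 0 := ne_zero_of_form_left (by rw [h1]; exact one_ne_zero)
  have ha0 : a ≠ 0 := by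
    rintro rfl
    rw [zero_smul] at ha
    exact h.map_ne_zero hw0 ha
  have hφ : ∀ c, φ c = c := by
    intro c
    have := key c
    rw [hab, mul_comm a] at this
    exact mul_right_cancel₀ ha0 this
  have hμ : μ = a * a := by
    have := h.form w w'
    rw [ha, hb, sympForm_smul_left, sympForm_smul_right, h1, map_one, hab, mul_one, mul_one] at this
    exact this.symm
  have hl : l = a * a := by
    have := h.sq w
    rw [ha, h.smul, ha, smul_smul, hφ] at this
    exact (smul_right_cancel_vec hw0 this).symm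
  have h3 := h.skew v
  rw [hμ, hl, hφ] at h3
  have h4 : 2 * ((a * a) * f2 v (g v)) = 0 := by linear_combination h3
  exact mul_ne_zero h2 (mul_ne_zero (mul_ne_zero ha0 ha0) hs) h4

/-- A vector `x` with `f(x, gx) = 0`, not an eigenvector. -/
theorem exists_x [Finite F] (h2 : (2 : F) ≠ 0) (h : SqSemi g φ μ l)
    (hns : ∃ v : V2, ∀ a : F, g v ≠ a • v) : ∃ x : V2, f2 x (g x) = 0 ∧ ∀ a : F, g x ≠ a • x := by
  obtain ⟨v, hv⟩ := hns
  by_cases hs : f2 v (g v) = 0
  · exact ⟨v, hs, hv⟩
  obtain ⟨w, hw1, hw2, hw⟩ := exists_w h2 h hs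
  by_cases ht : f2 w (g w) = 0
  · exact ⟨w, ht, hw⟩
  have hr : φ (-(f2 v (g v) / f2 w (g w))) = -(f2 v (g v) / f2 w (g w)) := by
    have e1 := h.skew v
    have e2 := h.skew w
    rw [map_neg, map_div₀, neg_inj]
    have h3 : φ (f2 w (g w)) ≠ 0 := by simpa using ht
    rw [div_eq_div_iff h3 ht]
    apply mul_left_cancel₀ (mul_ne_zero h.hl h.hμ)
    linear_combination (l * f2 w (g w)) * e1 - (l * f2 v (g v)) * e2
  obtain ⟨a, b, hab⟩ := exists_norm h2 (h.phi_phi (by norm_num)) h.hl hr
  -- orthogonality relations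
  have h3 : f2 v (g w) = 0 := by
    have := h.form_left v w
    rw [hw2, mul_zero] at this
    have h4 := (mul_eq_zero.1 this.symm).resolve_left h.hμ
    simpa using h4
  have h4 : f2 (g v) (g w) = 0 := by rw [h.form, hw1, map_zero, mul_zero]
  have h5 : f2 (g w) w = -f2 w (g w) := sympForm_swap _ _
  have h6 : f2 w v = 0 := by rw [sympForm_swap, hw1, neg_zero]
  have h7 : f2 w (g v) = 0 := by rw [sympForm_swap, hw2, neg_zero]
  have h8 : f2 (g w) v = 0 := by rw [sympForm_swap, h3, neg_zero]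
  have h9 : f2 (g w) (g v) = 0 := by rw [sympForm_swap, h4, neg_zero]
  have hgx : g (v + (a • w + b • g w)) = g v + (φ a • g w + (φ b * l) • w) := by
    rw [h.add, h.add, h.smul, h.smul, h.sq, smul_smul]
  refine ⟨v + (a • w + b • g w), ?_, ?_⟩
  · rw [hgx]
    simp only [sympForm_add_left, sympForm_add_right, sympForm_smul_left, sympForm_smul_right,
      sympForm_self, hw1, h3, h5, h7, h9]
    have : (a * φ a - l * (b * φ b)) * f2 w (g w) = - f2 v (g v) := by
      rw [hab]
      field_simp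
    linear_combination this
  · intro c hc
    rw [hgx] at hc
    have e1 := congrArg (fun x => f2 v x) hc
    simp only [sympForm_add_right, sympForm_smul_right, sympForm_self, hw1, h3] at e1
    apply hs
    linear_combination e1

/-- The decomposition `V = ⟨x, y⟩ ⊥ ⟨gx, gy⟩`. -/
theorem exists_xy [Finite F] (h2 : (2 : F) ≠ 0) (h : SqSemi g φ μ l)
    (hns : ∃ v : V2, ∀ a : F, g v ≠ a • v) :
    ∃ x y : V2, f2 x y = 1 ∧ f2 x (g x) = 0 ∧ f2 y (g y) = 0 ∧ f2 x (g y) = 0 ∧
      f2 (g x) y = 0 := by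
  obtain ⟨x, hx, hxg⟩ := exists_x h2 h hns
  have hx0 : x ≠ 0 := by
    rintro rfl
    apply hxg 0
    rw [semi_zero h.semi, smul_zero]
  obtain ⟨t, ht1, ht2⟩ := Cfsg.Agent.LieClassical.SympSimple.exists_perp_of_not_smul
    (v := g x) (w := x) (h.map_ne_zero hx0) (by
      intro a ha
      have ha0 : a ≠ 0 := by
        rintro rfl
        rw [zero_smul] at ha
        exact hx0 ha
      apply hxg a⁻¹
      rw [ha, smul_smul, inv_mul_cancel₀ ha0, one_smul, ← ha])
  obtain ⟨y', k1, k2⟩ : ∃ y' : V2, f2 x y' = 1 ∧ f2 (g x) y' = 0 :=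
    ⟨(f2 x t)⁻¹ • t, by rw [sympForm_smul_right, inv_mul_cancel₀ ht2],
      by rw [sympForm_smul_right, ht1, mul_zero]⟩
  obtain ⟨θ, hθ⟩ : ∃ θ, θ = f2 y' (g y') := ⟨_, rfl⟩
  have k3 : f2 x (g y') = 0 := by
    have := h.form_left x y'
    rw [k2, mul_zero] at this
    have h4 := (mul_eq_zero.1 this.symm).resolve_left h.hμ
    simpa using h4
  have k4 : f2 (g x) (g y') = μ := by rw [h.form, k1, map_one, mul_one]
  have k5 : f2 y' x = -1 := by rw [sympForm_swap, k1]
  have k6 : f2 (g x) x = 0 := by rw [sympForm_swap, hx, neg_zero]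
  have k7 := h.skew y'
  rw [← hθ] at k7
  have hφμ : φ μ ≠ 0 := by simpa using h.hμ
  obtain ⟨d, hφd, hdμ⟩ : ∃ d : F, l * φ d = θ / 2 ∧ d * μ = -θ / 2 := by
    refine ⟨-θ / (2 * μ), ?_, ?_⟩
    · rw [map_div₀, map_neg, map_mul, map_ofNat]
      have hm := h.mu_mu (by norm_num)
      rw [mul_div_assoc', div_eq_div_iff (mul_ne_zero h2 hφμ) h2]
      apply mul_left_cancel₀ h.hμ
      linear_combination (-2 * l) * k7 - (2 * θ) * hm
    · have := h.hμ
      field_simp
  have hgy : g (y' + d • g x) = g y' + (φ d * l) • x := by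
    rw [h.add, h.smul, h.sq, smul_smul]
  refine ⟨x, y' + d • g x, ?_, hx, ?_, ?_, ?_⟩
  · rw [sympForm_add_right, sympForm_smul_right, hx, k1, mul_zero, add_zero]
  · rw [hgy]
    simp only [sympForm_add_left, sympForm_add_right, sympForm_smul_left, sympForm_smul_right,
      k4, k5, k6, ← hθ]
    have : NeZero (2 : F) := ⟨h2⟩
    have e : θ = θ / 2 + θ / 2 := (add_halves θ).symm
    linear_combination -hφd + hdμ + e
  · rw [hgy, sympForm_add_right, sympForm_smul_right, k3, sympForm_self, mul_zero, add_zero]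
  · rw [sympForm_add_right, sympForm_smul_right, k2, sympForm_self, mul_zero, add_zero]

end two

end Cfsg.Agent.GH.Cov.SpDecomp
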