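import Mathlib
import Cfsg.Agent.GH.Cov.SpDecomp
import Cfsg.Agent.TwoFusion.SLTwoFacts

/-!
Every involutory automorphism of `Sp₄(q)`, `q` odd, centralizes a subgroup `SL₂(q)` containing `-1`.
-/

set_option autoImplicit false
open Cfsg
open scoped Matrix

namespace Cfsg.Agent.GH.Cov.SpPsi

open Cfsg.Agent.ClassicalGeometry.SympBasic
open Cfsg.Agent.ClassicalGeometry.SympAutSemi
open Cfsg.Agent.ClassicalGeometry.SympAutExists
open Cfsg.Agent.GH.Cov.SpSemi
open Cfsg.Agent.GH.Cov.SpDecomp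

variable {F : Type*} [Field F]

local notation "f2" => sympForm 2 F

/-- A decomposition into two hyperbolic planes. -/
structure Frame (x y x' y' : Fin 2 ⊕ Fin 2 → F) (μ : F) : Prop where
  xy : f2 x y = 1
  xy' : f2 x' y' = μ
  hμ : μ ≠ 0
  c1 : f2 x x' = 0
  c2 : f2 x y' = 0
  c3 : f2 y x' = 0
  c4 : f2 y y' = 0

variable {x y x' y' : Fin 2 ⊕ Fin 2 → F} {μ : F}

theorem Frame.yx (h : Frame x y x' y' μ) : f2 y x = -1 := by rw [sympForm_swap, h.xy]
theorem Frame.yx' (h : Frame x y x' y' μ) : f2 y' x' = -μ := by rw [sympForm_swap, h.xy']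
theorem Frame.d1 (h : Frame x y x' y' μ) : f2 x' x = 0 := by rw [sympForm_swap, h.c1, neg_zero]
theorem Frame.d2 (h : Frame x y x' y' μ) : f2 y' x = 0 := by rw [sympForm_swap, h.c2, neg_zero]
theorem Frame.d3 (h : Frame x y x' y' μ) : f2 x' y = 0 := by rw [sympForm_swap, h.c3, neg_zero]
theorem Frame.d4 (h : Frame x y x' y' μ) : f2 y' y = 0 := by rw [sympForm_swap, h.c4, neg_zero]

theorem Frame.linearIndependent (h : Frame x y x' y' μ) : LinearIndependent F ![x, y, x', y'] := by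
  rw [Fintype.linearIndependent_iff]
  intro c hc
  rw [Fin.sum_univ_four] at hc
  simp only [Matrix.cons_val_zero, Matrix.cons_val_one, Matrix.cons_val] at hc
  have e0 := congrArg (fun t => f2 t y) hc
  have e1 := congrArg (fun t => f2 x t) hc
  have e2 := congrArg (fun t => f2 t y') hc
  have e3 := congrArg (fun t => f2 x' t) hc
  simp only [sympForm_add_left, sympForm_add_right, sympForm_smul_left, sympForm_smul_right,
    sympForm_self, h.xy, h.xy', h.c1, h.c2, h.c4, h.d1, h.d3, h.d4, sympForm_zero_left,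
    sympForm_zero_right, mul_zero, mul_one, add_zero, zero_add] at e0 e1 e2 e3
  intro i
  fin_cases i
  · exact e0
  · exact e1
  · exact (mul_eq_zero.1 e2).resolve_right h.hμ
  · exact (mul_eq_zero.1 e3).resolve_right h.hμ

theorem Frame.expand (h : Frame x y x' y' μ) (v : Fin 2 ⊕ Fin 2 → F) :
    v = f2 v y • x + f2 x v • y + (μ⁻¹ * f2 v y') • x' + (μ⁻¹ * f2 x' v) • y' := by
  have h1 := h.linearIndependent.span_eq_top_of_card_eq_finrank' (by
    rw [Module.finrank_fintype_fun_eq_card]; rfl)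
  have h2 : v ∈ Submodule.span F (Set.range ![x, y, x', y']) := by
    rw [h1]
    exact Submodule.mem_top
  obtain ⟨c, hc⟩ := (Submodule.mem_span_range_iff_exists_fun F).1 h2
  rw [Fin.sum_univ_four] at hc
  simp only [Matrix.cons_val_zero, Matrix.cons_val_one, Matrix.cons_val] at hc
  have e0 := congrArg (fun t => f2 t y) hc
  have e1 := congrArg (fun t => f2 x t) hc
  have e2 := congrArg (fun t => f2 t y') hc
  have e3 := congrArg (fun t => f2 x' t) hc
  simp only [sympForm_add_left, sympForm_add_right, sympForm_smul_left, sympForm_smul_right,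
    sympForm_self, h.xy, h.xy', h.c1, h.c2, h.c4, h.d1, h.d3, h.d4, mul_zero, mul_one, add_zero,
    zero_add] at e0 e1 e2 e3
  have hμ := h.hμ
  rw [← e0, ← e1, ← e2, ← e3, ← hc]
  congr 2
  · congr 1
    field_simp
  · field_simp

/-- The form in coordinates. -/
theorem Frame.form_expand (h : Frame x y x' y' μ) (u v : Fin 2 ⊕ Fin 2 → F) :
    f2 u v = f2 u y * f2 x v - f2 x u * f2 v y +
      μ⁻¹ * (f2 u y' * f2 x' v - f2 x' u * f2 v y') := by
  conv_lhs => rw [h.expand u, h.expand v]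
  simp only [sympForm_add_left, sympForm_add_right, sympForm_smul_left, sympForm_smul_right,
    sympForm_self, h.xy, h.xy', h.c1, h.c2, h.c3, h.c4, h.d1, h.d2, h.d3, h.d4, h.yx, h.yx']
  have hμ := h.hμ
  field_simp
  ring

variable (x y x' y' μ) in
/-- The action of `A` on the first plane and of `φ(A)` on the second. -/
def psiFun (φ : F ≃+* F) (A : Matrix (Fin 2) (Fin 2) F) (v : Fin 2 ⊕ Fin 2 → F) :
    Fin 2 ⊕ Fin 2 → F :=
  f2 v y • (A 0 0 • x + A 1 0 • y) + f2 x v • (A 0 1 • x + A 1 1 • y) +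
    (μ⁻¹ * f2 v y') • (φ (A 0 0) • x' + φ (A 1 0) • y') +
    (μ⁻¹ * f2 x' v) • (φ (A 0 1) • x' + φ (A 1 1) • y')

variable {φ : F ≃+* F}

theorem psi_y (h : Frame x y x' y' μ) (A : Matrix (Fin 2) (Fin 2) F) (v : Fin 2 ⊕ Fin 2 → F) :
    f2 (psiFun x y x' y' μ φ A v) y = A 0 0 * f2 v y + A 0 1 * f2 x v := by
  simp only [psiFun, sympForm_add_left, sympForm_smul_left, sympForm_self, h.xy, h.d3, h.d4]
  ring

theorem psi_x (h : Frame x y x' y' μ) (A : Matrix (Fin 2) (Fin 2) F) (v : Fin 2 ⊕ Fin 2 → F) :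
    f2 x (psiFun x y x' y' μ φ A v) = A 1 0 * f2 v y + A 1 1 * f2 x v := by
  simp only [psiFun, sympForm_add_right, sympForm_smul_right, sympForm_self, h.xy, h.c1, h.c2]
  ring

theorem psi_y' (h : Frame x y x' y' μ) (A : Matrix (Fin 2) (Fin 2) F) (v : Fin 2 ⊕ Fin 2 → F) :
    f2 (psiFun x y x' y' μ φ A v) y' = φ (A 0 0) * f2 v y' + φ (A 0 1) * f2 x' v := by
  simp only [psiFun, sympForm_add_left, sympForm_smul_left, sympForm_self, h.xy', h.c2, h.c4]
  have hμ := h.hμ
  field_simp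
  ring

theorem psi_x' (h : Frame x y x' y' μ) (A : Matrix (Fin 2) (Fin 2) F) (v : Fin 2 ⊕ Fin 2 → F) :
    f2 x' (psiFun x y x' y' μ φ A v) = φ (A 1 0) * f2 v y' + φ (A 1 1) * f2 x' v := by
  simp only [psiFun, sympForm_add_right, sympForm_smul_right, sympForm_self, h.xy', h.d1, h.d3]
  have hμ := h.hμ
  field_simp
  ring

theorem psi_mul (h : Frame x y x' y' μ) (A B : Matrix (Fin 2) (Fin 2) F)
    (v : Fin 2 ⊕ Fin 2 → F) :
    psiFun x y x' y' μ φ A (psiFun x y x' y' μ φ B v) = psiFun x y x' y' μ φ (A * B) v := by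
  rw [psiFun, psi_x h, psi_y h, psi_x' h, psi_y' h, psiFun]
  simp only [Matrix.mul_apply, Fin.sum_univ_two, map_add, map_mul]
  module

theorem psi_one (h : Frame x y x' y' μ) (v : Fin 2 ⊕ Fin 2 → F) :
    psiFun x y x' y' μ φ 1 v = v := by
  conv_rhs => rw [h.expand v]
  simp [psiFun]

theorem psi_form (h : Frame x y x' y' μ) {A : Matrix (Fin 2) (Fin 2) F} (hA : A.det = 1)
    (u v : Fin 2 ⊕ Fin 2 → F) :
    f2 (psiFun x y x' y' μ φ A u) (psiFun x y x' y' μ φ A v) = f2 u v := by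
  rw [h.form_expand (psiFun x y x' y' μ φ A u), psi_y h, psi_x h, psi_y h, psi_x h, psi_y' h,
    psi_y' h, psi_x' h, psi_x' h, h.form_expand u v]
  rw [Matrix.det_fin_two] at hA
  have hA' : φ (A 0 0) * φ (A 1 1) - φ (A 0 1) * φ (A 1 0) = 1 := by
    rw [← map_mul, ← map_mul, ← map_sub, hA, map_one]
  linear_combination (f2 u y * f2 x v - f2 x u * f2 v y) * hA +
    (μ⁻¹ * (f2 u y' * f2 x' v - f2 x' u * f2 v y')) * hA'

theorem psi_add (A : Matrix (Fin 2) (Fin 2) F) (u v : Fin 2 ⊕ Fin 2 → F) :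
    psiFun x y x' y' μ φ A (u + v) = psiFun x y x' y' μ φ A u + psiFun x y x' y' μ φ A v := by
  simp only [psiFun, sympForm_add_left, sympForm_add_right]
  module

theorem psi_smul (A : Matrix (Fin 2) (Fin 2) F) (c : F) (v : Fin 2 ⊕ Fin 2 → F) :
    psiFun x y x' y' μ φ A (c • v) = c • psiFun x y x' y' μ φ A v := by
  simp only [psiFun, sympForm_smul_left, sympForm_smul_right]
  module

/-- The homomorphism to permutations of the vectors. -/
def psiPerm (h : Frame x y x' y' μ) (φ : F ≃+* F) :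
    Matrix.SpecialLinearGroup (Fin 2) F →* Equiv.Perm (Fin 2 ⊕ Fin 2 → F) where
  toFun A :=
    { toFun := psiFun x y x' y' μ φ A.1
      invFun := psiFun x y x' y' μ φ (A⁻¹).1
      left_inv := fun v => by
        rw [psi_mul h, ← Matrix.SpecialLinearGroup.coe_mul, inv_mul_cancel]
        exact psi_one h v
      right_inv := fun v => by
        rw [psi_mul h, ← Matrix.SpecialLinearGroup.coe_mul, mul_inv_cancel]
        exact psi_one h v }
  map_one' := by
    ext1 v
    exact psi_one h v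
  map_mul' A B := by
    ext1 v
    exact (psi_mul h A.1 B.1 v).symm

theorem exists_psi (h : Frame x y x' y' μ) (φ : F ≃+* F) :
    ∃ ψ : Matrix.SpecialLinearGroup (Fin 2) F →* Matrix.symplecticGroup (Fin 2) F,
      ∀ A v, rho 2 F (ψ A) v = psiFun x y x' y' μ φ A.1 v := by
  have h1 : ∀ A : Matrix.SpecialLinearGroup (Fin 2) F, ∃ B : Matrix.symplecticGroup (Fin 2) F,
      rho 2 F B = psiPerm h φ A := by
    intro A
    apply exists_rho_eq
    · exact psi_add _
    · exact psi_smul _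
    · exact psi_form h A.2
  choose ψ hψ using h1
  refine ⟨⟨⟨ψ, ?_⟩, ?_⟩, ?_⟩
  · apply rho_injective
    rw [hψ, map_one, map_one]
  · intro A B
    apply rho_injective
    rw [hψ, map_mul, map_mul, hψ, hψ]
  · intro A v
    change rho 2 F (ψ A) v = _
    rw [hψ]
    rfl

theorem frame_of_semi {g : Equiv.Perm (Fin 2 ⊕ Fin 2 → F)} {l : F} (h : SqSemi g φ μ l)
    (h1 : f2 x y = 1) (h2 : f2 x (g x) = 0) (h3 : f2 y (g y) = 0) (h4 : f2 x (g y) = 0)
    (h5 : f2 (g x) y = 0) : Frame x y (g x) (g y) μ :=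
  ⟨h1, by rw [h.form, h1, map_one, mul_one], h.hμ, h2, h4, by
    rw [sympForm_swap, h5, neg_zero], h3⟩

theorem psi_comm {g : Equiv.Perm (Fin 2 ⊕ Fin 2 → F)} {l : F} (h : SqSemi g φ μ l)
    (A : Matrix (Fin 2) (Fin 2) F) (v : Fin 2 ⊕ Fin 2 → F) :
    g (psiFun x y (g x) (g y) μ φ A v) = psiFun x y (g x) (g y) μ φ A (g v) := by
  have hl := h.hl
  have hμ := h.hμ
  have hφμ : φ μ ≠ 0 := by simpa using h.hμ
  have hm := h.mu_mu (by norm_num)
  have hff : ∀ c, φ (φ c) = c := h.phi_phi (by norm_num)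
  have e1 : f2 (g v) y = l⁻¹ * (μ * φ (f2 v (g y))) := by
    rw [← h.form_left, inv_mul_cancel_left₀ hl]
  have e2 : f2 x (g v) = l⁻¹ * (μ * φ (f2 (g x) v)) := by
    rw [sympForm_swap, sympForm_swap (g x) v, map_neg, mul_neg, mul_neg, ← h.form_left,
      inv_mul_cancel_left₀ hl]
  have e3 : (φ μ)⁻¹ * l = l⁻¹ * μ := by
    field_simp
    linear_combination -hm
  simp only [psiFun, h.add, h.smul, h.sq, e1, e2, h.form, map_mul, map_inv₀, hff]
  have e4 : ∀ t : F, ((φ μ)⁻¹ * t) * l = (l⁻¹ * (μ * t)) := by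
    intro t
    linear_combination t * e3
  have e5 : ∀ t : F, μ⁻¹ * (μ * t) = t := fun t => inv_mul_cancel_left₀ hμ t
  rw [e5, e5]
  simp only [smul_add, smul_smul]
  have e6 : ∀ s t : F, (φ μ)⁻¹ * s * (t * l) = l⁻¹ * (μ * s) * t := by
    intro s t
    linear_combination (s * t) * e3
  simp only [e6]
  abel

theorem psi_neg_one (h : Frame x y x' y' μ) (v : Fin 2 ⊕ Fin 2 → F) :
    psiFun x y x' y' μ φ (-1) v = -v := by
  conv_rhs => rw [h.expand v]
  simp [psiFun]
  abel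

/-- `-1 ∈ SL₂(F)`. -/
theorem exists_sl2 [Finite F] (h2 : (2 : F) ≠ 0)
    (e : MulAut (Matrix.symplecticGroup (Fin 2) F)) (he : e * e = 1) (hne : e ≠ 1) :
    ∃ ψ : Matrix.SpecialLinearGroup (Fin 2) F →* Matrix.symplecticGroup (Fin 2) F,
      Function.Injective ψ ∧ (∀ A, e (ψ A) = ψ A) ∧
      ((ψ (-1) : Matrix.symplecticGroup (Fin 2) F) :
        Matrix (Fin 2 ⊕ Fin 2) (Fin 2 ⊕ Fin 2) F) = -1 := by
  obtain ⟨g, φ, μ, l, rfl, hs, hμ, hl, hsq, hns⟩ := exists_of_involutory le_rfl h2 e he hne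
  have h : SqSemi g.1 φ μ l := ⟨hs, hμ, hl, hsq⟩
  obtain ⟨x, y, h3, h4, h5, h6, h7⟩ := exists_xy h2 h hns
  have hf := frame_of_semi h h3 h4 h5 h6 h7
  obtain ⟨ψ, hψ⟩ := exists_psi hf φ
  refine ⟨ψ, ?_, ?_, ?_⟩
  · rw [injective_iff_map_eq_one]
    intro A hA
    have e1 := hψ A x
    have e2 := hψ A y
    rw [hA, map_one, Equiv.Perm.one_apply] at e1 e2
    have k1 := psi_y (φ := φ) hf A.1 x
    have k2 := psi_x (φ := φ) hf A.1 x
    have k3 := psi_y (φ := φ) hf A.1 y
    have k4 := psi_x (φ := φ) hf A.1 y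
    rw [← e1, hf.xy, sympForm_self] at k1
    rw [← e1, hf.xy, sympForm_self] at k2
    rw [← e2, hf.xy, sympForm_self] at k3
    rw [← e2, hf.xy, sympForm_self] at k4
    ext i j
    fin_cases i <;> fin_cases j
    · change A.1 0 0 = 1
      linear_combination -k1
    · change A.1 0 1 = 0
      linear_combination -k3
    · change A.1 1 0 = 0
      linear_combination -k2
    · change A.1 1 1 = 1
      linear_combination -k4
  · intro A
    apply rho_injective
    rw [rho_conjHom]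
    ext1 v
    rw [Equiv.Perm.mul_apply, Equiv.Perm.mul_apply, hψ, hψ, psi_comm h, perm_apply_inv_self]
  · rw [← Matrix.mulVec_injective.eq_iff]
    funext v
    rw [Matrix.neg_mulVec, Matrix.one_mulVec, ← rho_apply, hψ,
      Matrix.SpecialLinearGroup.coe_neg, Matrix.SpecialLinearGroup.coe_one]
    exact psi_neg_one hf v

end Cfsg.Agent.GH.Cov.SpPsi
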