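import Mathlib
import Cfsg.Agent.GH.Cov.SpPsi
import Cfsg.Agent.GH.Cov.Prod

/-!
The centralizer of a noncentral involution of `Sp₄(q)`, `q` odd, is `SL₂(q) × SL₂(q)`.
-/

set_option autoImplicit false
open Cfsg
open scoped Matrix

namespace Cfsg.Agent.GH.Cov.SpInv

open Cfsg.Agent.ClassicalGeometry.SympBasic
open Cfsg.Agent.ClassicalGeometry.SympAutSemi
open Cfsg.Agent.ClassicalGeometry.SympAutExists
open Cfsg.Agent.GH.Cov.SpSemi
open Cfsg.Agent.GH.Cov.SpDecomp
open Cfsg.Agent.GH.Cov.SpPsi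
open Cfsg.Agent.GH.Cov.Iso
open Cfsg.Agent.GH.Cov.Down

variable {F : Type*} [Field F]

local notation "f2" => sympForm 2 F

variable {x y x' y' : Fin 2 ⊕ Fin 2 → F} {μ : F}

variable (x y x' y' μ) in
/-- The action of `A` on the first plane and of `B` on the second. -/
def biFun (A B : Matrix (Fin 2) (Fin 2) F) (v : Fin 2 ⊕ Fin 2 → F) : Fin 2 ⊕ Fin 2 → F :=
  f2 v y • (A 0 0 • x + A 1 0 • y) + f2 x v • (A 0 1 • x + A 1 1 • y) +
    (μ⁻¹ * f2 v y') • (B 0 0 • x' + B 1 0 • y') +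
    (μ⁻¹ * f2 x' v) • (B 0 1 • x' + B 1 1 • y')

theorem bi_y (h : Frame x y x' y' μ) (A B : Matrix (Fin 2) (Fin 2) F) (v : Fin 2 ⊕ Fin 2 → F) :
    f2 (biFun x y x' y' μ A B v) y = A 0 0 * f2 v y + A 0 1 * f2 x v := by
  simp only [biFun, sympForm_add_left, sympForm_smul_left, sympForm_self, h.xy, h.d3, h.d4]
  ring

theorem bi_x (h : Frame x y x' y' μ) (A B : Matrix (Fin 2) (Fin 2) F) (v : Fin 2 ⊕ Fin 2 → F) :
    f2 x (biFun x y x' y' μ A B v) = A 1 0 * f2 v y + A 1 1 * f2 x v := by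
  simp only [biFun, sympForm_add_right, sympForm_smul_right, sympForm_self, h.xy, h.c1, h.c2]
  ring

theorem bi_y' (h : Frame x y x' y' μ) (A B : Matrix (Fin 2) (Fin 2) F) (v : Fin 2 ⊕ Fin 2 → F) :
    f2 (biFun x y x' y' μ A B v) y' = B 0 0 * f2 v y' + B 0 1 * f2 x' v := by
  simp only [biFun, sympForm_add_left, sympForm_smul_left, sympForm_self, h.xy', h.c2, h.c4]
  have hμ := h.hμ
  field_simp
  ring

theorem bi_x' (h : Frame x y x' y' μ) (A B : Matrix (Fin 2) (Fin 2) F) (v : Fin 2 ⊕ Fin 2 → F) :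
    f2 x' (biFun x y x' y' μ A B v) = B 1 0 * f2 v y' + B 1 1 * f2 x' v := by
  simp only [biFun, sympForm_add_right, sympForm_smul_right, sympForm_self, h.xy', h.d1, h.d3]
  have hμ := h.hμ
  field_simp
  ring

theorem bi_mul (h : Frame x y x' y' μ) (A B A' B' : Matrix (Fin 2) (Fin 2) F)
    (v : Fin 2 ⊕ Fin 2 → F) :
    biFun x y x' y' μ A B (biFun x y x' y' μ A' B' v) =
      biFun x y x' y' μ (A * A') (B * B') v := by
  rw [biFun, bi_x h, bi_y h, bi_x' h, bi_y' h, biFun]
  simp only [Matrix.mul_apply, Fin.sum_univ_two]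
  module

theorem bi_one (h : Frame x y x' y' μ) (v : Fin 2 ⊕ Fin 2 → F) :
    biFun x y x' y' μ 1 1 v = v := by
  conv_rhs => rw [h.expand v]
  simp [biFun]

theorem bi_form (h : Frame x y x' y' μ) {A B : Matrix (Fin 2) (Fin 2) F} (hA : A.det = 1)
    (hB : B.det = 1) (u v : Fin 2 ⊕ Fin 2 → F) :
    f2 (biFun x y x' y' μ A B u) (biFun x y x' y' μ A B v) = f2 u v := by
  rw [h.form_expand (biFun x y x' y' μ A B u), bi_y h, bi_x h, bi_y h, bi_x h, bi_y' h,
    bi_y' h, bi_x' h, bi_x' h, h.form_expand u v]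
  rw [Matrix.det_fin_two] at hA hB
  linear_combination (f2 u y * f2 x v - f2 x u * f2 v y) * hA +
    (μ⁻¹ * (f2 u y' * f2 x' v - f2 x' u * f2 v y')) * hB

theorem bi_add (A B : Matrix (Fin 2) (Fin 2) F) (u v : Fin 2 ⊕ Fin 2 → F) :
    biFun x y x' y' μ A B (u + v) = biFun x y x' y' μ A B u + biFun x y x' y' μ A B v := by
  simp only [biFun, sympForm_add_left, sympForm_add_right]
  module

theorem bi_smul (A B : Matrix (Fin 2) (Fin 2) F) (c : F) (v : Fin 2 ⊕ Fin 2 → F) :
    biFun x y x' y' μ A B (c • v) = c • biFun x y x' y' μ A B v := by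
  simp only [biFun, sympForm_smul_left, sympForm_smul_right]
  module

/-- The homomorphism to permutations of the vectors. -/
def biPerm (h : Frame x y x' y' μ) :
    Matrix.SpecialLinearGroup (Fin 2) F × Matrix.SpecialLinearGroup (Fin 2) F →*
      Equiv.Perm (Fin 2 ⊕ Fin 2 → F) where
  toFun A :=
    { toFun := biFun x y x' y' μ A.1.1 A.2.1
      invFun := biFun x y x' y' μ (A.1⁻¹).1 (A.2⁻¹).1
      left_inv := fun v => by
        rw [bi_mul h, ← Matrix.SpecialLinearGroup.coe_mul, ← Matrix.SpecialLinearGroup.coe_mul,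
          inv_mul_cancel, inv_mul_cancel]
        exact bi_one h v
      right_inv := fun v => by
        rw [bi_mul h, ← Matrix.SpecialLinearGroup.coe_mul, ← Matrix.SpecialLinearGroup.coe_mul,
          mul_inv_cancel, mul_inv_cancel]
        exact bi_one h v }
  map_one' := by
    ext1 v
    exact bi_one h v
  map_mul' A B := by
    ext1 v
    exact (bi_mul h A.1.1 A.2.1 B.1.1 B.2.1 v).symm

theorem exists_bi (h : Frame x y x' y' μ) :
    ∃ j : Matrix.SpecialLinearGroup (Fin 2) F × Matrix.SpecialLinearGroup (Fin 2) F →*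
      Matrix.symplecticGroup (Fin 2) F,
      ∀ A v, rho 2 F (j A) v = biFun x y x' y' μ A.1.1 A.2.1 v := by
  have h1 : ∀ A : Matrix.SpecialLinearGroup (Fin 2) F × Matrix.SpecialLinearGroup (Fin 2) F,
      ∃ B : Matrix.symplecticGroup (Fin 2) F, rho 2 F B = biPerm h A := by
    intro A
    apply exists_rho_eq
    · exact bi_add _ _
    · exact bi_smul _ _
    · exact bi_form h A.1.2 A.2.2
  choose ψ hψ using h1
  refine ⟨⟨⟨ψ, ?_⟩, ?_⟩, ?_⟩
  · apply rho_injective
    rw [hψ, map_one, map_one]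
  · intro A B
    apply rho_injective
    rw [hψ, map_mul, map_mul, hψ, hψ]
  · intro A v
    change rho 2 F (ψ A) v = _
    rw [hψ]
    rfl

theorem bi_injective (h : Frame x y x' y' μ)
    {j : Matrix.SpecialLinearGroup (Fin 2) F × Matrix.SpecialLinearGroup (Fin 2) F →*
      Matrix.symplecticGroup (Fin 2) F}
    (hj : ∀ A v, rho 2 F (j A) v = biFun x y x' y' μ A.1.1 A.2.1 v) : Function.Injective j := by
  rw [injective_iff_map_eq_one]
  intro A hA
  have e : ∀ v, biFun x y x' y' μ A.1.1 A.2.1 v = v := by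
    intro v
    rw [← hj, hA, map_one, Equiv.Perm.one_apply]
  have k1 := bi_y h A.1.1 A.2.1 x
  have k2 := bi_x h A.1.1 A.2.1 x
  have k3 := bi_y h A.1.1 A.2.1 y
  have k4 := bi_x h A.1.1 A.2.1 y
  have l1 := bi_y' h A.1.1 A.2.1 x'
  have l2 := bi_x' h A.1.1 A.2.1 x'
  have l3 := bi_y' h A.1.1 A.2.1 y'
  have l4 := bi_x' h A.1.1 A.2.1 y'
  rw [e] at k1 k2 k3 k4 l1 l2 l3 l4
  simp only [h.xy, h.xy', sympForm_self, mul_zero, mul_one, add_zero, zero_add] at k1 k2 k3 k4 l1 l2 l3 l4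
  have hμ := h.hμ
  refine Prod.ext ?_ ?_
  · ext i j
    fin_cases i <;> fin_cases j
    · exact k1.symm
    · exact k3.symm
    · exact k2.symm
    · exact k4.symm
  · ext i j
    fin_cases i <;> fin_cases j
    · exact mul_right_cancel₀ hμ (l1.symm.trans (one_mul μ).symm)
    · exact mul_right_cancel₀ hμ (l3.symm.trans (zero_mul μ).symm)
    · exact mul_right_cancel₀ hμ (l2.symm.trans (zero_mul μ).symm)
    · exact mul_right_cancel₀ hμ (l4.symm.trans (one_mul μ).symm)

/-- The frame of an involution. -/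
theorem exists_frame (h2 : (2 : F) ≠ 0) {g : Matrix.symplecticGroup (Fin 2) F} (hg : g * g = 1)
    (h1 : g ≠ 1) (h1' : (g : Matrix (Fin 2 ⊕ Fin 2) (Fin 2 ⊕ Fin 2) F) ≠ -1) :
    ∃ x y x' y' : Fin 2 ⊕ Fin 2 → F, Frame x y x' y' 1 ∧ rho 2 F g x = x ∧ rho 2 F g y = y ∧
      rho 2 F g x' = -x' ∧ rho 2 F g y' = -y' := by
  have hgg : ∀ v, rho 2 F g (rho 2 F g v) = v := by
    intro v
    rw [← Equiv.Perm.mul_apply, ← map_mul, hg, map_one, Equiv.Perm.one_apply]
  have hadd : ∀ u v, rho 2 F g (u + v) = rho 2 F g u + rho 2 F g v := (isSemi_rho g).1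
  have hsmul : ∀ (a : F) v, rho 2 F g (a • v) = a • rho 2 F g v := (isSemi_rho g).2.1
  have hneg : ∀ v, rho 2 F g (-v) = -rho 2 F g v := by
    intro v
    rw [← neg_one_smul F v, hsmul, neg_one_smul]
  have hform := sympForm_rho g
  have hcross : ∀ u v, rho 2 F g u = u → rho 2 F g v = -v → f2 u v = 0 := by
    intro u v hu hv
    have := hform u v
    rw [hu, hv, sympForm_neg_right] at this
    have h3 : 2 * f2 u v = 0 := by linear_combination -this
    exact (mul_eq_zero.1 h3).resolve_left h2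
  -- the eigenspaces are nonzero
  obtain ⟨v, hv⟩ : ∃ v, rho 2 F g v ≠ v := by
    by_contra hcon
    push Not at hcon
    apply h1
    apply rho_injective
    rw [map_one]
    ext1 v
    exact hcon v
  obtain ⟨w, hw⟩ : ∃ w, rho 2 F g w ≠ -w := by
    by_contra hcon
    push Not at hcon
    apply h1'
    rw [← Matrix.mulVec_injective.eq_iff]
    funext v
    rw [Matrix.neg_mulVec, Matrix.one_mulVec, ← rho_apply, hcon]
  obtain ⟨x, hx0, hx⟩ : ∃ x : Fin 2 ⊕ Fin 2 → F, x ≠ 0 ∧ rho 2 F g x = x := by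
    refine ⟨w + rho 2 F g w, ?_, ?_⟩
    · intro h
      exact hw (neg_eq_of_add_eq_zero_right h).symm
    · rw [hadd, hgg, add_comm]
  obtain ⟨x', hx0', hx'⟩ : ∃ x : Fin 2 ⊕ Fin 2 → F, x ≠ 0 ∧ rho 2 F g x = -x := by
    refine ⟨v - rho 2 F g v, ?_, ?_⟩
    · intro h
      exact hv (sub_eq_zero.1 h).symm
    · rw [sub_eq_add_neg, hadd, hneg, hgg, neg_add, neg_neg, add_comm]
  obtain ⟨r, hr⟩ := Cfsg.Agent.ClassicalGeometry.SympSiegel.exists_form_eq_one hx0
  obtain ⟨r', hr'⟩ := Cfsg.Agent.ClassicalGeometry.SympSiegel.exists_form_eq_one hx0'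
  have hy : rho 2 F g ((2 : F)⁻¹ • (r + rho 2 F g r)) = (2 : F)⁻¹ • (r + rho 2 F g r) := by
    rw [hsmul, hadd, hgg, add_comm]
  have hy' : rho 2 F g ((2 : F)⁻¹ • (r' - rho 2 F g r')) =
      -((2 : F)⁻¹ • (r' - rho 2 F g r')) := by
    rw [hsmul, sub_eq_add_neg, hadd, hneg, hgg, ← smul_neg, neg_add, neg_neg, add_comm]
  refine ⟨x, (2 : F)⁻¹ • (r + rho 2 F g r), x', (2 : F)⁻¹ • (r' - rho 2 F g r'),
    ⟨?_, ?_, one_ne_zero, hcross _ _ hx hx', hcross _ _ hx hy', hcross _ _ hy hx',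
      hcross _ _ hy hy'⟩, hx, hy, hx', hy'⟩
  · have h3 : f2 x (rho 2 F g r) = 1 := by
      rw [← hr, ← hform x r, hx]
    rw [sympForm_smul_right, sympForm_add_right, hr, h3]
    field_simp
    norm_num
  · have h3 : f2 x' (rho 2 F g r') = -1 := by
      rw [← hr', ← hform x' r', hx', sympForm_neg_left, neg_neg]
    rw [sympForm_smul_right, sympForm_sub_right, hr', h3]
    field_simp
    norm_num

/-- The centralizer of an involution in terms of an adapted frame. -/
theorem range_eq_cen (h2 : (2 : F) ≠ 0) {g : Matrix.symplecticGroup (Fin 2) F}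
    (hf : Frame x y x' y' 1) (hx : rho 2 F g x = x) (hy : rho 2 F g y = y)
    (hx' : rho 2 F g x' = -x') (hy' : rho 2 F g y' = -y')
    {j : Matrix.SpecialLinearGroup (Fin 2) F × Matrix.SpecialLinearGroup (Fin 2) F →*
      Matrix.symplecticGroup (Fin 2) F}
    (hj : ∀ A v, rho 2 F (j A) v = biFun x y x' y' 1 A.1.1 A.2.1 v) :
    g = j (1, -1) ∧ j.range = cen g ∧ ((j (-1, -1) : Matrix.symplecticGroup (Fin 2) F) :
        Matrix (Fin 2 ⊕ Fin 2) (Fin 2 ⊕ Fin 2) F) = -1 := by
  have hadd : ∀ (g : Matrix.symplecticGroup (Fin 2) F) (u v), rho 2 F g (u + v) =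
    rho 2 F g u + rho 2 F g v := fun g => (isSemi_rho g).1
  have hsmul : ∀ (g : Matrix.symplecticGroup (Fin 2) F) (a : F) v, rho 2 F g (a • v) =
    a • rho 2 F g v := fun g => (isSemi_rho g).2.1
  have hgj : g = j (1, -1) := by
    apply rho_injective
    ext1 v
    rw [hj]
    conv_lhs => rw [hf.expand v]
    rw [hadd, hadd, hadd, hsmul, hsmul, hsmul, hsmul, hx, hy, hx', hy']
    simp [biFun]
  refine ⟨hgj, ?_, ?_⟩
  · apply le_antisymm
    · rintro _ ⟨A, rfl⟩
      apply mem_cen.2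
      rw [hgj, ← map_mul, ← map_mul]
      congr 1
      ext1
      · simp
      · simp
    · intro c hc
      have hc' := mem_cen.1 hc
      have hcomm : ∀ v, rho 2 F g (rho 2 F c v) = rho 2 F c (rho 2 F g v) := by
        intro v
        rw [← Equiv.Perm.mul_apply, ← map_mul, ← hc', map_mul, Equiv.Perm.mul_apply]
      have hcross : ∀ u v, rho 2 F g u = u → rho 2 F g v = -v → f2 u v = 0 := by
        intro u v hu hv
        have := sympForm_rho g u v
        rw [hu, hv, sympForm_neg_right] at this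
        have h3 : 2 * f2 u v = 0 := by linear_combination -this
        exact (mul_eq_zero.1 h3).resolve_left h2
      have cx : rho 2 F g (rho 2 F c x) = rho 2 F c x := by rw [hcomm, hx]
      have cy : rho 2 F g (rho 2 F c y) = rho 2 F c y := by rw [hcomm, hy]
      have cx' : rho 2 F g (rho 2 F c x') = -rho 2 F c x' := by
        rw [hcomm, hx', ← neg_one_smul F x', hsmul, neg_one_smul]
      have cy' : rho 2 F g (rho 2 F c y') = -rho 2 F c y' := by
        rw [hcomm, hy', ← neg_one_smul F y', hsmul, neg_one_smul]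
      have hcross' : ∀ u v, rho 2 F g u = u → rho 2 F g v = -v → f2 v u = 0 := fun u v hu hv => by
        rw [sympForm_swap, hcross u v hu hv, neg_zero]
      -- coordinates
      have ex := hf.expand (rho 2 F c x)
      have ey := hf.expand (rho 2 F c y)
      have ex' := hf.expand (rho 2 F c x')
      have ey' := hf.expand (rho 2 F c y')
      rw [hcross _ _ cx hy', hcross' _ _ cx hx'] at ex
      rw [hcross _ _ cy hy', hcross' _ _ cy hx'] at ey
      rw [hcross' _ _ hy cx', hcross _ _ hx cx'] at ex'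
      rw [hcross' _ _ hy cy', hcross _ _ hx cy'] at ey'
      simp only [inv_one, one_mul, zero_smul, add_zero, zero_add] at ex ey ex' ey'
      have detA : f2 (rho 2 F c x) (rho 2 F c y) = 1 := by rw [sympForm_rho, hf.xy]
      have detB : f2 (rho 2 F c x') (rho 2 F c y') = 1 := by rw [sympForm_rho, hf.xy']
      let A : Matrix.SpecialLinearGroup (Fin 2) F :=
        ⟨!![f2 (rho 2 F c x) y, f2 (rho 2 F c y) y; f2 x (rho 2 F c x), f2 x (rho 2 F c y)], by
          rw [Matrix.det_fin_two_of, ← detA]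
          conv_rhs => rw [ex, ey]
          simp only [sympForm_add_left, sympForm_add_right, sympForm_smul_left,
            sympForm_smul_right, sympForm_self, hf.xy, hf.yx]
          ring⟩
      let B : Matrix.SpecialLinearGroup (Fin 2) F :=
        ⟨!![f2 (rho 2 F c x') y', f2 (rho 2 F c y') y'; f2 x' (rho 2 F c x'),
            f2 x' (rho 2 F c y')], by
          rw [Matrix.det_fin_two_of, ← detB]
          conv_rhs => rw [ex', ey']
          simp only [sympForm_add_left, sympForm_add_right, sympForm_smul_left,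
            sympForm_smul_right, sympForm_self, hf.xy', hf.yx']
          ring⟩
      refine ⟨(A, B), ?_⟩
      apply rho_injective
      ext1 v
      rw [hj]
      conv_rhs => rw [hf.expand v]
      rw [hadd, hadd, hadd, hsmul, hsmul, hsmul, hsmul, ex, ey, ex', ey']
      rfl
  · rw [← Matrix.mulVec_injective.eq_iff]
    funext v
    rw [Matrix.neg_mulVec, Matrix.one_mulVec, ← rho_apply, hj]
    conv_rhs => rw [hf.expand v]
    simp only [biFun, Matrix.SpecialLinearGroup.coe_neg, Matrix.SpecialLinearGroup.coe_one,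
      Matrix.neg_apply, Matrix.one_apply_eq]
    simp
    abel

/-- **The centralizer of a noncentral involution of `Sp₄(q)`.** -/
theorem exists_centralizer (h2 : (2 : F) ≠ 0) {g : Matrix.symplecticGroup (Fin 2) F}
    (hg : g * g = 1) (h1 : g ≠ 1)
    (h1' : (g : Matrix (Fin 2 ⊕ Fin 2) (Fin 2 ⊕ Fin 2) F) ≠ -1) :
    ∃ j : Matrix.SpecialLinearGroup (Fin 2) F × Matrix.SpecialLinearGroup (Fin 2) F →*
      Matrix.symplecticGroup (Fin 2) F, Function.Injective j ∧ j.range = cen g ∧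
      ((j (-1, -1) : Matrix.symplecticGroup (Fin 2) F) :
        Matrix (Fin 2 ⊕ Fin 2) (Fin 2 ⊕ Fin 2) F) = -1 ∧ g = j (1, -1) := by
  obtain ⟨x, y, x', y', hf, hx, hy, hx', hy'⟩ := exists_frame h2 hg h1 h1'
  obtain ⟨j, hj⟩ := exists_bi hf
  obtain ⟨k1, k2, k3⟩ := range_eq_cen h2 hf hx hy hx' hy' hj
  exact ⟨j, bi_injective hf hj, k2, k3, k1⟩

variable [Fintype F]

/-- `Good` for the noncentral involutions of `Sp₄(q)`, `q > 3` odd. -/
theorem good (hq : 3 < Fintype.card F) (h2 : (2 : F) ≠ 0)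
    {z g : Matrix.symplecticGroup (Fin 2) F} (hz : (z : Matrix (Fin 2 ⊕ Fin 2) (Fin 2 ⊕ Fin 2) F) = -1)
    (hg : g * g = 1) (h1 : g ≠ 1) (h1' : g ≠ z) : Good z g := by
  obtain ⟨j, hj1, hj2, hj3, hj4⟩ := exists_centralizer h2 hg h1 (fun h => h1' (Subtype.ext (by
    rw [h, hz])))
  have hne : (-1 : Matrix.SpecialLinearGroup (Fin 2) F) ≠ 1 := by
    intro h
    have h3 := congrArg (fun A : Matrix.SpecialLinearGroup (Fin 2) F => A.1 0 0) h
    simp only [Matrix.SpecialLinearGroup.coe_neg, Matrix.SpecialLinearGroup.coe_one,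
      Matrix.neg_apply, Matrix.one_apply_eq] at h3
    apply h2
    linear_combination -h3
  refine Cfsg.Agent.GH.Cov.Prod.good_of_prod
    (Cfsg.Agent.TwoFusion.SLTwoFacts.commutator_eq_top hq)
    (Cfsg.Agent.TwoFusion.SLTwoFacts.isSimpleGroup_psl hq) hne j hj1 hj2 ?_ (Or.inl hj4)
  apply Subtype.ext
  rw [hj3, hz]

end Cfsg.Agent.GH.Cov.SpInv
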