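import Mathlib
import Cfsg.Agent.GH.Cov.SpInv
import Cfsg.Agent.GH.Cov.SLCore
import Cfsg.Agent.ClassicalGeometry.SympInvolutions

/-!
# `LieData.Core` for `PSp₄(q)`, `q` odd
-/

set_option autoImplicit false
open Cfsg
open scoped Matrix

namespace Cfsg.Agent.GH.Cov.SpCore

open Cfsg.Agent.ClassicalGeometry.SympBasic
open Cfsg.Agent.ClassicalGeometry.SympAutSemi
open Cfsg.Agent.ClassicalGeometry.SympAutExists
open Cfsg.Agent.ClassicalGeometry.SympInvolutions
open Cfsg.Agent.GH.Cov.SpSemi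
open Cfsg.Agent.GH.Cov.SpDecomp
open Cfsg.Agent.GH.Cov.SpPsi
open Cfsg.Agent.GH.Cov.SpInv
open Cfsg.Agent.GH.Cov.Iso
open Cfsg.Agent.GH.Cov.LieData
open Cfsg.Agent.GH.Cov.SLCore
open Cfsg.Agent.GH.Cov.SLTwoFacts

variable {F : Type*} [Field F]

local notation "f2" => sympForm 2 F

/-! ### the triple over the prime field -/

/-- An `SL₂(3)` in `SL₂(F)` with entries in the prime field. -/
structure T3 (i j w : Matrix.SpecialLinearGroup (Fin 2) F) : Prop where
  ii : i * i = -1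
  jj : j * j = -1
  ji : j * i = -1 * (i * j)
  w3 : w * w * w = 1
  wi : w * i * w⁻¹ = j
  wj : w * j * w⁻¹ = i * j
  fi : ∀ (σ : F ≃+* F) a b, σ (i.1 a b) = i.1 a b
  fj : ∀ (σ : F ≃+* F) a b, σ (j.1 a b) = j.1 a b
  fw : ∀ (σ : F ≃+* F) a b, σ (w.1 a b) = w.1 a b

theorem exists_T3 [Finite F] (h2 : (2 : F) ≠ 0) :
    ∃ i j w : Matrix.SpecialLinearGroup (Fin 2) F, T3 i j w := by
  classical
  let K : Subfield F := ⊥
  have hKf : Finite K := inferInstance
  have : Fintype K := Fintype.ofFinite K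
  have h2K : (2 : K) ≠ 0 := by
    intro h
    apply h2
    have := congrArg (Subtype.val : K → F) h
    exact this
  have hK : Odd (Fintype.card K) := by
    rw [Nat.odd_iff]
    apply FiniteField.odd_card_of_char_ne_two
    intro h3
    apply h2K
    have h4 := ringChar.Nat.cast_ringChar (R := K)
    rw [h3] at h4
    exact_mod_cast h4
  obtain ⟨c, i, j, w, h⟩ := exists_sl hK
  have hc : c = -1 := by
    have h1 : (-1 : Matrix.SpecialLinearGroup (Fin 2) K) * -1 = 1 := by rw [neg_mul_neg, one_mul]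
    rcases h.uniq _ h1 with h3 | h3
    · exfalso
      have h4 := congrArg (fun A : Matrix.SpecialLinearGroup (Fin 2) K => A.1 0 0) h3
      simp only [Matrix.SpecialLinearGroup.coe_neg, Matrix.SpecialLinearGroup.coe_one,
        Matrix.neg_apply, Matrix.one_apply_eq] at h4
      apply h2K
      linear_combination -h4
    · exact h3.symm
  subst hc
  let φ : Matrix.SpecialLinearGroup (Fin 2) K →* Matrix.SpecialLinearGroup (Fin 2) F :=
    Matrix.SpecialLinearGroup.map K.subtype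
  have hφ1 : φ (-1) = -1 := by
    ext a b
    change K.subtype ((-1 : Matrix.SpecialLinearGroup (Fin 2) K).1 a b) =
      (-1 : Matrix.SpecialLinearGroup (Fin 2) F).1 a b
    rw [Matrix.SpecialLinearGroup.coe_neg, Matrix.SpecialLinearGroup.coe_one,
      Matrix.SpecialLinearGroup.coe_neg, Matrix.SpecialLinearGroup.coe_one]
    simp only [Matrix.neg_apply, Matrix.one_apply]
    split_ifs <;> simp
  have hfix : ∀ (σ : F ≃+* F) (x : K), σ (x : F) = x := by
    intro σ x
    have h3 : (⊥ : Subfield F) ≤ RingHom.eqLocusField (σ : F →+* F) (RingHom.id F) := bot_le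
    exact h3 x.2
  refine ⟨φ i, φ j, φ w, ?_, ?_, ?_, ?_, ?_, ?_, fun σ a b => hfix σ _, fun σ a b => hfix σ _,
    fun σ a b => hfix σ _⟩
  · rw [← map_mul, h.ii, hφ1]
  · rw [← map_mul, h.jj, hφ1]
  · rw [← map_mul, ← map_mul, ← hφ1, ← map_mul]
    congr 1
    have h1 := h.rel.hji
    have h5 : i⁻¹ = -1 * i := by
      apply inv_eq_of_mul_eq_one_right
      rw [← mul_assoc, ← h.central, mul_assoc, h.ii, h.cc]
    rw [← mul_assoc, ← h5, ← h1]
    group
  · rw [← map_mul, ← map_mul, ← pow_two, ← pow_succ, h.w3, map_one]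
  · rw [← map_mul, ← map_inv, ← map_mul, h.rel.hti]
  · rw [← map_mul, ← map_inv, ← map_mul, h.rel.htj, map_mul]

/-! ### the standard frame -/

variable (F) in
/-- basis vectors -/
def ex : Fin 2 ⊕ Fin 2 → F := Pi.single (Sum.inr 0) 1
variable (F) in
/-- basis vectors -/
def ey : Fin 2 ⊕ Fin 2 → F := Pi.single (Sum.inl 0) 1
variable (F) in
/-- basis vectors -/
def ex' : Fin 2 ⊕ Fin 2 → F := Pi.single (Sum.inr 1) 1
variable (F) in
/-- basis vectors -/
def ey' : Fin 2 ⊕ Fin 2 → F := Pi.single (Sum.inl 1) 1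

theorem stdFrame : Frame (ex F) (ey F) (ex' F) (ey' F) 1 := by
  refine ⟨?_, ?_, one_ne_zero, ?_, ?_, ?_, ?_⟩
  · rw [ex, sympForm_single_inr_left, ey, Pi.single_eq_same]
  · rw [ex', sympForm_single_inr_left, ey', Pi.single_eq_same]
  · rw [ex, sympForm_single_inr_left, ex', Pi.single_eq_of_ne (by simp)]
  · rw [ex, sympForm_single_inr_left, ey', Pi.single_eq_of_ne (by simp)]
  · rw [ey, sympForm_single_inl_left, ex', Pi.single_eq_of_ne (by simp), neg_zero]
  · rw [ey, sympForm_single_inl_left, ey', Pi.single_eq_of_ne (by simp), neg_zero]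

variable (F) in
/-- `SL₂ × SL₂ → Sp₄`. -/
noncomputable def J : Matrix.SpecialLinearGroup (Fin 2) F × Matrix.SpecialLinearGroup (Fin 2) F →*
    Matrix.symplecticGroup (Fin 2) F := Classical.choose (exists_bi (stdFrame (F := F)))

theorem rho_J (A : Matrix.SpecialLinearGroup (Fin 2) F × Matrix.SpecialLinearGroup (Fin 2) F)
    (v : Fin 2 ⊕ Fin 2 → F) :
    rho 2 F (J F A) v = biFun (ex F) (ey F) (ex' F) (ey' F) 1 A.1.1 A.2.1 v :=
  Classical.choose_spec (exists_bi (stdFrame (F := F))) A v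

theorem J_injective : Function.Injective (J F) := bi_injective stdFrame rho_J

theorem J_neg_one : ((J F (-1, -1) : Matrix.symplecticGroup (Fin 2) F) :
    Matrix (Fin 2 ⊕ Fin 2) (Fin 2 ⊕ Fin 2) F) = -1 := by
  rw [← Matrix.mulVec_injective.eq_iff]
  funext v
  rw [Matrix.neg_mulVec, Matrix.one_mulVec, ← rho_apply, rho_J]
  conv_rhs => rw [stdFrame.expand v]
  simp only [biFun, Matrix.SpecialLinearGroup.coe_neg, Matrix.SpecialLinearGroup.coe_one,
    Matrix.neg_apply, Matrix.one_apply_eq]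
  simp
  abel

theorem neg_one_ne (h2 : (2 : F) ≠ 0) : (-1 : Matrix.SpecialLinearGroup (Fin 2) F) ≠ 1 := by
  intro h
  have h3 := congrArg (fun A : Matrix.SpecialLinearGroup (Fin 2) F => A.1 0 0) h
  simp only [Matrix.SpecialLinearGroup.coe_neg, Matrix.SpecialLinearGroup.coe_one,
    Matrix.neg_apply, Matrix.one_apply_eq] at h3
  apply h2
  linear_combination -h3

theorem J_neg_one_mem : J F (-1, -1) ∈ Subgroup.center (Matrix.symplecticGroup (Fin 2) F) := by
  have : J F (-1, -1) = negOne 2 F := Subtype.ext J_neg_one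
  rw [this]
  exact negOne_mem_center

theorem eq_of_center {z : Matrix.symplecticGroup (Fin 2) F}
    (hz : z ∈ Subgroup.center (Matrix.symplecticGroup (Fin 2) F)) : z = 1 ∨ z = J F (-1, -1) := by
  rcases center_eq hz with h | h
  · exact Or.inl (Subtype.ext h)
  · exact Or.inr (Subtype.ext (by rw [h, J_neg_one]))

/-- the projection -/
def pj : Matrix.symplecticGroup (Fin 2) F →* PSp 2 F := QuotientGroup.mk' _

theorem pj_eq_one {z : Matrix.symplecticGroup (Fin 2) F} :
    pj z = 1 ↔ z ∈ Subgroup.center (Matrix.symplecticGroup (Fin 2) F) := by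
  rw [pj, ← MonoidHom.mem_ker, QuotientGroup.ker_mk']

theorem pj_surj : Function.Surjective (pj (F := F)) := QuotientGroup.mk'_surjective _

theorem pj_neg_one : pj (J F (-1, -1)) = 1 := pj_eq_one.2 J_neg_one_mem

/-! ### the swap -/

section swap

variable {x y x' y' : Fin 2 ⊕ Fin 2 → F}

variable (x y x' y') in
/-- swap of the two planes -/
def swFun (v : Fin 2 ⊕ Fin 2 → F) : Fin 2 ⊕ Fin 2 → F :=
  f2 v y • x' + f2 x v • y' + f2 v y' • x + f2 x' v • y

theorem sw_y (h : Frame x y x' y' 1) (v : Fin 2 ⊕ Fin 2 → F) :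
    f2 (swFun x y x' y' v) y = f2 v y' := by
  simp only [swFun, sympForm_add_left, sympForm_smul_left, sympForm_self, h.xy, h.d3, h.d4]
  ring

theorem sw_x (h : Frame x y x' y' 1) (v : Fin 2 ⊕ Fin 2 → F) :
    f2 x (swFun x y x' y' v) = f2 x' v := by
  simp only [swFun, sympForm_add_right, sympForm_smul_right, sympForm_self, h.xy, h.c1, h.c2]
  ring

theorem sw_y' (h : Frame x y x' y' 1) (v : Fin 2 ⊕ Fin 2 → F) :
    f2 (swFun x y x' y' v) y' = f2 v y := by
  simp only [swFun, sympForm_add_left, sympForm_smul_left, sympForm_self, h.xy', h.c2, h.c4]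
  ring

theorem sw_x' (h : Frame x y x' y' 1) (v : Fin 2 ⊕ Fin 2 → F) :
    f2 x' (swFun x y x' y' v) = f2 x v := by
  simp only [swFun, sympForm_add_right, sympForm_smul_right, sympForm_self, h.xy', h.d1, h.d3]
  ring

theorem sw_sw (h : Frame x y x' y' 1) (v : Fin 2 ⊕ Fin 2 → F) :
    swFun x y x' y' (swFun x y x' y' v) = v := by
  rw [swFun, sw_x h, sw_y h, sw_x' h, sw_y' h]
  conv_rhs => rw [h.expand v]
  rw [inv_one, one_mul, one_mul]
  abel

theorem sw_bi (h : Frame x y x' y' 1) (A B : Matrix (Fin 2) (Fin 2) F)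
    (v : Fin 2 ⊕ Fin 2 → F) :
    swFun x y x' y' (biFun x y x' y' 1 A B v) = biFun x y x' y' 1 B A (swFun x y x' y' v) := by
  rw [swFun, bi_x h, bi_y h, bi_x' h, bi_y' h, biFun, sw_x h, sw_y h, sw_x' h, sw_y' h, inv_one]
  module

theorem exists_sw (h : Frame x y x' y' 1) :
    ∃ s : Matrix.symplecticGroup (Fin 2) F, ∀ v, rho 2 F s v = swFun x y x' y' v := by
  obtain ⟨s, hs⟩ := exists_rho_eq (m := 2) (F := F)
    ⟨swFun x y x' y', swFun x y x' y', sw_sw h, sw_sw h⟩
    (fun u v => by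
      change swFun x y x' y' (u + v) = swFun x y x' y' u + swFun x y x' y' v
      simp only [swFun, sympForm_add_left, sympForm_add_right]
      module)
    (fun a v => by
      change swFun x y x' y' (a • v) = a • swFun x y x' y' v
      simp only [swFun, sympForm_smul_left, sympForm_smul_right]
      module)
    (fun u v => by
      change f2 (swFun x y x' y' u) (swFun x y x' y' v) = f2 u v
      rw [h.form_expand (swFun x y x' y' u), sw_y h, sw_x h, sw_y h, sw_x h, sw_y' h, sw_y' h,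
        sw_x' h, sw_x' h, h.form_expand u v, inv_one]
      ring)
  exact ⟨s, fun v => by rw [hs]; rfl⟩

end swap

variable (F) in
/-- the swap of the two planes -/
noncomputable def S : Matrix.symplecticGroup (Fin 2) F :=
  Classical.choose (exists_sw (stdFrame (F := F)))

theorem rho_S (v : Fin 2 ⊕ Fin 2 → F) :
    rho 2 F (S F) v = swFun (ex F) (ey F) (ex' F) (ey' F) v :=
  Classical.choose_spec (exists_sw (stdFrame (F := F))) v

theorem S_J (A B : Matrix.SpecialLinearGroup (Fin 2) F) : S F * J F (A, B) = J F (B, A) * S F := by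
  apply rho_injective
  ext1 v
  rw [map_mul, map_mul, Equiv.Perm.mul_apply, Equiv.Perm.mul_apply, rho_J, rho_S, rho_S, rho_J]
  exact sw_bi stdFrame A.1 B.1 v

/-! ### conjugacy of involutions -/

theorem cnt_eq_one (h2 : (2 : F) ≠ 0) {g : Matrix.symplecticGroup (Fin 2) F}
    (hg : g * g = 1) (h1 : g ≠ 1)
    (h1' : (g : Matrix (Fin 2 ⊕ Fin 2) (Fin 2 ⊕ Fin 2) F) ≠ -1) :
    ∃ δ : Fin 2 → Bool, HasPattern (g : Matrix (Fin 2 ⊕ Fin 2) (Fin 2 ⊕ Fin 2) F) δ ∧
      cnt δ = 1 := by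
  obtain ⟨δ, hδ⟩ := exists_hasPattern h2 g.2 (congrArg Subtype.val hg)
  refine ⟨δ, hδ, ?_⟩
  have h3 := cnt_le δ
  have h4 : cnt δ ≠ 0 := fun h => h1 (eq_one_of_cnt_eq_zero hδ h)
  have h5 : cnt δ ≠ 2 := by
    intro h
    have h6 := cnt_not δ
    rw [h] at h6
    have h7 : HasPattern ((⟨-g, SymplecticGroup.neg_mem g.2⟩ :
      Matrix.symplecticGroup (Fin 2) F) : Matrix (Fin 2 ⊕ Fin 2) (Fin 2 ⊕ Fin 2) F)
        (fun i => !(δ i)) := hδ.neg
    have h8 := eq_one_of_cnt_eq_zero h7 h6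
    apply h1'
    have h9 := congrArg Subtype.val h8
    change -(g : Matrix (Fin 2 ⊕ Fin 2) (Fin 2 ⊕ Fin 2) F) = 1 at h9
    rw [← h9, neg_neg]
  omega

theorem isConj_of_involutions (h2 : (2 : F) ≠ 0) {g g' : Matrix.symplecticGroup (Fin 2) F}
    (hg : g * g = 1) (h1 : g ≠ 1)
    (h1' : (g : Matrix (Fin 2 ⊕ Fin 2) (Fin 2 ⊕ Fin 2) F) ≠ -1)
    (hg' : g' * g' = 1) (k1 : g' ≠ 1)
    (k1' : (g' : Matrix (Fin 2 ⊕ Fin 2) (Fin 2 ⊕ Fin 2) F) ≠ -1) : IsConj g g' := by
  obtain ⟨δ, a1, a2⟩ := cnt_eq_one h2 hg h1 h1'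
  obtain ⟨δ', b1, b2⟩ := cnt_eq_one h2 hg' k1 k1'
  exact isConj_of_cnt_eq a1 b1 (a2.trans b2.symm)

variable (F) in
/-- the involution -/
noncomputable def tJ : Matrix.symplecticGroup (Fin 2) F := J F (1, -1)

theorem neg_one_sq : (-1 : Matrix.SpecialLinearGroup (Fin 2) F) * -1 = 1 := by
  rw [neg_mul_neg, one_mul]

theorem tJ_sq : tJ F * tJ F = 1 := by
  rw [tJ, ← map_mul, Prod.mk_mul_mk, one_mul, neg_one_sq]
  exact map_one _

theorem tJ_ne (h2 : (2 : F) ≠ 0) : tJ F ≠ 1 := by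
  intro h
  have h1 : ((1, -1) : Matrix.SpecialLinearGroup (Fin 2) F × Matrix.SpecialLinearGroup (Fin 2) F)
    = 1 := J_injective (by rw [map_one]; exact h)
  exact neg_one_ne h2 (congrArg Prod.snd h1)

theorem tJ_ne' (h2 : (2 : F) ≠ 0) :
    ((tJ F : Matrix.symplecticGroup (Fin 2) F) : Matrix (Fin 2 ⊕ Fin 2) (Fin 2 ⊕ Fin 2) F) ≠
      -1 := by
  intro h
  have h1 : tJ F = J F (-1, -1) := Subtype.ext (by rw [h, J_neg_one])
  have h3 := congrArg Prod.fst (J_injective h1)
  exact neg_one_ne h2 h3.symm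

theorem cen_tJ (h2 : (2 : F) ≠ 0) : (J F).range = cen (tJ F) := by
  have h := stdFrame (F := F)
  refine (range_eq_cen h2 h ?_ ?_ ?_ ?_ rho_J).2.1 <;> rw [tJ, rho_J]
  · simp [biFun, h.xy, h.c2, h.d1, sympForm_self]
  · simp [biFun, h.xy, h.c4, h.d3, sympForm_self]
  · simp [biFun, h.xy', h.d3, h.c1, sympForm_self]
  · simp [biFun, h.xy', h.d4, h.c2, sympForm_self]

/-! ### the core -/

variable (F) in
/-- first factor -/
noncomputable def f₁ : Matrix.SpecialLinearGroup (Fin 2) F →* PSp 2 F :=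
  (pj.comp (J F)).comp (MonoidHom.inl _ _)

variable (F) in
/-- second factor -/
noncomputable def f₂ : Matrix.SpecialLinearGroup (Fin 2) F →* PSp 2 F :=
  (pj.comp (J F)).comp (MonoidHom.inr _ _)

theorem f₁_apply (A : Matrix.SpecialLinearGroup (Fin 2) F) : f₁ F A = pj (J F (A, 1)) := rfl

theorem f₂_apply (A : Matrix.SpecialLinearGroup (Fin 2) F) : f₂ F A = pj (J F (1, A)) := rfl

theorem f_mul (A B : Matrix.SpecialLinearGroup (Fin 2) F) :
    f₁ F A * f₂ F B = pj (J F (A, B)) := by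
  rw [f₁_apply, f₂_apply, ← map_mul, ← map_mul, Prod.mk_mul_mk, mul_one, one_mul]

theorem f_comm (A B : Matrix.SpecialLinearGroup (Fin 2) F) :
    f₁ F A * f₂ F B = f₂ F B * f₁ F A := by
  rw [f₁_apply, f₂_apply, ← map_mul, ← map_mul, ← map_mul, ← map_mul, Prod.mk_mul_mk,
    Prod.mk_mul_mk, mul_one, one_mul, mul_one, one_mul]

theorem f₁_injective (h2 : (2 : F) ≠ 0) : Function.Injective (f₁ F) := by
  rw [injective_iff_map_eq_one]
  intro A hA
  rcases eq_of_center (pj_eq_one.1 hA) with h | h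
  · have h1 : ((A, 1) : Matrix.SpecialLinearGroup (Fin 2) F × Matrix.SpecialLinearGroup (Fin 2) F)
      = 1 := J_injective (by rw [map_one]; exact h)
    exact congrArg Prod.fst h1
  · exfalso
    exact neg_one_ne h2 (congrArg Prod.snd (J_injective h)).symm

theorem f₂_injective (h2 : (2 : F) ≠ 0) : Function.Injective (f₂ F) := by
  rw [injective_iff_map_eq_one]
  intro A hA
  rcases eq_of_center (pj_eq_one.1 hA) with h | h
  · have h1 : ((1, A) : Matrix.SpecialLinearGroup (Fin 2) F × Matrix.SpecialLinearGroup (Fin 2) F)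
      = 1 := J_injective (by rw [map_one]; exact h)
    exact congrArg Prod.snd h1
  · exfalso
    exact neg_one_ne h2 (congrArg Prod.fst (J_injective h)).symm

theorem f₂_neg_one : f₂ F (-1) = pj (tJ F) := rfl

theorem f₁_neg_one : f₁ F (-1) = pj (tJ F) := by
  rw [← f₂_neg_one, f₁_apply, f₂_apply]
  have h1 : ((-1, 1) : Matrix.SpecialLinearGroup (Fin 2) F × Matrix.SpecialLinearGroup (Fin 2) F)
      = (-1, -1) * (1, -1) := by
    rw [Prod.mk_mul_mk, mul_one, neg_one_sq]
  rw [h1, map_mul, map_mul, pj_neg_one, one_mul]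

/-- `Half` for a triple over the prime field. -/
theorem half [Fintype F] (hF : Odd (Fintype.card F)) {L : Type*} [Group L]
    (f : Matrix.SpecialLinearGroup (Fin 2) F →* L) (hf : Function.Injective f)
    {i j w : Matrix.SpecialLinearGroup (Fin 2) F} (h : T3 i j w) :
    Half (f (-1)) (f i) (f j) (f w) f.range := by
  obtain ⟨c, i', j', w', h1, H⟩ := exists_half hF
  have h2 : (2 : F) ≠ 0 := Cfsg.Agent.GH.Cov.SLTwoFacts.two_ne_zero_of_odd hF
  have hc : c = -1 := ((h1.uniq _ neg_one_sq).resolve_left (neg_one_ne h2)).symm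
  subst hc
  have hh := H f hf
  exact
    { trip :=
        { ii := by rw [← map_mul, h.ii]
          jj := by rw [← map_mul, h.jj]
          ji := by rw [← map_mul, ← map_mul, ← map_mul, h.ji]
          d3 := by rw [← map_mul, ← map_mul, h.w3, map_one]
          di := by rw [← map_mul, ← map_inv, ← map_mul, h.wi]
          dj := by rw [← map_mul, ← map_inv, ← map_mul, h.wj, map_mul] }
      i_mem := ⟨i, rfl⟩
      j_mem := ⟨j, rfl⟩
      d_mem := ⟨w, rfl⟩
      tt := hh.tt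
      t_ne := hh.t_ne
      inv := hh.inv
      gen := hh.gen
      cent := hh.cent }

theorem comm_aux {G : Type*} [Group G] {s t g n : G} (hn : ∀ x, x * n = n * x) (hnn : n * n = 1)
    (h1 : s * t = n * (t * s)) (h2 : g * t = n * (t * g)) : (s⁻¹ * g) * t = t * (s⁻¹ * g) := by
  have h3 : s⁻¹ * t = n * (t * s⁻¹) := by
    apply mul_left_cancel (a := s)
    calc s * (s⁻¹ * t) = (n * n) * t := by rw [hnn, one_mul, mul_inv_cancel_left]
      _ = n * (n * (t * s)) * s⁻¹ := by group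
      _ = n * (s * t) * s⁻¹ := by rw [h1]
      _ = (n * s) * (t * s⁻¹) := by group
      _ = (s * n) * (t * s⁻¹) := by rw [hn]
      _ = s * (n * (t * s⁻¹)) := by rw [mul_assoc]
  calc s⁻¹ * g * t = s⁻¹ * (g * t) := by rw [mul_assoc]
    _ = s⁻¹ * (n * (t * g)) := by rw [h2]
    _ = (s⁻¹ * n) * (t * g) := by rw [mul_assoc]
    _ = (n * s⁻¹) * (t * g) := by rw [hn]
    _ = n * (s⁻¹ * t) * g := by group
    _ = n * (n * (t * s⁻¹)) * g := by rw [h3]
    _ = (n * n) * (t * (s⁻¹ * g)) := by group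
    _ = t * (s⁻¹ * g) := by rw [hnn, one_mul]

/-- Elements of `C(t)`. -/
theorem mem_or_of_comm (h2 : (2 : F) ≠ 0) {g : PSp 2 F} (hg : g * pj (tJ F) = pj (tJ F) * g) :
    ∃ A B : Matrix.SpecialLinearGroup (Fin 2) F,
      g = pj (J F (A, B)) ∨ g = pj (S F) * pj (J F (A, B)) := by
  obtain ⟨g, rfl⟩ := pj_surj g
  rw [← map_mul, ← map_mul] at hg
  have h1 : g * tJ F * (tJ F * g)⁻¹ ∈ Subgroup.center (Matrix.symplecticGroup (Fin 2) F) := by
    rw [← pj_eq_one, map_mul, map_inv, hg, mul_inv_cancel]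
  have hmem : ∀ g : Matrix.symplecticGroup (Fin 2) F, g * tJ F = tJ F * g →
      ∃ A B : Matrix.SpecialLinearGroup (Fin 2) F, g = J F (A, B) := by
    intro g hg
    have h3 : g ∈ (J F).range := by
      rw [cen_tJ h2]
      exact mem_cen.2 hg
    obtain ⟨⟨A, B⟩, h4⟩ := h3
    exact ⟨A, B, h4.symm⟩
  rcases eq_of_center h1 with h | h
  · obtain ⟨A, B, rfl⟩ := hmem g (mul_inv_eq_one.1 h)
    exact ⟨A, B, Or.inl rfl⟩
  · have hg1 : g * tJ F = J F (-1, -1) * (tJ F * g) := mul_inv_eq_iff_eq_mul.1 h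
    have hc := Subgroup.mem_center_iff.1 (J_neg_one_mem (F := F))
    have h5 : S F * tJ F = J F (-1, -1) * (tJ F * S F) := by
      rw [tJ, S_J, ← mul_assoc, ← map_mul, Prod.mk_mul_mk, mul_one, neg_one_sq]
    have hnn : J F (-1, -1) * J F (-1, -1) = 1 := by
      rw [← map_mul, Prod.mk_mul_mk, neg_one_sq]
      exact map_one _
    obtain ⟨A, B, h6⟩ := hmem ((S F)⁻¹ * g) (comm_aux hc hnn h5 hg1)
    refine ⟨A, B, Or.inr ?_⟩
    rw [← h6, ← map_mul, mul_inv_cancel_left]

end Cfsg.Agent.GH.Cov.SpCore
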