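import Mathlib
import Cfsg.Agent.GH.Cov.SpCore

/-!
# The instance `LieData.Core (PSp 2 F)`, `|F|` odd
-/

set_option autoImplicit false
open Cfsg
open scoped Matrix

namespace Cfsg.Agent.GH.Cov.SpCoreInst

open Cfsg.Agent.ClassicalGeometry.SympBasic
open Cfsg.Agent.ClassicalGeometry.SympAutSemi
open Cfsg.Agent.ClassicalGeometry.SympInvolutions
open Cfsg.Agent.GH.Cov.Iso
open Cfsg.Agent.GH.Cov.LieData
open Cfsg.Agent.GH.Cov.SLCore
open Cfsg.Agent.GH.Cov.SpCore

variable {F : Type*} [Field F]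

theorem sup_eq : (f₁ F).range ⊔ (f₂ F).range = (pj.comp (J F)).range := by
  apply le_antisymm
  · refine sup_le ?_ ?_
    · rintro _ ⟨A, rfl⟩
      exact ⟨(A, 1), rfl⟩
    · rintro _ ⟨A, rfl⟩
      exact ⟨(1, A), rfl⟩
  · rintro _ ⟨⟨A, B⟩, rfl⟩
    change pj (J F (A, B)) ∈ _
    rw [← f_mul]
    exact mul_mem (Subgroup.mem_sup_left ⟨A, rfl⟩) (Subgroup.mem_sup_right ⟨B, rfl⟩)

theorem S_conj (A B : Matrix.SpecialLinearGroup (Fin 2) F) :
    pj (S F) * pj (J F (A, B)) * (pj (S F))⁻¹ = pj (J F (B, A)) := by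
  rw [mul_inv_eq_iff_eq_mul, ← map_mul, ← map_mul, S_J]

theorem invol (h2 : (2 : F) ≠ 0) [Fintype F] (hF : Odd (Fintype.card F))
    {i j w : Matrix.SpecialLinearGroup (Fin 2) F} (h : T3 i j w) (u : PSp 2 F) (hu : u * u = 1)
    (hu1 : u ≠ 1) : IsConj (pj (tJ F)) u ∨ IsConj (pj (J F (i, i))) u := by
  obtain ⟨g, rfl⟩ := pj_surj u
  have hg1 : g ≠ 1 := by
    rintro rfl
    exact hu1 (map_one _)
  have hg1' : (g : Matrix (Fin 2 ⊕ Fin 2) (Fin 2 ⊕ Fin 2) F) ≠ -1 := by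
    intro h3
    apply hu1
    have : g = J F (-1, -1) := Subtype.ext (by rw [h3, J_neg_one])
    rw [this, pj_neg_one]
  rw [← map_mul, pj_eq_one] at hu
  rcases eq_of_center hu with h3 | h3
  · left
    exact pj.map_isConj (isConj_of_involutions h2 tJ_sq (tJ_ne h2) (tJ_ne' h2) h3 hg1 hg1')
  · right
    refine pj.map_isConj (isConj_of_sq_neg_one (Nat.odd_iff.1 hF) ?_ ?_)
    · have h4 : J F (i, i) * J F (i, i) = J F (-1, -1) := by
        rw [← map_mul, Prod.mk_mul_mk, h.ii]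
      have h5 := congrArg Subtype.val h4
      rw [J_neg_one] at h5
      exact h5
    · have h5 := congrArg Subtype.val h3
      rw [J_neg_one] at h5
      exact h5

theorem norm (h2 : (2 : F) ≠ 0) (g : PSp 2 F) (hg : g * pj (tJ F) = pj (tJ F) * g) (a : PSp 2 F)
    (ha : a ∈ (pj.comp (J F)).range) : g * a * g⁻¹ ∈ (pj.comp (J F)).range := by
  obtain ⟨⟨C, D⟩, rfl⟩ := ha
  obtain ⟨A, B, rfl | rfl⟩ := mem_or_of_comm h2 hg
  · exact mul_mem (mul_mem ⟨(A, B), rfl⟩ ⟨(C, D), rfl⟩) (inv_mem ⟨(A, B), rfl⟩)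
  · have h1 : pj (S F) * pj (J F (A, B)) * (pj.comp (J F)) (C, D) *
        (pj (S F) * pj (J F (A, B)))⁻¹ =
        pj (S F) * pj (J F (A * C * A⁻¹, B * D * B⁻¹)) * (pj (S F))⁻¹ := by
      have h3 : ((A * C * A⁻¹, B * D * B⁻¹) :
          Matrix.SpecialLinearGroup (Fin 2) F × Matrix.SpecialLinearGroup (Fin 2) F) =
          (A, B) * (C, D) * (A, B)⁻¹ := rfl
      rw [h3, map_mul, map_mul, map_mul, map_mul, map_inv, map_inv]
      change pj (S F) * pj (J F (A, B)) * pj (J F (C, D)) * _ = _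
      group
    rw [h1, S_conj]
    exact ⟨_, rfl⟩

theorem S_comm : pj (S F) * pj (tJ F) = pj (tJ F) * pj (S F) := by
  have h1 : ((-1, 1) : Matrix.SpecialLinearGroup (Fin 2) F × Matrix.SpecialLinearGroup (Fin 2) F)
      = (-1, -1) * (1, -1) := by
    rw [Prod.mk_mul_mk, mul_one, Cfsg.Agent.GH.Cov.SpCore.neg_one_sq]
  have h3 : pj (J F (-1, 1)) = pj (J F (1, -1)) := by
    rw [h1, map_mul (J F), map_mul pj, pj_neg_one, one_mul]
  rw [← map_mul, tJ, S_J, map_mul, h3]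

theorem index [Finite F] (h2 : (2 : F) ≠ 0) :
    ¬ 8 ∣ ((pj.comp (J F)).range).relIndex (Subgroup.centralizer {pj (tJ F)}) := by
  intro h8
  have hne : ((pj.comp (J F)).range).relIndex (Subgroup.centralizer {pj (tJ F)}) ≠ 0 := by
    rw [Subgroup.relIndex]
    exact Subgroup.index_ne_zero_of_finite
  have hle : ((pj.comp (J F)).range).relIndex (Subgroup.centralizer {pj (tJ F)}) ≤ 2 := by
    rw [Subgroup.relIndex, Subgroup.index]
    set C := Subgroup.centralizer {pj (tJ F)} with hC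
    have hS : pj (S F) ∈ C := mem_cen.2 S_comm
    let q : Bool → C ⧸ ((pj.comp (J F)).range).subgroupOf C := fun b =>
      if b then QuotientGroup.mk 1 else QuotientGroup.mk ⟨pj (S F), hS⟩
    have hq : Function.Surjective q := by
      intro x
      obtain ⟨⟨g, hg⟩, rfl⟩ := QuotientGroup.mk_surjective x
      obtain ⟨A, B, h3 | h3⟩ := mem_or_of_comm h2 (mem_cen.1 hg)
      · refine ⟨true, ?_⟩
        simp only [q, if_true]
        rw [QuotientGroup.eq, Subgroup.mem_subgroupOf]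
        simp only [inv_one, one_mul]
        exact ⟨(A, B), h3.symm⟩
      · refine ⟨false, ?_⟩
        simp only [q]
        rw [if_neg (by simp), QuotientGroup.eq, Subgroup.mem_subgroupOf]
        have h4 : ((⟨pj (S F), hS⟩ : C)⁻¹ * ⟨g, hg⟩ : C).1 = pj (J F (A, B)) := by
          change (pj (S F))⁻¹ * g = _
          rw [h3, inv_mul_cancel_left]
        rw [h4]
        exact ⟨(A, B), rfl⟩
    have := Nat.card_le_card_of_surjective q hq
    simpa using this
  have := Nat.le_of_dvd (Nat.pos_of_ne_zero hne) h8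
  omega

/-- **The core of `PSp₄(q)`.** -/
noncomputable def core [Fintype F] (hF : Odd (Fintype.card F))
    {i j w : Matrix.SpecialLinearGroup (Fin 2) F} (h : T3 i j w) : Core (PSp 2 F) :=
  have h2 : (2 : F) ≠ 0 := Cfsg.Agent.GH.Cov.SLTwoFacts.two_ne_zero_of_odd hF
  have H1 := half hF (f₁ F) (f₁_injective h2) h
  have H2 := half hF (f₂ F) (f₂_injective h2) h
  have e1 : f₁ F (-1) = pj (tJ F) := f₁_neg_one
  have e2 : f₂ F (-1) = pj (tJ F) := f₂_neg_one
  { t := pj (tJ F)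
    i₁ := f₁ F i
    j₁ := f₁ F j
    d₁ := f₁ F w
    i₂ := f₂ F i
    j₂ := f₂ F j
    d₂ := f₂ F w
    A₁ := (f₁ F).range
    A₂ := (f₂ F).range
    tt := e1 ▸ H1.tt
    t_ne := e1 ▸ H1.t_ne
    trip₁ := e1 ▸ H1.trip
    trip₂ := e2 ▸ H2.trip
    i₁_mem := H1.i_mem
    j₁_mem := H1.j_mem
    d₁_mem := H1.d_mem
    i₂_mem := H2.i_mem
    j₂_mem := H2.j_mem
    d₂_mem := H2.d_mem
    comm := by
      rintro _ ⟨A, rfl⟩ _ ⟨B, rfl⟩
      exact f_comm A B
    inv₁ := e1 ▸ H1.inv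
    inv₂ := e2 ▸ H2.inv
    gen₁ := H1.gen
    gen₂ := H2.gen
    cent₂ := H2.cent
    invol := by
      intro u hu hu1
      rw [f_mul]
      exact invol h2 hF h u hu hu1
    swap := ⟨pj (S F), by
      change pj (S F) * pj (J F (i, 1)) * (pj (S F))⁻¹ = pj (J F (1, i))
      rw [S_conj]⟩
    norm := by
      intro g hg a ha
      rw [sup_eq] at ha ⊢
      exact norm h2 g hg a ha
    index := by
      rw [sup_eq]
      exact index h2 }

end Cfsg.Agent.GH.Cov.SpCoreInst
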