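import Mathlib
import Cfsg.Agent.GH.Cov.SpCoreInst

/-!
# `LieData.Data (PSp 2 F)`, `|F|` odd
-/

set_option autoImplicit false
open Cfsg
open scoped Matrix

namespace Cfsg.Agent.GH.Cov.SpData

open Cfsg.Agent.ClassicalGeometry.SympBasic
open Cfsg.Agent.ClassicalGeometry.SympAutSemi
open Cfsg.Agent.ClassicalGeometry.SympAutExists
open Cfsg.Agent.ClassicalGeometry.SympInvolutions
open Cfsg.Agent.GH.Cov.SpSemi
open Cfsg.Agent.GH.Cov.SpDecomp
open Cfsg.Agent.GH.Cov.SpPsi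
open Cfsg.Agent.GH.Cov.SpInv
open Cfsg.Agent.GH.Cov.Iso
open Cfsg.Agent.GH.Cov.LieData
open Cfsg.Agent.GH.Cov.SpCore
open Cfsg.Agent.GH.Cov.SpCoreInst

variable {F : Type*} [Field F]

local notation "f2" => sympForm 2 F

/-! ### squares -/

theorem ringChar_ne (h2 : (2 : F) ≠ 0) : ringChar F ≠ 2 := by
  intro h3
  apply h2
  have h4 := ringChar.Nat.cast_ringChar (R := F)
  rw [h3] at h4
  exact_mod_cast h4

theorem isSquare_mul_of_not [Finite F] (h2 : (2 : F) ≠ 0) {a b : F} (ha : ¬ IsSquare a)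
    (hb : ¬ IsSquare b) : IsSquare (a * b) := by
  have : Fintype F := Fintype.ofFinite F
  classical
  have hF := ringChar_ne h2
  have ha0 : a ≠ 0 := by
    rintro rfl
    exact ha ⟨0, by simp⟩
  have hb0 : b ≠ 0 := by
    rintro rfl
    exact hb ⟨0, by simp⟩
  rw [← quadraticChar_one_iff_isSquare (mul_ne_zero ha0 hb0), map_mul,
    (quadraticChar_neg_one_iff_not_isSquare (a := a)).2 ha,
    (quadraticChar_neg_one_iff_not_isSquare (a := b)).2 hb]
  norm_num

/-! ### semisimilitudes and automorphisms -/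

theorem psi_of_rho (s : Matrix.symplecticGroup (Fin 2) F) {g : semiSim 2 F}
    (h : rho 2 F s = g.1) : Psi 2 F g = MulAut.conj (pj s) := by
  ext x
  obtain ⟨y, rfl⟩ := pj_surj x
  change Psi 2 F g (QuotientGroup.mk y) = _
  rw [Psi_mk]
  have h1 : conjHom 2 F g y = s * y * s⁻¹ := by
    apply rho_injective
    rw [rho_conjHom, ← h, map_mul, map_mul, map_inv]
  rw [h1]
  rfl

theorem smul_of_Psi_eq_one [Finite F] (h2 : (2 : F) ≠ 0) {g : semiSim 2 F}
    (h : Psi 2 F g = 1) : ∃ a : F, ∀ v, g.1 v = a • v := by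
  apply smul_of_conjHom_eq_one (by norm_num)
  apply Cfsg.Agent.ThreePrime.AutQuot.eq_one_of_autQuot_eq_one (perfect le_rfl h2)
  ext x
  obtain ⟨y, rfl⟩ := QuotientGroup.mk_surjective x
  rw [Cfsg.Agent.ThreePrime.AutQuot.autQuot_mk, ← Psi_mk, h]

/-- The semisimilitude given by a symplectic matrix. -/
def rs (s : Matrix.symplecticGroup (Fin 2) F) : semiSim 2 F :=
  ⟨rho 2 F s, RingEquiv.refl F, 1, one_ne_zero, isSemi_rho s⟩

theorem exists_basis : ∃ e e' : Fin 2 ⊕ Fin 2 → F, f2 e e' = 1 ∧ e ≠ 0 := by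
  obtain ⟨e, e', hee⟩ := exists_hyperbolic (F := F) (m := 2) (by norm_num)
  exact ⟨e, e', hee, ne_zero_of_form_left (by rw [hee]; exact one_ne_zero)⟩

theorem linear_of_inn [Finite F] (h2 : (2 : F) ≠ 0) {g : semiSim 2 F} {φ : F ≃+* F} {μ : F}
    (hg : IsSemi g.1 φ μ) {x : PSp 2 F} (h : Psi 2 F g = MulAut.conj x) (c : F) : φ c = c := by
  obtain ⟨s, rfl⟩ := pj_surj x
  have h1 : Psi 2 F (g * (rs s)⁻¹) = 1 := by
    rw [map_mul, map_inv, h, psi_of_rho s (g := rs s) rfl, mul_inv_cancel]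
  obtain ⟨a, ha⟩ := smul_of_Psi_eq_one h2 h1
  have h3 : ∀ v, g.1 v = a • rho 2 F s v := by
    intro v
    have h4 := ha (rho 2 F s v)
    change g.1 ((rho 2 F s)⁻¹ (rho 2 F s v)) = _ at h4
    rwa [perm_inv_apply_self] at h4
  obtain ⟨e, e', hee, he⟩ := exists_basis (F := F)
  have h5 := hg.2.1 c e
  rw [h3, h3, rho_apply, rho_apply, Matrix.mulVec_smul, smul_smul, smul_smul,
    ← rho_apply] at h5
  have hse : rho 2 F s e ≠ 0 := by
    intro h0
    apply he
    apply (rho 2 F s).injective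
    rw [h0]
    exact (semi_zero (isSemi_rho s)).symm
  have ha0 : a ≠ 0 := by
    rintro rfl
    apply he
    apply g.1.injective
    rw [h3, zero_smul, semi_zero hg]
  have h6 := smul_right_cancel_vec hse h5
  rw [mul_comm] at h6
  exact (mul_right_cancel₀ ha0 h6).symm

theorem inn_of_linear {g : semiSim 2 F} {φ : F ≃+* F} (hg : IsSemi g.1 φ 1)
    (hφ : ∀ c, φ c = c) : ∃ x : PSp 2 F, Psi 2 F g = MulAut.conj x := by
  obtain ⟨s, hs⟩ := exists_rho_eq g.1 hg.1 (fun a v => by rw [hg.2.1, hφ])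
    (fun u v => by rw [hg.2.2, hφ, one_mul])
  exact ⟨pj s, psi_of_rho s hs⟩

theorem isSemi_scal {a : F} (ha : a ≠ 0) :
    IsSemi (⟨fun v => a • v, fun v => a⁻¹ • v, fun v => inv_smul_smul₀ ha v, fun v =>
      smul_inv_smul₀ ha v⟩ : Equiv.Perm (Fin 2 ⊕ Fin 2 → F)) (RingEquiv.refl F) (a * a) := by
  refine ⟨fun u v => smul_add a u v, fun b v => smul_comm a b v, fun u v => ?_⟩
  change f2 (a • u) (a • v) = a * a * f2 u v
  rw [sympForm_smul_left, sympForm_smul_right, mul_assoc]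

/-- Scalars. -/
def scal {a : F} (ha : a ≠ 0) : semiSim 2 F :=
  ⟨_, RingEquiv.refl F, a * a, mul_ne_zero ha ha, isSemi_scal ha⟩

theorem Psi_scal {a : F} (ha : a ≠ 0) : Psi 2 F (scal ha) = 1 := by
  ext x
  obtain ⟨y, rfl⟩ := pj_surj x
  change Psi 2 F (scal ha) (QuotientGroup.mk y) = _
  rw [Psi_mk]
  have h1 : conjHom 2 F (scal ha) y = y := by
    apply rho_injective
    rw [rho_conjHom, mul_inv_eq_iff_eq_mul]
    ext1 v
    change a • rho 2 F y v = rho 2 F y (a • v)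
    rw [rho_apply, rho_apply, Matrix.mulVec_smul]
  rw [h1]
  rfl

/-- the entrywise action of a field automorphism -/
def fldPerm (φ : F ≃+* F) : Equiv.Perm (Fin 2 ⊕ Fin 2 → F) where
  toFun v i := φ (v i)
  invFun v i := φ.symm (v i)
  left_inv v := by ext i; simp
  right_inv v := by ext i; simp

theorem isSemi_fld (φ : F ≃+* F) : IsSemi (fldPerm φ) φ 1 := by
  refine ⟨fun u v => ?_, fun a v => ?_, fun u v => ?_⟩
  · ext i
    exact map_add φ _ _
  · ext i
    exact map_mul φ _ _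
  · rw [one_mul, sympForm_eq_sum, sympForm_eq_sum, map_sum]
    refine Finset.sum_congr rfl fun i _ => ?_
    rw [map_sub, map_mul, map_mul]
    rfl

/-- the entrywise action of a field automorphism -/
def fld (φ : F ≃+* F) : semiSim 2 F := ⟨fldPerm φ, φ, 1, one_ne_zero, isSemi_fld φ⟩

theorem fld_ex (φ : F ≃+* F) : fldPerm φ (ex F) = ex F ∧ fldPerm φ (ey F) = ey F ∧
    fldPerm φ (ex' F) = ex' F ∧ fldPerm φ (ey' F) = ey' F := by
  refine ⟨?_, ?_, ?_, ?_⟩ <;> ext i <;> simp only [fldPerm, ex, ey, ex', ey', Equiv.coe_fn_mk,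
    Pi.single_apply] <;> split_ifs <;> simp

theorem fld_biFun (φ : F ≃+* F) {A B : Matrix (Fin 2) (Fin 2) F} (hA : ∀ a b, φ (A a b) = A a b)
    (hB : ∀ a b, φ (B a b) = B a b) (v : Fin 2 ⊕ Fin 2 → F) :
    fldPerm φ (biFun (ex F) (ey F) (ex' F) (ey' F) 1 A B v) =
      biFun (ex F) (ey F) (ex' F) (ey' F) 1 A B (fldPerm φ v) := by
  have h := isSemi_fld φ
  obtain ⟨h1, h2, h3, h4⟩ := fld_ex φ
  have k1 : f2 (fldPerm φ v) (ey F) = φ (f2 v (ey F)) := by
    conv_lhs => rw [← h2]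
    rw [h.2.2, one_mul]
  have k2 : f2 (ex F) (fldPerm φ v) = φ (f2 (ex F) v) := by
    conv_lhs => rw [← h1]
    rw [h.2.2, one_mul]
  have k3 : f2 (fldPerm φ v) (ey' F) = φ (f2 v (ey' F)) := by
    conv_lhs => rw [← h4]
    rw [h.2.2, one_mul]
  have k4 : f2 (ex' F) (fldPerm φ v) = φ (f2 (ex' F) v) := by
    conv_lhs => rw [← h3]
    rw [h.2.2, one_mul]
  simp only [biFun, h.1, h.2.1, h1, h2, h3, h4, k1, k2, k3, k4, hA, hB, inv_one, one_mul]

theorem Psi_fld (φ : F ≃+* F) {A B : Matrix.SpecialLinearGroup (Fin 2) F}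
    (hA : ∀ a b, φ (A.1 a b) = A.1 a b) (hB : ∀ a b, φ (B.1 a b) = B.1 a b) :
    Psi 2 F (fld φ) (pj (J F (A, B))) = pj (J F (A, B)) := by
  change Psi 2 F (fld φ) (QuotientGroup.mk _) = _
  rw [Psi_mk]
  have h1 : conjHom 2 F (fld φ) (J F (A, B)) = J F (A, B) := by
    apply rho_injective
    rw [rho_conjHom, mul_inv_eq_iff_eq_mul]
    ext1 v
    rw [Equiv.Perm.mul_apply, Equiv.Perm.mul_apply, rho_J, rho_J]
    exact fld_biFun φ hA hB v
  rw [h1]
  rfl

theorem one_fix (φ : F ≃+* F) (a b : Fin 2) :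
    φ ((1 : Matrix.SpecialLinearGroup (Fin 2) F).1 a b) =
      (1 : Matrix.SpecialLinearGroup (Fin 2) F).1 a b := by
  rw [Matrix.SpecialLinearGroup.coe_one, Matrix.one_apply]
  split_ifs <;> simp

variable [Fintype F]

/-- The field involution is bad. -/
theorem bad_fld (hF : Odd (Fintype.card F)) {i j w : Matrix.SpecialLinearGroup (Fin 2) F}
    (h : T3 i j w) {φ : F ≃+* F} (hφ : ∀ c, φ (φ c) = c) (hne : ∃ c, φ c ≠ c) :
    Bad (core hF h) (Psi 2 F (fld φ)) := by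
  have h2 : (2 : F) ≠ 0 := Cfsg.Agent.GH.Cov.SLTwoFacts.two_ne_zero_of_odd hF
  refine ⟨?_, ?_, 1, ?_⟩
  · rw [← map_mul]
    have : fld φ * fld φ = 1 := by
      apply Subtype.ext
      ext1 v
      funext k
      exact hφ (v k)
    rw [this, map_one]
  · rintro ⟨x, hx⟩
    obtain ⟨c, hc⟩ := hne
    exact hc (linear_of_inn h2 (isSemi_fld φ) hx.symm c)
  · simp only [MulAut.one_apply]
    exact ⟨Psi_fld φ (h.fi φ) (one_fix φ), Psi_fld φ (h.fj φ) (one_fix φ),
      Psi_fld φ (h.fw φ) (one_fix φ), Psi_fld φ (one_fix φ) (h.fi φ),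
      Psi_fld φ (one_fix φ) (h.fj φ), Psi_fld φ (one_fix φ) (h.fw φ)⟩

omit [Fintype F] in
/-- A semisimilitude with square multiplier is the field automorphism modulo inner ones. -/
theorem exists_conj_fld {g : semiSim 2 F} {φ : F ≃+* F} {μ : F} (hg : IsSemi g.1 φ μ)
    (hμ : μ ≠ 0) (hs : IsSquare μ) : ∃ u : PSp 2 F,
      Psi 2 F g * MulAut.conj u = Psi 2 F (fld φ) := by
  obtain ⟨m, rfl⟩ := hs
  have hm : m ≠ 0 := left_ne_zero_of_mul hμ
  have hmi : m⁻¹ ≠ 0 := inv_ne_zero hm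
  have hg' : IsSemi (scal hmi * g).1 φ 1 := by
    have h1 := (isSemi_scal hmi).mul hg
    have e : (m⁻¹ * m⁻¹ * (RingEquiv.refl F) (m * m)) = 1 := by
      change m⁻¹ * m⁻¹ * (m * m) = 1
      field_simp
    rw [e] at h1
    exact h1
  have h3 : IsSemi ((scal hmi * g)⁻¹ * fld φ).1 (φ.trans φ.symm) 1 := by
    have h4 := (hg'.inv one_ne_zero).mul (isSemi_fld φ)
    simp only [inv_one, map_one, mul_one] at h4
    exact h4
  obtain ⟨u, hu⟩ := inn_of_linear h3 (fun c => φ.symm_apply_apply c)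
  refine ⟨u, ?_⟩
  rw [← hu, map_mul, map_inv, map_mul, Psi_scal, one_mul, mul_inv_cancel_left]

/-- Type I. -/
theorem typeI (hF : Odd (Fintype.card F)) {i j w : Matrix.SpecialLinearGroup (Fin 2) F}
    (h : T3 i j w) {g : semiSim 2 F} {φ : F ≃+* F} {μ l : F} (hg : SqSemi g.1 φ μ l)
    (hns : ∃ v, ∀ a : F, g.1 v ≠ a • v) :
    TypeI (core hF h) (Psi 2 F g) := by
  have h2 : (2 : F) ≠ 0 := Cfsg.Agent.GH.Cov.SLTwoFacts.two_ne_zero_of_odd hF
  obtain ⟨x, y, h3, h4, h5, h6, h7⟩ := exists_xy h2 hg hns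
  have hf := frame_of_semi hg h3 h4 h5 h6 h7
  obtain ⟨ψ, hψ⟩ := exists_psi hf φ
  have hneg : ((ψ (-1) : Matrix.symplecticGroup (Fin 2) F) :
      Matrix (Fin 2 ⊕ Fin 2) (Fin 2 ⊕ Fin 2) F) = -1 := by
    rw [← Matrix.mulVec_injective.eq_iff]
    funext v
    rw [Matrix.neg_mulVec, Matrix.one_mulVec, ← rho_apply, hψ,
      Matrix.SpecialLinearGroup.coe_neg, Matrix.SpecialLinearGroup.coe_one]
    exact psi_neg_one hf v
  have hneg' : ψ (-1) = J F (-1, -1) := Subtype.ext (by rw [hneg, J_neg_one])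
  have hp : pj (ψ (-1)) = 1 := by rw [hneg', pj_neg_one]
  have hfix : ∀ A, Psi 2 F g (pj (ψ A)) = pj (ψ A) := by
    intro A
    change Psi 2 F g (QuotientGroup.mk _) = _
    rw [Psi_mk]
    have e : conjHom 2 F g (ψ A) = ψ A := by
      apply rho_injective
      rw [rho_conjHom]
      ext1 v
      rw [Equiv.Perm.mul_apply, Equiv.Perm.mul_apply, hψ, hψ, psi_comm hg, perm_apply_inv_self]
    rw [e]
    rfl
  have hsq : ∀ A, A * A = -1 → pj (ψ A) * pj (ψ A) = 1 := by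
    intro A hA
    rw [← map_mul, ← map_mul, hA, hp]
  refine ⟨pj (ψ i), pj (ψ j), pj (ψ w), ⟨hsq i h.ii, ?_, hsq j h.jj, ?_, ?_, ?_, ?_⟩, hfix i,
    hfix j, hfix w, 1, ?_⟩
  · intro h8
    have h9 := eq_of_center (pj_eq_one.1 h8)
    have h10 : ψ i * ψ i = ψ (-1) := by rw [← map_mul, h.ii]
    have h11 : J F (-1, -1) ≠ 1 := by
      intro e
      have e1 := J_injective (e.trans (map_one (J F)).symm)
      exact neg_one_ne h2 (congrArg Prod.fst e1)
    rcases h9 with e | e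
    · rw [e, mul_one, hneg'] at h10
      exact h11 h10.symm
    · rw [e, hneg', ← map_mul, Prod.mk_mul_mk, Cfsg.Agent.GH.Cov.SpCore.neg_one_sq] at h10
      exact h11 (h10.symm.trans (map_one (J F)))
  · rw [← map_mul, ← map_mul, ← map_mul, ← map_mul, h.ji, map_mul ψ (-1), map_mul pj (ψ (-1)),
      hp, one_mul]
  · rw [← map_mul, ← map_mul, ← map_mul, ← map_mul, h.w3, map_one, map_one]
  · rw [← map_mul, ← map_inv, ← map_inv, ← map_mul, ← map_mul, ← map_mul, h.wi]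
  · rw [← map_mul, ← map_inv, ← map_inv, ← map_mul, ← map_mul, ← map_mul, h.wj, map_mul, map_mul]
  · rw [MulAut.one_apply]
    change IsConj (f₁ F i * f₂ F i) (pj (ψ i))
    rw [f_mul]
    refine pj.map_isConj (isConj_of_sq_neg_one (Nat.odd_iff.1 hF) ?_ ?_)
    · have h4 : J F (i, i) * J F (i, i) = J F (-1, -1) := by
        rw [← map_mul, Prod.mk_mul_mk, h.ii]
      have h5 := congrArg Subtype.val h4
      rw [J_neg_one] at h5
      exact h5
    · have h4 : ψ i * ψ i = ψ (-1) := by rw [← map_mul, h.ii]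
      have h5 := congrArg Subtype.val h4
      rw [hneg] at h5
      exact h5

/-- Every automorphism comes from a semisimilitude. -/
theorem exists_Psi (h2 : (2 : F) ≠ 0) (φ : MulAut (PSp 2 F)) : ∃ g : semiSim 2 F, Psi 2 F g = φ :=
  exists_semi le_rfl φ (Cfsg.Agent.ClassicalGeometry.SympAutRecog.recog_odd le_rfl h2 φ)

/-- Every non-inner involutory automorphism is of type I. -/
theorem outer (hF : Odd (Fintype.card F)) {i j w : Matrix.SpecialLinearGroup (Fin 2) F}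
    (h : T3 i j w) (φ : MulAut (PSp 2 F)) (hφ : φ * φ = 1)
    (hinn : φ ∉ (MulAut.conj : PSp 2 F →* MulAut (PSp 2 F)).range) :
    TypeI (core hF h) φ := by
  have h2 : (2 : F) ≠ 0 := Cfsg.Agent.GH.Cov.SLTwoFacts.two_ne_zero_of_odd hF
  obtain ⟨g, rfl⟩ := exists_Psi h2 φ
  obtain ⟨σ, μ, hμ, hs⟩ := g.2
  obtain ⟨l, hl⟩ := smul_of_Psi_eq_one h2 (g := g * g) (by rw [map_mul, hφ])
  obtain ⟨e, e', hee, he⟩ := exists_basis (F := F)
  have hl0 : l ≠ 0 := by
    rintro rfl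
    apply he
    apply (g * g).1.injective
    rw [hl, zero_smul]
    change _ = g.1 (g.1 0)
    rw [semi_zero hs, semi_zero hs]
  have hsq : SqSemi g.1 σ μ l := ⟨hs, hμ, hl0, fun v => hl v⟩
  apply typeI hF h hsq
  by_contra hcon
  push Not at hcon
  obtain ⟨a, ha⟩ := smul_of_forall (by norm_num) hs.1 hcon
  apply hinn
  have ha0 : a ≠ 0 := by
    rintro rfl
    apply he
    apply g.1.injective
    rw [ha, zero_smul, semi_zero hs]
  have : g = scal ha0 := by
    apply Subtype.ext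
    ext1 v
    exact ha v
  rw [this, Psi_scal]
  exact one_mem _

/-- Automorphisms with multiplier one. -/
def A0 (F : Type*) [Field F] : Subgroup (MulAut (PSp 2 F)) where
  carrier := {φ | ∃ (g : semiSim 2 F) (σ : F ≃+* F), IsSemi g.1 σ 1 ∧ Psi 2 F g = φ}
  mul_mem' := by
    rintro _ _ ⟨g, σ, h1, rfl⟩ ⟨k, τ, h3, rfl⟩
    refine ⟨g * k, τ.trans σ, ?_, map_mul (Psi 2 F) g k⟩
    have h4 := h1.mul h3
    rw [map_one, mul_one] at h4
    exact h4
  one_mem' := ⟨1, RingEquiv.refl F, ⟨fun _ _ => rfl, fun _ _ => rfl, fun _ _ => by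
    rw [one_mul]; rfl⟩, map_one _⟩
  inv_mem' := by
    rintro _ ⟨g, σ, h1, rfl⟩
    refine ⟨g⁻¹, σ.symm, ?_, map_inv (Psi 2 F) g⟩
    have h4 := h1.inv one_ne_zero
    rw [inv_one, map_one] at h4
    exact h4

omit [Fintype F] in
theorem mem_A0 {g : semiSim 2 F} {σ : F ≃+* F} {μ : F} (hg : IsSemi g.1 σ μ) (hμ : μ ≠ 0)
    (hs : IsSquare μ) : Psi 2 F g ∈ A0 F := by
  obtain ⟨m, rfl⟩ := hs
  have hm : m ≠ 0 := left_ne_zero_of_mul hμ
  have hmi : m⁻¹ ≠ 0 := inv_ne_zero hm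
  refine ⟨scal hmi * g, σ, ?_, ?_⟩
  · have h1 := (isSemi_scal hmi).mul hg
    have e : (m⁻¹ * m⁻¹ * (RingEquiv.refl F) (m * m)) = 1 := by
      change m⁻¹ * m⁻¹ * (m * m) = 1
      field_simp
    rw [e] at h1
    exact h1
  · rw [map_mul, Psi_scal, one_mul]

theorem mul_mem_A0 (h2 : (2 : F) ≠ 0) {φ ψ : MulAut (PSp 2 F)} (h1 : φ ∉ A0 F) (h3 : ψ ∉ A0 F) :
    φ * ψ ∈ A0 F := by
  obtain ⟨g, rfl⟩ := exists_Psi h2 φ
  obtain ⟨k, rfl⟩ := exists_Psi h2 ψ
  obtain ⟨σ, μ, hμ, hs⟩ := g.2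
  obtain ⟨τ, ν, hν, ht⟩ := k.2
  have h4 : ¬ IsSquare μ := fun h => h1 (mem_A0 hs hμ h)
  have h5 : ¬ IsSquare ν := fun h => h3 (mem_A0 ht hν h)
  have h6 : ¬ IsSquare (σ ν) := by
    rintro ⟨r, hr⟩
    apply h5
    refine ⟨σ.symm r, ?_⟩
    rw [← map_mul, ← hr, σ.symm_apply_apply]
  rw [← map_mul]
  refine mem_A0 (hs.mul ht) ?_ (isSquare_mul_of_not h2 h4 h6)
  exact mul_ne_zero hμ (by simpa using hν)

theorem out (hF : Odd (Fintype.card F)) {i j w : Matrix.SpecialLinearGroup (Fin 2) F}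
    (h : T3 i j w) (H : Subgroup (MulAut (PSp 2 F)))
    (hH : (MulAut.conj : PSp 2 F →* MulAut (PSp 2 F)).range ≤ H)
    (hbad : ∀ φ ∈ H, ¬ Bad (core hF h) φ) :
    ¬ 4 ∣ (MulAut.conj : PSp 2 F →* MulAut (PSp 2 F)).range.relIndex H := by
  intro h4
  have h2 : (2 : F) ≠ 0 := Cfsg.Agent.GH.Cov.SLTwoFacts.two_ne_zero_of_odd hF
  set N := (MulAut.conj : PSp 2 F →* MulAut (PSp 2 F)).range with hN
  have hfin : Finite (MulAut (PSp 2 F)) := inferInstance
  have hNn : N.Normal := by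
    refine ⟨?_⟩
    rintro _ ⟨x, rfl⟩ ψ
    refine ⟨ψ x, ?_⟩
    ext y
    simp only [MulAut.conj_apply, MulAut.mul_apply]
    rw [map_mul, map_mul, map_inv]
    congr 1
    congr 1
    exact (ψ.apply_symm_apply y).symm
  have hNA : N ≤ A0 F := by
    rintro _ ⟨x, rfl⟩
    obtain ⟨s, rfl⟩ := pj_surj x
    exact ⟨rs s, RingEquiv.refl F, isSemi_rho s, psi_of_rho s rfl⟩
  have hNK : N ≤ H ⊓ A0 F := le_inf hH hNA
  have hmul := Subgroup.relIndex_mul_relIndex N (H ⊓ A0 F) H hNK inf_le_left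
  have hle : (H ⊓ A0 F).relIndex H ≤ 2 := by
    rw [Subgroup.relIndex, Subgroup.index]
    by_cases hex : ∃ a : H, (a : MulAut (PSp 2 F)) ∉ A0 F
    · obtain ⟨a, ha⟩ := hex
      let q : Bool → H ⧸ (H ⊓ A0 F).subgroupOf H := fun b =>
        if b then QuotientGroup.mk 1 else QuotientGroup.mk a
      have hq : Function.Surjective q := by
        intro x
        obtain ⟨b, rfl⟩ := QuotientGroup.mk_surjective x
        by_cases hb : (b : MulAut (PSp 2 F)) ∈ A0 F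
        · refine ⟨true, ?_⟩
          simp only [q, if_true]
          rw [QuotientGroup.eq, Subgroup.mem_subgroupOf]
          simp only [inv_one, one_mul]
          exact ⟨b.2, hb⟩
        · refine ⟨false, ?_⟩
          simp only [q]
          rw [if_neg (by simp), QuotientGroup.eq, Subgroup.mem_subgroupOf]
          exact ⟨(a⁻¹ * b).2, mul_mem_A0 h2 (fun h => ha (by simpa using inv_mem h)) hb⟩
      have := Nat.card_le_card_of_surjective q hq
      simpa using this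
    · push Not at hex
      have hsub : (H ⊓ A0 F).subgroupOf H = ⊤ := by
        rw [eq_top_iff]
        intro a _
        rw [Subgroup.mem_subgroupOf]
        exact ⟨a.2, hex a⟩
      have h5 : ((H ⊓ A0 F).subgroupOf H).index = 1 := by rw [hsub, Subgroup.index_top]
      rw [Subgroup.index] at h5
      omega
  have h0 : (H ⊓ A0 F).relIndex H ≠ 0 := by
    rw [Subgroup.relIndex]
    exact Subgroup.index_ne_zero_of_finite
  have h2d : 2 ∣ N.relIndex (H ⊓ A0 F) := by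
    rw [← hmul] at h4
    have h5 : (H ⊓ A0 F).relIndex H = 1 ∨ (H ⊓ A0 F).relIndex H = 2 := by omega
    rcases h5 with h5 | h5
    · rw [h5, mul_one] at h4
      exact (by norm_num : (2 : ℕ) ∣ 4).trans h4
    · rw [h5] at h4
      omega
  -- an element of order two modulo `N`
  set K := H ⊓ A0 F with hK
  rw [Subgroup.relIndex, Subgroup.index] at h2d
  have : Fact (Nat.Prime 2) := ⟨Nat.prime_two⟩
  obtain ⟨q, hq⟩ := exists_prime_orderOf_dvd_card' 2 h2d
  obtain ⟨k, rfl⟩ := QuotientGroup.mk_surjective q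
  have hk1 : (k : MulAut (PSp 2 F)) ∉ N := by
    intro hmem
    have : (QuotientGroup.mk k : K ⧸ N.subgroupOf K) = 1 := by
      rw [QuotientGroup.eq_one_iff, Subgroup.mem_subgroupOf]
      exact hmem
    rw [this, orderOf_one] at hq
    norm_num at hq
  have hk2 : (k : MulAut (PSp 2 F)) * k ∈ N := by
    have h5 := pow_orderOf_eq_one (QuotientGroup.mk k : K ⧸ N.subgroupOf K)
    rw [hq] at h5
    rw [← QuotientGroup.mk_pow, QuotientGroup.eq_one_iff, Subgroup.mem_subgroupOf, pow_two] at h5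
    exact h5
  obtain ⟨g, σ, hg, hgk⟩ := k.2.2
  obtain ⟨x, hx⟩ := hk2
  rw [← hgk, ← map_mul] at hx
  have hσσ : ∀ c, σ (σ c) = c := by
    intro c
    exact linear_of_inn h2 (hg.mul hg) hx.symm c
  have hσ : ∃ c, σ c ≠ c := by
    by_contra hcon
    push Not at hcon
    obtain ⟨y, hy⟩ := inn_of_linear hg hcon
    apply hk1
    rw [← hgk, hy]
    exact ⟨y, rfl⟩
  obtain ⟨u, hu⟩ := exists_conj_fld hg one_ne_zero ⟨1, by simp⟩
  refine hbad (Psi 2 F (fld σ)) ?_ (bad_fld hF h hσσ hσ)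
  rw [← hu, hgk]
  exact H.mul_mem k.2.1 (hH ⟨u, rfl⟩)

/-- **All facts about `PSp₄(q)`, `q` odd.** -/
theorem nonempty_data (F : Type*) [Field F] [Fintype F] (hF : Odd (Fintype.card F)) :
    Nonempty (Data (PSp 2 F)) := by
  have h2 : (2 : F) ≠ 0 := Cfsg.Agent.GH.Cov.SLTwoFacts.two_ne_zero_of_odd hF
  obtain ⟨i, j, w, h⟩ := exists_T3 h2
  exact ⟨{ core hF h with
    out := fun H hH hbad => out hF h H hH hbad
    outer := fun φ h1 h3 _ => Or.inl (outer hF h φ h1 h3) }⟩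

end Cfsg.Agent.GH.Cov.SpData
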