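import Cfsg.Agent.GH.Cov.SzTwo

/-!
# GH-COV (3): no 2-component `K` of `C(x)` with even centre and `STop K = Sz(8)`

A perfect central extension of `Sz(q)` with an involution in the centre has sectional 2-rank at least 4, hence `x ∈ K`.
-/

set_option autoImplicit false
set_option linter.unusedSectionVars false
set_option linter.style.haveILetI false

namespace Cfsg.Agent.GH.Cov.SzMem

open Cfsg Subgroup
open scoped commutatorElement
open Cfsg.Agent.Intrinsic.Basic Cfsg.Agent.GH.Defs Cfsg.Agent.GH.Rank Cfsg.Agent.GH.Comp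
open Cfsg.Agent.SignalizersComponents.IntrinsicBasic
open Cfsg.Agent.StdSz Cfsg.Agent.StdSz.FormAlg Cfsg.Agent.StdSz.BorelCoord Cfsg.Agent.StdSz.CoverA
open Cfsg.Agent.StdSz.CoverC Cfsg.Agent.GH.Cov.SzCover Cfsg.Agent.GH.Cov.TwoComps
open Cfsg.Agent.GH.Cov.SzTwo

variable {A : Type*} [Group A] [Finite A]

/-- A perfect central extension of `Sz(q)` of sectional 2-rank at most 4 with an involution in the centre has sectional
2-rank at least 4. -/
theorem four_le_srank (hp : commutator A = ⊤) {F : Type*} [Field F] [Fintype F] {m : ℕ} (hm : 1 ≤ m)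
    (hF : Fintype.card F = 2 ^ (2 * m + 1))
    (e : A ⧸ center A ≃* ↥(Cfsg.Lie.Sz F (2 ^ (m + 1)))) {z : A} (hz : z ∈ center A) (hz1 : z ≠ 1)
    (hzz : z * z = 1) : 4 ≤ srank 2 A := by
  by_contra hlt
  have hrA : SectionalPRankLE 2 4 A := (srank_le_iff (by norm_num)).1 (by omega)
  have hr3 : SectionalPRankLE 2 3 A := (srank_le_iff (by norm_num)).1 (by omega)
  have hchar := EquivMaps.charP_two hF
  obtain ⟨π, P0, B⟩ := exists_base hm hF e
  have huniq := B.unique hm hrA hz1 hzz hz
  have hcov := B.cov hz1 hzz hz huniq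
  have hcom : (⟨z, hcov.t_mem⟩ : P0) ∈ commutator P0 :=
    mem_commutator_of_central P0 B.odd z hcov.t_mem (fun g => hcov.cen _ hcov.t_ker g)
      hcov.t_sq (by rw [hp]; exact Subgroup.mem_top _)
  obtain ⟨zh, Z, hval, hleft, hright⟩ := hcov.main hm hF hcom
  have zc : ∀ g : A, g * z = z * g := fun g => mem_center_iff.mp hz g
  let E : Subgroup A :=
    { carrier := {x | ∃ b, x = zh b ∨ x = zh b * z}
      mul_mem' := by
        rintro x y ⟨b, hb⟩ ⟨c, hc⟩
        refine ⟨b + c, ?_⟩
        rcases hb with rfl | rfl <;> rcases hc with rfl | rfl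
        · left; rw [Z.add]
        · right; rw [Z.add, mul_assoc]
        · right
          rw [Z.add, mul_assoc, ← zc, mul_assoc]
        · left
          calc zh b * z * (zh c * z) = zh b * (z * zh c) * z := by group
            _ = zh b * zh c * (z * z) := by rw [← zc]; group
            _ = _ := by rw [hzz, mul_one, Z.add]
      one_mem' := ⟨0, Or.inl Z.zero.symm⟩
      inv_mem' := by
        rintro x ⟨b, rfl | rfl⟩
        · exact ⟨b, Or.inl (inv_eq_of_mul_eq_one_right (Z.sq b))⟩
        · refine ⟨b, Or.inr (inv_eq_of_mul_eq_one_right ?_)⟩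
          calc zh b * z * (zh b * z) = zh b * (z * zh b) * z := by group
            _ = zh b * zh b * (z * z) := by rw [← zc]; group
            _ = 1 := by rw [hzz, mul_one, Z.sq] }
  have Esq : ∀ x ∈ E, x * x = 1 := by
    rintro x ⟨b, rfl | rfl⟩
    · exact Z.sq b
    · calc zh b * z * (zh b * z) = zh b * (z * zh b) * z := by group
        _ = zh b * zh b * (z * z) := by rw [← zc]; group
        _ = 1 := by rw [hzz, mul_one, Z.sq]
  have Ecard : 16 ≤ Nat.card E := by
    let h : F × Bool → E := fun p => ⟨if p.2 then zh p.1 * z else zh p.1, by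
      refine ⟨p.1, ?_⟩
      rcases p.2
      · left; simp
      · right; simp⟩
    have hzt : ∀ b c, zh b ≠ zh c * z := by
      intro b c hbc
      have h2 := congrArg (fun x => π x) hbc
      simp only [map_mul, hcov.t_ker, mul_one, Z.pi] at h2
      have h3 := ((szData hF).p_inj _ _ _ _ h2).2
      subst h3
      apply hz1
      exact mul_eq_left.mp hbc.symm
    have hinj' : Function.Injective h := by
      rintro ⟨b, i⟩ ⟨c, j⟩ hbc
      have h2 := congrArg Subtype.val hbc
      rcases i <;> rcases j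
      · have h3 : zh b = zh c := by simpa [h] using h2
        rw [Z.inj h3]
      · have h3 : zh b = zh c * z := by simpa [h] using h2
        exact absurd h3 (hzt _ _)
      · have h3 : zh b * z = zh c := by simpa [h] using h2
        exact absurd h3.symm (hzt _ _)
      · have h3 : zh b = zh c := by simpa [h] using h2
        rw [Z.inj h3]
    have h1 := Nat.card_le_card_of_injective h hinj'
    rw [Nat.card_prod, Nat.card_eq_fintype_card, hF, Nat.card_eq_fintype_card,
      Fintype.card_bool] at h1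
    have h6 : 2 ^ 3 ≤ 2 ^ (2 * m + 1) := Nat.pow_le_pow_right (by norm_num) (by omega)
    omega
  have hEc : ∀ x ∈ E, ∀ y ∈ E, x * y = y * x := by
    intro x hx y hy
    have h1 : ∀ w ∈ E, w⁻¹ = w := fun w hw => inv_eq_of_mul_eq_one_right (Esq w hw)
    have h2 := h1 _ (E.mul_mem hx hy)
    rw [mul_inv_rev, h1 x hx, h1 y hy] at h2
    exact h2.symm
  have h8 := pRankLE hr3 E ⟨⟨fun a b => Subtype.ext (hEc a a.2 b b.2)⟩⟩
    (fun x hx => by rw [sq]; exact Esq x hx)
  omega

variable {G : Type*} [Group G] [Finite G]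

theorem mem_of_suzuki (hr : SectionalPRankLE 2 4 G) {x : G} {K : Subgroup G} (c : Comp2 x K)
    (he : EvenCenter K) {F : Type*} [Field F] [Fintype F] {m : ℕ} (hm : 1 ≤ m)
    (hF : Fintype.card F = 2 ^ (2 * m + 1))
    (e : STop K ≃* ↥(Cfsg.Lie.Sz F (2 ^ (m + 1)))) : x ∈ K := by
  classical
  have : Fact (Nat.Prime 2) := ⟨Nat.prime_two⟩
  have hp : commutator (Bar K) = ⊤ := (quasisimple c.comp).1.commutator_eq_top
  obtain ⟨z, hz⟩ := exists_prime_orderOf_dvd_card' 2 (even_iff_two_dvd.mp he)
  have h1 : 4 ≤ srank 2 (Bar K) := four_le_srank hp hm hF e (z := (z : Bar K)) z.2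
    (fun h => by
      have h2 : z = 1 := Subtype.ext h
      rw [h2, orderOf_one] at hz
      exact absurd hz (by norm_num))
    (by
      have h2 : z ^ 2 = 1 := by rw [← hz, pow_orderOf_eq_one]
      have h3 := congrArg Subtype.val h2
      rw [← sq]
      exact h3)
  rw [srank_bar] at h1
  by_contra hx
  have hcomm : ∀ a ∈ zpowers x, ∀ b ∈ K, a * b = b * a := by
    intro a ha b hb
    obtain ⟨n, rfl⟩ := mem_zpowers_iff.mp ha
    have h3 : Commute b x := mem_centralizer_singleton_iff.mp (c.comp.le hb)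
    exact (h3.zpow_right n).symm
  have hcard : Nat.card (zpowers x) = 2 := by rw [Nat.card_zpowers, c.inv]
  have hinf : ¬ 2 ∣ Nat.card (zpowers x ⊓ K : Subgroup G) := by
    intro hd
    have h2 : zpowers x ⊓ K = zpowers x := by
      apply eq_of_le_of_card_ge inf_le_left
      rw [hcard]
      exact Nat.le_of_dvd Nat.card_pos hd
    exact hx ((inf_eq_left.mp h2) (mem_zpowers x))
  have h2 := srank_add_le_of_commute Nat.prime_two (zpowers x) K hcomm hinf
  rw [srank_zpowers c.inv] at h2
  have h3 : srank 2 G ≤ 4 := (srank_le_iff (by norm_num)).2 hr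
  omega

/-- **GH-COV (3)**, without `x ∈ K`. -/
theorem false_of_sz8 (h : Hyp G) {x : G} {K : Subgroup G} (c : Comp2 x K) (he : EvenCenter K)
    (hS : IsSz8 (STop K)) : False := by
  obtain ⟨F, _, _, hF, ⟨e⟩⟩ := hS
  have hx := mem_of_suzuki h.rank4 c he (F := F) (m := 1) le_rfl (by rw [hF]; norm_num) e
  exact not_sz8 h c hx ⟨F, _, _, hF, ⟨e⟩⟩

end Cfsg.Agent.GH.Cov.SzMem
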