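import Cfsg.Agent.GH.Cov.TwelveFront
import Cfsg.Agent.GH.MTwMain

/-!
# GH-COV, `2.M₁₂`: no 2-component with even centre and top `M₁₂`
-/

set_option autoImplicit false

open Cfsg Subgroup
open Cfsg.Agent.Intrinsic.Basic
open Cfsg.Agent.GH.Defs

namespace Cfsg.Agent.GH.Cov.TwelveMain

universe u

/-- The field `m12` of `Cov.Main.Inputs`. -/
theorem m12 {G : Type u} [Group G] [Finite G] (h : Hyp G) (x : G) (K : Subgroup G) (c : Comp2 x K)
    (he : EvenCenter K) (hiso : Spor.IsoM12 (STop K)) : False := by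
  have := h.simple
  obtain ⟨hxK, -, hn, hfix⟩ := TwelveFront.front h.rank4 c he hiso
  exact MTwMain.false_of_iso h.nonComm c hxK hn hfix hiso

end Cfsg.Agent.GH.Cov.TwelveMain
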