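import Cfsg.Agent.GH.L2Frame
import Cfsg.Agent.GH.Extra
import Cfsg.Agent.GH.Cov.LieData
import Cfsg.Agent.GH.Cov.TwoComps

/-!
# GH-COV (I.4): no "bad" automorphism is induced by `C(z)`; the index

* `false_of_qq`: a 2-element `u ∉ K` of `C(z)`, `u² ∈ ⟨z⟩`, does not centralise two commuting quaternion groups
  of `K / O(K)` whose centres generate `⟨z₁, z₂⟩`, `z₁ z₂ = z`;
* `not_four_dvd`: the index of `K` in `C(z)`.
-/

set_option autoImplicit false

open Cfsg Subgroup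
open scoped commutatorElement
open Cfsg.Agent.Intrinsic.Basic Cfsg.Agent.GH.Defs Cfsg.Agent.GH.Rank Cfsg.Agent.GH.Comp
open Cfsg.Agent.GH.L2Frame

namespace Cfsg.Agent.GH.Cov.NoBad

/-- Two commuting quaternion groups `⟨I₁, J₁⟩`, `⟨I₂, J₂⟩` with central involutions `z₁`, `z₂`, `z₁ z₂ = z`,
fixed by `α`. -/
structure QQ {X : Type*} [Group X] (z : X) (α : X → X) (I₁ J₁ I₂ J₂ z₁ z₂ : X) : Prop where
  ii₁ : I₁ * I₁ = z₁
  jj₁ : J₁ * J₁ = z₁
  ji₁ : J₁ * I₁ = z₁ * (I₁ * J₁)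
  ii₂ : I₂ * I₂ = z₂
  jj₂ : J₂ * J₂ = z₂
  ji₂ : J₂ * I₂ = z₂ * (I₂ * J₂)
  cII : I₁ * I₂ = I₂ * I₁
  cIJ : I₁ * J₂ = J₂ * I₁
  cJI : J₁ * I₂ = I₂ * J₁
  cJJ : J₁ * J₂ = J₂ * J₁
  sq₁ : z₁ * z₁ = 1
  prod : z₁ * z₂ = z
  ne : z₁ ≠ 1
  ne' : z₁ ≠ z
  fI₁ : α I₁ = I₁
  fJ₁ : α J₁ = J₁
  fI₂ : α I₂ = I₂
  fJ₂ : α J₂ = J₂

theorem qq_comm {X : Type*} [Group X] {i j z : X} (ii : i * i = z) (jj : j * j = z)
    (ji : j * i = z * (i * j)) (hz : z * z = 1) : i * z = z * i ∧ j * z = z * j ∧ i * j = j * i * z := by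
  have h1 : i * z = z * i := by rw [← ii]; group
  have h2 : j * z = z * j := by rw [← jj]; group
  refine ⟨h1, h2, ?_⟩
  rw [ji]
  calc i * j = (z * z) * (i * j) := by rw [hz, one_mul]
    _ = z * (z * i * j) := by group
    _ = z * (i * (z * j)) := by rw [← h1]; group
    _ = z * (i * j) * z := by rw [← h2]; group

/-- The sectional rank argument of (I.4). -/
theorem false_of_qq {G : Type*} [Group G] [Finite G] (h4 : SectionalPRankLE 2 4 G) {z : G}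
    {K : Subgroup G} (c : Comp2 z K) (hzK : z ∈ K) {u : G} (hu : u ∈ centralizer ({z} : Set G))
    (hn : u ∈ normalizer (K : Set G)) (huu : u * u = 1 ∨ u * u = z) (huK : u ∉ K)
    {I₁ J₁ I₂ J₂ z₁ z₂ : Bar K}
    (q : QQ (QuotientGroup.mk ⟨z, hzK⟩ : Bar K) (actBar K ⟨u, hn⟩) I₁ J₁ I₂ J₂ z₁ z₂) : False := by
  have hzz : z * z = 1 := by rw [← pow_two, ← c.inv, pow_orderOf_eq_one]
  obtain ⟨C, hC⟩ : ∃ C, C = centralizer ({z} : Set G) := ⟨_, rfl⟩
  have hK : IsComp C K := hC ▸ c.comp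
  rw [← hC] at hu
  have hKC : K ≤ C := hK.le
  have hzC : z ∈ C := hKC hzK
  obtain ⟨zb, hzb⟩ : ∃ zb : C ⧸ oddCore ↥C, zb = QuotientGroup.mk ⟨z, hzC⟩ := ⟨_, rfl⟩
  have hzb2 : zb * zb = 1 := by
    rw [hzb, ← QuotientGroup.mk_mul]
    have : (⟨z, hzC⟩ : C) * ⟨z, hzC⟩ = 1 := Subtype.ext hzz
    rw [this, QuotientGroup.mk_one]
  have hzbc : ∀ g, g * zb = zb * g := by
    intro g
    obtain ⟨a, rfl⟩ := QuotientGroup.mk_surjective g
    rw [hzb, ← QuotientGroup.mk_mul, ← QuotientGroup.mk_mul]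
    congr 1
    apply Subtype.ext
    have ha : (a : G) ∈ centralizer ({z} : Set G) := hC ▸ a.2
    exact mem_centralizer_singleton_iff.mp ha
  let W : Subgroup (C ⧸ oddCore ↥C) := Extra.two zb hzb2
  have hW : W.Normal := by
    constructor
    intro w hw g
    rcases hw with rfl | rfl
    · left; group
    · right
      rw [hzbc g, mul_inv_cancel_right]
  let Q := (C ⧸ oddCore ↥C) ⧸ W
  let f : C →* Q := (QuotientGroup.mk' W).comp (QuotientGroup.mk' (oddCore ↥C))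
  have hQ : SectionalPRankLE 2 4 Q := of_quotient (of_quotient (of_subgroup h4 C) _) _
  have hf : ∀ (a : G) (ha : a ∈ C), f ⟨a, ha⟩ = 1 → a ∈ core C ∨ a * z ∈ core C := by
    intro a ha h
    have h1 : (QuotientGroup.mk ⟨a, ha⟩ : C ⧸ oddCore ↥C) ∈ W := (QuotientGroup.eq_one_iff _).mp h
    rcases h1 with h1 | h1
    · left
      rw [mem_core_iff ha]
      exact (QuotientGroup.eq_one_iff _).mp h1
    · right
      rw [mem_core_iff (C.mul_mem ha hzC)]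
      refine (QuotientGroup.eq_one_iff (⟨a * z, C.mul_mem ha hzC⟩ : C)).mp ?_
      have h2 : (⟨a * z, C.mul_mem ha hzC⟩ : C) = ⟨a, ha⟩ * ⟨z, hzC⟩ := rfl
      rw [h2, QuotientGroup.mk_mul, h1, ← hzb, hzb2]
  have hf1 : ∀ (a : G) (ha : a ∈ C), a ∈ core C → f ⟨a, ha⟩ = 1 := by
    intro a ha h
    rw [mem_core_iff ha] at h
    change (QuotientGroup.mk' W) ((QuotientGroup.mk' (oddCore ↥C)) ⟨a, ha⟩) = 1
    have h1 : (QuotientGroup.mk' (oddCore ↥C)) ⟨a, ha⟩ = 1 := (QuotientGroup.eq_one_iff _).mpr h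
    rw [h1, map_one]
  have hfz : f ⟨z, hzC⟩ = 1 := by
    change (QuotientGroup.mk' W) ((QuotientGroup.mk' (oddCore ↥C)) ⟨z, hzC⟩) = 1
    refine (QuotientGroup.eq_one_iff _).mpr ?_
    right
    exact hzb.symm
  let β : Bar K →* Q := QuotientGroup.lift (oddCore ↥K) (f.comp (inclusion hKC)) (by
    intro k hk
    have h1 : (k : G) ∈ core C := hK.core_le_core ⟨k, hk, rfl⟩
    exact hf1 k (hKC k.2) h1)
  have hβ : ∀ k : K, β (QuotientGroup.mk k) = f ⟨k, hKC k.2⟩ := fun k => rfl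
  obtain ⟨Z, hZ⟩ : ∃ Z : Bar K, Z = QuotientGroup.mk ⟨z, hzK⟩ := ⟨_, rfl⟩
  rw [← hZ] at q
  have hβZ : β Z = 1 := by rw [hZ]; exact hfz
  have hβker : ∀ b, β b = 1 → b = 1 ∨ b = Z := by
    intro b hb
    obtain ⟨k, rfl⟩ := QuotientGroup.mk_surjective b
    rw [hβ] at hb
    rcases hf k (hKC k.2) hb with h1 | h1
    · left
      rw [QuotientGroup.eq_one_iff]
      have h2 : (k : G) ∈ core K := by rw [hK.core_eq]; exact ⟨k.2, h1⟩
      exact (mem_core_iff k.2).mp h2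
    · right
      have h2 : (k : G) * z ∈ core K := by rw [hK.core_eq]; exact ⟨K.mul_mem k.2 hzK, h1⟩
      have h3 : (QuotientGroup.mk (k * ⟨z, hzK⟩) : Bar K) = 1 :=
        (QuotientGroup.eq_one_iff _).mpr ((mem_core_iff (K.mul_mem k.2 hzK)).mp h2)
      have h4 : Z * Z = 1 := by
        rw [hZ, ← QuotientGroup.mk_mul]
        have : (⟨z, hzK⟩ : K) * ⟨z, hzK⟩ = 1 := Subtype.ext hzz
        rw [this, QuotientGroup.mk_one]
      rw [QuotientGroup.mk_mul, ← hZ] at h3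
      exact mul_right_cancel (h3.trans h4.symm)
  have hact : ∀ b, β (actBar K ⟨u, hn⟩ b) = f ⟨u, hu⟩ * β b * (f ⟨u, hu⟩)⁻¹ := by
    intro b
    obtain ⟨k, rfl⟩ := QuotientGroup.mk_surjective b
    rw [actBar_apply, hβ, hβ, ← map_inv, ← map_mul, ← map_mul]
    rfl
  have hfix : ∀ b, actBar K ⟨u, hn⟩ b = b → β b * f ⟨u, hu⟩ = f ⟨u, hu⟩ * β b := by
    intro b hb
    have h1 := hact b
    rw [hb] at h1
    exact (eq_mul_inv_iff_mul_eq.mp h1)
  have hnot : ∀ b, f ⟨u, hu⟩ ≠ β b := by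
    intro b hb
    obtain ⟨k, rfl⟩ := QuotientGroup.mk_surjective b
    rw [hβ] at hb
    have h1 : f ⟨(k : G)⁻¹ * u, C.mul_mem (C.inv_mem (hKC k.2)) hu⟩ = 1 := by
      have h2 : (⟨(k : G)⁻¹ * u, C.mul_mem (C.inv_mem (hKC k.2)) hu⟩ : C) =
          (⟨k, hKC k.2⟩ : C)⁻¹ * ⟨u, hu⟩ := rfl
      rw [h2, map_mul, map_inv, hb, inv_mul_cancel]
    have hu4 : u ^ 2 ^ 2 = 1 := by
      have e : u ^ 2 ^ 2 = (u * u) * (u * u) := by
        rw [show (2 : ℕ) ^ 2 = 2 + 2 by norm_num, pow_add, pow_two]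
      rcases huu with h | h
      · rw [e, h, one_mul]
      · rw [e, h, hzz]
    apply huK
    rcases hf _ _ h1 with h2 | h2
    · exact hK.mem_of_two k.2 h2 hu4
    · -- `k⁻¹ u z ∈ O(C)`: replace `k` by `k z`
      have h3 : ((k : G) * z)⁻¹ * u ∈ core C := by
        have hzu : u * z = z * u := by
          have : u ∈ centralizer ({z} : Set G) := hC ▸ hu
          exact mem_centralizer_singleton_iff.mp this
        have hzk : (k : G) * z = z * k := by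
          have : (k : G) ∈ centralizer ({z} : Set G) := hC ▸ hKC k.2
          exact mem_centralizer_singleton_iff.mp this
        have hzi : z⁻¹ = z := inv_eq_of_mul_eq_one_right hzz
        have e : ((k : G) * z)⁻¹ * u = (k : G)⁻¹ * u * z := by
          rw [hzk, mul_inv_rev, hzi, mul_assoc, mul_assoc, ← hzu]
        rw [e]; exact h2
      exact hK.mem_of_two (K.mul_mem k.2 hzK) h3 hu4
  obtain ⟨a1, a2, a3⟩ := qq_comm q.ii₁ q.jj₁ q.ji₁ q.sq₁
  have hz12 : β z₂ = β z₁ := by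
    have h1 : β z₁ * β z₂ = 1 := by rw [← map_mul, q.prod, hβZ]
    have h2 : β z₁ * β z₁ = 1 := by rw [← map_mul, q.sq₁, map_one]
    exact mul_left_cancel (h1.trans h2.symm)
  have ii₂ : β I₂ * β I₂ = β z₁ := by rw [← map_mul, q.ii₂, hz12]
  have jj₂ : β J₂ * β J₂ = β z₁ := by rw [← map_mul, q.jj₂, hz12]
  have ji₂ : β J₂ * β I₂ = β z₁ * (β I₂ * β J₂) := by
    rw [← map_mul, ← map_mul, q.ji₂, map_mul, hz12]
  have sq₁ : β z₁ * β z₁ = 1 := by rw [← map_mul, q.sq₁, map_one]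
  obtain ⟨b1, b2, b3⟩ := qq_comm ii₂ jj₂ ji₂ sq₁
  refine Extra.five hQ (x := β I₁) (y := β J₁) (u := β I₂) (v := β J₂) (z := f ⟨u, hu⟩) (t := β z₁)
    sq₁ ?_ ?_ ?_ b1 b2 ?_ ?_ ?_ (Or.inr ii₂) (Or.inr jj₂) (Or.inl ?_) ?_ b3 ?_ ?_ ?_ ?_
    (hfix _ q.fI₁) (hfix _ q.fJ₁) (hfix _ q.fI₂) (hfix _ q.fJ₂) ?_ (hnot _)
  · intro h
    rcases hβker _ h with h1 | h1
    · exact q.ne h1
    · exact q.ne' h1
  · rw [← map_mul, a1, map_mul]
  · rw [← map_mul, a2, map_mul]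
  · have h1 := hfix _ q.fI₁
    have h2 : β z₁ = β I₁ * β I₁ := by rw [← map_mul, q.ii₁]
    rw [h2]
    calc f ⟨u, hu⟩ * (β I₁ * β I₁) = (f ⟨u, hu⟩ * β I₁) * β I₁ := by group
      _ = (β I₁ * f ⟨u, hu⟩) * β I₁ := by rw [h1]
      _ = β I₁ * (f ⟨u, hu⟩ * β I₁) := by group
      _ = β I₁ * (β I₁ * f ⟨u, hu⟩) := by rw [← h1]
      _ = β I₁ * β I₁ * f ⟨u, hu⟩ := by group
  · right; rw [← map_mul, q.ii₁]
  · right; rw [← map_mul, q.jj₁]
  · rw [← map_mul]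
    have h1 : (⟨u, hu⟩ : C) * ⟨u, hu⟩ = ⟨u * u, C.mul_mem hu hu⟩ := rfl
    rw [h1]
    rcases huu with h | h
    · have h2 : (⟨u * u, C.mul_mem hu hu⟩ : C) = 1 := Subtype.ext h
      rw [h2, map_one]
    · have h2 : (⟨u * u, C.mul_mem hu hu⟩ : C) = ⟨z, hzC⟩ := Subtype.ext h
      rw [h2, hfz]
  · rw [← map_mul, a3, map_mul, map_mul]
  · rw [← map_mul, q.cII, map_mul]
  · rw [← map_mul, q.cIJ, map_mul]
  · rw [← map_mul, q.cJI, map_mul]
  · rw [← map_mul, q.cJJ, map_mul]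
  · intro h
    exact hnot 1 (by rw [h, map_one])

/-! ### the action on `L` -/

section action

variable {G : Type*} [Group G] {L : Type*} [Group L]

/-- The action of `C ≤ N(K)` on `L ≅ STop K`. -/
def rho {K C : Subgroup G} (hn : C ≤ normalizer (K : Set G)) (e : STop K ≃* L) : C →* MulAut L :=
  (MulAut.congr e).toMonoidHom.comp ((act K).comp (inclusion hn))

/-- The map `K / O(K) → L`. -/
def proj {K : Subgroup G} (e : STop K ≃* L) : Bar K →* L :=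
  e.toMonoidHom.comp (QuotientGroup.mk' (center (Bar K)))

theorem proj_surjective {K : Subgroup G} (e : STop K ≃* L) : Function.Surjective (proj e) :=
  e.surjective.comp (QuotientGroup.mk'_surjective _)

theorem proj_ker {K : Subgroup G} (e : STop K ≃* L) : (proj e).ker = center (Bar K) := by
  ext x
  rw [MonoidHom.mem_ker]
  change e (QuotientGroup.mk x) = 1 ↔ _
  rw [map_eq_one_iff e e.injective, QuotientGroup.eq_one_iff]

theorem rho_proj {K C : Subgroup G} (hn : C ≤ normalizer (K : Set G)) (e : STop K ≃* L) {g : G}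
    (hg : g ∈ C) (x : Bar K) : rho hn e ⟨g, hg⟩ (proj e x) = proj e (actBar K ⟨g, hn hg⟩ x) := by
  change e (act K ⟨g, hn hg⟩ (e.symm (e (QuotientGroup.mk x)))) = _
  rw [e.symm_apply_apply]
  rfl

theorem rho_eq_one_iff {K C : Subgroup G} (hn : C ≤ normalizer (K : Set G)) (e : STop K ≃* L)
    (hq : IsQuasisimple (Bar K)) {g : G} (hg : g ∈ C) : rho hn e ⟨g, hg⟩ = 1 ↔ Fixes g K := by
  rw [← act_eq_one_iff hq (hn hg)]
  exact map_eq_one_iff (MulAut.congr e) (MulAut.congr e).injective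

theorem rho_of_mem {K C : Subgroup G} (hn : C ≤ normalizer (K : Set G)) (e : STop K ≃* L) (k : K)
    (hk : (k : G) ∈ C) : rho hn e ⟨k, hk⟩ = MulAut.conj (e (topMap K k)) := by
  change MulAut.congr e (act K ⟨k, hn hk⟩) = _
  rw [act_of_mem k]
  ext x
  change e (MulAut.conj (topMap K k) (e.symm x)) = _
  rw [MulAut.conj_apply, MulAut.conj_apply, map_mul, map_mul, map_inv, e.apply_symm_apply]

/-- The image of `K` is `Inn L`. -/
theorem map_rho {K C : Subgroup G} (hKC : K ≤ C) (hn : C ≤ normalizer (K : Set G))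
    (e : STop K ≃* L) :
    (K.subgroupOf C).map (rho hn e) = (MulAut.conj : L →* MulAut L).range := by
  ext φ
  constructor
  · rintro ⟨⟨k, hk⟩, hkK, rfl⟩
    exact ⟨e (topMap K ⟨k, hkK⟩), (rho_of_mem hn e ⟨k, hkK⟩ hk).symm⟩
  · rintro ⟨l, rfl⟩
    obtain ⟨x, rfl⟩ := e.surjective l
    obtain ⟨k, rfl⟩ := topMap_surjective K x
    exact ⟨⟨k, hKC k.2⟩, k.2, rho_of_mem hn e k (hKC k.2)⟩

theorem range_le {K C : Subgroup G} (hKC : K ≤ C) (hn : C ≤ normalizer (K : Set G))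
    (e : STop K ≃* L) : (MulAut.conj : L →* MulAut L).range ≤ (rho hn e).range := by
  rw [← map_rho hKC hn e]
  exact (Subgroup.map_mono le_top).trans (MonoidHom.range_eq_map _).ge

end action

/-! ### no bad automorphisms -/

section nobad

variable {G : Type*} [Group G] [Finite G] {L : Type*} [Group L]

/-- The odd part of an element. -/
theorem exists_two_part {C : Type*} [Group C] [Finite C] (g : C) :
    ∃ m : ℕ, Odd m ∧ ∃ n : ℕ, (g ^ m) ^ 2 ^ n = 1 := by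
  obtain ⟨k, r, hr, hkr⟩ := Nat.exists_eq_two_pow_mul_odd (orderOf_pos g).ne'
  refine ⟨r, hr, k, ?_⟩
  rw [← pow_mul, mul_comm, ← hkr, pow_orderOf_eq_one]

/-- **(I.4)**: no bad automorphism of `L` is induced by `C(z)`. -/
theorem not_bad (h4 : SectionalPRankLE 2 4 G) {z : G} {K : Subgroup G} (c : Comp2 z K)
    (hzK : z ∈ K) (hn : centralizer ({z} : Set G) ≤ normalizer (K : Set G))
    (hfix : ∀ g ∈ centralizer ({z} : Set G), (∃ n : ℕ, g ^ 2 ^ n = 1) → Fixes g K → g = 1 ∨ g = z)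
    (D : LieData.Core L) (e : STop K ≃* L)
    (hQQ : ∀ (α : MulAut (Bar K)) (φ : MulAut L), (∀ x, proj e (α x) = φ (proj e x)) →
      LieData.Bad D φ → ∃ I₁ J₁ I₂ J₂ z₁ z₂ : Bar K,
        QQ (QuotientGroup.mk ⟨z, hzK⟩ : Bar K) α I₁ J₁ I₂ J₂ z₁ z₂)
    (g : centralizer ({z} : Set G)) : ¬ LieData.Bad D (rho hn e g) := by
  intro hbad
  obtain ⟨m, hm, n, hmn⟩ := exists_two_part g
  obtain ⟨φ, hφ⟩ : ∃ φ, φ = rho hn e g := ⟨_, rfl⟩
  have hφ2 : φ * φ = 1 := by rw [hφ]; exact hbad.1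
  have hu : rho hn e (g ^ m) = φ := by
    rw [map_pow, ← hφ]
    obtain ⟨k, rfl⟩ := hm
    rw [pow_succ, pow_mul, pow_two, hφ2, one_pow, one_mul]
  rw [← hφ] at hbad
  obtain ⟨u, hu'⟩ : ∃ u : G, u = ((g ^ m : centralizer ({z} : Set G)) : G) := ⟨_, rfl⟩
  have huC : u ∈ centralizer ({z} : Set G) := by rw [hu']; exact (g ^ m).2
  have huφ : rho hn e ⟨u, huC⟩ = φ := by
    have : (⟨u, huC⟩ : centralizer ({z} : Set G)) = g ^ m := Subtype.ext hu'
    rw [this, hu]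
  have hun : u ^ 2 ^ n = 1 := by
    rw [hu']
    exact congrArg Subtype.val hmn
  have huu : u * u = 1 ∨ u * u = z := by
    refine hfix _ (mul_mem huC huC) ⟨n, ?_⟩ ?_
    · rw [← pow_two, ← pow_mul, mul_comm, pow_mul, hun, one_pow]
    · rw [← rho_eq_one_iff hn e (quasisimple c.comp) (mul_mem huC huC)]
      have : (⟨u * u, mul_mem huC huC⟩ : centralizer ({z} : Set G)) = ⟨u, huC⟩ * ⟨u, huC⟩ := rfl
      rw [this, map_mul, huφ, hφ2]
  have huK : u ∉ K := by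
    intro h
    apply hbad.2.1
    exact ⟨e (topMap K ⟨u, h⟩), by
      rw [← huφ]
      exact (rho_of_mem hn e ⟨u, h⟩ huC).symm⟩
  obtain ⟨I₁, J₁, I₂, J₂, z₁, z₂, q⟩ := hQQ (actBar K ⟨u, hn huC⟩) φ (fun x => by
    rw [← huφ]
    exact (rho_proj hn e huC x).symm) hbad
  exact false_of_qq h4 c hzK huC (hn huC) huu huK q

end nobad

/-! ### the index of `K` -/

section index

variable {G : Type*} [Group G] [Finite G] {L : Type*} [Group L]

/-- **(I.4), the index.** -/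
theorem not_four_dvd {K C : Subgroup G} (hKC : K ≤ C) (hn : C ≤ normalizer (K : Set G))
    (hq : IsQuasisimple (Bar K)) (e : STop K ≃* L)
    (hfix : ∀ g ∈ C, (∃ n : ℕ, g ^ 2 ^ n = 1) → Fixes g K → g ∈ K)
    (hout : ¬ 4 ∣ (MulAut.conj : L →* MulAut L).range.relIndex (rho hn e).range) :
    ¬ 4 ∣ K.relIndex C := by
  have hp : Fact (Nat.Prime 2) := ⟨Nat.prime_two⟩
  obtain ⟨K', hK'⟩ : ∃ K', K' = K.subgroupOf C := ⟨_, rfl⟩
  obtain ⟨ρ, hρ⟩ : ∃ ρ, ρ = rho hn e := ⟨_, rfl⟩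
  rw [← hρ] at hout
  have h1 : (K' ⊔ ρ.ker).index = (MulAut.conj : L →* MulAut L).range.relIndex ρ.range := by
    rw [← index_comap, ← map_rho hKC hn e, ← hK', ← hρ, comap_map_eq]
  have h2 : K'.relIndex (K' ⊔ ρ.ker) * (K' ⊔ ρ.ker).index = K'.index :=
    relIndex_mul_index le_sup_left
  have hKn : K'.Normal := by
    rw [hK']
    exact normal_subgroupOf_of_le_normalizer hn
  have h3 : ¬ 2 ∣ K'.relIndex (K' ⊔ ρ.ker) := by
    rw [relIndex_sup_left]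
    obtain ⟨P⟩ : Nonempty (Sylow 2 ρ.ker) := inferInstance
    intro h
    apply P.not_dvd_index
    refine h.trans ?_
    have h4 : (P : Subgroup ρ.ker) ≤ K'.subgroupOf ρ.ker := by
      intro x hx
      have hxC : ((x : C) : G) ∈ C := (x : C).2
      have h5 : ((x : C) : G) ∈ K := by
        refine hfix _ hxC ?_ ?_
        · obtain ⟨n, hn'⟩ := P.isPGroup' ⟨x, hx⟩
          refine ⟨n, ?_⟩
          have := congrArg (fun y : P => (((y : ρ.ker) : C) : G)) hn'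
          simpa using this
        · have h6 : rho hn e (x : C) = 1 := by rw [← hρ]; exact x.2
          exact (rho_eq_one_iff hn e hq hxC).mp h6
      change (x : C) ∈ K'
      rw [hK']
      exact h5
    exact index_dvd_of_le h4
  intro h4
  apply hout
  rw [← h1]
  have h5 : 4 ∣ K'.relIndex (K' ⊔ ρ.ker) * (K' ⊔ ρ.ker).index := by
    rw [h2, hK']
    exact h4
  have h6 : Nat.Coprime 4 (K'.relIndex (K' ⊔ ρ.ker)) := by
    have : Nat.Coprime (2 ^ 2) (K'.relIndex (K' ⊔ ρ.ker)) :=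
      ((Nat.Prime.coprime_iff_not_dvd Nat.prime_two).mpr h3).pow_left 2
    exact this
  exact h6.dvd_of_dvd_mul_left h5

/-- **(P5)**: the index of `K` in `C(z)` is not divisible by 4. -/
theorem idx (h4 : SectionalPRankLE 2 4 G) {z : G} {K : Subgroup G} (c : Comp2 z K)
    (hzK : z ∈ K) (hn : centralizer ({z} : Set G) ≤ normalizer (K : Set G))
    (hfix : ∀ g ∈ centralizer ({z} : Set G), (∃ n : ℕ, g ^ 2 ^ n = 1) → Fixes g K → g = 1 ∨ g = z)
    (D : LieData.Data L) (e : STop K ≃* L)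
    (hQQ : ∀ (α : MulAut (Bar K)) (φ : MulAut L), (∀ x, proj e (α x) = φ (proj e x)) →
      LieData.Bad D.toCore φ → ∃ I₁ J₁ I₂ J₂ z₁ z₂ : Bar K,
        QQ (QuotientGroup.mk ⟨z, hzK⟩ : Bar K) α I₁ J₁ I₂ J₂ z₁ z₂) :
    ¬ 4 ∣ K.relIndex (centralizer ({z} : Set G)) := by
  refine not_four_dvd c.comp.le hn (quasisimple c.comp) e ?_
    (D.out _ (range_le c.comp.le hn e) ?_)
  · intro g hg h1 h2
    rcases hfix g hg h1 h2 with h | h
    · rw [h]; exact K.one_mem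
    · rw [h]; exact hzK
  · rintro φ ⟨g, rfl⟩
    exact not_bad h4 c hzK hn hfix D.toCore e hQQ g

end index

end Cfsg.Agent.GH.Cov.NoBad
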