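import Cfsg.Agent.GH.Cov.NoBad
import Cfsg.Agent.GH.Cov.XTypes

/-!
# GH-COV (P5): plugging `XTypes.bad_fix` into `NoBad`
-/

set_option autoImplicit false

open Cfsg Subgroup
open Cfsg.Agent.Intrinsic.Basic Cfsg.Agent.GH.Defs Cfsg.Agent.GH.Rank Cfsg.Agent.GH.Comp
open Cfsg.Agent.GH.L2Frame
open Cfsg.Agent.GH.Cov.LieData Cfsg.Agent.GH.Cov.Lft Cfsg.Agent.GH.Cov.XOfCore
open Cfsg.Agent.GH.Cov.XTypes Cfsg.Agent.GH.Cov.NoBad

namespace Cfsg.Agent.GH.Cov.NoBadCtx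

variable {X L : Type*} [Group X] [Group L] {D : Core L} {π : X →* L} {z : X}

theorem exists_qq [Finite X] (h : Ctx D π z) {α : MulAut X} {φ : MulAut L}
    (hα : ∀ x, π (α x) = φ (π x)) (hb : Bad D φ) :
    ∃ I₁ J₁ I₂ J₂ z₁ z₂ : X, QQ z α I₁ J₁ I₂ J₂ z₁ z₂ := by
  obtain ⟨χ, c, hz, f1, f2, -, f3, f4, -⟩ := bad_fix h hα hb
  have h' : Ctx D (tw χ π) z := h.tw χ
  have hc := fun {x y : X} (hx : x ∈ Lft (tw χ π) D.A₁) (hy : y ∈ Lft (tw χ π) D.A₂) =>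
    XCore.comm h'.cext hx hy
  refine ⟨c.I₁, c.J₁, c.I₂, c.J₂, c.z₁, c.z₂, ?_⟩
  exact
    { ii₁ := c.trip₁.ii
      jj₁ := c.trip₁.jj
      ji₁ := c.trip₁.ji
      ii₂ := c.trip₂.ii
      jj₂ := c.trip₂.jj
      ji₂ := c.trip₂.ji
      cII := hc c.I₁_mem c.I₂_mem
      cIJ := hc c.I₁_mem c.J₂_mem
      cJI := hc c.J₁_mem c.I₂_mem
      cJJ := hc c.J₁_mem c.J₂_mem
      sq₁ := c.sq₁
      prod := hz
      ne := c.z₁_ne
      ne' := by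
        intro e
        apply c.z₂_ne
        have h1 : c.z₁ * c.z₂ = c.z₁ * 1 := by rw [hz, mul_one, e]
        exact mul_left_cancel h1
      fI₁ := f1
      fJ₁ := f2
      fI₂ := f3
      fJ₂ := f4 }

variable {G : Type*} [Group G] [Finite G]

/-- **(I.4)** -/
theorem not_bad (h4 : SectionalPRankLE 2 4 G) {t : G} {K : Subgroup G} (c : Comp2 t K)
    (htK : t ∈ K) (hn : centralizer ({t} : Set G) ≤ normalizer (K : Set G))
    (hfix : ∀ g ∈ centralizer ({t} : Set G), (∃ n : ℕ, g ^ 2 ^ n = 1) → Fixes g K → g = 1 ∨ g = t)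
    (e : STop K ≃* L) (hctx : Ctx D (proj e) (QuotientGroup.mk ⟨t, htK⟩ : Bar K))
    (g : centralizer ({t} : Set G)) : ¬ Bad D (rho hn e g) :=
  NoBad.not_bad h4 c htK hn hfix D e (fun _ _ hα hb => exists_qq hctx hα hb) g

/-- **(P5)** -/
theorem idx (h4 : SectionalPRankLE 2 4 G) {t : G} {K : Subgroup G} (c : Comp2 t K)
    (htK : t ∈ K) (hn : centralizer ({t} : Set G) ≤ normalizer (K : Set G))
    (hfix : ∀ g ∈ centralizer ({t} : Set G), (∃ n : ℕ, g ^ 2 ^ n = 1) → Fixes g K → g = 1 ∨ g = t)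
    (D : Data L) (e : STop K ≃* L)
    (hctx : Ctx D.toCore (proj e) (QuotientGroup.mk ⟨t, htK⟩ : Bar K)) :
    ¬ 4 ∣ K.relIndex (centralizer ({t} : Set G)) :=
  NoBad.idx h4 c htK hn hfix D e (fun _ _ hα hb => exists_qq hctx hα hb)

end Cfsg.Agent.GH.Cov.NoBadCtx
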