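import Mathlib
import Cfsg.Agent.GH.Cov.LieData
import Cfsg.Agent.GH.Cov.SLTwoFacts

/-!
# `SL(2, q)`: the facts used by `LieData.Core`

* `trip_of` : the image of the `SL(2,3)` of `SLFacts` is a `LieData.Trip`.
* `gen_of` : images of `SL(2,F)` are generated by elements of odd order.
* `comm_of_comm` : centralizers of noncentral elements of `SL(2,F)` are commutative.
* `exists_sl'` : `exists_sl` with `c = -1`.
-/

set_option autoImplicit false

namespace Cfsg.Agent.GH.Cov.SLTwoGen

open Matrix Subgroup SLTwoFacts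

theorem trip_of {A L : Type*} [Group A] [Group L] {c i j w : A} (h : SLFacts c i j w) (f : A →* L) :
    LieData.Trip (f c) (f i) (f j) (f w) where
  ii := by rw [← map_mul, h.ii]
  jj := by rw [← map_mul, h.jj]
  ji := by
    have h1 : i⁻¹ = c * i := by
      rw [inv_eq_iff_mul_eq_one, ← mul_assoc, ← h.central, mul_assoc, h.ii, h.cc]
    have h2 := h.rel.hji
    rw [mul_inv_eq_iff_eq_mul, h1] at h2
    rw [← map_mul, ← map_mul, ← map_mul, h2, mul_assoc]
  d3 := by
    have h1 := h.w3
    rw [pow_succ, pow_two] at h1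
    rw [← map_mul, ← map_mul, h1, map_one]
  di := by rw [← map_mul, ← map_inv, ← map_mul, h.rel.hti]
  dj := by rw [← map_mul, ← map_mul, ← map_inv, ← map_mul, h.rel.htj]

variable {F : Type*} [Field F]

theorem exists_sl' [Fintype F] (hF : Odd (Fintype.card F)) :
    ∃ i j w : SpecialLinearGroup (Fin 2) F, SLFacts (-1) i j w := by
  obtain ⟨c, i, j, w, h⟩ := exists_sl hF
  have h2 := two_ne_zero_of_odd hF
  have hc : (-1 : SpecialLinearGroup (Fin 2) F) = c := by
    have h1 : (-1 : SpecialLinearGroup (Fin 2) F) * -1 = 1 := by rw [neg_mul_neg, one_mul]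
    refine (h.uniq _ h1).resolve_left ?_
    intro e
    have h3 := congrArg (fun M : SpecialLinearGroup (Fin 2) F =>
      (M : Matrix (Fin 2) (Fin 2) F) 0 0) e
    simp only [LieClassical.SLTwoSylowTwo.coe_neg_one] at h3
    simp at h3
    apply h2
    linear_combination (-1 : F) * h3
  subst hc
  exact ⟨i, j, w, h⟩

theorem U_pow (a : F) (n : ℕ) : ClassificationK.SLTwoAction.U a ^ n =
    ClassificationK.SLTwoAction.U ((n : F) * a) := by
  induction n with
  | zero =>
    rw [pow_zero, Nat.cast_zero, zero_mul]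
    apply Subtype.ext
    change (1 : Matrix (Fin 2) (Fin 2) F) = !![1, 0; 0, 1]
    exact Matrix.one_fin_two
  | succ n ih =>
    rw [pow_succ, ih]
    apply Subtype.ext
    change !![1, (n : F) * a; 0, 1] * !![1, a; 0, 1] = !![1, ((n + 1 : ℕ) : F) * a; 0, 1]
    rw [Matrix.mul_fin_two]
    push_cast
    ext i j
    fin_cases i <;> fin_cases j <;> simp <;> ring

theorem L_pow (a : F) (n : ℕ) : ClassificationK.SLTwoAction.L a ^ n =
    ClassificationK.SLTwoAction.L ((n : F) * a) := by
  induction n with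
  | zero =>
    rw [pow_zero, Nat.cast_zero, zero_mul]
    apply Subtype.ext
    change (1 : Matrix (Fin 2) (Fin 2) F) = !![1, 0; 0, 1]
    exact Matrix.one_fin_two
  | succ n ih =>
    rw [pow_succ, ih]
    apply Subtype.ext
    change !![1, 0; (n : F) * a, 1] * !![1, 0; a, 1] = !![1, 0; ((n + 1 : ℕ) : F) * a, 1]
    rw [Matrix.mul_fin_two]
    push_cast
    ext i j
    fin_cases i <;> fin_cases j <;> simp <;> ring

theorem exists_char_odd [Fintype F] (hF : Odd (Fintype.card F)) :
    ∃ p : ℕ, Odd p ∧ (p : F) = 0 := by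
  obtain ⟨p, hp⟩ := CharP.exists F
  have hprime : p.Prime := CharP.char_is_prime F p
  refine ⟨p, ?_, CharP.cast_eq_zero F p⟩
  rcases hprime.eq_two_or_odd' with rfl | h
  · exfalso
    apply two_ne_zero_of_odd hF
    exact_mod_cast CharP.cast_eq_zero F 2
  · exact h

theorem gen_of [Fintype F] (hF : Odd (Fintype.card F)) {L : Type*} [Group L]
    (f : SpecialLinearGroup (Fin 2) F →* L) :
    f.range ≤ closure {a : L | a ∈ f.range ∧ Odd (orderOf a)} := by
  obtain ⟨p, hp, hp0⟩ := exists_char_odd hF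
  have hodd : ∀ g : SpecialLinearGroup (Fin 2) F, g ^ p = 1 → Odd (orderOf (f g)) := by
    intro g hg
    have h1 : orderOf (f g) ∣ p := by
      apply orderOf_dvd_of_pow_eq_one
      rw [← map_pow, hg, map_one]
    exact Odd.of_dvd_nat hp h1
  have hUone : ClassificationK.SLTwoAction.U (0 : F) = 1 := by
    have := U_pow (0 : F) 0
    rw [pow_zero, Nat.cast_zero, zero_mul] at this
    exact this.symm
  have hLone : ClassificationK.SLTwoAction.L (0 : F) = 1 := by
    have := L_pow (0 : F) 0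
    rw [pow_zero, Nat.cast_zero, zero_mul] at this
    exact this.symm
  rintro _ ⟨g, rfl⟩
  have hmem := ClassificationK.SLTwoAction.mem_of_elem
    ((closure {a : L | a ∈ f.range ∧ Odd (orderOf a)}).comap f) ?_ ?_ g
  · exact hmem
  · intro c
    refine subset_closure ⟨⟨_, rfl⟩, hodd _ ?_⟩
    rw [U_pow, hp0, zero_mul, hUone]
  · intro c
    refine subset_closure ⟨⟨_, rfl⟩, hodd _ ?_⟩
    rw [L_pow, hp0, zero_mul, hLone]

/-- Matrices commuting with a nonscalar `2 × 2` matrix. -/
theorem exists_lin {h a : Matrix (Fin 2) (Fin 2) F}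
    (hne : h 0 1 ≠ 0 ∨ h 1 0 ≠ 0 ∨ h 0 0 - h 1 1 ≠ 0) (ha : a * h = h * a) :
    ∃ l : F, a 0 1 = l * h 0 1 ∧ a 1 0 = l * h 1 0 ∧ a 0 0 - a 1 1 = l * (h 0 0 - h 1 1) := by
  have h00 := congrFun (congrFun ha 0) 0
  have h01 := congrFun (congrFun ha 0) 1
  have h10 := congrFun (congrFun ha 1) 0
  simp only [Matrix.mul_apply, Fin.sum_univ_two] at h00 h01 h10
  rcases hne with hq | hr | hs
  · refine ⟨a 0 1 / h 0 1, ?_, ?_, ?_⟩
    · field_simp
    · field_simp
      linear_combination -h00
    · field_simp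
      linear_combination h01
  · refine ⟨a 1 0 / h 1 0, ?_, ?_, ?_⟩
    · field_simp
      linear_combination h00
    · field_simp
    · field_simp
      linear_combination -h10
  · refine ⟨(a 0 0 - a 1 1) / (h 0 0 - h 1 1), ?_, ?_, ?_⟩
    · field_simp
      linear_combination -h01
    · field_simp
      linear_combination h10
    · field_simp

theorem comm_of_comm' {h a b : Matrix (Fin 2) (Fin 2) F}
    (hne : h 0 1 ≠ 0 ∨ h 1 0 ≠ 0 ∨ h 0 0 - h 1 1 ≠ 0) (ha : a * h = h * a) (hb : b * h = h * b) :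
    a * b = b * a := by
  obtain ⟨l, hl1, hl2, hl3⟩ := exists_lin hne ha
  obtain ⟨m, hm1, hm2, hm3⟩ := exists_lin hne hb
  ext i j
  fin_cases i <;> fin_cases j <;>
    simp only [Matrix.mul_apply, Fin.sum_univ_two, Fin.zero_eta, Fin.mk_one, Fin.isValue]
  · rw [hl1, hl2, hm1, hm2]; ring
  · rw [hl1, hm1]; linear_combination (h 0 1) * m * hl3 - (h 0 1) * l * hm3
  · rw [hl2, hm2]; linear_combination (-(h 1 0) * m) * hl3 + (h 1 0) * l * hm3
  · rw [hl1, hl2, hm1, hm2]; ring

theorem comm_of_comm {h a b : SpecialLinearGroup (Fin 2) F} (hne : h * h ≠ 1)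
    (ha : a * h = h * a) (hb : b * h = h * b) : a * b = b * a := by
  apply Subtype.ext
  refine comm_of_comm' (h := (h : Matrix (Fin 2) (Fin 2) F)) ?_ (congrArg Subtype.val ha)
    (congrArg Subtype.val hb)
  by_contra hcon
  push Not at hcon
  obtain ⟨h1, h2, h3⟩ := hcon
  apply hne
  have hd := h.2
  rw [Matrix.det_fin_two, h1, zero_mul, sub_zero] at hd
  have h4 : h.1 1 1 = h.1 0 0 := by linear_combination -h3
  rw [h4] at hd
  apply Subtype.ext
  change (h.1 * h.1) = 1
  ext i j
  fin_cases i <;> fin_cases j <;>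
    simp only [Matrix.mul_apply, Fin.sum_univ_two, Fin.zero_eta, Fin.mk_one, Fin.isValue, h1, h2,
      h4, Matrix.one_apply_eq]
  · linear_combination hd
  · rw [Matrix.one_apply_ne (by decide)]; ring
  · rw [Matrix.one_apply_ne (by decide)]; ring
  · linear_combination hd

end Cfsg.Agent.GH.Cov.SLTwoGen
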