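import Cfsg.Agent.StdSz.CoverD
import Cfsg.Agent.GH.Rank

/-!
# GH-COV: perfect central extensions of `Sz(q)` of sectional 2-rank at most 4

`A` perfect, `A / Z(A) ≅ Sz(q)`, sectional 2-rank of `A` at most 4: at most one involution in `Z(A)`; an automorphism of
2-power order is inner.
-/

set_option autoImplicit false
set_option linter.unusedSectionVars false
set_option linter.style.haveILetI false

namespace Cfsg.Agent.GH.Cov.SzCover

open scoped commutatorElement
open Cfsg.Agent.StdSz Cfsg.Agent.StdSz.FormAlg Cfsg.Agent.StdSz.BorelCoord Cfsg.Agent.StdSz.CoverA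
open Cfsg.Agent.StdSz.CoverC
open Cfsg.Agent.LieRecognition Cfsg.Agent

variable {A : Type*} [Group A] [Finite A]

/-- an automorphism of 2-power order is inner. -/
theorem exists_inner (hp : commutator A = ⊤) {F : Type*} [Field F] [Fintype F]
    {m : ℕ} (hm : 1 ≤ m) (hF : Fintype.card F = 2 ^ (2 * m + 1))
    (e : A ⧸ Subgroup.center A ≃* ↥(Cfsg.Lie.Sz F (2 ^ (m + 1)))) (α : MulAut A) {k : ℕ}
    (hk : α ^ 2 ^ k = 1) : ∃ a : A, ∀ x, α x = a * x * a⁻¹ := by
  have := EquivMaps.charP_two hF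
  let R0 : ThreePrime.SzRel.Rel ↥(Cfsg.Lie.Sz F (2 ^ (m + 1))) F :=
    ThreePrime.SzRel.ofGood (SzMatrix.good hF)
  let R : ThreePrime.SzRel.Rel (A ⧸ Subgroup.center A) F := R0.map e.symm
  obtain ⟨j, hj⟩ := R.inner hm hF (ind α) ⟨k, ind_pow_eq_one α _ hk⟩
  obtain ⟨a, rfl⟩ := QuotientGroup.mk'_surjective _ j
  refine ⟨a, fun x => ?_⟩
  let β : MulAut A := (MulAut.conj a)⁻¹ * α
  have hβ : ∀ y : A, β y = a⁻¹ * α y * a := by
    intro y
    show (MulAut.conj a)⁻¹ (α y) = _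
    rw [MulAut.inv_apply, MulAut.conj_symm_apply]
  have h1 := eq_of_mod_center hp β (by
    intro y
    rw [hβ]
    have h2 : ind α (QuotientGroup.mk' (Subgroup.center A) y) =
        MulAut.conj (QuotientGroup.mk' (Subgroup.center A) a)
          (QuotientGroup.mk' (Subgroup.center A) y) := by rw [hj]
    rw [ind_mk, MulAut.conj_apply] at h2
    have h3 : QuotientGroup.mk' (Subgroup.center A) (a⁻¹ * α y * a * y⁻¹) = 1 := by
      rw [map_mul, map_mul, map_mul, h2, map_inv, map_inv]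
      group
    rwa [← MonoidHom.mem_ker, QuotientGroup.ker_mk'] at h3) x
  rw [hβ] at h1
  calc α x = a * (a⁻¹ * α x * a) * a⁻¹ := by group
    _ = a * x * a⁻¹ := by rw [h1]

/-- The basic data: a Sylow 2-subgroup `P` of `A` over the standard one of `Sz(q)`. -/
structure Base {F : Type*} [Field F] [Fintype F] {m : ℕ}
    (hF : Fintype.card F = 2 ^ (2 * m + 1)) (π : A →* ↥(Cfsg.Lie.Sz F (2 ^ (m + 1))))
    (P : Subgroup A) : Prop where
  surj : Function.Surjective π
  ker : ∀ x : A, π x = 1 ↔ x ∈ Subgroup.center A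
  two : IsPGroup 2 P
  odd : Odd P.index
  mem : ∀ x, x ∈ P ↔ (∃ a b, π x = (szData hF).p a b) ∧ ∃ k : ℕ, x ^ 2 ^ k = 1
  lift : ∀ a b, ∃ x ∈ P, π x = (szData hF).p a b
  max : ∀ Y : Subgroup ↥(Cfsg.Lie.Sz F (2 ^ (m + 1))), IsPGroup 2 Y →
    (∀ a b, (szData hF).p a b ∈ Y) → ∀ y ∈ Y, ∃ a b, y = (szData hF).p a b

theorem exists_base {F : Type*} [Field F] [Fintype F]
    {m : ℕ} (hm : 1 ≤ m) (hF : Fintype.card F = 2 ^ (2 * m + 1))
    (e : A ⧸ Subgroup.center A ≃* ↥(Cfsg.Lie.Sz F (2 ^ (m + 1)))) :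
    ∃ (π : A →* ↥(Cfsg.Lie.Sz F (2 ^ (m + 1)))) (P : Subgroup A), Base hF π P := by
  classical
  have := EquivMaps.charP_two hF
  have : Fact (Nat.Prime 2) := ⟨Nat.prime_two⟩
  let π : A →* ↥(Cfsg.Lie.Sz F (2 ^ (m + 1))) := e.toMonoidHom.comp (QuotientGroup.mk' _)
  have hπsurj : Function.Surjective π :=
    e.surjective.comp (QuotientGroup.mk'_surjective _)
  have hπker : ∀ x : A, π x = 1 ↔ x ∈ Subgroup.center A := by
    intro x
    have h1 : π x = e (QuotientGroup.mk' (Subgroup.center A) x) := rfl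
    rw [h1, map_eq_one_iff e e.injective, ← MonoidHom.mem_ker, QuotientGroup.ker_mk']
  have hπcen : ∀ x : A, π x = 1 → ∀ y, x * y = y * x := fun x hx y =>
    (Subgroup.mem_center_iff.mp ((hπker x).mp hx) y).symm
  let C : Data m F ↥(Cfsg.Lie.Sz F (2 ^ (m + 1))) := szData hF
  let R0 : ThreePrime.SzRel.Rel ↥(Cfsg.Lie.Sz F (2 ^ (m + 1))) F :=
    ThreePrime.SzRel.ofGood (SzMatrix.good hF)
  have hT0 : ∀ x, x ∈ R0.T ↔ ∃ a b, x = C.p a b := by
    intro x
    constructor
    · rintro ⟨a, b, rfl⟩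
      refine ⟨a, b + a * SzMatrix.theta hF a, ?_⟩
      show (SzMatrix.good hF).u a b = (SzMatrix.good hF).u a _
      rw [add_assoc, CharTwo.add_self_eq_zero, add_zero]
    · rintro ⟨a, b, rfl⟩
      exact ⟨a, b + a * SzMatrix.theta hF a, rfl⟩
  obtain ⟨Sy, hSy⟩ := R0.exists_sylow_eq hm hF
  have hT0odd : Odd R0.T.index := by
    rw [← hSy, ← Nat.not_even_iff_odd, even_iff_two_dvd]
    exact Sy.not_dvd_index
  obtain ⟨P, P2, Podd, Pmem, Psurj⟩ := exists_sylow_over π hπsurj hπcen R0.T R0.isPGroup hT0odd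
  refine ⟨π, P, hπsurj, hπker, P2, Podd, ?_, fun a b => Psurj _ ((hT0 _).mpr ⟨a, b, rfl⟩), ?_⟩
  · intro x
    rw [Pmem, hT0]
  · intro Y hY hle y hy
    have h1 : (Sy : Subgroup _) ≤ Y := by
      rw [hSy]
      intro j hj
      obtain ⟨a, b, rfl⟩ := (hT0 j).mp hj
      exact hle a b
    have h2 := Sy.is_maximal' hY h1
    rw [← hT0, ← hSy, ← h2]
    exact hy

namespace Base

variable {F : Type*} [Field F] [Fintype F] {m : ℕ} {hF : Fintype.card F = 2 ^ (2 * m + 1)}
  {π : A →* ↥(Cfsg.Lie.Sz F (2 ^ (m + 1)))} {P : Subgroup A}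

theorem cen (B : Base hF π P) : ∀ x : A, π x = 1 → ∀ y, x * y = y * x := fun x hx y =>
  (Subgroup.mem_center_iff.mp ((B.ker x).mp hx) y).symm

theorem tor_P (B : Base hF π P) : ∀ g l, π g = (szData hF).h l → ∀ x ∈ P, g * x * g⁻¹ ∈ P := by
  intro g l hg x hx
  obtain ⟨⟨a, b, hab⟩, k, hk⟩ := (B.mem x).mp hx
  refine (B.mem _).mpr ⟨?_, k, by rw [conj_pow, hk, mul_one, mul_inv_cancel]⟩
  rw [map_mul, map_mul, map_inv, hg, hab, (szData hF).h_p]
  exact ⟨_, _, rfl⟩

/-- The cover data, if there is only one involution in the centre. -/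
theorem cov (B : Base hF π P) {t : A} (ht1 : t ≠ 1) (ht : t * t = 1)
    (htc : t ∈ Subgroup.center A)
    (hu : ∀ z ∈ Subgroup.center A, z * z = 1 → z = 1 ∨ z = t) : Cov (szData hF) π P t where
  cen := B.cen
  to_p := fun x hx => ((B.mem x).mp hx).1
  from_p := B.lift
  tor := fun _ => B.surj _
  tor_P := B.tor_P
  t_mem := (B.mem _).mpr ⟨⟨0, 0, by rw [(B.ker _).mpr htc, (szData hF).p_zero]⟩, 1, by
    rw [pow_one, sq, ht]⟩
  t_one := ht1
  t_sq := ht
  t_ker := (B.ker _).mpr htc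
  uniq := fun x _ hx1 hx2 => hu x ((B.ker x).mp hx1) hx2

/-- The preimage of the centre of the Sylow 2-subgroup of `Sz(q)`. -/
def Z0 (_B : Base hF π P) : Subgroup A where
  carrier := {x | x ∈ P ∧ ∃ b, π x = (szData hF).p 0 b}
  one_mem' := ⟨one_mem _, 0, by rw [map_one, (szData hF).p_zero]⟩
  mul_mem' := by
    rintro x y ⟨hx, b, hb⟩ ⟨hy, c, hc⟩
    exact ⟨mul_mem hx hy, b + c, by rw [map_mul, hb, hc, (szData hF).p_zero_mul]⟩
  inv_mem' := by
    rintro x ⟨hx, b, hb⟩
    refine ⟨inv_mem hx, b, ?_⟩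
    have := EquivMaps.charP_two hF
    rw [map_inv, hb]
    exact inv_eq_of_mul_eq_one_right (by
      rw [(szData hF).p_zero_mul, CharTwo.add_self_eq_zero, (szData hF).p_zero])

/-- Index 2 subgroups of the centre: squares and commutators of `Z0` avoid `w`. -/
theorem z0_aux (B : Base hF π P) (hm : 1 ≤ m) (Z1 : Subgroup A) (hZ1 : Z1 ≤ Subgroup.center A)
    (w : A) (hwP : w ∈ P) (hwc : w ∈ Subgroup.center A) (hw1 : w ∉ Z1) (hww : w * w ∈ Z1)
    (hcov : ∀ z ∈ P, z ∈ Subgroup.center A → z ∈ Z1 ∨ w⁻¹ * z ∈ Z1) :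
    (∀ x ∈ B.Z0, x * x ∈ Z1) ∧ ∀ x ∈ B.Z0, ∀ y ∈ B.Z0, x * y * x⁻¹ * y⁻¹ ∈ Z1 := by
  have : Z1.Normal := by
    constructor
    intro n hn g
    rw [Subgroup.mem_center_iff.mp (hZ1 hn) g, mul_inv_cancel_right]
    exact hn
  let q := QuotientGroup.mk' Z1
  have hq : ∀ x, q x = 1 ↔ x ∈ Z1 := fun x => QuotientGroup.eq_one_iff x
  let π1 : A ⧸ Z1 →* ↥(Cfsg.Lie.Sz F (2 ^ (m + 1))) := QuotientGroup.lift Z1 π (by
    intro x hx
    exact (B.ker x).mpr (hZ1 hx))
  have hπ1 : ∀ x, π1 (q x) = π x := fun x => rfl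
  have hC : Cov (szData hF) π1 (P.map q) (q w) :=
    { cen := by
        intro x hx y
        obtain ⟨x, rfl⟩ := QuotientGroup.mk'_surjective Z1 x
        obtain ⟨y, rfl⟩ := QuotientGroup.mk'_surjective Z1 y
        rw [← map_mul, ← map_mul, B.cen x hx y]
      to_p := by
        rintro _ ⟨x, hx, rfl⟩
        exact ((B.mem x).mp hx).1
      from_p := by
        intro a b
        obtain ⟨x, hx, h⟩ := B.lift a b
        exact ⟨q x, ⟨x, hx, rfl⟩, h⟩
      tor := by
        intro l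
        obtain ⟨g, hg⟩ := B.surj ((szData hF).h l)
        exact ⟨q g, hg⟩
      tor_P := by
        intro g l hg x hx
        obtain ⟨g, rfl⟩ := QuotientGroup.mk'_surjective Z1 g
        obtain ⟨x, hx, rfl⟩ := hx
        exact ⟨g * x * g⁻¹, B.tor_P g l hg x hx, by simp [q]⟩
      t_mem := ⟨w, hwP, rfl⟩
      t_one := fun h => hw1 ((hq w).mp h)
      t_sq := by rw [← map_mul]; exact (hq _).mpr hww
      t_ker := by rw [hπ1]; exact (B.ker w).mpr hwc
      uniq := by
        rintro _ ⟨x, hx, rfl⟩ hx1 _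
        have hxc : x ∈ Subgroup.center A := (B.ker x).mp hx1
        rcases hcov x hx hxc with h | h
        · left; exact (hq x).mpr h
        · right
          have h2 : q (w⁻¹ * x) = 1 := (hq _).mpr h
          rw [map_mul, map_inv, inv_mul_eq_one] at h2
          exact h2.symm }
  have := EquivMaps.charP_two hF
  obtain ⟨zh, z1, z2, z3, z4⟩ := hC.exists_zh hm hF
  have Z : Cov.IsZh (szData hF) π1 (P.map q) zh := ⟨z1, z2, z3, z4⟩
  have hform : ∀ x ∈ B.Z0, ∃ b, q x = zh b ∨ q x = zh b * q w := by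
    rintro x ⟨hxP, b, hb⟩
    refine ⟨b, ?_⟩
    have h1 : π1 ((zh b)⁻¹ * q x) = 1 := by
      rw [map_mul, map_inv, z2, hπ1, hb, inv_mul_cancel]
    have h2 : (zh b)⁻¹ * q x ∈ P.map q := mul_mem (inv_mem (z1 b)) ⟨x, hxP, rfl⟩
    obtain ⟨y, hy, hyx⟩ := h2
    have h3 : (zh b)⁻¹ * q x = 1 ∨ (zh b)⁻¹ * q x = q w := by
      rw [← hyx] at h1 ⊢
      have hyc : y ∈ Subgroup.center A := (B.ker y).mp h1
      rcases hcov y hy hyc with h | h
      · left; exact (hq y).mpr h
      · right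
        have h2 : q (w⁻¹ * y) = 1 := (hq _).mpr h
        rw [map_mul, map_inv, inv_mul_eq_one] at h2
        exact h2.symm
    rcases h3 with h3 | h3
    · left; rw [inv_mul_eq_one] at h3; exact h3.symm
    · right; rw [← h3]; group
  have hwcen : ∀ y, q w * y = y * q w := fun y => hC.cen _ hC.t_ker y
  have hcomm : ∀ b c, zh b * zh c = zh c * zh b := fun b c => by
    rw [← z3, ← z3, add_comm]
  constructor
  · intro x hx
    obtain ⟨b, hb⟩ := hform x hx
    rw [← hq, map_mul]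
    rcases hb with hb | hb
    · rw [hb, Z.sq]
    · rw [hb]
      calc zh b * q w * (zh b * q w) = zh b * (q w * zh b) * q w := by group
        _ = zh b * zh b * (q w * q w) := by rw [hwcen]; group
        _ = 1 := by rw [Z.sq, hC.t_sq, one_mul]
  · intro x hx y hy
    obtain ⟨b, hb⟩ := hform x hx
    obtain ⟨c, hc⟩ := hform y hy
    have h1 : q x * q y = q y * q x := by
      rcases hb with hb | hb <;> rcases hc with hc | hc <;> rw [hb, hc]
      · exact hcomm b c
      · rw [← mul_assoc, hcomm b c, mul_assoc, mul_assoc, hwcen]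
      · rw [mul_assoc, hwcen, ← mul_assoc, hcomm b c, mul_assoc]
      · calc zh b * q w * (zh c * q w) = zh b * (q w * zh c) * q w := by group
          _ = (zh b * zh c) * (q w * q w) := by rw [hwcen]; group
          _ = (zh c * zh b) * (q w * q w) := by rw [hcomm]
          _ = zh c * (zh b * q w) * q w := by group
          _ = zh c * (q w * zh b) * q w := by rw [hwcen]
          _ = zh c * q w * (zh b * q w) := by group
    rw [← hq]
    calc q (x * y * x⁻¹ * y⁻¹) = q x * q y * (q x)⁻¹ * (q y)⁻¹ := by simp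
      _ = 1 := by rw [h1]; group

/-- the squares of central elements of `P` -/
def sqs (_B : Base hF π P) : Subgroup A where
  carrier := {x | ∃ y ∈ P, y ∈ Subgroup.center A ∧ x = y * y}
  one_mem' := ⟨1, one_mem _, one_mem _, by rw [one_mul]⟩
  mul_mem' := by
    rintro _ _ ⟨x, hx, hxc, rfl⟩ ⟨y, hy, hyc, rfl⟩
    refine ⟨x * y, mul_mem hx hy, mul_mem hxc hyc, ?_⟩
    have := Subgroup.mem_center_iff.mp hxc y
    calc x * x * (y * y) = x * (x * y) * y := by group
      _ = x * (y * x) * y := by rw [this]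
      _ = x * y * (x * y) := by group
  inv_mem' := by
    rintro _ ⟨x, hx, hxc, rfl⟩
    exact ⟨x⁻¹, inv_mem hx, inv_mem hxc, by rw [mul_inv_rev]⟩

/-- an index 2 subgroup of `P ∩ Z(A)` avoiding a non-square -/
theorem exists_avoid (B : Base hF π P) {w : A} (hwP : w ∈ P) (hwc : w ∈ Subgroup.center A)
    (hw : w ∉ B.sqs) : ∃ Z1 : Subgroup A, Z1 ≤ Subgroup.center A ∧ w ∉ Z1 ∧ w * w ∈ Z1 ∧
      ∀ z ∈ P, z ∈ Subgroup.center A → z ∈ Z1 ∨ w⁻¹ * z ∈ Z1 := by
  classical
  let S : Set (Subgroup A) := {Z | B.sqs ≤ Z ∧ Z ≤ P ⊓ Subgroup.center A ∧ w ∉ Z}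
  have hS : B.sqs ∈ S := by
    refine ⟨le_rfl, ?_, hw⟩
    rintro _ ⟨x, hx, hxc, rfl⟩
    exact ⟨mul_mem hx hx, mul_mem hxc hxc⟩
  obtain ⟨Z1, hZ1⟩ := (Set.toFinite S).exists_maximal ⟨_, hS⟩
  have h1 : B.sqs ≤ Z1 := hZ1.prop.1
  have h2 : Z1 ≤ P ⊓ Subgroup.center A := hZ1.prop.2.1
  have h3 : w ∉ Z1 := hZ1.prop.2.2
  refine ⟨Z1, h2.trans inf_le_right, h3, h1 ⟨w, hwP, hwc, rfl⟩, ?_⟩
  intro z hz hzc
  by_contra hcon
  push Not at hcon
  have hzz : z * z ∈ Z1 := h1 ⟨z, hz, hzc, rfl⟩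
  have hcz := fun g => Subgroup.mem_center_iff.mp hzc g
  let Z2 : Subgroup A :=
    { carrier := {y | y ∈ Z1 ∨ z⁻¹ * y ∈ Z1}
      one_mem' := Or.inl (one_mem _)
      mul_mem' := by
        rintro x y (hx | hx) (hy | hy)
        · exact Or.inl (mul_mem hx hy)
        · right
          have : z⁻¹ * (x * y) = x * (z⁻¹ * y) := by
            have h5 : z⁻¹ * x = x * z⁻¹ := by
              rw [inv_mul_eq_iff_eq_mul, ← mul_assoc, ← hcz, mul_inv_cancel_right]
            rw [← mul_assoc, h5, mul_assoc]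
          rw [this]
          exact mul_mem hx hy
        · right
          rw [← mul_assoc]
          exact mul_mem hx hy
        · left
          have : x * y = (z * z) * ((z⁻¹ * x) * (z⁻¹ * y)) := by
            have h5 : z * (z⁻¹ * x) = (z⁻¹ * x) * z := (hcz _).symm
            calc x * y = z * (z⁻¹ * x) * y := by group
              _ = z * ((z⁻¹ * x) * z) * (z⁻¹ * y) := by group
              _ = z * (z * (z⁻¹ * x)) * (z⁻¹ * y) := by rw [h5]
              _ = _ := by group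
          rw [this]
          exact mul_mem hzz (mul_mem hx hy)
      inv_mem' := by
        rintro x (hx | hx)
        · exact Or.inl (inv_mem hx)
        · right
          have : z⁻¹ * x⁻¹ = (z * z)⁻¹ * (z⁻¹ * x)⁻¹ := by
            have h5 : x⁻¹ * z = z * x⁻¹ := hcz _
            rw [mul_inv_rev, mul_inv_rev, inv_inv, h5]
            group
          rw [this]
          exact mul_mem (inv_mem hzz) (inv_mem hx) }
  have hle : Z1 ≤ Z2 := fun y hy => Or.inl hy
  have hz2 : z ∈ Z2 := Or.inr (by rw [inv_mul_cancel]; exact one_mem _)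
  have hw2 : w ∈ Z2 := by
    by_contra hw2
    have h6 : Z2 ∈ S := by
      refine ⟨h1.trans hle, ?_, hw2⟩
      rintro y (hy | hy)
      · exact h2 hy
      · have : y = z * (z⁻¹ * y) := by group
        rw [this]
        exact mul_mem ⟨hz, hzc⟩ (h2 hy)
    exact hcon.1 (hZ1.le_of_ge h6 hle hz2)
  rcases hw2 with h | h
  · exact h3 h
  · apply hcon.2
    have := inv_mem h
    rwa [mul_inv_rev, inv_inv] at this

/-- `Z0 / (squares)` is elementary abelian. -/
theorem z0_elem (B : Base hF π P) (hm : 1 ≤ m) :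
    (∀ x ∈ B.Z0, x * x ∈ B.sqs) ∧ ∀ x ∈ B.Z0, ∀ y ∈ B.Z0, x * y * x⁻¹ * y⁻¹ ∈ B.sqs := by
  have := EquivMaps.charP_two hF
  constructor
  · intro x hx
    by_contra hw
    have hwP : x * x ∈ P := mul_mem hx.1 hx.1
    have hwc : x * x ∈ Subgroup.center A := by
      obtain ⟨b, hb⟩ := hx.2
      rw [← B.ker, map_mul, hb, (szData hF).p_zero_mul, CharTwo.add_self_eq_zero,
        (szData hF).p_zero]
    obtain ⟨Z1, h1, h2, h3, h4⟩ := B.exists_avoid hwP hwc hw
    exact h2 ((B.z0_aux hm Z1 h1 _ hwP hwc h2 h3 h4).1 x hx)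
  · intro x hx y hy
    by_contra hw
    have hwP : x * y * x⁻¹ * y⁻¹ ∈ P :=
      mul_mem (mul_mem (mul_mem hx.1 hy.1) (inv_mem hx.1)) (inv_mem hy.1)
    have hwc : x * y * x⁻¹ * y⁻¹ ∈ Subgroup.center A := by
      obtain ⟨b, hb⟩ := hx.2
      obtain ⟨c, hc⟩ := hy.2
      rw [← B.ker, map_mul, map_mul, map_mul, map_inv, map_inv, hb, hc, (szData hF).comm_zero]
      group
    obtain ⟨Z1, h1, h2, h3, h4⟩ := B.exists_avoid hwP hwc hw
    exact h2 ((B.z0_aux hm Z1 h1 _ hwP hwc h2 h3 h4).2 x hx y hy)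

theorem card_eq_ker_mul_range {X Y : Type*} [Group X] [Group Y] (f : X →* Y) :
    Nat.card X = Nat.card f.ker * Nat.card f.range := by
  rw [← Subgroup.index_ker, Subgroup.card_mul_index]

/-- **At most one involution in the centre.** -/
theorem unique (B : Base hF π P) (hm : 1 ≤ m) (hr : SectionalPRankLE 2 4 A) {t : A}
    (ht1 : t ≠ 1) (ht : t * t = 1) (htc : t ∈ Subgroup.center A) :
    ∀ z ∈ Subgroup.center A, z * z = 1 → z = 1 ∨ z = t := by
  classical
  intro z hzc hz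
  by_contra hcon
  push Not at hcon
  obtain ⟨hz1, hzt⟩ := hcon
  have hP : ∀ y ∈ Subgroup.center A, y * y = 1 → y ∈ P := fun y hy hyy =>
    (B.mem y).mpr ⟨⟨0, 0, by rw [(B.ker y).mpr hy, (szData hF).p_zero]⟩, 1, by
      rw [pow_one, sq, hyy]⟩
  set Zp : Subgroup A := P ⊓ Subgroup.center A with hZp
  -- squaring
  let f : Zp →* A :=
    { toFun := fun x => (x : A) * x
      map_one' := by simp
      map_mul' := by
        intro x y
        have := Subgroup.mem_center_iff.mp x.2.2 y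
        show (x : A) * y * (x * y) = x * x * (y * y)
        calc (x : A) * y * (x * y) = x * (y * x) * y := by group
          _ = x * (x * y) * y := by rw [this]
          _ = _ := by group }
  have hfr : f.range = B.sqs := by
    ext x
    constructor
    · rintro ⟨y, rfl⟩
      exact ⟨y, y.2.1, y.2.2, rfl⟩
    · rintro ⟨y, hy, hyc, rfl⟩
      exact ⟨⟨y, hy, hyc⟩, rfl⟩
  have hfk : 4 ≤ Nat.card f.ker := by
    have hk : ∀ y : A, y ∈ Subgroup.center A → y * y = 1 → ∃ u : f.ker, ((u : Zp) : A) = y :=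
      fun y hy hyy => ⟨⟨⟨y, hP y hy hyy, hy⟩, hyy⟩, rfl⟩
    have hzt2 : z * t * (z * t) = 1 := by
      have := Subgroup.mem_center_iff.mp hzc t
      calc z * t * (z * t) = z * (t * z) * t := by group
        _ = z * (z * t) * t := by rw [this]
        _ = (z * z) * (t * t) := by group
        _ = 1 := by rw [hz, ht, one_mul]
    obtain ⟨u1, hu1⟩ := hk 1 (one_mem _) (by rw [one_mul])
    obtain ⟨u2, hu2⟩ := hk t htc ht
    obtain ⟨u3, hu3⟩ := hk z hzc hz
    obtain ⟨u4, hu4⟩ := hk (z * t) (mul_mem hzc htc) hzt2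
    let S : Finset f.ker := {u1, u2, u3, u4}
    have hcard : S.card = 4 := by
      have e : ∀ {a b : f.ker} {x y : A}, ((a : Zp) : A) = x → ((b : Zp) : A) = y → x ≠ y → a ≠ b :=
        fun h1 h2 h3 h4 => h3 (by rw [← h1, ← h2, h4])
      have h12 := e hu1 hu2 ht1.symm
      have h13 := e hu1 hu3 hz1.symm
      have h14 := e hu1 hu4 (by
        intro h
        have h5 : z = t⁻¹ := eq_inv_of_mul_eq_one_left h.symm
        rw [inv_eq_of_mul_eq_one_right ht] at h5
        exact hzt h5)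
      have h23 := e hu2 hu3 (Ne.symm hzt)
      have h24 := e hu2 hu4 (by
        intro h
        exact hz1 (by simpa using h.symm))
      have h34 := e hu3 hu4 (by
        intro h
        exact ht1 (by simpa using h.symm))
      simp only [S]
      rw [Finset.card_insert_of_notMem, Finset.card_insert_of_notMem,
        Finset.card_insert_of_notMem, Finset.card_singleton]
      · simpa using h34
      · simp only [Finset.mem_insert, Finset.mem_singleton, not_or]
        exact ⟨h23, h24⟩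
      · simp only [Finset.mem_insert, Finset.mem_singleton, not_or]
        exact ⟨h12, h13, h14⟩
    have : Fintype f.ker := Fintype.ofFinite _
    rw [Nat.card_eq_fintype_card, ← hcard]
    exact Finset.card_le_univ S
  -- the map to `Sz`
  let g : B.Z0 →* ↥(Cfsg.Lie.Sz F (2 ^ (m + 1))) := π.comp B.Z0.subtype
  have hgk : Nat.card g.ker = Nat.card Zp := by
    refine Nat.card_congr ⟨fun x => ⟨x.1.1, x.1.2.1, (B.ker _).mp x.2⟩, fun x =>
      ⟨⟨x.1, x.2.1, 0, by rw [(B.ker _).mpr x.2.2, (szData hF).p_zero]⟩, (B.ker _).mpr x.2.2⟩,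
      fun x => rfl, fun x => rfl⟩
  have hgr : 8 ≤ Nat.card g.range := by
    let h : F → g.range := fun b => ⟨(szData hF).p 0 b, by
      obtain ⟨x, hx, hxb⟩ := B.lift 0 b
      exact ⟨⟨x, hx, b, hxb⟩, hxb⟩⟩
    have hinj : Function.Injective h := fun b c hbc =>
      ((szData hF).p_inj _ _ _ _ (congrArg Subtype.val hbc)).2
    have h1 := Nat.card_le_card_of_injective h hinj
    rw [Nat.card_eq_fintype_card, hF] at h1
    have h2 : 2 ^ 3 ≤ 2 ^ (2 * m + 1) := Nat.pow_le_pow_right (by norm_num) (by omega)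
    omega
  have hle : B.sqs ≤ B.Z0 := by
    rintro _ ⟨x, hx, hxc, rfl⟩
    exact ⟨mul_mem hx hx, 0, by rw [(B.ker _).mpr (mul_mem hxc hxc), (szData hF).p_zero]⟩
  have h1 := TwoFusion.SectionalRank.sectionalPRankLE_iff.mp hr B.Z0 B.sqs
    ⟨hle, (B.z0_elem hm).2, fun a ha => by rw [sq]; exact (B.z0_elem hm).1 a ha⟩
  have h2 := card_eq_ker_mul_range g
  have h3 := card_eq_ker_mul_range f
  rw [hgk] at h2
  rw [hfr] at h3
  rw [h2, h3] at h1
  have h4 : 0 < Nat.card B.sqs := Nat.card_pos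
  have h5 : 4 * Nat.card B.sqs * 8 ≤ Nat.card f.ker * Nat.card B.sqs * Nat.card g.range :=
    Nat.mul_le_mul (Nat.mul_le_mul_right _ hfk) hgr
  omega

end Base

end Cfsg.Agent.GH.Cov.SzCover
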