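import Cfsg.Agent.GH.Cov.SzCover
import Cfsg.Agent.GH.Cov.TwoComps

/-!
# GH-COV (3): no 2-component `K` of `C(t)`, `t ∈ K`, with `K / O(K)` a cover of `Sz(q)`

`G` simple, sectional 2-rank at most 4, `t` an involution, `K` a 2-component of `C(t)` containing `t`: the simple group
`(K / O(K)) / Z` is not a Suzuki group.
-/

set_option autoImplicit false
set_option linter.unusedSectionVars false
set_option linter.style.haveILetI false

namespace Cfsg.Agent.GH.Cov.SzTwo

open Cfsg Subgroup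
open scoped commutatorElement
open Cfsg.Agent.Intrinsic.Basic Cfsg.Agent.GH.Defs Cfsg.Agent.GH.Rank Cfsg.Agent.GH.Comp
open Cfsg.Agent.SignalizersComponents.IntrinsicBasic
open Cfsg.Agent.StdSz Cfsg.Agent.StdSz.FormAlg Cfsg.Agent.StdSz.BorelCoord Cfsg.Agent.StdSz.CoverA
open Cfsg.Agent.StdSz.CoverC Cfsg.Agent.GH.Cov.SzCover Cfsg.Agent.GH.Cov.TwoComps

/-- the automorphism of `A / N` induced by one of `A` preserving `N` -/
noncomputable def indQ {A : Type*} [Group A] (N : Subgroup A) [N.Normal] (α : MulAut A)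
    (h : N.map α.toMonoidHom = N) : MulAut (A ⧸ N) := QuotientGroup.congr N N α h

section Sz

variable {F : Type*} [Field F] [Fintype F] {m : ℕ} (hF : Fintype.card F = 2 ^ (2 * m + 1))
include hF

theorem three_le_srank {X : Type*} [Group X] [Finite X] (hm : 1 ≤ m)
    (e : X ≃* ↥(Cfsg.Lie.Sz F (2 ^ (m + 1)))) : 3 ≤ srank 2 X := by
  by_contra hlt
  have h1 : srank 2 X ≤ 2 := by omega
  have h2 := pRankLE ((srank_le_iff (by norm_num)).1 h1)
  have := EquivMaps.charP_two hF
  let V : Subgroup X :=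
    { carrier := {x | ∃ b, e x = (szData hF).p 0 b}
      one_mem' := ⟨0, by rw [map_one, (szData hF).p_zero]⟩
      mul_mem' := by
        rintro x y ⟨b, hb⟩ ⟨c, hc⟩
        exact ⟨b + c, by rw [map_mul, hb, hc, (szData hF).p_zero_mul]⟩
      inv_mem' := by
        rintro x ⟨b, hb⟩
        refine ⟨b, ?_⟩
        rw [map_inv, hb]
        exact inv_eq_of_mul_eq_one_right (by
          rw [(szData hF).p_zero_mul, CharTwo.add_self_eq_zero, (szData hF).p_zero]) }
  have hVc : IsMulCommutative V := ⟨⟨by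
    rintro ⟨x, b, hb⟩ ⟨y, c, hc⟩
    apply Subtype.ext
    apply e.injective
    show e (x * y) = e (y * x)
    rw [map_mul, map_mul, hb, hc, (szData hF).comm_zero]⟩⟩
  have hV2 : ∀ x ∈ V, x ^ 2 = 1 := by
    rintro x ⟨b, hb⟩
    apply e.injective
    rw [sq, map_mul, map_one, hb, (szData hF).p_zero_mul, CharTwo.add_self_eq_zero,
      (szData hF).p_zero]
  have h3 := h2 V hVc hV2
  let h : F → V := fun b => ⟨e.symm ((szData hF).p 0 b), b, e.apply_symm_apply _⟩
  have hinj : Function.Injective h := fun b c hbc => by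
    have h4 := congrArg Subtype.val hbc
    exact ((szData hF).p_inj _ _ _ _ (e.symm.injective h4)).2
  have h5 := Nat.card_le_card_of_injective h hinj
  rw [Nat.card_eq_fintype_card, hF] at h5
  have h6 : 2 ^ 3 ≤ 2 ^ (2 * m + 1) := Nat.pow_le_pow_right (by norm_num) (by omega)
  omega

end Sz

variable {G : Type*} [Group G] [Finite G]

theorem false_of_suzuki [IsSimpleGroup G] (hna : ¬ IsMulCommutative G)
    (hr : SectionalPRankLE 2 4 G) {t : G} {K : Subgroup G} (c : Comp2 t K) (htK : t ∈ K)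
    {F : Type*} [Field F] [Fintype F] {m : ℕ} (hm : 1 ≤ m)
    (hF : Fintype.card F = 2 ^ (2 * m + 1))
    (e : STop K ≃* ↥(Cfsg.Lie.Sz F (2 ^ (m + 1)))) : False := by
  classical
  have hchar := EquivMaps.charP_two hF
  have : Fact (Nat.Prime 2) := ⟨Nat.prime_two⟩
  have htt : t * t = 1 := by rw [← sq, ← c.inv, pow_orderOf_eq_one]
  have ht1 : t ≠ 1 := by
    rintro rfl
    have := c.inv
    simp at this
  set H : Subgroup G := centralizer ({t} : Set G) with hH
  have memH : ∀ x : G, x ∈ H ↔ x * t = t * x := by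
    intro x
    rw [hH, mem_centralizer_singleton_iff]
  have hK : IsComp H K := c.comp
  have hrH : srank 2 H ≤ 4 := (srank_subgroup_le (by norm_num) _).trans
    ((srank_le_iff (by norm_num)).2 hr)
  have hnorm : H ≤ normalizer (K : Set G) :=
    le_normalizer_comp hrH hK (three_le_srank hF hm e)
  -- the quotient `A = K / O(K)`
  let q : K →* Bar K := QuotientGroup.mk' (oddCore ↥K)
  have hqs : Function.Surjective q := QuotientGroup.mk'_surjective _
  have hq1 : ∀ x : K, q x = 1 ↔ (x : G) ∈ core K := by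
    intro x
    rw [mem_core_iff x.2]
    exact QuotientGroup.eq_one_iff _
  have hp : commutator (Bar K) = ⊤ := (quasisimple hK).1.commutator_eq_top
  have hrA : SectionalPRankLE 2 4 (Bar K) := of_quotient (of_subgroup hr K) _
  obtain ⟨π, P0, B⟩ := exists_base hm hF e
  let tK : K := ⟨t, htK⟩
  have hcen2 : ∀ x : K, (∀ y : K, q x * q y = q y * q x) → q x ∈ center (Bar K) := by
    intro x hx
    rw [mem_center_iff]
    intro g
    obtain ⟨g, rfl⟩ := hqs g
    exact (hx g).symm
  have htc : q tK ∈ center (Bar K) := hcen2 _ fun y => by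
    rw [← map_mul, ← map_mul]
    congr 1
    exact Subtype.ext ((memH _).mp (hK.le y.2)).symm
  have hqt1 : q tK ≠ 1 := by
    intro h
    exact ht1 (eq_one_of_mem_core_sq ((hq1 _).mp h) htt)
  have hqtt : q tK * q tK = 1 := by
    rw [← map_mul, hq1]
    have : ((tK * tK : K) : G) = 1 := htt
    rw [this]
    exact one_mem _
  have huniq := B.unique hm hrA hqt1 hqtt htc
  have hcov := B.cov hqt1 hqtt htc huniq
  have hcom : (⟨q tK, hcov.t_mem⟩ : P0) ∈ commutator P0 :=
    mem_commutator_of_central P0 B.odd (q tK) hcov.t_mem (fun g => hcov.cen _ hcov.t_ker g)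
      hcov.t_sq (by rw [hp]; exact Subgroup.mem_top _)
  obtain ⟨zh, Z, hval, hleft, hright⟩ := hcov.main hm hF hcom
  -- a Sylow 2-subgroup `P` of `K` over `P0`
  obtain ⟨P, hPP0⟩ : ∃ P : Sylow 2 K, (P : Subgroup K).map q = P0 := by
    let S0 : Sylow 2 (Bar K) := B.two.toSylow (by
      rw [← even_iff_two_dvd, Nat.not_even_iff_odd]
      exact B.odd)
    let P1 : Sylow 2 K := default
    obtain ⟨g, hg⟩ := MulAction.exists_smul_eq (Bar K) (P1.mapSurjective hqs) S0
    obtain ⟨k, rfl⟩ := hqs g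
    refine ⟨k • P1, ?_⟩
    have h1 : ((q k • P1.mapSurjective hqs : Sylow 2 (Bar K)) : Subgroup (Bar K)) = P0 := by
      rw [hg]; rfl
    rw [← h1, Sylow.smul_def, Sylow.smul_def]
    ext x
    constructor
    · rintro ⟨y, ⟨z, hz, rfl⟩, rfl⟩
      refine ⟨q z, ⟨z, hz, rfl⟩, ?_⟩
      show q k * q z * (q k)⁻¹ = q (k * z * k⁻¹)
      rw [map_mul, map_mul, map_inv]
    · rintro ⟨_, ⟨z, hz, rfl⟩, rfl⟩
      refine ⟨k * z * k⁻¹, ⟨z, hz, rfl⟩, ?_⟩
      show q (k * z * k⁻¹) = q k * q z * (q k)⁻¹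
      rw [map_mul, map_mul, map_inv]
  have hqP : ∀ x ∈ (P : Subgroup K), q x ∈ P0 := fun x hx => hPP0 ▸ ⟨x, hx, rfl⟩
  have hPl : ∀ y ∈ P0, ∃ x ∈ (P : Subgroup K), q x = y := by
    intro y hy
    rw [← hPP0] at hy
    exact hy
  have hone : ∀ x ∈ (P : Subgroup K), q x = 1 → x = 1 := by
    intro x hx h
    obtain ⟨k, hk⟩ := P.2 ⟨x, hx⟩
    apply Subtype.ext
    refine eq_one_of_mem_core ((hq1 x).mp h) (n := k) ?_
    have := congrArg Subtype.val hk
    have h2 : x ^ 2 ^ k = 1 := by simpa using this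
    rw [← coe_pow, h2, coe_one]
  have hinj : ∀ x ∈ (P : Subgroup K), ∀ y ∈ (P : Subgroup K), q x = q y → x = y := by
    intro x hx y hy h
    have := hone (x⁻¹ * y) (mul_mem (inv_mem hx) hy) (by rw [map_mul, map_inv, h, inv_mul_cancel])
    exact (inv_mul_eq_one.mp this)
  have htP : tK ∈ (P : Subgroup K) := by
    obtain ⟨x, hx, hxt⟩ := hPl _ hcov.t_mem
    have h1 : ∀ g : K, g * tK = tK * g := fun g => Subtype.ext ((memH _).mp (hK.le g.2))
    have h2 : IsPGroup 2 (zpowers tK) := CoverB.isPGroup_zpowers (k := 1)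
      (by rw [pow_one, sq]; exact Subtype.ext htt)
    have hn : (zpowers tK).Normal := by
      constructor
      rintro _ ⟨i, rfl⟩ g
      have h3 : Commute g tK := h1 g
      show g * tK ^ i * g⁻¹ ∈ zpowers tK
      rw [(h3.zpow_right i).eq, mul_inv_cancel_right]
      exact ⟨i, rfl⟩
    have h4 : IsPGroup 2 ((P : Subgroup K) ⊔ zpowers tK : Subgroup K) :=
      IsPGroup.to_sup_of_normal_right P.isPGroup' h2
    have h5 := P.is_maximal' h4 le_sup_left
    rw [← h5]
    exact (le_sup_right : _ ≤ (P : Subgroup K) ⊔ _) (mem_zpowers _)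
  -- a Sylow 2-subgroup `T` of `C(t)` over `P`
  have hPH : ∀ x ∈ (P : Subgroup K), (x : G) ∈ H := fun x _ => hK.le x.2
  obtain ⟨T, T2, TH, PT, Tmax⟩ : ∃ T : Subgroup G, IsPGroup 2 T ∧ T ≤ H ∧
      (P : Subgroup K).map K.subtype ≤ T ∧
      ∀ X : Subgroup G, IsPGroup 2 X → T ≤ X → X ≤ H → X ≤ T := by
    have h1 : IsPGroup 2 (((P : Subgroup K).map K.subtype).subgroupOf H) :=
      (P.2.map K.subtype).comap_subtype
    obtain ⟨T0, hT0⟩ := h1.exists_le_sylow
    refine ⟨(T0 : Subgroup H).map H.subtype, T0.2.map _, map_subtype_le _, ?_, ?_⟩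
    · rintro _ ⟨x, hx, rfl⟩
      exact ⟨⟨x, hPH x hx⟩, hT0 ⟨x, hx, rfl⟩, rfl⟩
    · intro X hX hTX hXH x hx
      have h2 : IsPGroup 2 (X.subgroupOf H) := hX.comap_subtype
      have h3 := T0.is_maximal' h2 (fun y hy => hTX ⟨y, hy, rfl⟩)
      have h4 : (⟨x, hXH hx⟩ : H) ∈ X.subgroupOf H := hx
      rw [h3] at h4
      exact ⟨_, h4, rfl⟩
  have hPT : ∀ x ∈ (P : Subgroup K), (x : G) ∈ T := fun x hx => PT ⟨x, hx, rfl⟩
  have hTK : ∀ x : K, (x : G) ∈ T → x ∈ (P : Subgroup K) := by
    intro x hx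
    have h1 : IsPGroup 2 (T.subgroupOf K) := T2.comap_subtype
    have h2 := P.is_maximal' h1 (fun y hy => hPT y hy)
    rw [← h2]
    exact hx
  have Tn : ∀ u ∈ T, u ∈ normalizer (K : Set G) := fun u hu => hnorm (TH hu)
  have Tt : ∀ x ∈ T, x * t = t * x := fun x hx => (memH x).mp (TH hx)
  have htT : t ∈ T := hPT tK htP
  have hcK : ∀ u ∈ T, ∀ k : K, u * k * u⁻¹ ∈ K := fun u hu k =>
    (mem_normalizer_iff.mp (Tn u hu) k).mp k.2
  -- the action of `T` on `Bar K` is inner
  have hinner : ∀ u (hu : u ∈ T), ∃ a : Bar K, ∀ k : K,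
      q ⟨u * k * u⁻¹, hcK u hu k⟩ = a * q k * a⁻¹ := by
    intro u hu
    let α0 : MulAut K := normalizerMonoidHom K ⟨u, Tn u hu⟩
    have hα0 : ∀ k : K, α0 k = ⟨u * k * u⁻¹, hcK u hu k⟩ := fun k => rfl
    let α : MulAut (Bar K) := indQ (oddCore ↥K) α0 (Lib.Cores.map_equiv_pPrimeCore α0 2)
    have hα : ∀ k : K, α (q k) = q (α0 k) := fun k => rfl
    have hαn : ∀ (n : ℕ) (k : K), (α ^ n) (q k) = q ((α0 ^ n) k) := by
      intro n
      induction n with
      | zero => intro k; rfl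
      | succ n ih => intro k; rw [pow_succ', MulAut.mul_apply, ih, hα, pow_succ', MulAut.mul_apply]
    obtain ⟨n, hn⟩ := T2 ⟨u, hu⟩
    have hn' : u ^ 2 ^ n = 1 := congrArg Subtype.val hn
    have hα0n : α0 ^ 2 ^ n = 1 := by
      have : α0 ^ 2 ^ n = normalizerMonoidHom K (⟨u, Tn u hu⟩ ^ 2 ^ n) := (map_pow _ _ _).symm
      rw [this]
      have h1 : (⟨u, Tn u hu⟩ : normalizer (K : Set G)) ^ 2 ^ n = 1 := Subtype.ext hn'
      rw [h1, map_one]
    have hαn1 : α ^ 2 ^ n = 1 := by
      ext x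
      obtain ⟨x, rfl⟩ := hqs x
      rw [hαn, hα0n]
      rfl
    obtain ⟨a, ha⟩ := exists_inner hp hm hF e α hαn1
    exact ⟨a, fun k => by rw [← hα0, ← hα, ha]⟩
  -- `T = P C`
  have hdec : ∀ u ∈ T, ∃ x ∈ (P : Subgroup K), ∀ k : K, ∀ h : ((x : G)⁻¹ * u) * k *
      ((x : G)⁻¹ * u)⁻¹ ∈ K, q ⟨((x : G)⁻¹ * u) * k * ((x : G)⁻¹ * u)⁻¹, h⟩ = q k := by
    -- the 2-group induced by `T`
    let Y : Subgroup ↥(Cfsg.Lie.Sz F (2 ^ (m + 1))) :=
      { carrier := {y | ∃ u, ∃ hu : u ∈ T, ∃ a : Bar K, π a = y ∧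
          ∀ k : K, q ⟨u * k * u⁻¹, hcK u hu k⟩ = a * q k * a⁻¹}
        mul_mem' := by
          rintro y y' ⟨u, hu, a, rfl, hk⟩ ⟨u', hu', a', rfl, hk'⟩
          refine ⟨u * u', mul_mem hu hu', a * a', map_mul _ _ _, fun k => ?_⟩
          have h1 := hk ⟨u' * k * u'⁻¹, hcK u' hu' k⟩
          rw [hk'] at h1
          have h2 : (⟨u * u' * k * (u * u')⁻¹, hcK _ (mul_mem hu hu') k⟩ : K) =
              ⟨u * ((⟨u' * k * u'⁻¹, hcK u' hu' k⟩ : K) : G) * u⁻¹, hcK u hu _⟩ := by
            apply Subtype.ext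
            show u * u' * k * (u * u')⁻¹ = u * (u' * k * u'⁻¹) * u⁻¹
            group
          rw [h2, h1]
          group
        one_mem' := ⟨1, one_mem _, 1, map_one _, fun k => by
          have : (⟨1 * k * 1⁻¹, hcK 1 (one_mem _) k⟩ : K) = k := by
            apply Subtype.ext
            simp
          rw [this]; group⟩
        inv_mem' := by
          rintro y ⟨u, hu, a, rfl, hk⟩
          refine ⟨u⁻¹, inv_mem hu, a⁻¹, map_inv _ _, fun k => ?_⟩
          have h1 := hk ⟨u⁻¹ * k * u⁻¹⁻¹, hcK _ (inv_mem hu) k⟩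
          have h2 : (⟨u * ((⟨u⁻¹ * k * u⁻¹⁻¹, hcK _ (inv_mem hu) k⟩ : K) : G) * u⁻¹,
              hcK u hu _⟩ : K) = k := by
            apply Subtype.ext
            show u * (u⁻¹ * k * u⁻¹⁻¹) * u⁻¹ = k
            group
          rw [h2] at h1
          rw [h1]; group }
    have hpow : ∀ (u : G) (hu : u ∈ T) (a : Bar K),
        (∀ k : K, q ⟨u * k * u⁻¹, hcK u hu k⟩ = a * q k * a⁻¹) → ∀ n : ℕ, ∀ k : K,
        q ⟨u ^ n * k * (u ^ n)⁻¹, hcK _ (pow_mem hu n) k⟩ = a ^ n * q k * (a ^ n)⁻¹ := by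
      intro u hu a ha n
      induction n with
      | zero =>
        intro k
        have : (⟨u ^ 0 * k * (u ^ 0)⁻¹, hcK _ (pow_mem hu 0) k⟩ : K) = k := by
          apply Subtype.ext
          simp
        rw [this]; simp
      | succ n ih =>
        intro k
        have h2 : (⟨u ^ (n + 1) * k * (u ^ (n + 1))⁻¹, hcK _ (pow_mem hu (n + 1)) k⟩ : K) =
            ⟨u * ((⟨u ^ n * k * (u ^ n)⁻¹, hcK _ (pow_mem hu n) k⟩ : K) : G) * u⁻¹,
              hcK u hu _⟩ := by
          apply Subtype.ext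
          show u ^ (n + 1) * k * (u ^ (n + 1))⁻¹ = u * (u ^ n * k * (u ^ n)⁻¹) * u⁻¹
          rw [pow_succ']; group
        rw [h2, ha, ih, pow_succ']; group
    have hY2 : IsPGroup 2 Y := by
      rintro ⟨y, u, hu, a, rfl, hk⟩
      obtain ⟨n, hn⟩ := T2 ⟨u, hu⟩
      have hn' : u ^ 2 ^ n = 1 := congrArg Subtype.val hn
      refine ⟨n, Subtype.ext ?_⟩
      show (π a) ^ 2 ^ n = 1
      rw [← map_pow, B.ker, mem_center_iff]
      intro g
      obtain ⟨k, rfl⟩ := hqs g
      have h1 := hpow u hu a hk (2 ^ n) k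
      have h2 : (⟨u ^ 2 ^ n * k * (u ^ 2 ^ n)⁻¹, hcK _ (pow_mem hu _) k⟩ : K) = k := by
        apply Subtype.ext
        show u ^ 2 ^ n * k * (u ^ 2 ^ n)⁻¹ = k
        rw [hn']; simp
      rw [h2] at h1
      calc q k * a ^ 2 ^ n = (a ^ 2 ^ n * q k * (a ^ 2 ^ n)⁻¹) * a ^ 2 ^ n := by rw [← h1]
        _ = a ^ 2 ^ n * q k := by group
    have hPY : ∀ a b, (szData hF).p a b ∈ Y := by
      intro a b
      obtain ⟨x, hx, hxa⟩ := B.lift a b
      obtain ⟨x, hx', rfl⟩ := hPl x hx
      refine ⟨x, hPT x hx', q x, hxa, fun k => ?_⟩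
      rw [← map_inv, ← map_mul, ← map_mul]
      rfl
    intro u hu
    obtain ⟨a, ha⟩ := hinner u hu
    obtain ⟨α, β, hαβ⟩ := B.max Y hY2 hPY (π a) ⟨u, hu, a, rfl, ha⟩
    obtain ⟨x, hx, hxa⟩ := B.lift α β
    obtain ⟨x, hx', rfl⟩ := hPl x hx
    refine ⟨x, hx', fun k h => ?_⟩
    have h1 : π ((q x)⁻¹ * a) = 1 := by rw [map_mul, map_inv, hxa, hαβ, inv_mul_cancel]
    have h2 := mem_center_iff.mp ((B.ker _).mp h1)
    have h3 : (⟨((x : G)⁻¹ * u) * k * ((x : G)⁻¹ * u)⁻¹, h⟩ : K) =
        x⁻¹ * ⟨u * k * u⁻¹, hcK u hu k⟩ * x := by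
      apply Subtype.ext
      show ((x : G)⁻¹ * u) * k * ((x : G)⁻¹ * u)⁻¹ = (x : G)⁻¹ * (u * k * u⁻¹) * x
      group
    rw [h3, map_mul, map_mul, ha, map_inv]
    calc (q x)⁻¹ * (a * q k * a⁻¹) * q x = ((q x)⁻¹ * a) * q k * ((q x)⁻¹ * a)⁻¹ := by group
      _ = q k := by rw [← h2 (q k)]; group
  -- elements `c ∈ T` acting trivially on `Bar K`
  let Triv : G → Prop := fun c => ∀ k : K, ∀ h : c * k * c⁻¹ ∈ K, q ⟨c * k * c⁻¹, h⟩ = q k
  have hTrivP : ∀ c ∈ T, Triv c → ∀ x ∈ (P : Subgroup K), c * x = x * c := by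
    intro c hc hcc x hx
    have h1 := hcc x (hcK c hc x)
    have h2 : (⟨c * x * c⁻¹, hcK c hc x⟩ : K) ∈ (P : Subgroup K) :=
      hTK _ (mul_mem (mul_mem hc (hPT x hx)) (inv_mem hc))
    have h3 := congrArg Subtype.val (hinj _ h2 _ hx h1)
    have h4 : c * x * c⁻¹ = x := h3
    rw [← mul_inv_eq_iff_eq_mul]; exact h4
  have hTrivMul : ∀ c ∈ T, ∀ d ∈ T, Triv c → Triv d → Triv (c * d) := by
    intro c hc d hd h1 h2 k h
    have h3 : (⟨c * d * k * (c * d)⁻¹, h⟩ : K) =
        ⟨c * ((⟨d * k * d⁻¹, hcK d hd k⟩ : K) : G) * c⁻¹, hcK c hc _⟩ := by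
      apply Subtype.ext
      show c * d * k * (c * d)⁻¹ = c * (d * k * d⁻¹) * c⁻¹
      group
    rw [h3, h1, h2]
  have hTrivInv : ∀ c ∈ T, Triv c → Triv c⁻¹ := by
    intro c hc h1 k h
    have h2 := h1 ⟨c⁻¹ * k * c⁻¹⁻¹, h⟩ (hcK c hc _)
    rw [← h2]
    congr 1
    apply Subtype.ext
    show c * (c⁻¹ * k * c⁻¹⁻¹) * c⁻¹ = (k : G)
    group
  -- elements of `P` acting trivially
  have hTrivZ : ∀ x ∈ (P : Subgroup K), (Triv x ↔ q x ∈ center (Bar K)) := by
    intro x hx
    have h0 : ∀ k : K, ∀ h : (x : G) * k * (x : G)⁻¹ ∈ K,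
        q ⟨(x : G) * k * (x : G)⁻¹, h⟩ = q x * q k * (q x)⁻¹ := by
      intro k h
      rw [← map_inv, ← map_mul, ← map_mul]
      rfl
    constructor
    · intro h
      apply hcen2
      intro y
      have h1 := h y (hcK _ (hPT x hx) y)
      rw [h0] at h1
      rwa [mul_inv_eq_iff_eq_mul] at h1
    · intro h k hk
      rw [h0, ← mem_center_iff.mp h (q k), mul_inv_cancel_right]
  -- the lifts
  have hzl : ∀ b, ∃ x ∈ (P : Subgroup K), q x = zh b := fun b => hPl _ (Z.mem b)
  choose zl hzlP hzlq using hzl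
  have zl_add : ∀ b c, zl (b + c) = zl b * zl c := fun b c =>
    hinj _ (hzlP _) _ (mul_mem (hzlP b) (hzlP c)) (by rw [map_mul, hzlq, hzlq, hzlq, Z.add])
  have zl_zero : zl 0 = 1 := hone _ (hzlP 0) (by rw [hzlq, Z.zero])
  have zl_sq : ∀ b, zl b * zl b = 1 := fun b => by
    rw [← zl_add, CharTwo.add_self_eq_zero, zl_zero]
  have zl_inj : ∀ b c, zl b = zl c → b = c := fun b c h => Z.inj (by rw [← hzlq, ← hzlq, h])
  have tK_comm : ∀ g : K, g * tK = tK * g := fun g => Subtype.ext ((memH _).mp (hK.le g.2))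
  have tK_sq : tK * tK = 1 := Subtype.ext htt
  have tK_ne : tK ≠ 1 := fun h => ht1 (congrArg Subtype.val h)
  -- the subgroup `E0` of `K`
  let E0 : Subgroup K :=
    { carrier := {x | ∃ b, x = zl b ∨ x = zl b * tK}
      mul_mem' := by
        rintro x y ⟨b, hb⟩ ⟨c, hc⟩
        refine ⟨b + c, ?_⟩
        rcases hb with rfl | rfl <;> rcases hc with rfl | rfl
        · left; rw [zl_add]
        · right; rw [zl_add, mul_assoc]
        · right
          rw [zl_add, mul_assoc, ← tK_comm, mul_assoc]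
        · left
          calc zl b * tK * (zl c * tK) = zl b * (tK * zl c) * tK := by group
            _ = zl b * zl c * (tK * tK) := by rw [← tK_comm]; group
            _ = _ := by rw [tK_sq, mul_one, zl_add]
      one_mem' := ⟨0, Or.inl zl_zero.symm⟩
      inv_mem' := by
        rintro x ⟨b, rfl | rfl⟩
        · exact ⟨b, Or.inl (inv_eq_of_mul_eq_one_right (zl_sq b))⟩
        · refine ⟨b, Or.inr (inv_eq_of_mul_eq_one_right ?_)⟩
          calc zl b * tK * (zl b * tK) = zl b * (tK * zl b) * tK := by group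
            _ = zl b * zl b * (tK * tK) := by rw [← tK_comm]; group
            _ = 1 := by rw [tK_sq, mul_one, zl_sq] }
  have E0P : E0 ≤ (P : Subgroup K) := by
    rintro x ⟨b, rfl | rfl⟩
    · exact hzlP b
    · exact mul_mem (hzlP b) htP
  have E0sq : ∀ x ∈ E0, x * x = 1 := by
    rintro x ⟨b, rfl | rfl⟩
    · exact zl_sq b
    · calc zl b * tK * (zl b * tK) = zl b * (tK * zl b) * tK := by group
        _ = zl b * zl b * (tK * tK) := by rw [← tK_comm]; group
        _ = 1 := by rw [tK_sq, mul_one, zl_sq]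
  have E0cen : ∀ x ∈ E0, q x ∈ center (Bar K) → x = 1 ∨ x = tK := by
    rintro x ⟨b, hb⟩ hx
    have h1 : π (q x) = 1 := (B.ker _).mpr hx
    have h2 : π (q (zl b)) = 1 := by
      rcases hb with rfl | rfl
      · exact h1
      · rwa [map_mul, map_mul, hcov.t_ker, mul_one] at h1
    rw [hzlq, Z.pi] at h2
    have h3 := ((szData hF).p_inj _ _ _ _ (h2.trans (szData hF).p_zero.symm)).2
    subst h3
    rcases hb with rfl | rfl
    · left; exact zl_zero
    · right; rw [zl_zero, one_mul]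
  set E : Subgroup G := E0.map K.subtype with hE
  have ET : E ≤ T := by
    rintro _ ⟨x, hx, rfl⟩
    exact hPT x (E0P hx)
  have Esq : ∀ x ∈ E, x * x = 1 := by
    rintro _ ⟨x, hx, rfl⟩
    exact congrArg Subtype.val (E0sq x hx)
  have Ecard : 16 ≤ Nat.card E := by
    have h1 : Nat.card E = Nat.card E0 := card_map_of_injective K.subtype_injective
    rw [h1]
    let h : F × Bool → E0 := fun p => ⟨if p.2 then zl p.1 * tK else zl p.1, by
      refine ⟨p.1, ?_⟩
      rcases p.2
      · left; simp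
      · right; simp⟩
    have hzt : ∀ b c, zl b ≠ zl c * tK := by
      intro b c hbc
      have h2 := congrArg (fun x => π (q x)) hbc
      simp only [map_mul, hcov.t_ker, mul_one, hzlq, Z.pi] at h2
      have h3 := ((szData hF).p_inj _ _ _ _ h2).2
      subst h3
      apply tK_ne
      exact mul_eq_left.mp hbc.symm
    have hinj' : Function.Injective h := by
      rintro ⟨b, i⟩ ⟨c, j⟩ hbc
      have h2 := congrArg Subtype.val hbc
      rcases i <;> rcases j
      · have h3 : zl b = zl c := by simpa [h] using h2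
        rw [zl_inj _ _ h3]
      · have h3 : zl b = zl c * tK := by simpa [h] using h2
        exact absurd h3 (hzt b c)
      · have h3 : zl b * tK = zl c := by simpa [h] using h2
        exact absurd h3.symm (hzt c b)
      · have h3 : zl b * tK = zl c * tK := by simpa [h] using h2
        rw [zl_inj _ _ (mul_right_cancel h3)]
    have h2 := Nat.card_le_card_of_injective h hinj'
    rw [Nat.card_prod, Nat.card_eq_fintype_card, hF, Nat.card_eq_fintype_card,
      Fintype.card_bool] at h2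
    have h6 : 2 ^ 3 ≤ 2 ^ (2 * m + 1) := Nat.pow_le_pow_right (by norm_num) (by omega)
    omega
  -- the only involution of `T` acting trivially is `t`
  have hTrivInvol : ∀ c ∈ T, Triv c → c * c = 1 → c = 1 ∨ c = t := by
    intro c hc hcc hc2
    by_contra hcon
    push Not at hcon
    have hcE : c ∉ E := by
      rintro ⟨x, hx, rfl⟩
      have h1 : q x ∈ center (Bar K) := (hTrivZ x (E0P hx)).mp hcc
      rcases E0cen x hx h1 with h2 | h2
      · exact hcon.1 (congrArg Subtype.val h2)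
      · exact hcon.2 (congrArg Subtype.val h2)
    have hcomm : ∀ x ∈ E, c * x = x * c := by
      rintro _ ⟨x, hx, rfl⟩
      exact hTrivP c hc hcc x (E0P hx)
    have hEc : ∀ x ∈ E, ∀ y ∈ E, x * y = y * x := by
      intro x hx y hy
      have h1 : ∀ z ∈ E, z⁻¹ = z := fun z hz => inv_eq_of_mul_eq_one_right (Esq z hz)
      have h2 := h1 _ (E.mul_mem hx hy)
      rw [mul_inv_rev, h1 x hx, h1 y hy] at h2
      exact h2.symm
    let E' : Subgroup G :=
      { carrier := {x | x ∈ E ∨ c * x ∈ E}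
        one_mem' := Or.inl (one_mem _)
        mul_mem' := by
          rintro x y (hx | hx) (hy | hy)
          · exact Or.inl (mul_mem hx hy)
          · right
            rw [← mul_assoc, hcomm x hx, mul_assoc]
            exact mul_mem hx hy
          · right
            rw [← mul_assoc]
            exact mul_mem hx hy
          · left
            have : x * y = (c * x) * (c * y) := by
              have h5 := hcomm _ hx
              calc x * y = c * c * x * y := by rw [hc2, one_mul]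
                _ = c * (c * x) * y := by group
                _ = (c * x) * c * y := by rw [h5]
                _ = _ := by group
            rw [this]
            exact mul_mem hx hy
        inv_mem' := by
          rintro x (hx | hx)
          · exact Or.inl (inv_mem hx)
          · right
            have h5 := hcomm _ hx
            have h6 : c⁻¹ = c := inv_eq_of_mul_eq_one_right hc2
            have : c * x⁻¹ = (c * x)⁻¹ := by
              rw [mul_inv_rev, h6]
              have h7 : x = c * (c * x) := by rw [← mul_assoc, hc2, one_mul]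
              have h8 : x * c = c * x := by
                calc x * c = c * (c * x) * c := by rw [← h7]
                  _ = c * ((c * x) * c) := by group
                  _ = c * (c * (c * x)) := by rw [h5]
                  _ = c * x := by rw [← h7]
              rw [eq_inv_mul_iff_mul_eq, ← mul_assoc, h8, mul_inv_cancel_right]
            rw [this]
            exact inv_mem hx }
    have hc1 : ∀ x ∈ E', ∃ y ∈ E, x = y ∨ x = c * y := by
      rintro x (hx | hx)
      · exact ⟨x, hx, Or.inl rfl⟩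
      · exact ⟨_, hx, Or.inr (by rw [← mul_assoc, hc2, one_mul])⟩
    have hc3 : ∀ x ∈ E', ∀ y ∈ E', x * y = y * x := by
      intro x hx y hy
      obtain ⟨x', hx', hx1⟩ := hc1 x hx
      obtain ⟨y', hy', hy1⟩ := hc1 y hy
      have h1 := hcomm x' hx'
      have h2 := hcomm y' hy'
      have h3 := hEc x' hx' y' hy'
      rcases hx1 with rfl | rfl <;> rcases hy1 with rfl | rfl
      · exact h3
      · rw [← mul_assoc, ← h1, mul_assoc, h3, mul_assoc]
      · rw [mul_assoc, h3, ← mul_assoc, h2, mul_assoc]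
      · calc c * x' * (c * y') = c * (x' * c) * y' := by group
          _ = c * (c * x') * y' := by rw [h1]
          _ = c * c * (x' * y') := by group
          _ = c * c * (y' * x') := by rw [h3]
          _ = c * (c * y') * x' := by group
          _ = c * (y' * c) * x' := by rw [h2]
          _ = _ := by group
    have hc4 : ∀ x ∈ E', x ^ 2 = 1 := by
      intro x hx
      obtain ⟨x', hx', hx1⟩ := hc1 x hx
      rw [sq]
      rcases hx1 with rfl | rfl
      · exact Esq _ hx'
      · calc c * x' * (c * x') = c * (x' * c) * x' := by group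
          _ = c * (c * x') * x' := by rw [hcomm x' hx']
          _ = c * c * (x' * x') := by group
          _ = 1 := by rw [hc2, Esq x' hx', one_mul]
    have h16 := pRankLE hr E' ⟨⟨fun a b => Subtype.ext (hc3 a a.2 b b.2)⟩⟩ hc4
    have hEE' : E < E' := by
      refine lt_of_le_of_ne (fun x hx => Or.inl hx) ?_
      intro h
      apply hcE
      rw [h]
      right
      rw [hc2]
      exact one_mem _
    obtain ⟨d, hd⟩ := card_dvd_of_le hEE'.le
    have h0 : 0 < Nat.card E' := Nat.card_pos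
    have hd1 : d ≠ 1 := by
      rintro rfl
      apply hEE'.ne
      exact eq_of_le_of_card_ge hEE'.le (by rw [hd, mul_one])
    have hd0 : d ≠ 0 := by
      rintro rfl
      omega
    have : Nat.card E * 2 ≤ Nat.card E' := by
      rw [hd]
      exact Nat.mul_le_mul_left _ (by omega)
    omega
  have htE : t ∈ E := ⟨tK, ⟨0, Or.inr (by rw [zl_zero, one_mul])⟩, rfl⟩
  have hzE : ∀ b, ((zl b : K) : G) ∈ E := fun b => ⟨zl b, ⟨b, Or.inl rfl⟩, rfl⟩
  -- all involutions of `T` lie in `E`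
  have Einv : ∀ x ∈ T, x * x = 1 → x ∈ E := by
    intro u hu huu
    obtain ⟨p, hp, hpc⟩ := hdec u hu
    have hpT := hPT p hp
    set c := (p : G)⁻¹ * u with hc
    have hcT : c ∈ T := mul_mem (inv_mem hpT) hu
    have hcc : Triv c := hpc
    have hup : u = p * c := by rw [hc]; group
    have hcomm := hTrivP c hcT hcc p hp
    -- `p * p` is the inverse of `c * c`
    have h1 : ((p * p : K) : G) * (c * c) = 1 := by
      rw [← huu, hup]
      show (p : G) * p * (c * c) = p * c * (p * c)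
      calc (p : G) * p * (c * c) = p * (p * c) * c := by group
        _ = p * (c * p) * c := by rw [hcomm]
        _ = p * c * (p * c) := by group
    have h2 : Triv ((p * p : K) : G) := by
      have h3 : ((p * p : K) : G) = (c * c)⁻¹ := eq_inv_of_mul_eq_one_left h1
      rw [h3]
      exact hTrivInv _ (mul_mem hcT hcT) (hTrivMul c hcT c hcT hcc hcc)
    have h3 : q (p * p) ∈ center (Bar K) := (hTrivZ _ (mul_mem hp hp)).mp h2
    have h4 : π (q (p * p)) = 1 := (B.ker _).mpr h3
    obtain ⟨a, b, hab⟩ := hcov.to_p _ (hqP p hp)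
    have ha : a = 0 := by
      rw [map_mul, map_mul, hab, (szData hF).p_sq] at h4
      have h5 := ((szData hF).p_inj _ _ _ _ (h4.trans (szData hF).p_zero.symm)).2
      exact (pow_eq_zero_iff (by positivity)).mp h5
    subst ha
    -- `p = zl b * w`
    set w := (zl b)⁻¹ * p with hw
    have hw1 : π (q w) = 1 := by rw [hw, map_mul, map_mul, map_inv, map_inv, hzlq, Z.pi, hab,
      inv_mul_cancel]
    have hwP : w ∈ (P : Subgroup K) := mul_mem (inv_mem (hzlP b)) hp
    have hwT := hPT w hwP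
    have hwc : Triv (w : G) := (hTrivZ w hwP).mpr ((B.ker _).mp hw1)
    have hpw : (p : G) = zl b * w := by rw [hw]; push_cast; group
    have hwcT : (w : G) * c ∈ T := mul_mem hwT hcT
    have hwcc : Triv ((w : G) * c) := hTrivMul _ hwT _ hcT hwc hcc
    have hx' : u = zl b * (w * c) := by rw [hup, hpw, mul_assoc]
    have hcomm2 := hTrivP _ hwcT hwcc (zl b) (hzlP b)
    have hsq : ((zl b : K) : G) * zl b = 1 := congrArg Subtype.val (zl_sq b)
    have h6 : (w : G) * c * (w * c) = 1 := by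
      calc (w : G) * c * (w * c) = (zl b * zl b) * (w * c * (w * c)) := by rw [hsq, one_mul]
        _ = zl b * (zl b * (w * c)) * (w * c) := by group
        _ = zl b * ((w * c) * zl b) * (w * c) := by rw [hcomm2]
        _ = zl b * (w * c) * (zl b * (w * c)) := by group
        _ = 1 := by rw [← hx']; exact huu
    rcases hTrivInvol _ hwcT hwcc h6 with h7 | h7
    · rw [hx', h7, mul_one]; exact hzE b
    · rw [hx', h7]; exact mul_mem (hzE b) htE
  have hcommval : ∀ x ∈ (P : Subgroup K), ∀ b, ⁅(x : G), ((zl b : K) : G)⁆ = 1 ∨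
      ⁅(x : G), ((zl b : K) : G)⁆ = t := by
    intro x hx b
    have h0 : (⁅x, zl b⁆ : K) ∈ (P : Subgroup K) := by
      rw [commutatorElement_def]
      exact mul_mem (mul_mem (mul_mem hx (hzlP b)) (inv_mem hx)) (inv_mem (hzlP b))
    rcases hval (q x) (hqP x hx) b with h | h
    · left
      have h1 : q ⁅x, zl b⁆ = 1 := by rw [map_commutatorElement, hzlq, h]
      exact congrArg Subtype.val (hone _ h0 h1)
    · right
      have h1 : q ⁅x, zl b⁆ = q tK := by rw [map_commutatorElement, hzlq, h]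
      exact congrArg Subtype.val (hinj _ h0 _ htP h1)
  have TE : ∀ u ∈ T, ∀ x ∈ E, ⁅u, x⁆ = 1 ∨ ⁅u, x⁆ = t := by
    rintro u hu _ ⟨x, ⟨b, hb⟩, rfl⟩
    obtain ⟨p, hp, hpc⟩ := hdec u hu
    have hpT := hPT p hp
    set c := (p : G)⁻¹ * u with hc
    have hcT : c ∈ T := mul_mem (inv_mem hpT) hu
    have hcc : Triv c := hpc
    have hup : u = p * c := by rw [hc]; group
    have hkey : ⁅u, ((zl b : K) : G)⁆ = ⁅(p : G), ((zl b : K) : G)⁆ := by
      have h1 := hTrivP c hcT hcc (zl b) (hzlP b)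
      have h2 : c * ((zl b : K) : G) * c⁻¹ = zl b := by rw [h1, mul_inv_cancel_right]
      rw [commutatorElement_def, commutatorElement_def, hup]
      calc (p : G) * c * zl b * (p * c)⁻¹ * (zl b : G)⁻¹ =
          p * (c * zl b * c⁻¹) * (p : G)⁻¹ * (zl b : G)⁻¹ := by group
        _ = _ := by rw [h2]
    have hv : ⁅u, ((zl b : K) : G)⁆ = 1 ∨ ⁅u, ((zl b : K) : G)⁆ = t := by
      rw [hkey]
      exact hcommval p hp b
    rcases hb with rfl | rfl
    · exact hv
    · have h3 : ⁅u, ((zl b * tK : K) : G)⁆ = ⁅u, ((zl b : K) : G)⁆ := by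
        have h4 := Tt u hu
        have h6 : t * u⁻¹ = u⁻¹ * t := by
          rw [mul_inv_eq_iff_eq_mul, mul_assoc, ← h4]; group
        have h5 : u * (zl b * t) * u⁻¹ = u * zl b * u⁻¹ * t := by
          rw [← mul_assoc, mul_assoc _ t, h6]; group
        show ⁅u, ((zl b : K) : G) * t⁆ = _
        rw [commutatorElement_def, h5, commutatorElement_def]
        group
      show ⁅u, ((zl b * tK : K) : G)⁆ = 1 ∨ ⁅u, ((zl b * tK : K) : G)⁆ = t
      rw [h3]; exact hv
  have hx : ∀ t' ∈ E, t' ≠ t → t' ≠ 1 → ∃ x ∈ T, x * t' = t' * x ∧ ∃ e ∈ E, ⁅x, e⁆ = t := by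
    rintro _ ⟨t', ⟨b, hb⟩, rfl⟩ - -
    -- two elements of `F`
    obtain ⟨k, hk⟩ := Cov.exists_unit_ne_one (F := F) hm hF
    have hk1 : (k : F) ≠ 1 := fun h => hk (by rw [h, one_pow])
    obtain ⟨x1, hx1, hx1'⟩ := hcov.from_p 1 0
    obtain ⟨x2, hx2, hx2'⟩ := hcov.from_p k 0
    have hex : ∃ x ∈ P0, (∃ a b, π x = (szData hF).p a b ∧ a ≠ 0) ∧ ⁅x, zh b⁆ = 1 := by
      rcases hval x1 hx1 b with h3 | h3
      · exact ⟨x1, hx1, ⟨1, 0, hx1', one_ne_zero⟩, h3⟩
      · rcases hval x2 hx2 b with h4 | h4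
        · exact ⟨x2, hx2, ⟨k, 0, hx2', k.ne_zero⟩, h4⟩
        · refine ⟨x1 * x2, mul_mem hx1 hx2,
            ⟨1 + k, _, by rw [map_mul, hx1', hx2', (szData hF).p_mul], ?_⟩, ?_⟩
          · intro h5
            exact hk1 (CharTwo.add_eq_zero.mp h5).symm
          · rw [hcov.cl (by rw [h4]; exact hcov.t_ker), h3, h4, hcov.t_sq]
    obtain ⟨x, hxP, ⟨a, b', hab, ha⟩, hxb⟩ := hex
    obtain ⟨x, hx, rfl⟩ := hPl x hxP
    obtain ⟨c, hc⟩ := hleft _ hxP a b' hab ha
    have h0 : ∀ b, (⁅x, zl b⁆ : K) ∈ (P : Subgroup K) := by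
      intro b
      rw [commutatorElement_def]
      exact mul_mem (mul_mem (mul_mem hx (hzlP b)) (inv_mem hx)) (inv_mem (hzlP b))
    have hxb' : (x : G) * zl b = zl b * x := by
      have h1 : (⁅x, zl b⁆ : K) = 1 := hone _ (h0 b) (by rw [map_commutatorElement, hzlq, hxb])
      rw [commutatorElement_eq_one_iff_mul_comm] at h1
      exact congrArg Subtype.val h1
    refine ⟨x, hPT x hx, ?_, zl c, hzE c, ?_⟩
    · rcases hb with rfl | rfl
      · exact hxb'
      · have := Tt _ (hPT x hx)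
        show (x : G) * (zl b * t) = zl b * t * x
        rw [← mul_assoc, hxb', mul_assoc, this, mul_assoc]
    · have h1 : (⁅x, zl c⁆ : K) = tK := hinj _ (h0 c) _ htP (by
        rw [map_commutatorElement, hzlq, hc])
      have := congrArg Subtype.val h1
      exact this
  exact CoverB.false_of_config t T E ht1 T2 Tt
    (fun X hX hTX hXt => Tmax X hX hTX (fun x hx => (memH x).mpr (hXt x hx)))
    htE ET Einv Esq TE hx (StandardComponent.AltFinal.exists_conj hna c.inv)

/-- **GH-COV (3).** -/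
theorem not_sz8 (h : Hyp G) {t : G} {K : Subgroup G} (c : Comp2 t K) (htK : t ∈ K)
    (hS : IsSz8 (STop K)) : False := by
  have := h.simple
  obtain ⟨F, _, _, hF, ⟨e⟩⟩ := hS
  exact false_of_suzuki h.nonComm h.rank4 c htK (F := F) (m := 1) le_rfl (by rw [hF]; norm_num) e

end Cfsg.Agent.GH.Cov.SzTwo
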