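import Mathlib
import Cfsg.Agent.GH.Cov.XAll

/-!
# GH-COV: the automorphism of `L` induced by an involution of `C(x) - K`

`tri`: type I, II or III.
-/

set_option autoImplicit false

open Subgroup Cfsg

namespace Cfsg.Agent.GH.Cov.Tri

open Cfsg.Agent.Intrinsic.Basic
open Cfsg.Agent.GH.Defs Cfsg.Agent.GH.Comp
open Cfsg.Agent.GH.Cov.LieData Cfsg.Agent.GH.Cov.Lft Cfsg.Agent.GH.Cov.XOfCore
open Cfsg.Agent.GH.Cov.XTypes Cfsg.Agent.GH.Cov.FrontX Cfsg.Agent.GH.Cov.XAll

universe u v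

variable {G : Type u} [Group G] [Finite G] {L : Type v} [Group L]

/-- The automorphism of `L` induced by an element of the normalizer of `K`, as a homomorphism. -/
def indHom {K : Subgroup G} (e : STop K ≃* L) : normalizer (K : Set G) →* MulAut L :=
  (MulAut.congr e).toMonoidHom.comp (L2Frame.act K)

theorem indHom_apply {K : Subgroup G} (e : STop K ≃* L) (a : normalizer (K : Set G)) (l : L) :
    indHom e a l = e (L2Frame.act K a (e.symm l)) := rfl

theorem act_mk {K : Subgroup G} (a : normalizer (K : Set G)) (x : Bar K) :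
    L2Frame.act K a (QuotientGroup.mk' (center (Bar K)) x) =
      QuotientGroup.mk' (center (Bar K)) (L2Frame.actBar K a x) := rfl

/-- `actBar a` lies over `indHom a`. -/
theorem proj_actBar {K : Subgroup G} (e : STop K ≃* L) (a : normalizer (K : Set G)) (x : Bar K) :
    proj K e (L2Frame.actBar K a x) = indHom e a (proj K e x) := by
  rw [indHom_apply, proj, MonoidHom.comp_apply, MonoidHom.comp_apply]
  show e _ = e (L2Frame.act K a (e.symm (e _)))
  rw [MulEquiv.symm_apply_apply, act_mk]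

theorem proj_mk {K : Subgroup G} (e : STop K ≃* L) (k : K) :
    proj K e (QuotientGroup.mk k) = e (topMap K k) := rfl

theorem exists_proj {K : Subgroup G} (e : STop K ≃* L) (l : L) :
    ∃ k : K, e (topMap K k) = l := by
  obtain ⟨k, hk⟩ := topMap_surjective K (e.symm l)
  exact ⟨k, by rw [hk, MulEquiv.apply_symm_apply]⟩

/-- Elements of `K` induce inner automorphisms. -/
theorem indHom_of_mem {K : Subgroup G} (e : STop K ≃* L) (k : K) :
    indHom e ⟨k, le_normalizer k.2⟩ = MulAut.conj (e (topMap K k)) := by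
  ext l
  rw [indHom_apply, L2Frame.act_of_mem, MulAut.conj_apply, MulAut.conj_apply, map_mul, map_mul, map_inv,
    MulEquiv.apply_symm_apply]

theorem range_conj_le {K : Subgroup G} (e : STop K ≃* L) :
    (MulAut.conj : L →* MulAut L).range ≤ (indHom e).range := by
  rintro _ ⟨l, rfl⟩
  obtain ⟨k, rfl⟩ := exists_proj e l
  exact ⟨_, indHom_of_mem e k⟩

theorem indHom_eq_one {K : Subgroup G} (hq : IsQuasisimple (Bar K)) (e : STop K ≃* L) {a : G}
    (ha : a ∈ normalizer (K : Set G)) : indHom e ⟨a, ha⟩ = 1 ↔ Fixes a K := by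
  rw [← L2Frame.act_eq_one_iff hq ha, indHom, MonoidHom.comp_apply]
  show MulAut.congr e _ = 1 ↔ _
  rw [map_eq_one_iff _ (MulAut.congr e).injective]

/-- An involution inducing an inner automorphism lies in `K`. -/
theorem mem_of_inner {K : Subgroup G} {x : G} (hq : IsQuasisimple (Bar K)) (e : STop K ≃* L)
    (hN : centralizer ({x} : Set G) ≤ normalizer (K : Set G)) (hKx : K ≤ centralizer ({x} : Set G))
    (hxK : x ∈ K)
    (hfix : ∀ (g : G) (n : ℕ), g ∈ centralizer ({x} : Set G) → g ^ 2 ^ n = 1 → Fixes g K → g = 1 ∨ g = x)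
    {a : G} (ha : a ∈ centralizer ({x} : Set G)) (haa : a * a = 1)
    (hinn : indHom e ⟨a, hN ha⟩ ∈ (MulAut.conj : L →* MulAut L).range) : a ∈ K := by
  obtain ⟨l, hl⟩ := hinn
  obtain ⟨k, rfl⟩ := exists_proj e l
  have h1 : (k : G)⁻¹ * a ∈ normalizer (K : Set G) := mul_mem (inv_mem (le_normalizer k.2)) (hN ha)
  have h2 : Fixes ((k : G)⁻¹ * a) K := by
    rw [← indHom_eq_one hq e h1]
    have : (⟨(k : G)⁻¹ * a, h1⟩ : normalizer (K : Set G)) = ⟨k, le_normalizer k.2⟩⁻¹ * ⟨a, hN ha⟩ := rfl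
    rw [this, map_mul, map_inv, indHom_of_mem, ← hl, inv_mul_cancel]
  set d := (k : G)⁻¹ * a with hd
  have hdC : d ∈ centralizer ({x} : Set G) := mul_mem (inv_mem (hKx k.2)) ha
  obtain ⟨n, m, hm, hnm⟩ := Nat.exists_eq_two_pow_mul_odd (n := orderOf d) (orderOf_pos d).ne'
  -- `d ^ m` is a 2-element fixing `K`
  have h3 : (d ^ m) ^ 2 ^ n = 1 := by rw [← pow_mul, mul_comm, ← hnm, pow_orderOf_eq_one]
  have h4 : Fixes (d ^ m) K := by
    have : d ^ m ∈ L2Frame.fix K := pow_mem (L2Frame.mem_fix.mpr h2) m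
    exact L2Frame.mem_fix.mp this
  have h5 : d ^ m ∈ K := by
    rcases hfix _ n (pow_mem hdC m) h3 h4 with h6 | h6
    · rw [h6]; exact one_mem _
    · rw [h6]; exact hxK
  -- `d ^ 2 ∈ K`
  have h6 : d ^ 2 ∈ K := by
    have e1 : d ^ 2 = (k : G)⁻¹ * (a * (k : G)⁻¹ * a⁻¹) := by
      rw [hd, pow_two, inv_eq_of_mul_eq_one_right haa]; group
    rw [e1]
    exact mul_mem (inv_mem k.2) (L2Frame.conj_mem (hN ha) (inv_mem k.2))
  have h7 : d ∈ K := by
    obtain ⟨r, hr⟩ := hm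
    have e1 : d = d ^ m * ((d ^ 2) ^ r)⁻¹ := by
      rw [hr, pow_succ, pow_mul]
      have : Commute ((d ^ 2) ^ r) d := (Commute.refl d).pow_left 2 |>.pow_left r
      rw [this.eq, mul_inv_cancel_right]
    rw [e1]
    exact mul_mem h5 (inv_mem (pow_mem h6 r))
  have h8 : a = k * d := by rw [hd]; group
  rw [h8]
  exact mul_mem k.2 h7

/-- Involutions of `C(x) - K` are of type I, II or III. -/
theorem tri (D : Data L) {K : Subgroup G} {x : G} (hq : IsQuasisimple (Bar K)) (e : STop K ≃* L)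
    {z : Bar K} (hctx : Ctx D.toCore (proj K e) z)
    (hN : centralizer ({x} : Set G) ≤ normalizer (K : Set G)) (hKx : K ≤ centralizer ({x} : Set G))
    (hxK : x ∈ K)
    (hfix : ∀ (g : G) (n : ℕ), g ∈ centralizer ({x} : Set G) → g ^ 2 ^ n = 1 → Fixes g K → g = 1 ∨ g = x)
    (hbad : ∀ (g : G) (hg : g ∈ centralizer ({x} : Set G)), ¬ Bad D.toCore (indHom e ⟨g, hN hg⟩))
    {a : G} (ha : a ∈ centralizer ({x} : Set G)) (haa : a * a = 1) (haK : a ∉ K) :
    XTypeI z (L2Frame.actBar K ⟨a, hN ha⟩) ∨ XTypeII (L2Frame.actBar K ⟨a, hN ha⟩) ∨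
      LieData.TypeIII D.toCore (indHom e ⟨a, hN ha⟩) := by
  have h1 : indHom e ⟨a, hN ha⟩ * indHom e ⟨a, hN ha⟩ = 1 := by
    rw [← map_mul]
    have : (⟨a, hN ha⟩ * ⟨a, hN ha⟩ : normalizer (K : Set G)) = 1 := Subtype.ext haa
    rw [this, map_one]
  have h2 : indHom e ⟨a, hN ha⟩ ∉ (MulAut.conj : L →* MulAut L).range := fun h =>
    haK (mem_of_inner hq e hN hKx hxK hfix ha haa h)
  have h3 : ∀ u : L, ¬ Bad D.toCore (indHom e ⟨a, hN ha⟩ * MulAut.conj u) := by
    intro u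
    obtain ⟨k, rfl⟩ := exists_proj e u
    have e1 : indHom e ⟨a, hN ha⟩ * MulAut.conj (e (topMap K k)) =
        indHom e ⟨a * k, hN (mul_mem ha (hKx k.2))⟩ := by
      rw [← indHom_of_mem, ← map_mul]
      rfl
    rw [e1]
    exact hbad _ (mul_mem ha (hKx k.2))
  rcases D.outer _ h1 h2 h3 with h4 | h4 | h4
  · exact Or.inl (xTypeI' hctx (proj_actBar e _) h4)
  · exact Or.inr (Or.inl (xTypeII' hctx (proj_actBar e _) h4))
  · exact Or.inr (Or.inr h4)

end Cfsg.Agent.GH.Cov.Tri
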