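import Mathlib

/-!
# GH-COV: the facts about `2.M₁₂` used in the elimination of the top `M₁₂`
-/

set_option autoImplicit false

open Subgroup

namespace Cfsg.Agent.GH.Cov.TwelveDefs

/-- The facts about `X = 2.M₁₂`, `z` the central involution.  `f` always is an involution different from `z`. -/
structure TM12 {X : Type*} [Group X] (z : X) : Prop where
  zz : z * z = 1
  z_ne : z ≠ 1
  central : ∀ x, x * z = z * x
  /-- (A) two classes of involutions different from `z`, interchanged by `z` -/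
  cls : ∀ f f' : X, f * f = 1 → f ≠ 1 → f ≠ z → f' * f' = 1 → f' ≠ 1 → f' ≠ z → IsConj f f' ∨ IsConj (f * z) f'
  /-- (C) `f` and `f z` are not both squares -/
  not_both : ∀ f s t : X, f * f = 1 → f ≠ 1 → f ≠ z → s * s = f → t * t = f * z → False
  /-- (C) `z` and one of `f`, `f z` are squares in the subgroup generated by the elements of order 3 of `C(f)` -/
  roots : ∀ f : X, f * f = 1 → f ≠ 1 → f ≠ z → ∃ s ∈ closure {y : X | y * f = f * y ∧ y ^ 3 = 1},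
    ∃ t ∈ closure {y : X | y * f = f * y ∧ y ^ 3 = 1}, s * s = z ∧ (t * t = f ∨ t * t = f * z)
  /-- (D) `C(f)` is generated by involutions -/
  invgen : ∀ f a : X, f * f = 1 → f ≠ 1 → f ≠ z → a * f = f * a → a ∈ closure {w : X | w * f = f * w ∧ w * w = 1}
  /-- (D) -/
  four : ∀ f : X, f * f = 1 → f ≠ 1 → f ≠ z → ∃ a, a * f = f * a ∧ (a ^ 4 = f ∨ a ^ 4 = f * z)
  no_four : ∀ a : X, a ^ 4 ≠ z
  /-- (G) `C(f)` is solvable -/
  solv : ∀ f : X, f * f = 1 → f ≠ 1 → f ≠ z → ∀ Y : Subgroup X, ⁅Y, Y⁆ = Y → (∀ y ∈ Y, y * f = f * y) → Y = ⊥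
  /-- `O(C(f)) = 1` -/
  core : ∀ f : X, f * f = 1 → f ≠ 1 → f ≠ z → ∀ N : Subgroup X, (∀ n ∈ N, n * f = f * n) →
    (∀ g, g * f = f * g → ∀ n ∈ N, g * n * g⁻¹ ∈ N) → Odd (Nat.card N) → N = ⊥
  /-- `|Out X| ≤ 2` -/
  out : ∀ α β : MulAut X, α ∉ (MulAut.conj : X →* MulAut X).range → β ∉ (MulAut.conj : X →* MulAut X).range →
    α * β ∈ (MulAut.conj : X →* MulAut X).range
  /-- (F) outer involutory automorphisms -/
  outer : ∀ α : MulAut X, α * α = 1 → α ∉ (MulAut.conj : X →* MulAut X).range →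
    (∃ Y : Subgroup X, ⁅Y, Y⁆ = Y ∧ (∀ y ∈ Y, α y = y) ∧ ∃ x ∈ Y, x * x = 1 ∧ x ≠ 1) ∧
      ∀ m, α m * m = 1 → ∃ n, m = α n * n⁻¹

end Cfsg.Agent.GH.Cov.TwelveDefs
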