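import Cfsg.Agent.GH.Cov.FrameSyl
import Cfsg.Agent.GH.LowRankMathieu
import Cfsg.Agent.GH.MTwCenter
import Cfsg.Agent.Schreier.MTwelve

/-!
# GH-COV, `2.M₁₂`: the front end

A 2-component `K` with even centre of `C(x)` whose top is `M₁₂`: `x ∈ K`, the image of `x` generates
`Z(K/O(K))`, the 2-elements of `C(x)` fixing `K` are `1` and `x`, and `K` is normal in `C(x)`.
-/

set_option autoImplicit false

open Cfsg Subgroup
open Cfsg.Agent.Intrinsic.Basic
open Cfsg.Agent.GH.Defs Cfsg.Agent.GH.Rank Cfsg.Agent.GH.Comp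

namespace Cfsg.Agent.GH.Cov.TwelveFront

universe u v

variable {G : Type u} [Group G]

/-- The projection `K/O(K) → STop K ≃* L`. -/
def pr {L : Type v} [Group L] (K : Subgroup G) (e : STop K ≃* L) : Bar K →* L :=
  e.toMonoidHom.comp (QuotientGroup.mk' (center (Bar K)))

theorem pr_surjective {L : Type v} [Group L] (K : Subgroup G) (e : STop K ≃* L) :
    Function.Surjective (pr K e) :=
  e.surjective.comp (QuotientGroup.mk'_surjective _)

theorem pr_eq_one {L : Type v} [Group L] {K : Subgroup G} {e : STop K ≃* L} {x : Bar K} :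
    pr K e x = 1 ↔ x ∈ center (Bar K) := by
  change e (QuotientGroup.mk x) = 1 ↔ _
  rw [map_eq_one_iff e e.injective]
  exact QuotientGroup.eq_one_iff x

/-- Central elements of `K / O(K)` are 2-elements. -/
theorem center_two [Finite G] {K : Subgroup G} {x : Bar K} (hx : x ∈ center (Bar K)) :
    ∃ n : ℕ, x ^ 2 ^ n = 1 := by
  obtain ⟨n, m, hm, hnm⟩ := Nat.exists_eq_two_pow_mul_odd (n := orderOf x) (orderOf_pos x).ne'
  refine ⟨n, ?_⟩
  have hcen : x ^ 2 ^ n ∈ center (Bar K) := pow_mem hx _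
  have hyo : (x ^ 2 ^ n) ^ m = 1 := by rw [← pow_mul, ← hnm, pow_orderOf_eq_one]
  have hn : (zpowers (x ^ 2 ^ n)).Normal := ⟨fun a ha g => by
    have h2 : a ∈ center (Bar K) := (zpowers_le.mpr hcen) ha
    have h3 : g * a * g⁻¹ = a := by
      rw [mul_inv_eq_iff_eq_mul]
      exact mem_center_iff.mp h2 g
    rwa [h3]⟩
  have hodd : Odd (Nat.card (zpowers (x ^ 2 ^ n))) := by
    rw [Nat.card_zpowers]
    exact hm.of_dvd_nat (orderOf_dvd_of_pow_eq_one hyo)
  have h1 : zpowers (x ^ 2 ^ n) ≤ oddCore (Bar K) := le_sSup ⟨hn, Nat.coprime_two_right.mpr hodd⟩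
  have h2 : oddCore (Bar K) = ⊥ := Cfsg.Agent.Lib.Cores.pPrimeCore_quotient_pPrimeCore (G := K) 2
  rw [h2] at h1
  exact mem_bot.mp (h1 (mem_zpowers _))

/-- `K/O(K)` is a perfect double cover of `M₁₂`. -/
theorem exists_cov [Finite G] {H K : Subgroup G} (hK : IsComp H K) (he : EvenCenter K)
    (e : STop K ≃* ↥Spor.M12) : ∃ z : Bar K, MTwCover.Cov (pr K e) z := by
  have hs : IsSimpleGroup ↥Spor.M12 := Schreier.MTwelve.isSimpleGroup
  refine MTwCenter.exists_cov (pr K e) (pr_surjective K e) ?_ ?_ ?_ ?_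
  · ext x
    rw [MonoidHom.mem_ker]
    exact pr_eq_one
  · exact (Group.isPerfect_def).mp (quasisimple hK).1
  · intro a
    obtain ⟨n, hn⟩ := center_two a.2
    exact ⟨n, Subtype.ext (by simpa using hn)⟩
  · intro hbot
    have h2 : Nat.card (center (Bar K)) = 1 := by rw [hbot]; exact card_bot
    have h3 : Even (Nat.card (center (Bar K))) := he
    rw [h2] at h3
    exact absurd h3 (by decide)

/-- The situation of the `2.M₁₂` kill. -/
theorem front [Finite G] (h4 : SectionalPRankLE 2 4 G) {x : G} {K : Subgroup G} (c : Comp2 x K)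
    (he : EvenCenter K) (hiso : Spor.IsoM12 (STop K)) :
    ∃ hx : x ∈ K,
      (∀ e : STop K ≃* ↥Spor.M12, MTwCover.Cov (pr K e) (QuotientGroup.mk' (oddCore ↥K) ⟨x, hx⟩)) ∧
      centralizer ({x} : Set G) ≤ normalizer (K : Set G) ∧
      (∀ g ∈ centralizer ({x} : Set G), (∃ n : ℕ, g ^ 2 ^ n = 1) → Fixes g K → g = 1 ∨ g = x) := by
  have hr : 4 ≤ srank 2 (STop K) := by
    by_contra hcon
    exact LowRankMathieu.isoM12 hiso ((srank_le_iff (by norm_num)).1 (by omega))
  obtain ⟨e₀⟩ := hiso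
  obtain ⟨z, hz⟩ := exists_cov c.comp he e₀
  obtain ⟨hxK, hxz, hfix⟩ := FrameSyl.eq_of_fixes h4 c hr (ub := z) (fun u hu =>
    hz.ker u (pr_eq_one.mpr hu))
  refine ⟨hxK, fun e => ?_, fun g hg =>
    FrameSyl.le_normalizer_comp h4 c hr g (mem_centralizer_singleton_iff.mp hg),
    fun g hg ⟨n, hn⟩ hf => hfix g (mem_centralizer_singleton_iff.mp hg) n hn hf⟩
  rw [hxz]
  exact
    { surj := pr_surjective K e
      ker := fun u hu => hz.ker u (pr_eq_one.mpr (pr_eq_one.mp hu))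
      hz := hz.hz
      hz1 := hz.hz1
      hπz := pr_eq_one.mpr (pr_eq_one.mp hz.hπz)
      comm := hz.comm
      perfect := hz.perfect }

end Cfsg.Agent.GH.Cov.TwelveFront
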