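import Mathlib
import Cfsg.Agent.GH.Cov.TwelveDefs
import Cfsg.Agent.GH.Cov.Lift
import Cfsg.Agent.OddHalf.D9.ExTrick

/-!
# GH-COV: no 2-component with top `M₁₂` and even centre

The argument of helper277 (ODD, D9), modulo odd cores.  `θ : C(z) → B` is the projection modulo `O(C(z))`,
`ι : X → B` the embedding of `K / O(K) = 2.M₁₂`.
-/

set_option autoImplicit false

open Subgroup
open scoped commutatorElement

namespace Cfsg.Agent.GH.Cov.TwelveKill

open Cfsg.Agent.GH.Cov.TwelveDefs Cfsg.Agent.GH.Cov.Lift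

/-! ### homomorphisms with odd kernel -/

section odd

variable {Γ B : Type*} [Group Γ] [Finite Γ] [Group B] {θ : Γ →* B}

theorem conj_of_eq (hodd : Odd (Nat.card θ.ker)) {a b : Γ} (ha : a * a = 1) (hb : b * b = 1) (h : θ a = θ b) :
    ∃ k : Γ, k * a * k⁻¹ = b ∧ θ k = 1 := by
  obtain ⟨k, hk, hk'⟩ := conj_of_mul_mem (N := θ.ker) hodd ha hb (by
    rw [MonoidHom.mem_ker, map_mul, h, ← map_mul, hb, map_one])
  exact ⟨k, hk', hk⟩

theorem eq_one_of_ker (hodd : Odd (Nat.card θ.ker)) {a : Γ} (ha : a * a = 1) (h : θ a = 1) : a = 1 := by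
  obtain ⟨k, hk, -⟩ := conj_of_eq hodd ha (one_mul 1) (by rw [h, map_one])
  calc a = k⁻¹ * (k * a * k⁻¹) * k := by group
    _ = 1 := by rw [hk]; group

theorem eq_of_comm (hodd : Odd (Nat.card θ.ker)) {a b : Γ} (ha : a * a = 1) (hb : b * b = 1)
    (hab : a * b = b * a) (h : θ a = θ b) : a = b := by
  have h1 : a * b = 1 := eq_one_of_ker hodd (by
    calc a * b * (a * b) = a * (b * a) * b := by group
      _ = (a * a) * (b * b) := by rw [← hab]; group
      _ = 1 := by rw [ha, hb, one_mul]) (by rw [map_mul, h, ← map_mul, hb, map_one])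
  calc a = a * b * b := by rw [mul_assoc, hb, mul_one]
    _ = b := by rw [h1, one_mul]

/-- lifts commuting with an involution -/
theorem exists_lift_comm (hodd : Odd (Nat.card θ.ker)) (hs : Function.Surjective θ) {a : Γ} (ha : a * a = 1) {x : B}
    (hx : x * θ a = θ a * x) : ∃ g : Γ, θ g = x ∧ g * a = a * g := by
  obtain ⟨g₀, rfl⟩ := hs x
  obtain ⟨k, hk, hk1⟩ := conj_of_eq hodd (a := g₀ * a * g₀⁻¹) (b := a) (by
    calc g₀ * a * g₀⁻¹ * (g₀ * a * g₀⁻¹) = g₀ * (a * a) * g₀⁻¹ := by group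
      _ = 1 := by rw [ha]; group) ha (by rw [map_mul, map_mul, map_inv, hx]; group)
  refine ⟨k * g₀, by rw [map_mul, hk1, one_mul], ?_⟩
  calc k * g₀ * a = (k * (g₀ * a * g₀⁻¹) * k⁻¹) * (k * g₀) := by group
    _ = a * (k * g₀) := by rw [hk]

omit [Finite Γ] in
/-- an odd power of a lift of an involution is an involution -/
theorem exists_odd_pow (hodd : Odd (Nat.card θ.ker)) {g : Γ} (hg : θ g * θ g = 1) :
    ∃ m : ℕ, g ^ m * g ^ m = 1 ∧ θ (g ^ m) = θ g := by
  have h1 : g * g ∈ θ.ker := by rw [MonoidHom.mem_ker, map_mul, hg]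
  obtain ⟨r, hr⟩ := hodd
  have h2 : (⟨g * g, h1⟩ : θ.ker) ^ Nat.card θ.ker = 1 := pow_card_eq_one'
  have h4 : (g * g) ^ Nat.card θ.ker = 1 := congrArg Subtype.val h2
  refine ⟨Nat.card θ.ker, ?_, ?_⟩
  · rw [← pow_add, ← two_mul, pow_mul, pow_two]
    exact h4
  · rw [hr, map_pow, pow_succ, pow_mul, pow_two, hg, one_pow, one_mul]

/-- involutions commuting with an involution lift -/
theorem exists_inv_lift_comm (hodd : Odd (Nat.card θ.ker)) (hs : Function.Surjective θ) {a : Γ} (ha : a * a = 1)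
    {x : B} (hx : x * θ a = θ a * x) (hxx : x * x = 1) : ∃ g : Γ, θ g = x ∧ g * a = a * g ∧ g * g = 1 := by
  obtain ⟨g, rfl, hg⟩ := exists_lift_comm hodd hs ha hx
  obtain ⟨m, hm1, hm2⟩ := exists_odd_pow hodd hxx
  exact ⟨g ^ m, hm2, ((show Commute g a from hg).pow_left m).eq, hm1⟩

/-- perfect subgroups lift to perfect subgroups -/
theorem exists_perfect {U : Subgroup Γ} {Y : Subgroup B} (hY : ⁅Y, Y⁆ = Y) (hU : Y ≤ U.map θ) :
    ∃ V : Subgroup Γ, V ≤ U ∧ ⁅V, V⁆ = V ∧ V.map θ = Y := by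
  have hne : {V : Subgroup Γ | V ≤ U ∧ V.map θ = Y}.Nonempty := by
    refine ⟨U ⊓ Y.comap θ, inf_le_left, ?_⟩
    apply le_antisymm
    · rintro _ ⟨a, ha, rfl⟩; exact ha.2
    · intro y hy
      obtain ⟨a, ha, rfl⟩ := hU hy
      exact ⟨a, ⟨ha, hy⟩, rfl⟩
  obtain ⟨V, hV⟩ := (Set.toFinite {V : Subgroup Γ | V ≤ U ∧ V.map θ = Y}).exists_minimal hne
  refine ⟨V, hV.prop.1, ?_, hV.prop.2⟩
  have h1 : ⁅V, V⁆ ≤ V := commutator_le.mpr (fun a ha b hb => by
    rw [commutatorElement_def]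
    exact V.mul_mem (V.mul_mem (V.mul_mem ha hb) (V.inv_mem ha)) (V.inv_mem hb))
  exact le_antisymm h1 (hV.le_of_le ⟨h1.trans hV.prop.1, by rw [map_commutator, hV.prop.2, hY]⟩ h1)

end odd

/-! ### the situation -/

variable {G : Type*} [Group G] {B X : Type*} [Group B] [Group X]

structure Sit (z : G) (θ : centralizer ({z} : Set G) →* B) (ι : X →* B) (act : B →* MulAut X) (ζ : X) :
    Prop where
  z_sq : z * z = 1
  z_ne : z ≠ 1
  odd : Odd (Nat.card θ.ker)
  surj : Function.Surjective θ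
  inj : Function.Injective ι
  θz : θ ⟨z, mem_centralizer_singleton_iff.mpr rfl⟩ = ι ζ
  act_ι : ∀ b x, ι (act b x) = b * ι x * b⁻¹
  cen : ∀ b, act b = 1 → b ∈ ι.range
  facts : TM12 ζ

/-- an element of `C(z)` -/
abbrev el {z g : G} (h : g * z = z * g) : centralizer ({z} : Set G) := ⟨g, mem_centralizer_singleton_iff.mpr h⟩

namespace Sit

variable {z : G} {θ : centralizer ({z} : Set G) →* B} {ι : X →* B} {act : B →* MulAut X} {ζ : X}

theorem comm (c : centralizer ({z} : Set G)) : (c : G) * z = z * c := mem_centralizer_singleton_iff.mp c.2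

section basic

variable (S : Sit z θ ι act ζ)
include S

theorem act_of_ι (x : X) : act (ι x) = MulAut.conj x := by
  ext y
  apply S.inj
  rw [S.act_ι, MulAut.conj_apply, map_mul, map_mul, map_inv]

theorem mem_of_act {b : B} (h : act b ∈ (MulAut.conj : X →* MulAut X).range) : b ∈ ι.range := by
  obtain ⟨x, hx⟩ := h
  have h1 : act ((ι x)⁻¹ * b) = 1 := by
    rw [map_mul, map_inv, S.act_of_ι, ← hx, inv_mul_cancel]
  obtain ⟨y, hy⟩ := S.cen _ h1
  exact ⟨x * y, by rw [map_mul, hy]; group⟩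

theorem mul_mem' {b b' : B} (hb : b ∉ ι.range) (hb' : b' ∉ ι.range) : b * b' ∈ ι.range := by
  apply S.mem_of_act
  rw [map_mul]
  exact S.facts.out _ _ (fun h => hb (S.mem_of_act h)) (fun h => hb' (S.mem_of_act h))

theorem sq_mem (b : B) : b * b ∈ ι.range := by
  by_cases hb : b ∈ ι.range
  · exact mul_mem hb hb
  · exact S.mul_mem' hb hb

theorem three_mem {b : B} (h : b ^ 3 = 1) : b ∈ ι.range := by
  have h1 : b = (b * b)⁻¹ := by
    apply eq_inv_of_mul_eq_one_left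
    rw [← h]
    simp only [pow_succ, pow_zero, one_mul, mul_assoc]
  rw [h1]
  exact inv_mem (S.sq_mem b)

theorem conj_mem {b r : B} (hr : r ∈ ι.range) : b * r * b⁻¹ ∈ ι.range := by
  obtain ⟨x, rfl⟩ := hr
  exact ⟨act b x, S.act_ι b x⟩

theorem comm_mem (b b' : B) : ⁅b, b'⁆ ∈ ι.range := by
  rw [commutatorElement_def]
  by_cases hb : b ∈ ι.range
  · have e : b * b' * b⁻¹ * b'⁻¹ = b * (b' * b⁻¹ * b'⁻¹) := by group
    rw [e]
    exact mul_mem hb (S.conj_mem (inv_mem hb))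
  · by_cases hb' : b' ∈ ι.range
    · exact mul_mem (S.conj_mem hb') (inv_mem hb')
    · have e : b * b' * b⁻¹ * b'⁻¹ = (b * b') * (b⁻¹ * b'⁻¹) := by group
      rw [e]
      exact mul_mem (S.mul_mem' hb hb') (S.mul_mem' (fun h => hb (by simpa using inv_mem h))
        (fun h => hb' (by simpa using inv_mem h)))

theorem perf_le {Y : Subgroup B} (hY : ⁅Y, Y⁆ = Y) : Y ≤ ι.range := by
  rw [← hY, commutator_le]
  intro a _ b _
  exact S.comm_mem a b

end basic

section main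

variable [Finite G] (S : Sit z θ ι act ζ)
include S

/-- an involution of `C(z)` outside `K O` -/
theorem exists_perf {e : G} (hez : e * z = z * e) (hee : e * e = 1) (hr : θ (el hez) ∉ ι.range) :
    ∃ Y : Subgroup G, ⁅Y, Y⁆ = Y ∧ (∀ y ∈ Y, y * z = z * y) ∧ (∀ y ∈ Y, y * e = e * y) ∧
      ∃ x ∈ Y, x * x = 1 ∧ x ≠ 1 ∧ (x = z ∨ IsConj e (e * x)) := by
  have hee' : el hez * el hez = 1 := Subtype.ext hee
  have ha2 : act (θ (el hez)) * act (θ (el hez)) = 1 := by rw [← map_mul, ← map_mul, hee', map_one, map_one]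
  obtain ⟨⟨Y, hY, hYα, x, hxY, hxx, hx1⟩, hL⟩ := S.facts.outer _ ha2 (fun h => hr (S.mem_of_act h))
  have hcom : ∀ y ∈ Y, ι y * θ (el hez) = θ (el hez) * ι y := by
    intro y hy
    have h1 := S.act_ι (θ (el hez)) y
    rw [hYα y hy] at h1
    exact (mul_inv_eq_iff_eq_mul.mp h1.symm).symm
  obtain ⟨V, hVU, hV, hVm⟩ := exists_perfect (θ := θ) (U := centralizer ({el hez} : Set (centralizer ({z} : Set G))))
    (Y := Y.map ι) (by rw [← map_commutator, hY]) (by
      rintro _ ⟨y, hy, rfl⟩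
      obtain ⟨g, hg1, hg2⟩ := exists_lift_comm S.odd S.surj hee' (hcom y hy)
      exact ⟨g, mem_centralizer_singleton_iff.mpr hg2, hg1⟩)
  obtain ⟨x₀, hx₀, hx₀'⟩ : ι x ∈ V.map θ := by rw [hVm]; exact ⟨x, hxY, rfl⟩
  obtain ⟨m, hm1, hm2⟩ := exists_odd_pow (θ := θ) S.odd (g := x₀) (by rw [hx₀', ← map_mul, hxx, map_one])
  have hm3 : θ (x₀ ^ m) = ι x := by rw [hm2, hx₀']
  refine ⟨V.map (centralizer ({z} : Set G)).subtype, by rw [← map_commutator, hV], ?_, ?_,
    ((x₀ ^ m : centralizer ({z} : Set G)) : G), ⟨_, pow_mem hx₀ m, rfl⟩, congrArg Subtype.val hm1, ?_, ?_⟩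
  · rintro _ ⟨v, -, rfl⟩
    exact comm v
  · rintro _ ⟨v, hv, rfl⟩
    exact congrArg Subtype.val (mem_centralizer_singleton_iff.mp (hVU hv))
  · intro h
    apply hx1
    apply S.inj
    have : x₀ ^ m = 1 := Subtype.ext h
    rw [← hm3, this, map_one, map_one]
  · by_cases hxz : x = ζ
    · left
      have h1 : x₀ ^ m = el rfl := eq_of_comm S.odd hm1 (Subtype.ext S.z_sq) (Subtype.ext (comm _))
        (by rw [hm3, hxz, ← S.θz])
      exact congrArg Subtype.val h1
    · right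
      obtain ⟨n, hn⟩ := hL x (by rw [hYα x hxY, hxx])
      obtain ⟨g, hg⟩ := S.surj (ι n)
      have hcx : el hez * x₀ ^ m = x₀ ^ m * el hez := (mem_centralizer_singleton_iff.mp (hVU (pow_mem hx₀ m))).symm
      obtain ⟨k, hk, -⟩ := conj_of_eq (θ := θ) S.odd (a := g * el hez * g⁻¹) (b := el hez * x₀ ^ m) (by
          calc g * el hez * g⁻¹ * (g * el hez * g⁻¹) = g * (el hez * el hez) * g⁻¹ := by group
            _ = 1 := by rw [hee']; group) (by
          calc el hez * x₀ ^ m * (el hez * x₀ ^ m) = el hez * (x₀ ^ m * el hez) * x₀ ^ m := by group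
            _ = (el hez * el hez) * (x₀ ^ m * x₀ ^ m) := by rw [← hcx]; group
            _ = 1 := by rw [hee', hm1, one_mul]) (by
          have h2 : θ (el hez) * θ (el hez) = 1 := by rw [← map_mul, hee', map_one]
          rw [map_mul, map_mul, map_inv, hg, map_mul, hm3]
          rw [hn, map_mul, S.act_ι, map_inv]
          calc ι n * θ (el hez) * (ι n)⁻¹ = (θ (el hez) * θ (el hez)) * (ι n * θ (el hez) * (ι n)⁻¹) := by
                rw [h2, one_mul]
            _ = θ (el hez) * (θ (el hez) * ι n * (θ (el hez))⁻¹ * (ι n)⁻¹) := by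
                rw [inv_eq_of_mul_eq_one_left h2]; group)
      refine isConj_iff.mpr ⟨((k * g : centralizer ({z} : Set G)) : G), ?_⟩
      have h3 := congrArg Subtype.val hk
      have h4 : (k : G) * (g * e * (g : G)⁻¹) * (k : G)⁻¹ = e * ((x₀ ^ m : centralizer ({z} : Set G)) : G) := h3
      rw [← h4]
      show (k : G) * g * e * ((k : G) * g)⁻¹ = _
      group

/-- The image of an involution of `C(z)` different from `z`. -/
theorem data {f : G} (hfz : f * z = z * f) (hff : f * f = 1) (hf1 : f ≠ 1) (hne : f ≠ z) {φ : X}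
    (hφ : θ (el hfz) = ι φ) : φ * φ = 1 ∧ φ ≠ 1 ∧ φ ≠ ζ := by
  have hff' : el hfz * el hfz = 1 := Subtype.ext hff
  refine ⟨?_, ?_, ?_⟩
  · apply S.inj
    rw [map_mul, ← hφ, ← map_mul, hff', map_one, map_one]
  · intro h
    rw [h, map_one] at hφ
    exact hf1 (congrArg Subtype.val (eq_one_of_ker S.odd hff' hφ))
  · intro h
    rw [h, ← S.θz] at hφ
    exact hne (congrArg Subtype.val (eq_of_comm S.odd hff' (Subtype.ext S.z_sq) (Subtype.ext hfz) hφ))

/-- perfect subgroups of `C(z) ∩ C(f)`, `f ∈ K O`, have no involutions -/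
theorem perf_false {f : G} (hfz : f * z = z * f) (hff : f * f = 1) (hf1 : f ≠ 1) (hne : f ≠ z)
    (hr : θ (el hfz) ∈ ι.range) {Y : Subgroup G} (hY : ⁅Y, Y⁆ = Y) (hYz : ∀ y ∈ Y, y * z = z * y)
    (hYf : ∀ y ∈ Y, y * f = f * y) {x : G} (hx : x ∈ Y) (hxx : x * x = 1) : x = 1 := by
  obtain ⟨φ, hφ⟩ := hr
  obtain ⟨h1, h2, h3⟩ := S.data hfz hff hf1 hne hφ.symm
  set Y₁ : Subgroup (centralizer ({z} : Set G)) := Y.subgroupOf _ with hY₁
  have hm : Y₁.map (centralizer ({z} : Set G)).subtype = Y := by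
    rw [hY₁, subgroupOf_map_subtype, inf_eq_left]
    exact fun y hy => mem_centralizer_singleton_iff.mpr (hYz y hy)
  have hP1 : ⁅Y₁, Y₁⁆ = Y₁ := by
    apply map_injective (centralizer ({z} : Set G)).subtype_injective
    rw [map_commutator, hm, hY]
  have hP2 : ⁅Y₁.map θ, Y₁.map θ⁆ = Y₁.map θ := by rw [← map_commutator, hP1]
  have hle := S.perf_le hP2
  have hP3m : ((Y₁.map θ).comap ι).map ι = Y₁.map θ := by
    rw [map_comap_eq, inf_eq_right]
    exact hle
  have hP3 : ⁅(Y₁.map θ).comap ι, (Y₁.map θ).comap ι⁆ = (Y₁.map θ).comap ι := by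
    apply map_injective S.inj
    rw [map_commutator, hP3m, hP2]
  have h4 := S.facts.solv φ h1 h2 h3 _ hP3 (by
    rintro y ⟨c, hc, hcy⟩
    apply S.inj
    rw [map_mul, map_mul, ← hcy, hφ, ← map_mul, ← map_mul]
    exact congrArg θ (Subtype.ext (hYf c hc)))
  rw [h4, Subgroup.map_bot] at hP3m
  have hxz := hYz x hx
  have h5 : θ (el hxz) ∈ Y₁.map θ := ⟨el hxz, hx, rfl⟩
  rw [← hP3m, mem_bot] at h5
  exact congrArg Subtype.val (eq_one_of_ker S.odd (Subtype.ext hxx) h5)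

/-- step (2), first half: the swapping element -/
theorem exists_swap {g : G} (hgz : g * z * g⁻¹ * z = z * (g * z * g⁻¹)) (hne : g * z * g⁻¹ ≠ z)
    (hr : θ (el hgz) ∈ ι.range) : ∃ n : G, n * z * n⁻¹ = g * z * g⁻¹ ∧
      (n * (g * z * g⁻¹) * n⁻¹ = z ∨ n * (g * z * g⁻¹) * n⁻¹ = z * (g * z * g⁻¹)) := by
  set f : G := g * z * g⁻¹ with hf
  have hff : f * f = 1 := by
    rw [hf]
    calc g * z * g⁻¹ * (g * z * g⁻¹) = g * (z * z) * g⁻¹ := by group
      _ = 1 := by rw [S.z_sq]; group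
  have hf1 : f ≠ 1 := by
    intro h
    apply S.z_ne
    calc z = g⁻¹ * f * g := by rw [hf]; group
      _ = 1 := by rw [h]; group
  set f' : G := g⁻¹ * z * g with hf'
  have hf'z : f' * z = z * f' := by
    rw [hf']
    calc g⁻¹ * z * g * z = g⁻¹ * (z * (g * z * g⁻¹)) * g := by group
      _ = g⁻¹ * (g * z * g⁻¹ * z) * g := by rw [hgz]
      _ = z * (g⁻¹ * z * g) := by group
  have hf'f' : f' * f' = 1 := by
    rw [hf']
    calc g⁻¹ * z * g * (g⁻¹ * z * g) = g⁻¹ * (z * z) * g := by group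
      _ = 1 := by rw [S.z_sq]; group
  have hf'1 : f' ≠ 1 := by
    intro h
    apply S.z_ne
    calc z = g * f' * g⁻¹ := by rw [hf']; group
      _ = 1 := by rw [h]; group
  have hf'ne : f' ≠ z := by
    intro h
    apply hne
    calc f = g * z * g⁻¹ := rfl
      _ = g * f' * g⁻¹ := by rw [h]
      _ = z := by rw [hf']; group
  have hr' : θ (el hf'z) ∈ ι.range := by
    by_contra hcon
    obtain ⟨Y, hY, hYz, hYf, x, hx, hxx, hx1, -⟩ := S.exists_perf hf'z hf'f' hcon
    have h1 := S.perf_false hgz hff hf1 hne hr (Y := Y.map (MulAut.conj g).toMonoidHom)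
      (by rw [← map_commutator, hY]) (by
        rintro _ ⟨y, hy, rfl⟩
        show g * y * g⁻¹ * z = z * (g * y * g⁻¹)
        calc g * y * g⁻¹ * z = g * (y * f') * g⁻¹ := by rw [hf']; group
          _ = z * (g * y * g⁻¹) := by rw [hYf y hy, hf']; group) (by
        rintro _ ⟨y, hy, rfl⟩
        show g * y * g⁻¹ * f = f * (g * y * g⁻¹)
        calc g * y * g⁻¹ * f = g * (y * z) * g⁻¹ := by rw [hf]; group
          _ = f * (g * y * g⁻¹) := by rw [hYz y hy, hf]; group) (x := g * x * g⁻¹) ⟨x, hx, rfl⟩ (by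
        calc g * x * g⁻¹ * (g * x * g⁻¹) = g * (x * x) * g⁻¹ := by group
          _ = 1 := by rw [hxx]; group)
    exact hx1 (by
      calc x = g⁻¹ * (g * x * g⁻¹) * g := by group
        _ = 1 := by rw [h1]; group)
  obtain ⟨φ, hφ⟩ := hr
  obtain ⟨φ', hφ'⟩ := hr'
  obtain ⟨h1, h2, h3⟩ := S.data hgz hff hf1 hne hφ.symm
  obtain ⟨h4, h5, h6⟩ := S.data hf'z hf'f' hf'1 hf'ne hφ'.symm
  -- an element of `C(z)` mapping `f'` to `f` or `f z`
  obtain ⟨w, hwz, hww, hw, k, hk⟩ : ∃ (w : G) (hwz : w * z = z * w), w * w = 1 ∧ (w = f ∨ w = f * z) ∧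
      ∃ k : X, k * φ' * k⁻¹ ∈ ({y | θ (el hwz) = ι y} : Set X) := by
    rcases S.facts.cls φ φ' h1 h2 h3 h4 h5 h6 with h7 | h7
    · obtain ⟨k, hk⟩ := isConj_iff.mp h7.symm
      exact ⟨f, hgz, hff, Or.inl rfl, k, by rw [hk]; exact hφ.symm⟩
    · obtain ⟨k, hk⟩ := isConj_iff.mp h7.symm
      have h8 : f * z * z = z * (f * z) := by
        calc f * z * z = (z * f) * z := by rw [hgz]
          _ = z * (f * z) := by group
      refine ⟨f * z, h8, ?_, Or.inr rfl, k, ?_⟩
      · calc f * z * (f * z) = f * (z * f) * z := by group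
          _ = (f * f) * (z * z) := by rw [← hgz]; group
          _ = 1 := by rw [hff, S.z_sq, one_mul]
      · rw [hk]
        show θ (el h8) = ι (φ * ζ)
        have h9 : el h8 = el hgz * el rfl := rfl
        rw [h9, map_mul, ← hφ, S.θz, map_mul]
  obtain ⟨c, hc⟩ := S.surj (ι k)
  obtain ⟨o, ho, -⟩ := conj_of_eq (θ := θ) S.odd (a := c * el hf'z * c⁻¹) (b := el hwz) (by
      have h7 : el hf'z * el hf'z = 1 := Subtype.ext hf'f'
      calc c * el hf'z * c⁻¹ * (c * el hf'z * c⁻¹) = c * (el hf'z * el hf'z) * c⁻¹ := by group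
        _ = 1 := by rw [h7]; group) (Subtype.ext hww) (by
      have h7 : θ (el hwz) = ι (k * φ' * k⁻¹) := hk
      rw [h7, map_mul, map_mul, map_inv, hc, ← hφ', map_mul, map_mul, map_inv])
  have h7 := congrArg Subtype.val ho
  have h8 : (o : G) * ((c : G) * f' * (c : G)⁻¹) * (o : G)⁻¹ = w := h7
  set h : G := (o : G) * c with hh
  have hhz : h * z = z * h := comm (o * c)
  have h9 : h * f' * h⁻¹ = w := by rw [← h8, hh]; group
  have h10 : g * h⁻¹ * z * (g * h⁻¹)⁻¹ = f := by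
    calc g * h⁻¹ * z * (g * h⁻¹)⁻¹ = g * (h⁻¹ * (z * h)) * g⁻¹ := by group
      _ = g * (h⁻¹ * (h * z)) * g⁻¹ := by rw [hhz]
      _ = f := by rw [hf]; group
  have h11 : g * h⁻¹ * w * (g * h⁻¹)⁻¹ = z := by rw [← h9, hf']; group
  refine ⟨g * h⁻¹, h10, ?_⟩
  rcases hw with hw | hw
  · left; rw [← hw]; exact h11
  · right
    have h12 : f = w * z := by rw [hw, mul_assoc, S.z_sq, mul_one]
    calc g * h⁻¹ * f * (g * h⁻¹)⁻¹ = (g * h⁻¹ * w * (g * h⁻¹)⁻¹) * (g * h⁻¹ * z * (g * h⁻¹)⁻¹) := by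
          nth_rewrite 1 [h12]; group
      _ = z * f := by rw [h11, h10]

omit S [Finite G] in
theorem norm_fwd {f n d : G} (hn1 : n * z * n⁻¹ = f) (hn2 : n * f * n⁻¹ = z ∨ n * f * n⁻¹ = z * f)
    (hd : d * z = z * d) (hdf : d * f = f * d) :
    n * d * n⁻¹ * z = z * (n * d * n⁻¹) ∧ n * d * n⁻¹ * f = f * (n * d * n⁻¹) := by
  have h1 : n * d * n⁻¹ * f = f * (n * d * n⁻¹) := by
    rw [← hn1]
    calc n * d * n⁻¹ * (n * z * n⁻¹) = n * (d * z) * n⁻¹ := by group
      _ = n * z * n⁻¹ * (n * d * n⁻¹) := by rw [hd]; group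
  have h2 : n * d * n⁻¹ * (n * f * n⁻¹) = n * f * n⁻¹ * (n * d * n⁻¹) := by
    calc n * d * n⁻¹ * (n * f * n⁻¹) = n * (d * f) * n⁻¹ := by group
      _ = n * f * n⁻¹ * (n * d * n⁻¹) := by rw [hdf]; group
  refine ⟨?_, h1⟩
  rcases hn2 with h3 | h3
  · rw [h3] at h2; exact h2
  · rw [h3] at h2
    calc n * d * n⁻¹ * z = n * d * n⁻¹ * (z * f) * f⁻¹ := by group
      _ = z * (f * (n * d * n⁻¹)) * f⁻¹ := by rw [h2]; group
      _ = z * (n * d * n⁻¹) := by rw [← h1]; group

omit S [Finite G] in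
theorem norm_bwd {f n d : G} (hn1 : n * z * n⁻¹ = f) (hn2 : n * f * n⁻¹ = z ∨ n * f * n⁻¹ = z * f)
    (hd : d * z = z * d) (hdf : d * f = f * d) :
    n⁻¹ * d * n * z = z * (n⁻¹ * d * n) ∧ n⁻¹ * d * n * f = f * (n⁻¹ * d * n) := by
  have hz' : z = n⁻¹ * f * n := by rw [← hn1]; group
  have h1 : n⁻¹ * d * n * z = z * (n⁻¹ * d * n) := by
    calc n⁻¹ * d * n * z = n⁻¹ * d * n * (n⁻¹ * f * n) := by rw [← hz']
      _ = n⁻¹ * (d * f) * n := by group
      _ = n⁻¹ * f * n * (n⁻¹ * d * n) := by rw [hdf]; group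
      _ = z * (n⁻¹ * d * n) := by rw [← hz']
  have h2 : n⁻¹ * d * n * (n⁻¹ * z * n) = n⁻¹ * z * n * (n⁻¹ * d * n) := by
    calc n⁻¹ * d * n * (n⁻¹ * z * n) = n⁻¹ * (d * z) * n := by group
      _ = n⁻¹ * z * n * (n⁻¹ * d * n) := by rw [hd]; group
  refine ⟨h1, ?_⟩
  rcases hn2 with h3 | h3
  · have h4 : n⁻¹ * z * n = f := by nth_rewrite 1 [← h3]; group
    rw [h4] at h2; exact h2
  · have h4 : f = n⁻¹ * z * n * z := by
      calc f = n⁻¹ * (n * f * n⁻¹) * n := by group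
        _ = n⁻¹ * z * n * (n⁻¹ * f * n) := by rw [h3]; group
        _ = n⁻¹ * z * n * z := by rw [← hz']
    rw [h4]
    calc n⁻¹ * d * n * (n⁻¹ * z * n * z) = (n⁻¹ * d * n * (n⁻¹ * z * n)) * z := by group
      _ = n⁻¹ * z * n * (n⁻¹ * d * n * z) := by rw [h2]; group
      _ = n⁻¹ * z * n * z * (n⁻¹ * d * n) := by rw [h1]; group

/-- conjugation by `n`, modulo `O(C(z))`, as a homomorphism from `C_X(φ)` -/
theorem exists_mu {f n : G} (hfz : f * z = z * f) (hff : f * f = 1) (hf1 : f ≠ 1) (hne : f ≠ z) {φ : X}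
    (hφ : θ (el hfz) = ι φ) (hn1 : n * z * n⁻¹ = f) (hn2 : n * f * n⁻¹ = z ∨ n * f * n⁻¹ = z * f) :
    ∃ μ : ↥(centralizer ({φ} : Set X)) →* B, (∀ y, μ y * ι φ = ι φ * μ y) ∧
      ∀ (d : G) (hd : d * z = z * d) (_ : d * f = f * d) (y : centralizer ({φ} : Set X)), θ (el hd) = ι y →
        ∃ h : n * d * n⁻¹ * z = z * (n * d * n⁻¹), θ (el h) = μ y := by
  classical
  obtain ⟨p1, p2, p3⟩ := S.data hfz hff hf1 hne hφ
  have hff' : el hfz * el hfz = 1 := Subtype.ext hff
  set Df : Subgroup (centralizer ({z} : Set G)) := centralizer ({el hfz} : Set (centralizer ({z} : Set G))) with hDf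
  have hDz : ∀ d : Df, ((d : centralizer ({z} : Set G)) : G) * z = z * d := fun d => comm _
  have hDf' : ∀ d : Df, ((d : centralizer ({z} : Set G)) : G) * f = f * d := fun d =>
    congrArg Subtype.val (mem_centralizer_singleton_iff.mp d.2)
  let cn : Df →* centralizer ({z} : Set G) :=
    { toFun := fun d => el (norm_fwd hn1 hn2 (hDz d) (hDf' d)).1
      map_one' := Subtype.ext (by show n * 1 * n⁻¹ = 1; group)
      map_mul' := fun a b => Subtype.ext (by
        show n * ((a : G) * b) * n⁻¹ = n * a * n⁻¹ * (n * b * n⁻¹)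
        group) }
  have hcn : ∀ d : Df, ((cn d : centralizer ({z} : Set G)) : G) = n * d * n⁻¹ := fun d => rfl
  have hcnf : ∀ d : Df, cn d * el hfz = el hfz * cn d := fun d =>
    Subtype.ext (norm_fwd hn1 hn2 (hDz d) (hDf' d)).2
  let θD : Df →* B := θ.comp Df.subtype
  let M : Subgroup B := θD.ker.map (θ.comp cn)
  have hMf : ∀ m ∈ M, m * ι φ = ι φ * m := by
    rintro _ ⟨d, -, rfl⟩
    rw [← hφ]
    show θ (cn d) * θ (el hfz) = θ (el hfz) * θ (cn d)
    rw [← map_mul, hcnf, map_mul]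
  have hMo : Odd (Nat.card M) := by
    have e1 : Nat.card M ∣ Nat.card θD.ker :=
      Subgroup.card_dvd_of_surjective _ ((θ.comp cn).subgroupMap_surjective θD.ker)
    have e2 : Nat.card θD.ker ∣ Nat.card θ.ker := by
      rw [← Subgroup.card_map_of_injective (K := θD.ker) Df.subtype_injective]
      refine Subgroup.card_dvd_of_le ?_
      rintro _ ⟨d, hd, rfl⟩
      exact hd
    exact Odd.of_dvd_nat S.odd (e1.trans e2)
  have hN : M.comap ι = ⊥ := by
    apply S.facts.core φ p1 p2 p3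
    · intro y hy
      apply S.inj
      rw [map_mul, map_mul]
      exact hMf _ hy
    · rintro y hy m ⟨k, hk, hkm⟩
      have hy' : ι y * θ (el hfz) = θ (el hfz) * ι y := by rw [hφ, ← map_mul, ← map_mul, hy]
      obtain ⟨d, hd1, hd2⟩ := exists_lift_comm S.odd S.surj hff' hy'
      have hdz : (d : G) * z = z * d := comm d
      have hdf : (d : G) * f = f * d := congrArg Subtype.val hd2
      obtain ⟨b1, b2⟩ := norm_bwd hn1 hn2 hdz hdf
      let d' : Df := ⟨el b1, mem_centralizer_singleton_iff.mpr (Subtype.ext b2)⟩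
      have hd' : cn d' = d := Subtype.ext (by rw [hcn]; show n * (n⁻¹ * d * n) * n⁻¹ = _; group)
      refine ⟨d' * k * d'⁻¹, ?_, ?_⟩
      · show θD (d' * k * d'⁻¹) = 1
        have hk' : θD k = 1 := hk
        rw [map_mul, map_mul, hk', mul_one, map_inv, mul_inv_cancel]
      · show θ (cn (d' * k * d'⁻¹)) = ι (y * m * y⁻¹)
        have hkm' : θ (cn k) = ι m := hkm
        rw [map_mul, map_mul, map_inv, map_mul, map_mul, map_inv, hd', hkm', hd1, map_mul, map_mul, map_inv]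
    · have e3 : Nat.card ((M.comap ι).map ι) ∣ Nat.card M := Subgroup.card_dvd_of_le (map_comap_le ι M)
      rw [Subgroup.card_map_of_injective S.inj] at e3
      exact Odd.of_dvd_nat hMo e3
  have key : ∀ d : Df, θD d = 1 → θ (cn d) = 1 := by
    intro d hd
    have hm : θ (cn d) ∈ M := ⟨d, hd, rfl⟩
    obtain ⟨y, hy⟩ := S.sq_mem (θ (cn d))
    have h1 : y ∈ M.comap ι := by
      show ι y ∈ M
      rw [hy]; exact mul_mem hm hm
    rw [hN, mem_bot] at h1
    rw [h1, map_one] at hy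
    have h2 : (⟨θ (cn d), hm⟩ : M) ^ 2 = 1 := Subtype.ext (by
      show (θ (cn d)) ^ 2 = 1
      rw [pow_two, ← hy])
    have h3 := orderOf_dvd_of_pow_eq_one h2
    have h4 := orderOf_dvd_natCard (⟨θ (cn d), hm⟩ : M)
    have h5 : orderOf (⟨θ (cn d), hm⟩ : M) = 1 := by
      rcases (Nat.dvd_prime Nat.prime_two).mp h3 with h6 | h6
      · exact h6
      · rw [h6] at h4
        exact absurd (even_iff_two_dvd.mpr h4) (Nat.not_even_iff_odd.mpr hMo)
    exact congrArg Subtype.val (orderOf_eq_one_iff.mp h5)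
  have hlift : ∀ y : centralizer ({φ} : Set X), ∃ d : Df, θD d = ι y := by
    intro y
    have hy' : ι y * θ (el hfz) = θ (el hfz) * ι y := by
      rw [hφ, ← map_mul, ← map_mul, mem_centralizer_singleton_iff.mp y.2]
    obtain ⟨d, hd1, hd2⟩ := exists_lift_comm S.odd S.surj hff' hy'
    exact ⟨⟨d, mem_centralizer_singleton_iff.mpr hd2⟩, hd1⟩
  choose L hL using hlift
  have hLu : ∀ (d : Df) (y : centralizer ({φ} : Set X)), θD d = ι y → θ (cn d) = θ (cn (L y)) := by
    intro d y hd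
    have h1 : θD (d * (L y)⁻¹) = 1 := by rw [map_mul, map_inv, hd, hL, mul_inv_cancel]
    have h2 := key _ h1
    rw [map_mul, map_mul, map_inv, map_inv, mul_inv_eq_one] at h2
    exact h2
  refine ⟨MonoidHom.mk' (fun y => θ (cn (L y))) (fun a b => ?_), ?_, ?_⟩
  · rw [← map_mul, ← map_mul]
    symm
    apply hLu
    rw [map_mul, hL, hL]
    show ι a * ι b = ι (a * b)
    rw [map_mul]
  · intro y
    rw [← hφ]
    show θ (cn (L y)) * θ (el hfz) = θ (el hfz) * θ (cn (L y))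
    rw [← map_mul, hcnf, map_mul]
  · intro d hd hdf y hdy
    refine ⟨(norm_fwd hn1 hn2 hd hdf).1, ?_⟩
    exact hLu ⟨el hd, mem_centralizer_singleton_iff.mpr (Subtype.ext hdf)⟩ y hdy

omit S [Finite G] in
theorem el_congr {a b : G} (h : a = b) (ha : a * z = z * a) (hb : b * z = z * b) : θ (el ha) = θ (el hb) := by
  subst h; rfl

/-- involutions of `C(z)` whose images are conjugate in `X` are conjugate -/
theorem isConj_of {a b : G} (haz : a * z = z * a) (hbz : b * z = z * b) (haa : a * a = 1) (hbb : b * b = 1)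
    {α β : X} (hα : θ (el haz) = ι α) (hβ : θ (el hbz) = ι β) (h : IsConj α β) : IsConj a b := by
  obtain ⟨k, hk⟩ := isConj_iff.mp h
  obtain ⟨c, hc⟩ := S.surj (ι k)
  have ha' : el haz * el haz = 1 := Subtype.ext haa
  obtain ⟨o, ho, -⟩ := conj_of_eq (θ := θ) S.odd (a := c * el haz * c⁻¹) (b := el hbz) (by
      calc c * el haz * c⁻¹ * (c * el haz * c⁻¹) = c * (el haz * el haz) * c⁻¹ := by group
        _ = 1 := by rw [ha']; group) (Subtype.ext hbb) (by
      rw [map_mul, map_mul, map_inv, hc, hα, hβ, ← hk, map_mul, map_mul, map_inv])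
  refine isConj_iff.mpr ⟨((o * c : centralizer ({z} : Set G)) : G), ?_⟩
  have h4 : (o : G) * (c * a * (c : G)⁻¹) * (o : G)⁻¹ = b := congrArg Subtype.val ho
  rw [← h4]
  show (o : G) * c * a * ((o : G) * c)⁻¹ = _
  group

/-- an outer involution `e` is conjugate to `e x`, `x` an involution of `K O` commuting with `e` -/
theorem conj_mul {e x : G} (hez : e * z = z * e) (hee : e * e = 1) (hout : θ (el hez) ∉ ι.range)
    (hxz : x * z = z * x) (hxx : x * x = 1) (hex : e * x = x * e) (hr : θ (el hxz) ∈ ι.range) :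
    IsConj e (e * x) := by
  obtain ⟨ξ, hξ⟩ := hr
  have hee' : el hez * el hez = 1 := Subtype.ext hee
  have hxx' : el hxz * el hxz = 1 := Subtype.ext hxx
  have hcx : el hez * el hxz = el hxz * el hez := Subtype.ext hex
  have ha2 : act (θ (el hez)) * act (θ (el hez)) = 1 := by rw [← map_mul, ← map_mul, hee', map_one, map_one]
  obtain ⟨-, hL⟩ := S.facts.outer _ ha2 (fun h => hout (S.mem_of_act h))
  have h1 : act (θ (el hez)) ξ = ξ := by
    apply S.inj
    rw [S.act_ι, hξ, ← map_mul, hcx, map_mul, mul_inv_cancel_right]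
  have h2 : ξ * ξ = 1 := by
    apply S.inj
    rw [map_mul, hξ, ← map_mul, hxx', map_one, map_one]
  obtain ⟨n, hn⟩ := hL ξ (by rw [h1, h2])
  obtain ⟨g, hg⟩ := S.surj (ι n)
  obtain ⟨k, hk, -⟩ := conj_of_eq (θ := θ) S.odd (a := g * el hez * g⁻¹) (b := el hez * el hxz) (by
      calc g * el hez * g⁻¹ * (g * el hez * g⁻¹) = g * (el hez * el hez) * g⁻¹ := by group
        _ = 1 := by rw [hee']; group) (by
      calc el hez * el hxz * (el hez * el hxz) = el hez * (el hxz * el hez) * el hxz := by group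
        _ = (el hez * el hez) * (el hxz * el hxz) := by rw [← hcx]; group
        _ = 1 := by rw [hee', hxx', one_mul]) (by
      have h2 : θ (el hez) * θ (el hez) = 1 := by rw [← map_mul, hee', map_one]
      rw [map_mul, map_mul, map_inv, hg, map_mul, ← hξ, hn, map_mul, S.act_ι, map_inv]
      calc ι n * θ (el hez) * (ι n)⁻¹ = (θ (el hez) * θ (el hez)) * (ι n * θ (el hez) * (ι n)⁻¹) := by
            rw [h2, one_mul]
        _ = θ (el hez) * (θ (el hez) * ι n * (θ (el hez))⁻¹ * (ι n)⁻¹) := by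
            rw [inv_eq_of_mul_eq_one_left h2]; group)
  refine isConj_iff.mpr ⟨((k * g : centralizer ({z} : Set G)) : G), ?_⟩
  have h4 : (k : G) * (g * e * (g : G)⁻¹) * (k : G)⁻¹ = e * x := congrArg Subtype.val hk
  rw [← h4]
  show (k : G) * g * e * ((k : G) * g)⁻¹ = _
  group

/-- step (2) -/
theorem exists_sq {g : G} (hgz : g * z * g⁻¹ * z = z * (g * z * g⁻¹)) (hne : g * z * g⁻¹ ≠ z) {φ : X}
    (hφ : θ (el hgz) = ι φ) : (∃ s : X, s * s = φ) ∧ ∃ n : G, n * z * n⁻¹ = g * z * g⁻¹ ∧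
      n * (g * z * g⁻¹) * n⁻¹ = z ∧ ∃ μ : ↥(centralizer ({φ} : Set X)) →* B, (∀ y, μ y * ι φ = ι φ * μ y) ∧
      (∀ (d : G) (hd : d * z = z * d) (_ : d * (g * z * g⁻¹) = g * z * g⁻¹ * d) (y : centralizer ({φ} : Set X)),
        θ (el hd) = ι y → ∃ h : n * d * n⁻¹ * z = z * (n * d * n⁻¹), θ (el h) = μ y) ∧
      μ ⟨φ, mem_centralizer_singleton_iff.mpr rfl⟩ = ι ζ := by
  obtain ⟨n, hn1, hn2⟩ := S.exists_swap hgz hne ⟨φ, hφ.symm⟩
  set f : G := g * z * g⁻¹ with hf
  have hff : f * f = 1 := by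
    rw [hf]
    calc g * z * g⁻¹ * (g * z * g⁻¹) = g * (z * z) * g⁻¹ := by group
      _ = 1 := by rw [S.z_sq]; group
  have hf1 : f ≠ 1 := by
    intro h
    apply S.z_ne
    calc z = g⁻¹ * f * g := by rw [hf]; group
      _ = 1 := by rw [h]; group
  obtain ⟨p1, p2, p3⟩ := S.data hgz hff hf1 hne hφ
  obtain ⟨μ, hμ1, hμ2⟩ := S.exists_mu hgz hff hf1 hne hφ hn1 hn2
  have hζφ : ζ ∈ centralizer ({φ} : Set X) := mem_centralizer_singleton_iff.mpr (S.facts.central φ).symm
  have hμz : μ ⟨ζ, hζφ⟩ = ι φ := by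
    obtain ⟨h, hh⟩ := hμ2 z rfl hgz.symm ⟨ζ, hζφ⟩ S.θz
    rw [← hh, ← hφ]
    exact el_congr hn1 _ _
  have hE : ∀ s ∈ closure {y : X | y * φ = φ * y ∧ y ^ 3 = 1}, ∃ hs : s ∈ centralizer ({φ} : Set X),
      μ ⟨s, hs⟩ ∈ ι.range := by
    intro s hs
    induction hs using closure_induction with
    | mem y hy =>
      refine ⟨mem_centralizer_singleton_iff.mpr hy.1, S.three_mem ?_⟩
      rw [← map_pow]
      have : (⟨y, mem_centralizer_singleton_iff.mpr hy.1⟩ : centralizer ({φ} : Set X)) ^ 3 = 1 :=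
        Subtype.ext hy.2
      rw [this, map_one]
    | one => exact ⟨one_mem _, by
        have : (⟨1, one_mem _⟩ : centralizer ({φ} : Set X)) = 1 := rfl
        rw [this, map_one]; exact one_mem _⟩
    | mul a b _ _ iha ihb =>
      obtain ⟨ha, ha'⟩ := iha
      obtain ⟨hb, hb'⟩ := ihb
      refine ⟨mul_mem ha hb, ?_⟩
      have : (⟨a * b, mul_mem ha hb⟩ : centralizer ({φ} : Set X)) = ⟨a, ha⟩ * ⟨b, hb⟩ := rfl
      rw [this, map_mul]
      exact mul_mem ha' hb'
    | inv a _ iha =>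
      obtain ⟨ha, ha'⟩ := iha
      refine ⟨inv_mem ha, ?_⟩
      have : (⟨a⁻¹, inv_mem ha⟩ : centralizer ({φ} : Set X)) = ⟨a, ha⟩⁻¹ := rfl
      rw [this, map_inv]
      exact inv_mem ha'
  obtain ⟨s, hs, t, ht, hss, htt⟩ := S.facts.roots φ p1 p2 p3
  obtain ⟨hs1, s', hs'⟩ := hE s hs
  obtain ⟨ht1, t', ht'⟩ := hE t ht
  have hs'' : s' * s' = φ := by
    apply S.inj
    rw [map_mul, hs', ← map_mul, ← hμz]
    congr 1
    exact Subtype.ext hss
  have htt' : t * t = φ := by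
    rcases htt with h | h
    · exact h
    · exact (S.facts.not_both φ s' t p1 p2 p3 hs'' h).elim
  have hμφ : ι (t' * t') = μ ⟨φ, mem_centralizer_singleton_iff.mpr rfl⟩ := by
    rw [map_mul, ht', ← map_mul]
    congr 1
    exact Subtype.ext htt'
  obtain ⟨h, hh⟩ := hμ2 f hgz rfl ⟨φ, mem_centralizer_singleton_iff.mpr rfl⟩ hφ
  have hn2' : n * f * n⁻¹ = z := by
    rcases hn2 with h1 | h1
    · exact h1
    · exfalso
      have h2 : z * f * z = z * (z * f) := by rw [mul_assoc, hgz]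
      have h3 : θ (el h) = ι (φ * ζ) := by
        rw [el_congr h1 h h2]
        have h4 : el h2 = el rfl * el hgz := rfl
        rw [h4, map_mul, S.θz, hφ, S.facts.central, map_mul]
      have h5 : t' * t' = φ * ζ := S.inj (by rw [hμφ, ← hh, h3])
      exact S.facts.not_both φ s' t' p1 p2 p3 hs'' h5
  refine ⟨⟨s', hs''⟩, n, hn1, hn2', μ, hμ1, hμ2, ?_⟩
  rw [← hh, ← S.θz]
  exact el_congr hn2' h rfl

/-- steps (3), (4): `z` is not conjugate to another element of `K O`. -/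
theorem no_conj {g : G} (hgz : g * z * g⁻¹ * z = z * (g * z * g⁻¹)) (hne : g * z * g⁻¹ ≠ z)
    (hr : θ (el hgz) ∈ ι.range) : False := by
  obtain ⟨φ, hφ⟩ := hr
  have hφ := hφ.symm
  obtain ⟨⟨s, hs⟩, n, hn1, hn2, μ, hμ1, hμ2, hμφ⟩ := S.exists_sq hgz hne hφ
  have hzf : IsConj z (g * z * g⁻¹) := isConj_iff.mpr ⟨g, rfl⟩
  set f : G := g * z * g⁻¹ with hf
  have hff : f * f = 1 := by
    rw [hf]
    calc g * z * g⁻¹ * (g * z * g⁻¹) = g * (z * z) * g⁻¹ := by group
      _ = 1 := by rw [S.z_sq]; group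
  have hf1 : f ≠ 1 := by
    intro h
    apply S.z_ne
    calc z = g⁻¹ * f * g := by rw [hf]; group
      _ = 1 := by rw [h]; group
  obtain ⟨p1, p2, p3⟩ := S.data hgz hff hf1 hne hφ
  have hff' : el hgz * el hgz = 1 := Subtype.ext hff
  have hζφ : ζ ∈ centralizer ({φ} : Set X) := mem_centralizer_singleton_iff.mpr (S.facts.central φ).symm
  -- squares
  have hsq : ∀ (a : G) (haz : a * z = z * a) (ω : X), θ (el haz) = ι ω → IsConj z a → a ≠ z → ∃ s, s * s = ω := by
    intro a haz ω hω hza hane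
    obtain ⟨c, rfl⟩ := isConj_iff.mp hza
    exact (S.exists_sq haz hane hω).1
  have hA : ∀ w : centralizer ({φ} : Set X), w * w = 1 → μ w ∈ ι.range := by
    intro w hww
    by_contra hout
    have hww' : (w : X) * w = 1 := congrArg Subtype.val hww
    have hw1 : (w : X) ≠ 1 := by
      intro h
      have : w = 1 := Subtype.ext h
      rw [this, map_one] at hout
      exact hout (one_mem _)
    have hwφ : (w : X) * φ = φ * w := mem_centralizer_singleton_iff.mp w.2
    obtain ⟨u, hu1, hu2, hu3⟩ := exists_inv_lift_comm S.odd S.surj hff' (x := ι w)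
      (by rw [hφ, ← map_mul, ← map_mul, hwφ]) (by rw [← map_mul, hww', map_one])
    have huz : (u : G) * z = z * u := comm u
    have huf : (u : G) * f = f * u := congrArg Subtype.val hu2
    have huu : (u : G) * u = 1 := congrArg Subtype.val hu3
    have hu1' : θ (el huz) = ι w := hu1
    obtain ⟨h, hh⟩ := hμ2 u huz huf w hu1'
    have hwζ : (w : X) ≠ ζ := by
      intro e
      have e1 : (u : G) = z := by
        have : u = el rfl := eq_of_comm S.odd hu3 (Subtype.ext S.z_sq) (Subtype.ext huz)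
          (by rw [hu1, e, ← S.θz])
        exact congrArg Subtype.val this
      apply hout
      rw [← hh, el_congr (show n * (u : G) * n⁻¹ = f by rw [e1, hn1]) h hgz]
      exact ⟨φ, hφ.symm⟩
    -- `v = n u n⁻¹` is conjugate to `v f`
    have hconj : IsConj (n * (u : G) * n⁻¹) (n * (u : G) * n⁻¹ * f) := by
      refine S.conj_mul h ?_ (by rw [hh]; exact hout) hgz hff ?_ ⟨φ, hφ.symm⟩
      · calc n * (u : G) * n⁻¹ * (n * u * n⁻¹) = n * (u * u) * n⁻¹ := by group
          _ = 1 := by rw [huu]; group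
      · rw [← hn1]
        calc n * (u : G) * n⁻¹ * (n * z * n⁻¹) = n * (u * z) * n⁻¹ := by group
          _ = n * z * n⁻¹ * (n * u * n⁻¹) := by rw [huz]; group
    have hconj' : IsConj (u : G) (u * z) := by
      obtain ⟨c, hc⟩ := isConj_iff.mp hconj
      refine isConj_iff.mpr ⟨n⁻¹ * c * n, ?_⟩
      calc n⁻¹ * c * n * (u : G) * (n⁻¹ * c * n)⁻¹ = n⁻¹ * (c * (n * u * n⁻¹) * c⁻¹) * n := by group
        _ = n⁻¹ * (n * u * n⁻¹ * (n * z * n⁻¹)) * n := by rw [hc, hn1]
        _ = u * z := by group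
    have huzz : (u : G) * z * z = z * (u * z) := by
      calc (u : G) * z * z = (z * u) * z := by rw [huz]
        _ = z * (u * z) := by group
    have huzs : (u : G) * z * (u * z) = 1 := by
      calc (u : G) * z * (u * z) = u * (z * u) * z := by group
        _ = (u * u) * (z * z) := by rw [← huz]; group
        _ = 1 := by rw [huu, S.z_sq, one_mul]
    have hθuz : θ (el huzz) = ι (w * ζ) := by
      have e1 : el huzz = el huz * el rfl := rfl
      rw [e1, map_mul, hu1', S.θz, map_mul]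
    have hune : (u : G) ≠ z := by
      intro e
      apply hwζ
      apply S.inj
      rw [← hu1', ← S.θz]
      exact el_congr e huz rfl
    have huzne : (u : G) * z ≠ z := by
      intro e
      apply hw1
      apply S.inj
      rw [← hu1', map_one]
      have e1 : (u : G) = 1 := mul_eq_right.mp e
      have e2 : el huz = 1 := Subtype.ext e1
      rw [e2, map_one]
    rcases S.facts.cls φ w p1 p2 p3 hww' hw1 hwζ with h7 | h7
    · -- `u ~ f ~ z`
      have h8 : IsConj f u := S.isConj_of hgz huz hff huu hφ hu1' h7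
      obtain ⟨t, ht⟩ := hsq (u * z) huzz _ hθuz ((hzf.trans h8).trans hconj') huzne
      obtain ⟨k, hk⟩ := isConj_iff.mp h7
      exact S.facts.not_both w (k * s * k⁻¹) t hww' hw1 hwζ (by
        calc k * s * k⁻¹ * (k * s * k⁻¹) = k * (s * s) * k⁻¹ := by group
          _ = w := by rw [hs, hk]) ht
    · have h7' : IsConj φ (w * ζ) := by
        obtain ⟨k, hk⟩ := isConj_iff.mp h7
        refine isConj_iff.mpr ⟨k, ?_⟩
        have e1 : φ = φ * ζ * ζ := by rw [mul_assoc, S.facts.zz, mul_one]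
        nth_rewrite 1 [e1]
        calc k * (φ * ζ * ζ) * k⁻¹ = k * (φ * ζ) * (ζ * k⁻¹) := by group
          _ = k * (φ * ζ) * (k⁻¹ * ζ) := by rw [S.facts.central k⁻¹]
          _ = k * (φ * ζ) * k⁻¹ * ζ := by group
          _ = w * ζ := by rw [hk]
      have h8 : IsConj f (u * z) := S.isConj_of hgz huzz hff huzs hφ hθuz h7'
      obtain ⟨t, ht⟩ := hsq u huz _ hu1' ((hzf.trans h8).trans hconj'.symm) hune
      obtain ⟨k, hk⟩ := isConj_iff.mp h7'
      exact S.facts.not_both w t (k * s * k⁻¹) hww' hw1 hwζ ht (by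
        calc k * s * k⁻¹ * (k * s * k⁻¹) = k * (s * s) * k⁻¹ := by group
          _ = w * ζ := by rw [hs, hk])
  have hB : ∀ y : X, y * φ = φ * y → ∃ hy : y ∈ centralizer ({φ} : Set X), μ ⟨y, hy⟩ ∈ ι.range := by
    intro y hy
    have h1 := S.facts.invgen φ y p1 p2 p3 hy
    induction h1 using closure_induction with
    | mem w hw => exact ⟨mem_centralizer_singleton_iff.mpr hw.1, hA _ (Subtype.ext hw.2)⟩
    | one => exact ⟨one_mem _, by
        have : (⟨1, one_mem _⟩ : centralizer ({φ} : Set X)) = 1 := rfl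
        rw [this, map_one]; exact one_mem _⟩
    | mul a b ha0 hb0 iha ihb =>
      have hcl : ∀ x ∈ closure {w : X | w * φ = φ * w ∧ w * w = 1}, x * φ = φ * x := by
        intro x hx
        have : closure {w : X | w * φ = φ * w ∧ w * w = 1} ≤ centralizer ({φ} : Set X) := by
          rw [closure_le]
          intro w hw
          exact mem_centralizer_singleton_iff.mpr hw.1
        exact mem_centralizer_singleton_iff.mp (this hx)
      obtain ⟨ha, ha'⟩ := iha (hcl a ha0)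
      obtain ⟨hb, hb'⟩ := ihb (hcl b hb0)
      refine ⟨mul_mem ha hb, ?_⟩
      have : (⟨a * b, mul_mem ha hb⟩ : centralizer ({φ} : Set X)) = ⟨a, ha⟩ * ⟨b, hb⟩ := rfl
      rw [this, map_mul]
      exact mul_mem ha' hb'
    | inv a ha0 iha =>
      have hcl : a * φ = φ * a := by
        have h2 : a * (a⁻¹ * φ) = a * (φ * a⁻¹) := by rw [hy]
        calc a * φ = a * (φ * a⁻¹) * a := by group
          _ = a * (a⁻¹ * φ) * a := by rw [h2]
          _ = φ * a := by group
      obtain ⟨ha, ha'⟩ := iha hcl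
      refine ⟨inv_mem ha, ?_⟩
      have : (⟨a⁻¹, inv_mem ha⟩ : centralizer ({φ} : Set X)) = ⟨a, ha⟩⁻¹ := rfl
      rw [this, map_inv]
      exact inv_mem ha'
  obtain ⟨a, ha, ha4⟩ := S.facts.four φ p1 p2 p3
  rcases ha4 with ha4 | ha4
  · obtain ⟨hy, a', ha'⟩ := hB a ha
    apply S.facts.no_four a'
    apply S.inj
    rw [map_pow, ha', ← map_pow, ← hμφ]
    congr 1
    exact Subtype.ext ha4
  · refine S.facts.not_both φ s (a * a) p1 p2 p3 hs ?_
    rw [← ha4]
    simp only [pow_succ, pow_zero, one_mul, mul_assoc]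

/-- **The contradiction.** -/
theorem false [IsSimpleGroup G] (hna : ¬ IsMulCommutative G) : False := by
  refine OddHalf.D9.ExTrick.false_of_ex hna (z := z) (orderOf_eq_prime (by rw [pow_two, S.z_sq]) S.z_ne)
    (K := (ι.range.comap θ).map (centralizer ({z} : Set G)).subtype) ?_ ?_ ?_ ?_
  · exact ⟨el rfl, ⟨ζ, S.θz.symm⟩, rfl⟩
  · intro Y hY hYz
    have hY' : ⁅Y, Y⁆ = Y := hY
    rw [← hY', commutator_le]
    intro a ha b hb
    refine ⟨⁅el (hYz a ha), el (hYz b hb)⁆, ?_, rfl⟩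
    show θ _ ∈ ι.range
    rw [map_commutatorElement]
    exact S.comm_mem _ _
  · rintro _ ⟨c, hc, rfl⟩ hzk
    by_contra hne
    obtain ⟨g, hg⟩ := isConj_iff.mp hzk
    have hcz : (c : G) * z = z * c := comm c
    have hg' : g * z * g⁻¹ = c := hg
    have hgz : g * z * g⁻¹ * z = z * (g * z * g⁻¹) := by rw [hg', hcz]
    refine S.no_conj hgz (by rw [hg']; exact hne) ?_
    rw [el_congr hg' hgz hcz]
    exact hc
  · intro e hze hez heK
    have hee : e * e = 1 := by
      obtain ⟨g, rfl⟩ := isConj_iff.mp hze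
      calc g * z * g⁻¹ * (g * z * g⁻¹) = g * (z * z) * g⁻¹ := by group
        _ = 1 := by rw [S.z_sq]; group
    obtain ⟨Y, hY, hYz, hYe, x, hx, hxx, hx1, hx2⟩ := S.exists_perf hez hee (fun h => heK ⟨el hez, h, rfl⟩)
    refine ⟨Y, hY, hYe, x, hx, hx1, ?_⟩
    rcases hx2 with h | h
    · exact Or.inl h
    · exact Or.inr (hze.trans h)

end main

end Sit

end Cfsg.Agent.GH.Cov.TwelveKill
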