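import Cfsg.Agent.TypeLFive.KModel
import Cfsg.Agent.GH.Defs

/-!
# GH-COV: `SD ≀ 2` is of type `PSL₅(q)`, `q ≡ 3 (mod 4)`

* `typeL5_of_wr`: a group `S` with `Model.Wr S f w`, `IsQDCoord n u y` on the factor, is `TypeL5`.
-/

set_option autoImplicit false

open Subgroup

namespace Cfsg.Agent.GH.Cov.TypeLFiveA

open Cfsg.Agent.TwoFusion.QDBasic Cfsg.Agent.TypeLFive Cfsg.Agent.TypeLFive.Model
open Cfsg.Agent.GH.Defs

universe u

/-- Two quasi-dihedral groups with the same parameter are isomorphic. -/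
theorem qd_equiv {W W' : Type*} [Group W] [Group W'] {n : ℕ} {u : ZMod (2 ^ n) → W} {y : W}
    {u' : ZMod (2 ^ n) → W'} {y' : W'} (h : IsQDCoord n u y) (h' : IsQDCoord n u' y') :
    ∃ φ : W ≃* W', (∀ a, φ (u a) = u' a) ∧ φ y = y' := by
  have hex : ∀ s : W, ∃ t : W', (∃ a, s = u a ∧ t = u' a) ∨ (∃ a, s = u a * y ∧ t = u' a * y') := by
    intro s
    rcases h.cases s with ⟨a, ha⟩ | ⟨a, ha⟩
    · exact ⟨u' a, Or.inl ⟨a, ha, rfl⟩⟩
    · exact ⟨u' a * y', Or.inr ⟨a, ha, rfl⟩⟩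
  choose g hg using hex
  have hu : ∀ a, g (u a) = u' a := by
    intro a
    rcases hg (u a) with ⟨b, hb, hb'⟩ | ⟨b, hb, hb'⟩
    · rw [hb', h.u_inj _ _ hb]
    · exact absurd hb (h.u_ne _ _)
  have huy : ∀ a, g (u a * y) = u' a * y' := by
    intro a
    rcases hg (u a * y) with ⟨b, hb, hb'⟩ | ⟨b, hb, hb'⟩
    · exact absurd hb.symm (h.u_ne _ _)
    · rw [hb', h.u_inj _ _ (mul_right_cancel hb)]
  have hm : ∀ a b, g (a * b) = g a * g b := by
    intro a b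
    rcases h.cases a with ⟨a, rfl⟩ | ⟨a, rfl⟩ <;> rcases h.cases b with ⟨b, rfl⟩ | ⟨b, rfl⟩
    · rw [h.u_mul, hu, hu, hu, h'.u_mul]
    · rw [h.u_mul_uy, huy, hu, huy, h'.u_mul_uy]
    · rw [h.uy_mul_u, huy, huy, hu, h'.uy_mul_u]
    · rw [h.uy_mul_uy, hu, huy, huy, h'.uy_mul_uy]
  have hinj : Function.Injective g := by
    intro a b hab
    rcases h.cases a with ⟨a, rfl⟩ | ⟨a, rfl⟩ <;> rcases h.cases b with ⟨b, rfl⟩ | ⟨b, rfl⟩
    · rw [hu, hu] at hab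
      rw [h'.u_inj _ _ hab]
    · rw [hu, huy] at hab
      exact absurd hab (h'.u_ne _ _)
    · rw [hu, huy] at hab
      exact absurd hab.symm (h'.u_ne _ _)
    · rw [huy, huy] at hab
      rw [h'.u_inj _ _ (mul_right_cancel hab)]
  have hsurj : Function.Surjective g := by
    intro t
    rcases h'.cases t with ⟨a, rfl⟩ | ⟨a, rfl⟩
    · exact ⟨_, hu a⟩
    · exact ⟨_, huy a⟩
  refine ⟨MulEquiv.ofBijective (MonoidHom.mk' g hm) ⟨hinj, hsurj⟩, hu, ?_⟩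
  have h1 := huy 0
  rw [h.u_zero, h'.u_zero, one_mul, one_mul] at h1
  exact h1

/-- Two wreath products with isomorphic factors are isomorphic. -/
theorem wr_equiv {G G' W W' : Type*} [Group G] [Group G'] [Group W] [Group W'] {S : Subgroup G}
    {S' : Subgroup G'} {f : W × W →* G} {f' : W' × W' →* G'} {w : G} {w' : G'} (h : Wr S f w)
    (h' : Wr S' f' w') (φ : W ≃* W') : Nonempty (S ≃* S') := by
  have hex : ∀ s : S, ∃ t : S', (∃ x y, (s : G) = f (x, y) ∧ (t : G') = f' (φ x, φ y)) ∨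
      (∃ x y, (s : G) = f (x, y) * w ∧ (t : G') = f' (φ x, φ y) * w') := by
    intro s
    rcases h.cases s s.2 with ⟨x, y, hxy⟩ | ⟨x, y, hxy⟩
    · exact ⟨⟨f' (φ x, φ y), h'.mem _⟩, Or.inl ⟨x, y, hxy, rfl⟩⟩
    · exact ⟨⟨f' (φ x, φ y) * w', h'.fw_mem _⟩, Or.inr ⟨x, y, hxy, rfl⟩⟩
  choose g hg using hex
  have hu : ∀ (s : S) x y, (s : G) = f (x, y) → (g s : G') = f' (φ x, φ y) := by
    intro s x y hs
    rcases hg s with ⟨a, b, hb, hb'⟩ | ⟨a, b, hb, hb'⟩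
    · rw [hb', ]
      have := h.inj (hb.symm.trans hs)
      rw [Prod.mk.injEq] at this
      rw [this.1, this.2]
    · exact absurd (hs.symm.trans hb) (h.f_ne_fw _ _)
  have hw : ∀ (s : S) x y, (s : G) = f (x, y) * w → (g s : G') = f' (φ x, φ y) * w' := by
    intro s x y hs
    rcases hg s with ⟨a, b, hb, hb'⟩ | ⟨a, b, hb, hb'⟩
    · exact absurd (hb.symm.trans hs) (h.f_ne_fw _ _)
    · rw [hb']
      have := (h.fw_eq_iff _ _).mp (hb.symm.trans hs)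
      rw [Prod.mk.injEq] at this
      rw [this.1, this.2]
  have hm : ∀ a b, g (a * b) = g a * g b := by
    intro s t
    apply Subtype.ext
    rw [Subgroup.coe_mul]
    rcases h.cases s s.2 with ⟨a, b, hab⟩ | ⟨a, b, hab⟩ <;>
      rcases h.cases t t.2 with ⟨c, d, hcd⟩ | ⟨c, d, hcd⟩
    · rw [hu s a b hab, hu t c d hcd, hu (s * t) (a * c) (b * d)
        (by rw [Subgroup.coe_mul, hab, hcd, h.f_mul_f]), map_mul, map_mul, h'.f_mul_f]
    · rw [hu s a b hab, hw t c d hcd, hw (s * t) (a * c) (b * d)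
        (by rw [Subgroup.coe_mul, hab, hcd, h.f_mul_fw]), map_mul, map_mul, h'.f_mul_fw]
    · rw [hw s a b hab, hu t c d hcd, hw (s * t) (a * d) (b * c)
        (by rw [Subgroup.coe_mul, hab, hcd, h.fw_mul_f]), map_mul, map_mul, h'.fw_mul_f]
    · rw [hw s a b hab, hw t c d hcd, hu (s * t) (a * d) (b * c)
        (by rw [Subgroup.coe_mul, hab, hcd, h.fw_mul_fw]), map_mul, map_mul, h'.fw_mul_fw]
  have hinj : Function.Injective g := by
    intro s t hst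
    have hst' : (g s : G') = (g t : G') := congrArg Subtype.val hst
    apply Subtype.ext
    rcases h.cases s s.2 with ⟨a, b, hab⟩ | ⟨a, b, hab⟩ <;>
      rcases h.cases t t.2 with ⟨c, d, hcd⟩ | ⟨c, d, hcd⟩
    · rw [hu s a b hab, hu t c d hcd] at hst'
      have h1 := h'.inj hst'
      rw [Prod.mk.injEq] at h1
      rw [hab, hcd, φ.injective h1.1, φ.injective h1.2]
    · rw [hu s a b hab, hw t c d hcd] at hst'
      exact absurd hst' (h'.f_ne_fw _ _)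
    · rw [hw s a b hab, hu t c d hcd] at hst'
      exact absurd hst'.symm (h'.f_ne_fw _ _)
    · rw [hw s a b hab, hw t c d hcd] at hst'
      have h1 := (h'.fw_eq_iff _ _).mp hst'
      rw [Prod.mk.injEq] at h1
      rw [hab, hcd, φ.injective h1.1, φ.injective h1.2]
  have hsurj : Function.Surjective g := by
    intro t
    rcases h'.cases t t.2 with ⟨c, d, hcd⟩ | ⟨c, d, hcd⟩
    · refine ⟨⟨f (φ.symm c, φ.symm d), h.mem _⟩, Subtype.ext ?_⟩
      rw [hu _ (φ.symm c) (φ.symm d) rfl, φ.apply_symm_apply, φ.apply_symm_apply, hcd]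
    · refine ⟨⟨f (φ.symm c, φ.symm d) * w, h.fw_mem _⟩, Subtype.ext ?_⟩
      rw [hw _ (φ.symm c) (φ.symm d) rfl, φ.apply_symm_apply, φ.apply_symm_apply, hcd]
  exact ⟨MulEquiv.ofBijective (MonoidHom.mk' g hm) ⟨hinj, hsurj⟩⟩

/-- A prime `p` with `p ≡ 2 ^ (n - 1) - 1 (mod 2 ^ n)`. -/
theorem exists_prime (n : ℕ) (hn : 3 ≤ n) :
    ∃ (p m : ℕ), p.Prime ∧ p + 1 = 2 ^ (n - 1) * (2 * m + 1) := by
  have hpos : 0 < 2 ^ n := by positivity
  have : NeZero (2 ^ n) := ⟨hpos.ne'⟩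
  have hunit : IsUnit (((2 ^ (n - 1) - 1 : ℕ) : ZMod (2 ^ n))) := by
    rw [ZMod.isUnit_iff_coprime]
    apply Nat.Coprime.pow_right
    rw [Nat.coprime_comm, Nat.coprime_two_left]
    obtain ⟨k, rfl⟩ : ∃ k, n = k + 3 := ⟨n - 3, by omega⟩
    refine ⟨2 ^ (k + 1) - 1, ?_⟩
    have h1 : 2 ^ (k + 3 - 1) = 2 * 2 ^ (k + 1) := by
      rw [show k + 3 - 1 = (k + 1) + 1 by omega, pow_succ]; ring
    have h2 : 1 ≤ 2 ^ (k + 1) := Nat.one_le_two_pow
    omega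
  obtain ⟨p, hp, hpp, hmod⟩ := Nat.forall_exists_prime_gt_and_eq_mod hunit (2 ^ n)
  have h3 : p % 2 ^ n = (2 ^ (n - 1) - 1) % 2 ^ n := by
    have := (ZMod.natCast_eq_natCast_iff' p (2 ^ (n - 1) - 1) (2 ^ n)).mp hmod
    exact this
  obtain ⟨k, rfl⟩ : ∃ k, n = k + 1 := ⟨n - 1, by omega⟩
  have h4 : 1 ≤ 2 ^ k := Nat.one_le_two_pow
  have h5 : 2 ^ (k + 1) = 2 * 2 ^ k := by rw [pow_succ]; ring
  have h6 : (2 ^ (k + 1 - 1) - 1) % 2 ^ (k + 1) = 2 ^ k - 1 := by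
    rw [Nat.add_sub_cancel]
    apply Nat.mod_eq_of_lt
    omega
  rw [h6] at h3
  refine ⟨p, p / 2 ^ (k + 1), hpp, ?_⟩
  have h7 := Nat.div_add_mod p (2 ^ (k + 1))
  rw [h3] at h7
  rw [Nat.add_sub_cancel]
  calc p + 1 = 2 ^ (k + 1) * (p / 2 ^ (k + 1)) + (2 ^ k - 1) + 1 := by rw [h7]
    _ = 2 ^ (k + 1) * (p / 2 ^ (k + 1)) + 2 ^ k := by omega
    _ = _ := by rw [h5]; ring

/-- The 2-part of the order of `GL(2, p)`. -/
theorem card_sylow {p n m : ℕ} [Fact p.Prime] (hn : 3 ≤ n) (hp : p + 1 = 2 ^ (n - 1) * (2 * m + 1))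
    (Q : Sylow 2 (GL (Fin 2) (ZMod p))) : Nat.card Q = 2 ^ (n + 1) := by
  have h2 : Nat.card (GL (Fin 2) (ZMod p)) = (p ^ 2 - 1) * (p ^ 2 - p) := by
    rw [Matrix.card_GL_field, ZMod.card]
    simp [Fin.prod_univ_two]
  obtain ⟨k, rfl⟩ : ∃ k, n = k + 3 := ⟨n - 3, by omega⟩
  have hA : 1 ≤ 2 ^ k := Nat.one_le_two_pow
  have e1 : 2 ^ (k + 3 - 1) = 4 * 2 ^ k := by
    rw [show k + 3 - 1 = k + 2 by omega, pow_add]; ring
  rw [e1] at hp
  -- p = 4 a - 1, a = 2 ^ k (2 m + 1), p - 1 = 2 (2 a - 1)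
  obtain ⟨b, hb⟩ : ∃ b, 2 ^ k * (2 * m + 1) = b + 1 :=
    ⟨2 ^ k * (2 * m + 1) - 1, by have : 1 ≤ 2 ^ k * (2 * m + 1) := Nat.one_le_iff_ne_zero.mpr (by positivity); omega⟩
  have hp4 : p = 4 * b + 3 := by
    have : p + 1 = 4 * (2 ^ k * (2 * m + 1)) := by rw [hp]; ring
    rw [hb] at this
    omega
  have h3 : (p ^ 2 - 1) * (p ^ 2 - p) = 2 ^ (k + 3 + 1) * ((2 * m + 1) * ((2 * b + 1) ^ 2 * p)) := by
    have e2 : p ^ 2 - 1 = (p + 1) * (2 * (2 * b + 1)) := by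
      rw [hp4]
      have : (4 * b + 3) ^ 2 = (4 * b + 3 + 1) * (2 * (2 * b + 1)) + 1 := by ring
      omega
    have e3 : p ^ 2 - p = p * (2 * (2 * b + 1)) := by
      rw [hp4]
      have : (4 * b + 3) ^ 2 = (4 * b + 3) * (2 * (2 * b + 1)) + (4 * b + 3) := by ring
      omega
    have e4 : (2 : ℕ) ^ (k + 3 + 1) = 16 * 2 ^ k := by
      rw [show k + 3 + 1 = k + 4 by omega, pow_add]; ring
    rw [e2, e3, hp, e4]
    ring
  have hodd : Odd ((2 * m + 1) * ((2 * b + 1) ^ 2 * p)) := by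
    refine Odd.mul ⟨m, rfl⟩ (Odd.mul (Odd.pow ⟨b, rfl⟩) ⟨2 * b + 1, by omega⟩)
  have h4 := Subgroup.card_mul_index (Q : Subgroup (GL (Fin 2) (ZMod p)))
  have h5 : ¬ 2 ∣ (Q : Subgroup (GL (Fin 2) (ZMod p))).index := Q.not_dvd_index
  obtain ⟨j, hj⟩ := IsPGroup.iff_card.mp Q.isPGroup'
  have hj' : Nat.card (Q : Subgroup (GL (Fin 2) (ZMod p))) = 2 ^ j := hj
  change Nat.card (Q : Subgroup (GL (Fin 2) (ZMod p))) = _
  rw [hj', h2, h3] at h4
  rw [hj']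
  congr 1
  have hf1 := congrArg (fun x => x.factorization 2) h4
  have hne1 : (Q : Subgroup (GL (Fin 2) (ZMod p))).index ≠ 0 := Subgroup.index_ne_zero_of_finite
  have hne2 : (2 * m + 1) * ((2 * b + 1) ^ 2 * p) ≠ 0 := by
    intro h0
    rw [h0] at hodd
    exact absurd hodd (by decide)
  beta_reduce at hf1
  rw [Nat.factorization_mul (by positivity) hne1, Nat.factorization_mul (by positivity) hne2,
    Finsupp.add_apply, Finsupp.add_apply, Nat.Prime.factorization_pow Nat.prime_two,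
    Nat.Prime.factorization_pow Nat.prime_two, Finsupp.single_eq_same, Finsupp.single_eq_same,
    Nat.factorization_eq_zero_of_not_dvd h5,
    Nat.factorization_eq_zero_of_not_dvd (fun h => (Nat.not_even_iff_odd.mpr hodd) (even_iff_two_dvd.mpr h))] at hf1
  omega

/-- **`SD ≀ 2` is of type `PSL₅(q)`.** -/
theorem typeL5_of_wr {G W : Type*} [Group G] [Group W] {S : Subgroup G} {f : W × W →* G} {w : G}
    (h : Wr S f w) {n : ℕ} {u : ZMod (2 ^ n) → W} {y : W} (hc : IsQDCoord n u y) :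
    TypeL5 S := by
  obtain ⟨p, m, hp, hpm⟩ := exists_prime n hc.three_le
  have : Fact p.Prime := ⟨hp⟩
  have hn := hc.three_le
  have hp3 : p % 4 = 3 := by
    obtain ⟨k, rfl⟩ : ∃ k, n = k + 3 := ⟨n - 3, by omega⟩
    have e1 : 2 ^ (k + 3 - 1) = 4 * 2 ^ k := by
      rw [show k + 3 - 1 = k + 2 by omega, pow_add]; ring
    rw [e1] at hpm
    have : p + 1 = 4 * (2 ^ k * (2 * m + 1)) := by rw [hpm]; ring
    omega
  have hF : Odd (Fintype.card (ZMod p)) := by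
    rw [ZMod.card]
    exact ⟨p / 2, by omega⟩
  obtain ⟨Q⟩ : Nonempty (Sylow 2 (GL (Fin 2) (ZMod p))) := inferInstance
  have hQ := (Cfsg.Agent.S1217.result Q).1 (by rw [ZMod.card]; exact hp3)
  obtain ⟨u', y', hc'⟩ := exists_qdcoord' hQ n (card_sylow hn hpm Q)
  obtain ⟨φ, -, -⟩ := qd_equiv hc hc'
  have hwr := KSide.wr0 (Q : Subgroup (GL (Fin 2) (ZMod p))) Q.isPGroup'
  have hpg : IsPGroup 2 (KSide.S0 (Q : Subgroup (GL (Fin 2) (ZMod p)))) := by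
    obtain ⟨k, hk⟩ := (IsPGroup.iff_card).1 Q.isPGroup'
    apply IsPGroup.of_card (n := 2 * k + 1)
    rw [hwr.card_eq, hk]
    ring
  have hidx := KSide.odd_index hF Q
  obtain ⟨f', -, h'⟩ := KModel.toModel hwr
  obtain ⟨e⟩ := wr_equiv h h' φ
  exact ⟨ZMod p, inferInstance, inferInstance, hF, hpg.toSylow hidx, ⟨e⟩⟩

end Cfsg.Agent.GH.Cov.TypeLFiveA
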