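import Cfsg.Agent.TypeLFive.Facts

/-!
# GH-COV: coordinates in a quasi-dihedral group adapted to an involution and an index 2 subgroup

`exists_rs`: `P` quasi-dihedral, `S ∩ P` of index 2 in `P` and not commutative, `e ∈ P - S` an involution: elements
`r`, `s` of `S ∩ P` as in `LieData.TypeIII`.
-/

set_option autoImplicit false

open Subgroup

namespace Cfsg.Agent.GH.Cov.TypeLFiveE

open Cfsg.Agent.TwoFusion.QDBasic Cfsg.Agent.TypeLFive.Facts

theorem exists_rs {Γ : Type*} [Group Γ] [Finite Γ] (P S : Subgroup Γ) (hQD : Cfsg.IsQuasiDihedral P)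
    (hidx : ∀ x ∈ P, ∀ y ∈ P, x ∉ S → y ∉ S → x * y ∈ S) {e : Γ} (heP : e ∈ P) (heS : e ∉ S)
    (hee : e * e = 1) {i j : Γ} (hiP : i ∈ P) (hiS : i ∈ S) (hjP : j ∈ P) (hjS : j ∈ S)
    (hij : i * j ≠ j * i) :
    ∃ (n : ℕ) (r s : Γ), 1 ≤ n ∧ Nat.card P = 2 ^ (n + 3) ∧ r ∈ P ∧ s ∈ P ∧ r ∈ S ∧ s ∈ S ∧
      r ^ 2 ^ n * r ^ 2 ^ n = 1 ∧ r ^ 2 ^ n ≠ 1 ∧ s * s = r ^ 2 ^ n ∧ s * r * s⁻¹ = r⁻¹ ∧
      e * r * e⁻¹ = r⁻¹ ∧ e * s * e⁻¹ = r ^ 2 ^ n * r⁻¹ * s := by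
  obtain ⟨N, u, y, h⟩ := exists_qdcoord hQD
  have hN := h.three_le
  obtain ⟨n, rfl⟩ : ∃ n, N = n + 2 := ⟨N - 2, by omega⟩
  have hn : 1 ≤ n := by omega
  have hsq : ∀ x ∈ P, x * x ∈ S := by
    intro x hx
    by_cases hxS : x ∈ S
    · exact S.mul_mem hxS hxS
    · exact hidx x hx x hx hxS hxS
  have h2h := two_mul_half (n + 2) (by omega)
  rw [show n + 2 - 1 = n + 1 by omega] at h2h
  have e1 : (2 : ZMod (2 ^ (n + 2))) ^ (n + 1) = 2 ^ n + 2 ^ n := by rw [pow_succ]; ring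
  -- `e = u (2 b) * y`
  obtain ⟨b, hb⟩ : ∃ b, (⟨e, heP⟩ : P) = u (2 * b) * y := by
    apply sd_inv_cases h
    · exact Subtype.ext hee
    · intro h0
      have h1 : e = 1 := congrArg Subtype.val h0
      apply heS
      rw [h1]
      exact S.one_mem
    · intro h0
      apply heS
      rw [show n + 2 - 1 = n + 1 by omega, e1, ← h.u_mul] at h0
      have h1 : e = (u (2 ^ n) : Γ) * (u (2 ^ n) : Γ) := congrArg Subtype.val h0
      rw [h1]
      exact hsq _ (u _).2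
  -- `u 1 ∉ S`
  have hu1 : (u 1 : Γ) ∉ S := by
    intro h0
    have hall : ∀ a, (u a : Γ) ∈ S := by
      intro a
      rw [h.u_eq_pow, Subgroup.coe_pow]
      exact S.pow_mem h0 _
    have hc : ∀ x ∈ P, x ∈ S → ∃ a, x = (u a : Γ) := by
      intro x hxP hxS
      rcases h.cases ⟨x, hxP⟩ with ⟨a, ha⟩ | ⟨a, ha⟩
      · exact ⟨a, congrArg Subtype.val ha⟩
      · exfalso
        have h3 : (⟨x, hxP⟩ : P) = u (a - 2 * b) * ⟨e, heP⟩ := by
          rw [ha, hb, h.u_mul_uy, sub_add_cancel]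
        have h4 : x = (u (a - 2 * b) : Γ) * e := congrArg Subtype.val h3
        apply heS
        have h5 : e = (u (a - 2 * b) : Γ)⁻¹ * x := by rw [h4]; group
        rw [h5]
        exact S.mul_mem (S.inv_mem (hall _)) hxS
    obtain ⟨a, ha⟩ := hc i hiP hiS
    obtain ⟨c, hc'⟩ := hc j hjP hjS
    apply hij
    rw [ha, hc', ← Subgroup.coe_mul, ← Subgroup.coe_mul, h.u_mul, h.u_mul, add_comm]
  have hrpow : (u 2 : P) ^ 2 ^ n = u (2 ^ (n + 1)) := by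
    rw [h.u_pow]
    congr 1
    push_cast
    ring
  have hrr : (u 2 : P) ^ 2 ^ n * (u 2 : P) ^ 2 ^ n = 1 := by
    rw [hrpow, h.u_mul, ← two_mul, h2h, h.u_zero]
  have hr1 : (u 2 : P) ^ 2 ^ n ≠ 1 := by
    rw [hrpow, Ne, h.u_eq_one_iff]
    have := half_ne_zero (n + 2) (by omega)
    rwa [show n + 2 - 1 = n + 1 by omega] at this
  set s : P := u 1 * ⟨e, heP⟩ with hs
  have hs' : s = u (1 + 2 * b) * y := by rw [hs, hb, h.u_mul_uy]
  have hss : s * s = (u 2 : P) ^ 2 ^ n := by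
    rw [hs', h.uy_mul_uy, hrpow, show n + 2 - 1 = n + 1 by omega]
    congr 1
    linear_combination b * h2h
  have hm : ((2 : ZMod (2 ^ (n + 2))) ^ (n + 1) - 1) * 2 = -2 := by
    linear_combination h2h
  have hsr : s * u 2 * s⁻¹ = (u 2)⁻¹ := by
    rw [hs', h.uy_conj_u, h.u_inv, show n + 2 - 1 = n + 1 by omega, hm]
  have her : (⟨e, heP⟩ : P) * u 2 * (⟨e, heP⟩ : P)⁻¹ = (u 2)⁻¹ := by
    rw [hb, h.uy_conj_u, h.u_inv, show n + 2 - 1 = n + 1 by omega, hm]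
  have hes : (⟨e, heP⟩ : P) * s * (⟨e, heP⟩ : P)⁻¹ = (u 2 : P) ^ 2 ^ n * (u 2)⁻¹ * s := by
    have h3 : (⟨e, heP⟩ : P) * s * (⟨e, heP⟩ : P)⁻¹ = ⟨e, heP⟩ * u 1 := by rw [hs]; group
    rw [h3, hrpow, h.u_inv, h.u_mul, hs', h.u_mul_uy, hb, h.uy_mul_u,
      show n + 2 - 1 = n + 1 by omega]
    congr 2
    ring
  refine ⟨n, u 2, s, hn, ?_, (u 2).2, s.2, ?_, ?_, ?_, ?_, ?_, ?_, ?_, ?_⟩
  · rw [h.card]
  · have h3 : (u 2 : Γ) = (u 1 : Γ) * (u 1 : Γ) := by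
      rw [← Subgroup.coe_mul, h.u_mul]
      norm_num
    rw [h3]
    exact hsq _ (u 1).2
  · exact hidx _ (u 1).2 _ heP hu1 heS
  · have := congrArg Subtype.val hrr
    simpa using this
  · intro h3
    exact hr1 (Subtype.ext (by simpa using h3))
  · have := congrArg Subtype.val hss
    simpa using this
  · have := congrArg Subtype.val hsr
    simpa using this
  · have := congrArg Subtype.val her
    simpa using this
  · have := congrArg Subtype.val hes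
    simpa using this

end Cfsg.Agent.GH.Cov.TypeLFiveE
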